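import Groth.Prelude.Def_SGA3
import Groth.Agent.Lib.Helper96.Coeff
import Groth.Agent.Lib.Helper99.TotalIntegral
import Mathlib.RingTheory.HopfAlgebra.Convolution
set_option autoImplicit false
set_option linter.style.haveILetI false
universe u
open TensorProduct

namespace Groth.Agent.Lib.Helper32.HopfSub

variable (k : Type u) [Field k] (A : Type u) [CommRing A] [HopfAlgebra k A]

open WithConv in
theorem antipode_antipode (a : A) :
    HopfAlgebra.antipode k (HopfAlgebra.antipode k a) = a := by
  let S : A →ₐ[k] A := HopfAlgebra.antipodeAlgHom k A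
  have h1 : (toConv (AlgHom.id k A))⁻¹ = toConv S := by
    show toConv ((AlgHom.id k A).comp S) = toConv S
    rw [AlgHom.id_comp]
  have h2 : (toConv S)⁻¹ = toConv (S.comp S) := rfl
  have h3 : toConv (S.comp S) = toConv (AlgHom.id k A) := by
    rw [← h2, ← h1, inv_inv]
  have h4 : S.comp S = AlgHom.id k A := toConv_injective h3
  exact DFunLike.congr_fun h4 a


theorem range_map_le {M N : Type u} [AddCommGroup M] [Module k M] [AddCommGroup N] [Module k N]
    (B : Subalgebra k A) (f : M →ₗ[k] A) (g : N →ₗ[k] A)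
    (hf : ∀ m, f m ∈ B) (hg : ∀ n, g n ∈ B) :
    LinearMap.range (TensorProduct.map f g) ≤
      LinearMap.range (TensorProduct.map B.val.toLinearMap B.val.toLinearMap) := by
  let f' : M →ₗ[k] B := LinearMap.codRestrict (Subalgebra.toSubmodule B) f hf
  let g' : N →ₗ[k] B := LinearMap.codRestrict (Subalgebra.toSubmodule B) g hg
  have hf' : B.val.toLinearMap ∘ₗ f' = f := by ext m; rfl
  have hg' : B.val.toLinearMap ∘ₗ g' = g := by ext n; rfl
  rintro _ ⟨z, rfl⟩
  refine ⟨TensorProduct.map f' g' z, ?_⟩
  rw [← LinearMap.comp_apply, ← TensorProduct.map_comp, hf', hg']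

theorem main (x : A) :
    ∃ B : Subalgebra k A, x ∈ B ∧ B.FG ∧ SGA3.IsHopfSubalgebra k A B := by
  obtain ⟨B0, hB0, hfin, hx⟩ := Groth.Agent.Lib.Helper96.exists_finite_isSubcoalg_mem (k := k) (C := A) x
  let S : A →ₗ[k] A := HopfAlgebra.antipode k
  let E : Submodule k A := B0 ⊔ B0.map S
  let B : Subalgebra k A := Algebra.adjoin k (E : Set A)
  have hEB : ∀ e ∈ E, e ∈ B := fun e he => Algebra.subset_adjoin he
  have hB0E : B0 ≤ E := le_sup_left
  have hSE : B0.map S ≤ E := le_sup_right
  have hB0B : ∀ b : B0, (b : A) ∈ B := fun b => hEB _ (hB0E b.2)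
  have hSB0B : ∀ b : B0, S (b : A) ∈ B := fun b => hEB _ (hSE (Submodule.mem_map_of_mem b.2))
  refine ⟨B, hEB x (hB0E hx), ?_, ?_, ?_⟩
  · have hEfin : Module.Finite k E := by
      haveI : Module.Finite k (B0.map S) := Module.Finite.map B0 S
      exact Submodule.finite_sup _ _
    obtain ⟨s, hs⟩ := (Submodule.fg_top E).mp hEfin.fg_top
    refine ⟨s, ?_⟩
    show Algebra.adjoin k (s : Set A) = Algebra.adjoin k (E : Set A)
    rw [← hs, Algebra.adjoin_span]
  · let T : Subalgebra k (A ⊗[k] A) := (Algebra.TensorProduct.map B.val B.val).range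
    have hT : ∀ t : A ⊗[k] A, t ∈ T ↔
        t ∈ LinearMap.range (TensorProduct.map B.val.toLinearMap B.val.toLinearMap) := by
      intro t
      constructor
      · rintro ⟨z, rfl⟩
        exact ⟨z, rfl⟩
      · rintro ⟨z, rfl⟩
        exact ⟨z, rfl⟩
    let P : Subalgebra k A := T.comap (Bialgebra.comulAlgHom k A)
    have hle : B ≤ P := by
      apply Algebra.adjoin_le
      intro e he
      show Bialgebra.comulAlgHom k A e ∈ T
      rw [hT]
      show Coalgebra.comul (R := k) e ∈ _
      rcases Submodule.mem_sup.mp he with ⟨b, hb, c, hc, rfl⟩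
      rw [map_add]
      apply Submodule.add_mem
      · exact range_map_le k A B B0.subtype B0.subtype hB0B hB0B (hB0 b hb)
      · obtain ⟨b0, hb0, rfl⟩ := hc
        show Coalgebra.comul (R := k) (HopfAlgebra.antipode k b0) ∈ _
        rw [Groth.Agent.Lib.Helper99.comul_antipode]
        obtain ⟨z, hz⟩ := hB0 b0 hb0
        rw [← hz]
        have h1 : ∀ w : B0 ⊗[k] B0,
            TensorProduct.comm k A A (TensorProduct.map B0.subtype B0.subtype w)
            = TensorProduct.map B0.subtype B0.subtype (TensorProduct.comm k B0 B0 w) := by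
          intro w
          induction w using TensorProduct.induction_on with
          | zero => simp
          | tmul a b => rfl
          | add a b ha hb => simp only [map_add, ha, hb]
        rw [h1 z, ← LinearMap.comp_apply, ← TensorProduct.map_comp]
        exact range_map_le k A B (S ∘ₗ B0.subtype) (S ∘ₗ B0.subtype) hSB0B hSB0B ⟨_, rfl⟩
    intro b hb
    exact (hT _).mp (hle hb)
  · let P' : Subalgebra k A := B.comap (HopfAlgebra.antipodeAlgHom k A)
    have hle : B ≤ P' := by
      apply Algebra.adjoin_le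
      intro e he
      show HopfAlgebra.antipode k e ∈ B
      rcases Submodule.mem_sup.mp he with ⟨b, hb, c, hc, rfl⟩
      rw [map_add]
      apply B.add_mem
      · exact hSB0B ⟨b, hb⟩
      · obtain ⟨b0, hb0, rfl⟩ := hc
        show HopfAlgebra.antipode k (HopfAlgebra.antipode k b0) ∈ B
        rw [antipode_antipode]
        exact hB0B ⟨b0, hb0⟩
    intro b hb
    exact hle hb

end Groth.Agent.Lib.Helper32.HopfSub
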