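import Groth.Agent.Lib.Helper32.CubicEckardt

set_option autoImplicit false
set_option linter.unusedSectionVars false

namespace Groth.Agent.Lib.Helper32.Cubic

open MvPolynomial

variable {σ : Type} [Fintype σ] [DecidableEq σ]

theorem eckardt_phi {f : MvPolynomial σ ℂ} (hf : f.IsHomogeneous 3)
    (hsm : ∀ v : σ → ℂ, v ≠ 0 → eval v f = 0 → ∃ i : σ, eval v (pderiv i f) ≠ 0)
    (hcard : Fintype.card σ = 4) (e : σ → ℂ) (he0 : e ≠ 0) (hE : IsEckardt f e) :
    ∃ φ : (σ → ℂ) →ₗ[ℂ] ℂ, φ e = 1 ∧ ∀ x, Qp f e x = 2 * φ x * Lp f e x := by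
  have hFe := hE.eval_eq_zero
  have hL := Lp_ne_zero hf hsm e he0 hFe
  have hQK := eckardt_Q_zero hf hcard e he0 hE hL
  obtain ⟨M, hM⟩ := exists_M f e hQK hL
  have hMe := M_apply_self hf e hFe hL M hM
  refine ⟨(1 / 2 : ℂ) • M, ?_, ?_⟩
  · rw [LinearMap.smul_apply, hMe, smul_eq_mul]
    norm_num
  · intro x
    rw [hM x, LinearMap.smul_apply, smul_eq_mul]
    ring

theorem eval_smul {f : MvPolynomial σ ℂ} (hf : f.IsHomogeneous 3) (t : ℂ) (x : σ → ℂ) :
    eval (t • x) f = t ^ 3 * eval x f := by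
  have h := taylor hf 0 x t
  have h0 : eval (0 : σ → ℂ) f = 0 := by
    rw [eval_eq_PhiF hf]
    simp
  rw [zero_add, h0] at h
  rw [h, Qp, map_zero]
  simp

theorem eval_pair {f : MvPolynomial σ ℂ} (hf : f.IsHomogeneous 3) (e e' : σ → ℂ)
    (hFe : eval e f = 0) (hFe' : eval e' f = 0) (s t : ℂ) :
    eval (s • e + t • e') f = s ^ 2 * t * Lp f e e' + s * t ^ 2 * Lp f e' e := by
  rw [add_comm, taylor hf, eval_smul hf, hFe, hFe', Qp_smul, map_smul, Qp_eq_grad, smul_eq_mul]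
  ring

theorem IsEckardt.map {f : MvPolynomial σ ℂ} {e' : σ → ℂ} (hE : IsEckardt f e')
    (g : (σ → ℂ) →ₗ[ℂ] (σ → ℂ)) (hg : Function.Involutive g)
    (hFg : ∀ x, eval (g x) f = eval x f) : IsEckardt f (g e') := by
  obtain ⟨U, hinj, hU⟩ := hE
  let G : (σ → ℂ) ≃ₗ[ℂ] (σ → ℂ) := LinearEquiv.ofInvolutive g hg
  have hG : (G : (σ → ℂ) →ₗ[ℂ] (σ → ℂ)) = g := LinearMap.ext fun x => rfl
  refine ⟨fun i => (U i).map g, ?_, ?_⟩
  · intro i j hij
    apply hinj
    exact Submodule.map_injective_of_injective hg.injective hij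
  · intro i
    refine ⟨?_, ?_, ?_⟩
    · have := LinearEquiv.finrank_map_eq G (U i)
      rw [hG] at this
      rw [this]
      exact (hU i).1
    · exact Submodule.mem_map_of_mem (hU i).2.1
    · rintro u ⟨w, hw, rfl⟩
      rw [hFg]
      exact (hU i).2.2 w hw

theorem refl_involutive (p : σ → ℂ) (φ : (σ → ℂ) →ₗ[ℂ] ℂ) (h : φ p = 1) :
    Function.Involutive (refl p φ) := fun x => refl_refl p φ h x

theorem eval_refl_apply {f : MvPolynomial σ ℂ} (hf : f.IsHomogeneous 3)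
    (p : σ → ℂ) (hp0 : eval p f = 0) (φ : (σ → ℂ) →ₗ[ℂ] ℂ)
    (hQ : ∀ x, Qp f p x = 2 * φ x * Lp f p x) (x : σ → ℂ) :
    eval (refl p φ x) f = eval x f := by
  rw [refl_apply]
  exact eval_refl_eq hf p hp0 φ hQ x

theorem linearIndependent_pair_of_not_mem {e e' : σ → ℂ} (he : e ≠ 0)
    (he' : e' ∉ Submodule.span ℂ {e}) : ∀ s t : ℂ, s • e + t • e' = 0 → s = 0 ∧ t = 0 := by
  have hli : LinearIndependent ℂ ![e, e'] := by
    rw [LinearIndependent.pair_iff' he]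
    intro a ha
    apply he'
    rw [Submodule.mem_span_singleton]
    exact ⟨a, ha⟩
  exact LinearIndependent.pair_iff.mp hli

end Groth.Agent.Lib.Helper32.Cubic
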