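import Groth.Agent.Lib.Helper32.CubicConj
import Mathlib.Algebra.Polynomial.Degree.SmallDegree

set_option autoImplicit false
set_option linter.unusedSectionVars false

namespace Groth.Agent.Lib.Helper32.Cubic

open MvPolynomial

variable {σ : Type} [Fintype σ] [DecidableEq σ]

theorem exists_cubic_root (a0 a1 a2 a3 : ℂ) (h : a3 ≠ 0) :
    ∃ t : ℂ, a0 + a1 * t + a2 * t ^ 2 + a3 * t ^ 3 = 0 := by
  have hdeg := Polynomial.degree_cubic (a := a3) (b := a2) (c := a1) (d := a0) h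
  obtain ⟨t, ht⟩ := IsAlgClosed.exists_root
    (Polynomial.C a3 * Polynomial.X ^ 3 + Polynomial.C a2 * Polynomial.X ^ 2
      + Polynomial.C a1 * Polynomial.X + Polynomial.C a0) (by rw [hdeg]; norm_num)
  refine ⟨t, ?_⟩
  rw [Polynomial.IsRoot.def] at ht
  simp only [Polynomial.eval_add, Polynomial.eval_mul, Polynomial.eval_C, Polynomial.eval_pow,
    Polynomial.eval_X] at ht
  linear_combination ht

theorem polar_eq (f : MvPolynomial σ ℂ) (e : σ → ℂ) (φ : (σ → ℂ) →ₗ[ℂ] ℂ)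
    (hQ : ∀ x, Qp f e x = 2 * φ x * Lp f e x) (x y : σ → ℂ) :
    PhiF f e x y = 2 * φ x * Lp f e y + 2 * φ y * Lp f e x := by
  have h := Qp_add f e x y
  rw [hQ, hQ, hQ, map_add, map_add] at h
  linear_combination -h

theorem eval_pair' {f : MvPolynomial σ ℂ} (hf : f.IsHomogeneous 3) (u w : σ → ℂ) (s t : ℂ) :
    eval (s • u + t • w) f
      = s ^ 3 * eval u f + s ^ 2 * t * Lp f u w + s * t ^ 2 * Lp f w u + t ^ 3 * eval w f := by
  rw [add_comm, taylor hf, eval_smul hf, Qp_smul, map_smul, Qp_eq_grad, smul_eq_mul]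
  ring

theorem exists_zero_in_plane {f : MvPolynomial σ ℂ} (hf : f.IsHomogeneous 3)
    (W : Submodule ℂ (σ → ℂ)) (hW : Module.finrank ℂ ↥W = 2) :
    ∃ u ∈ W, u ≠ 0 ∧ eval u f = 0 := by
  have hpos : 0 < Module.finrank ℂ ↥W := by omega
  haveI : Nontrivial ↥W := Module.finrank_pos_iff.mp hpos
  obtain ⟨w1, hw1⟩ := exists_ne (0 : ↥W)
  have hone : 1 < Module.finrank ℂ ↥W := by omega
  obtain ⟨w2, hw2⟩ := exists_linearIndependent_pair_of_one_lt_finrank hone hw1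
  rw [LinearIndependent.pair_iff] at hw2
  by_cases hF2 : eval (w2 : σ → ℂ) f = 0
  · refine ⟨w2, w2.2, ?_, hF2⟩
    intro h0
    have hw0 : w2 = 0 := Subtype.ext h0
    have := hw2 0 1 (by rw [hw0]; simp)
    exact one_ne_zero this.2
  · obtain ⟨t, ht⟩ := exists_cubic_root (eval (w1 : σ → ℂ) f) (Lp f (w1 : σ → ℂ) (w2 : σ → ℂ))
      (Lp f (w2 : σ → ℂ) (w1 : σ → ℂ)) (eval (w2 : σ → ℂ) f) hF2
    refine ⟨(1 : ℂ) • (w1 : σ → ℂ) + t • (w2 : σ → ℂ),
      W.add_mem (W.smul_mem 1 w1.2) (W.smul_mem t w2.2), ?_, ?_⟩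
    · intro h0
      have h0' : (1 : ℂ) • w1 + t • w2 = 0 := by
        apply Subtype.ext
        simpa using h0
      exact one_ne_zero (hw2 1 t h0').1
    · rw [eval_pair' hf]
      linear_combination ht

theorem three_zeros {f : MvPolynomial σ ℂ} (hf : f.IsHomogeneous 3)
    (W : Submodule ℂ (σ → ℂ)) (hW : Module.finrank ℂ ↥W = 2)
    (hND : ∀ u ∈ W, u ≠ 0 → eval u f = 0 → ∃ w ∈ W, Lp f u w ≠ 0) :
    ∃ u₁ u₂ u₃ : σ → ℂ, u₁ ∈ W ∧ u₂ ∈ W ∧ u₃ ∈ W ∧ u₁ ≠ 0 ∧ u₂ ≠ 0 ∧ u₃ ≠ 0 ∧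
      eval u₁ f = 0 ∧ eval u₂ f = 0 ∧ eval u₃ f = 0 ∧
      u₂ ∉ Submodule.span ℂ {u₁} ∧ u₃ ∉ Submodule.span ℂ {u₁} ∧ u₃ ∉ Submodule.span ℂ {u₂} := by
  obtain ⟨u₁, hu₁W, hu₁0, hFu₁⟩ := exists_zero_in_plane hf W hW
  obtain ⟨w, hwW, hw⟩ := exists_not_mem_span W hW u₁
  have hdec := two_dim_decomp W hW u₁ w hu₁0 hu₁W hwW hw
  have hind := linearIndependent_pair_of_not_mem hu₁0 hw
  have hG : ∀ s t : ℂ, eval (s • u₁ + t • w) f
      = s ^ 2 * t * Lp f u₁ w + s * t ^ 2 * Lp f w u₁ + t ^ 3 * eval w f := by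
    intro s t
    rw [eval_pair' hf, hFu₁]
    ring
  have ha₁ : Lp f u₁ w ≠ 0 := by
    obtain ⟨w', hw'W, hw'⟩ := hND u₁ hu₁W hu₁0 hFu₁
    obtain ⟨α, β, rfl⟩ := hdec w' hw'W
    intro h0
    apply hw'
    rw [map_add, map_smul, map_smul, Lp_self hf, hFu₁, h0]
    simp
  have hne : ∀ s : ℂ, s • u₁ + (1 : ℂ) • w ≠ 0 := by
    intro s h0
    exact one_ne_zero (hind _ _ h0).2
  obtain ⟨δ, hδ⟩ := IsAlgClosed.exists_eq_mul_self (discrim (Lp f u₁ w) (Lp f w u₁) (eval w f))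
  by_cases hδ0 : δ = 0
  · exfalso
    rw [hδ0, mul_zero, discrim] at hδ
    set s₁ : ℂ := -(Lp f w u₁) / (2 * Lp f u₁ w) with hs₁
    have hsq : ∀ s t : ℂ, s ^ 2 * Lp f u₁ w + s * t * Lp f w u₁ + t ^ 2 * eval w f
        = Lp f u₁ w * (s - s₁ * t) ^ 2 := by
      intro s t
      rw [hs₁]
      field_simp
      linear_combination (-t ^ 2) * hδ
    have hFu₂ : eval (s₁ • u₁ + (1 : ℂ) • w) f = 0 := by
      rw [hG]
      have := hsq s₁ 1
      linear_combination this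
    obtain ⟨w', hw'W, hw'⟩ := hND _ (W.add_mem (W.smul_mem _ hu₁W) (W.smul_mem _ hwW))
      (hne s₁) hFu₂
    obtain ⟨α, β, rfl⟩ := hdec w' hw'W
    apply hw'
    rw [← Qp_eq_grad]
    have hcoef := cubic_coeffs (a0 := 0)
      (a1 := Qp f (α • u₁ + β • w) (s₁ • u₁ + (1 : ℂ) • w))
      (a2 := Lp f (α • u₁ + β • w) (s₁ • u₁ + (1 : ℂ) • w) - Lp f u₁ w * (α - s₁ * β) ^ 2)
      (a3 := eval (α • u₁ + β • w) f - β * Lp f u₁ w * (α - s₁ * β) ^ 2) (fun ε => by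
        have e1 := taylor hf (s₁ • u₁ + (1 : ℂ) • w) (α • u₁ + β • w) ε
        have hvec : s₁ • u₁ + (1 : ℂ) • w + ε • (α • u₁ + β • w)
            = (s₁ + ε * α) • u₁ + (1 + ε * β) • w := by
          module
        rw [hvec, hG, hFu₂] at e1
        have e2 := hsq (s₁ + ε * α) (1 + ε * β)
        linear_combination (1 + ε * β) * e2 - e1)
    exact hcoef.2.1
  · have hroots := quadratic_eq_zero_iff ha₁ hδ
    set s₁ : ℂ := (-(Lp f w u₁) + δ) / (2 * Lp f u₁ w) with hs₁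
    set s₂ : ℂ := (-(Lp f w u₁) - δ) / (2 * Lp f u₁ w) with hs₂
    have hs₁r := (hroots s₁).mpr (Or.inl rfl)
    have hs₂r := (hroots s₂).mpr (Or.inr rfl)
    have hs₁₂ : s₁ ≠ s₂ := by
      intro h
      apply hδ0
      rw [hs₁, hs₂] at h
      field_simp at h
      linear_combination (1 / 2) * h
    refine ⟨u₁, s₁ • u₁ + (1 : ℂ) • w, s₂ • u₁ + (1 : ℂ) • w, hu₁W,
      W.add_mem (W.smul_mem _ hu₁W) (W.smul_mem _ hwW),
      W.add_mem (W.smul_mem _ hu₁W) (W.smul_mem _ hwW), hu₁0, hne s₁, hne s₂, hFu₁, ?_, ?_,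
      ?_, ?_, ?_⟩
    · rw [hG]
      linear_combination hs₁r
    · rw [hG]
      linear_combination hs₂r
    · intro h
      obtain ⟨c, hc⟩ := Submodule.mem_span_singleton.mp h
      have h0 : (s₁ - c) • u₁ + (1 : ℂ) • w = 0 := by
        rw [sub_smul, hc]
        abel
      exact one_ne_zero (hind _ _ h0).2
    · intro h
      obtain ⟨c, hc⟩ := Submodule.mem_span_singleton.mp h
      have h0 : (s₂ - c) • u₁ + (1 : ℂ) • w = 0 := by
        rw [sub_smul, hc]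
        abel
      exact one_ne_zero (hind _ _ h0).2
    · intro h
      obtain ⟨c, hc⟩ := Submodule.mem_span_singleton.mp h
      have h0 : (s₂ - c * s₁) • u₁ + (1 - c) • w = 0 := by
        have : (s₂ - c * s₁) • u₁ + (1 - c) • w
            = (s₂ • u₁ + (1 : ℂ) • w) - c • (s₁ • u₁ + (1 : ℂ) • w) := by
          module
        rw [this, hc, sub_self]
      obtain ⟨h1, h2⟩ := hind _ _ h0
      apply hs₁₂
      have hc1 : c = 1 := by linear_combination -h2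
      rw [hc1] at h1
      linear_combination -h1

end Groth.Agent.Lib.Helper32.Cubic
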