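import Mathlib.RingTheory.Support
import Mathlib.Topology.Algebra.Order.Field
import Mathlib.Analysis.SpecificLimits.Basic
import Mathlib.RingTheory.Noetherian.Defs
import Mathlib.RingTheory.KrullDimension.Module
import Mathlib.RingTheory.Length
import Mathlib.RingTheory.HopkinsLevitzki
import Mathlib.RingTheory.Filtration
import Mathlib.RingTheory.KrullDimension.Basic
import Mathlib.RingTheory.Ideal.GoingUp

set_option autoImplicit false
set_option linter.style.haveILetI false
set_option linter.unusedSectionVars false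
universe u
open Filter Topology

namespace Groth.Agent.Lib.Helper32.SamuelAdd

section Alg

variable {A : Type u} [CommRing A] [IsNoetherianRing A] [IsLocalRing A]
  (I : Ideal A) (hI : ∃ n : ℕ, IsLocalRing.maximalIdeal A ^ n ≤ I)

include hI in
theorem isArtinianRing_quot (t : ℕ) : IsArtinianRing (A ⧸ I ^ t) := by
  have hdim : Ring.KrullDimLE 0 (A ⧸ I ^ t) := by
    rw [Ring.krullDimLE_zero_iff]
    intro Q hQ
    have hQ' : (Q.comap (Ideal.Quotient.mk (I ^ t))).IsPrime := hQ.comap _
    have hle : I ^ t ≤ Q.comap (Ideal.Quotient.mk (I ^ t)) := by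
      intro a ha
      rw [Ideal.mem_comap, Ideal.Quotient.eq_zero_iff_mem.mpr ha]
      exact Q.zero_mem
    have hle1 : I ≤ Q.comap (Ideal.Quotient.mk (I ^ t)) := hQ'.le_of_pow_le hle
    obtain ⟨n, hn⟩ := hI
    have hle2 : IsLocalRing.maximalIdeal A ≤ Q.comap (Ideal.Quotient.mk (I ^ t)) :=
      hQ'.le_of_pow_le (hn.trans hle1)
    have heq : Q.comap (Ideal.Quotient.mk (I ^ t)) = IsLocalRing.maximalIdeal A :=
      ((IsLocalRing.maximalIdeal.isMaximal A).eq_of_le hQ'.ne_top hle2).symm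
    apply Ideal.isMaximal_of_isIntegral_of_isMaximal_comap (R := A) Q
    convert IsLocalRing.maximalIdeal.isMaximal A using 1
    exact heq
  have : IsNoetherianRing (A ⧸ I ^ t) :=
    isNoetherianRing_of_surjective A _ (Ideal.Quotient.mk _) Ideal.Quotient.mk_surjective
  exact IsNoetherianRing.isArtinianRing_of_krullDimLE_zero

variable {N : Type u} [AddCommGroup N] [Module A N] [Module.Finite A N]

include hI in
theorem length_ne_top (t : ℕ) (K : Submodule A N) (hK : I ^ t • (⊤ : Submodule A N) ≤ K) :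
    Module.length A (N ⧸ K) ≠ ⊤ := by
  have h1 : Module.length A (N ⧸ (I ^ t • (⊤ : Submodule A N))) ≠ ⊤ := by
    rw [Module.length_ne_top_iff, isFiniteLength_iff_isNoetherian_isArtinian]
    refine ⟨inferInstance, ?_⟩
    haveI := isArtinianRing_quot I hI t
    haveI : Module.Finite (A ⧸ I ^ t) (N ⧸ (I ^ t • (⊤ : Submodule A N))) :=
      Module.Finite.of_restrictScalars_finite A (A ⧸ I ^ t) _
    haveI : IsArtinian (A ⧸ I ^ t) (N ⧸ (I ^ t • (⊤ : Submodule A N))) := inferInstance
    exact isArtinian_of_surjective_algebraMap (S := A) (R := A ⧸ I ^ t)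
      Ideal.Quotient.mk_surjective
  have h2 : Module.length A (N ⧸ K) ≤ Module.length A (N ⧸ (I ^ t • (⊤ : Submodule A N))) :=
    Module.length_le_of_surjective (Submodule.factor hK) (Submodule.factor_surjective hK)
  exact ne_top_of_le_ne_top h1 h2


section Exact

variable {M' M M'' : Type u} [AddCommGroup M'] [Module A M'] [AddCommGroup M] [Module A M]
    [AddCommGroup M''] [Module A M''] [Module.Finite A M'] [Module.Finite A M] [Module.Finite A M'']
    (f : M' →ₗ[A] M) (g : M →ₗ[A] M'') (hf : Function.Injective f) (hg : Function.Surjective g)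
    (hfg : LinearMap.range f = LinearMap.ker g)

def Kt (t : ℕ) : Submodule A M' := (I ^ t • (⊤ : Submodule A M)).comap f

theorem smul_top_le_Kt (t : ℕ) : I ^ t • (⊤ : Submodule A M') ≤ Kt I f t := by
  rw [Kt, ← Submodule.map_le_iff_le_comap, Submodule.map_smul'']
  exact Submodule.smul_mono le_rfl le_top

theorem smul_top_le_comap (t : ℕ) :
    I ^ t • (⊤ : Submodule A M) ≤ (I ^ t • (⊤ : Submodule A M'')).comap g := by
  rw [← Submodule.map_le_iff_le_comap, Submodule.map_smul'']
  exact Submodule.smul_mono le_rfl le_top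

def fbar (t : ℕ) : (M' ⧸ Kt I f t) →ₗ[A] (M ⧸ (I ^ t • (⊤ : Submodule A M))) :=
  Submodule.mapQ _ _ f le_rfl

def gbar (t : ℕ) : (M ⧸ (I ^ t • (⊤ : Submodule A M))) →ₗ[A] (M'' ⧸ (I ^ t • (⊤ : Submodule A M''))) :=
  Submodule.mapQ _ _ g (smul_top_le_comap I g t)

theorem fbar_injective (t : ℕ) : Function.Injective (fbar I f t) := by
  rw [injective_iff_map_eq_zero]
  intro y hy
  obtain ⟨x, rfl⟩ := Submodule.Quotient.mk_surjective _ y
  have h1 : fbar I f t (Submodule.Quotient.mk x) = Submodule.Quotient.mk (f x) := rfl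
  rw [h1, Submodule.Quotient.mk_eq_zero] at hy
  rw [Submodule.Quotient.mk_eq_zero]
  exact hy

include hg in
theorem gbar_surjective (t : ℕ) : Function.Surjective (gbar I g t) := by
  intro y
  obtain ⟨m, rfl⟩ := Submodule.Quotient.mk_surjective _ y
  obtain ⟨x, rfl⟩ := hg m
  exact ⟨Submodule.Quotient.mk x, rfl⟩

include hg hfg in
theorem exact_bar (t : ℕ) : Function.Exact (fbar I f t) (gbar I g t) := by
  intro y
  obtain ⟨m, rfl⟩ := Submodule.Quotient.mk_surjective _ y
  have h1 : gbar I g t (Submodule.Quotient.mk m) = Submodule.Quotient.mk (g m) := rfl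
  rw [h1, Submodule.Quotient.mk_eq_zero]
  constructor
  · intro hm
    have htop : (I ^ t • (⊤ : Submodule A M'')) = (I ^ t • (⊤ : Submodule A M)).map g := by
      rw [Submodule.map_smul'', Submodule.map_top, LinearMap.range_eq_top.mpr hg]
    rw [htop] at hm
    obtain ⟨m0, hm0, e⟩ := hm
    have hker : m - m0 ∈ LinearMap.ker g := by
      rw [LinearMap.mem_ker, map_sub, e, sub_self]
    rw [← hfg] at hker
    obtain ⟨x, hx⟩ := hker
    refine ⟨Submodule.Quotient.mk x, ?_⟩
    have h2 : fbar I f t (Submodule.Quotient.mk x) = Submodule.Quotient.mk (f x) := rfl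
    rw [h2, hx, Submodule.Quotient.eq]
    have : m - m0 - m = -m0 := by abel
    rw [this]
    exact Submodule.neg_mem _ hm0
  · rintro ⟨y, hy⟩
    obtain ⟨x, rfl⟩ := Submodule.Quotient.mk_surjective _ y
    have h2 : fbar I f t (Submodule.Quotient.mk x) = Submodule.Quotient.mk (f x) := rfl
    rw [h2, Submodule.Quotient.eq] at hy
    have hgf : g (f x) = 0 := by
      have : f x ∈ LinearMap.ker g := by rw [← hfg]; exact ⟨x, rfl⟩
      exact this
    have h3 : g m = - g (f x - m) := by rw [map_sub, hgf]; abel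
    rw [h3]
    apply Submodule.neg_mem
    exact smul_top_le_comap I g t hy

include hg hfg in
theorem length_eq (t : ℕ) :
    Module.length A (M ⧸ (I ^ t • (⊤ : Submodule A M))) =
      Module.length A (M' ⧸ Kt I f t) + Module.length A (M'' ⧸ (I ^ t • (⊤ : Submodule A M''))) :=
  Module.length_eq_add_of_exact (fbar I f t) (gbar I g t) (fbar_injective I f t)
    (gbar_surjective I g hg t) (exact_bar I f g hg hfg t)

include hf in
theorem exists_artinRees : ∃ c : ℕ, ∀ t ≥ c, Kt I f t ≤ I ^ (t - c) • (⊤ : Submodule A M') := by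
  obtain ⟨c, hc⟩ := Ideal.exists_pow_inf_eq_pow_smul I (LinearMap.range f)
  refine ⟨c, fun t ht x hx => ?_⟩
  have h1 : f x ∈ I ^ t • (⊤ : Submodule A M) ⊓ LinearMap.range f := ⟨hx, ⟨x, rfl⟩⟩
  rw [hc t ht] at h1
  have h2 : I ^ (t - c) • (I ^ c • (⊤ : Submodule A M) ⊓ LinearMap.range f)
      ≤ (I ^ (t - c) • (⊤ : Submodule A M')).map f := by
    rw [Submodule.map_smul'', Submodule.map_top]
    exact Submodule.smul_mono le_rfl inf_le_right
  obtain ⟨x', hx', e⟩ := h2 h1
  rw [← hf e]
  exact hx'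

end Exact

end Alg

section Analysis

theorem tendsto_shift_ratio (c d : ℕ) :
    Tendsto (fun t : ℕ => (((t - c : ℕ) : ℝ) / (t : ℝ)) ^ d) atTop (nhds 1) := by
  have h1 : Tendsto (fun t : ℕ => (1 : ℝ) - (c : ℝ) / (t : ℝ)) atTop (nhds (1 - 0)) :=
    tendsto_const_nhds.sub (tendsto_const_div_atTop_nhds_zero_nat (c : ℝ))
  rw [sub_zero] at h1
  have h2 : Tendsto (fun t : ℕ => (((t - c : ℕ) : ℝ) / (t : ℝ))) atTop (nhds 1) := by
    refine h1.congr' ?_
    filter_upwards [eventually_ge_atTop (c + 1)] with t ht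
    have htc : c ≤ t := by omega
    have ht0 : (t : ℝ) ≠ 0 := by
      have : 0 < t := by omega
      exact_mod_cast this.ne'
    rw [Nat.cast_sub htc]
    field_simp
  have h3 := h2.pow d
  rwa [one_pow] at h3

theorem squeeze (a b : ℕ → ℕ) (c d : ℕ) (D e : ℝ) (hD : 0 ≤ D)
    (h : Tendsto (fun t : ℕ => D * (a t : ℝ) / (t : ℝ) ^ d) atTop (nhds e))
    (hb1 : ∀ t, b t ≤ a t) (hb2 : ∀ t ≥ c, a (t - c) ≤ b t) :
    Tendsto (fun t : ℕ => D * (b t : ℝ) / (t : ℝ) ^ d) atTop (nhds e) := by
  have hshift : Tendsto (fun t : ℕ => D * (a (t - c) : ℝ) / ((t - c : ℕ) : ℝ) ^ d) atTop (nhds e) :=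
    h.comp (tendsto_sub_atTop_nat c)
  have hlow : Tendsto (fun t : ℕ => (D * (a (t - c) : ℝ) / ((t - c : ℕ) : ℝ) ^ d) *
      (((t - c : ℕ) : ℝ) / (t : ℝ)) ^ d) atTop (nhds (e * 1)) :=
    hshift.mul (tendsto_shift_ratio c d)
  rw [mul_one] at hlow
  refine tendsto_of_tendsto_of_tendsto_of_le_of_le' hlow h ?_ ?_
  · filter_upwards [eventually_ge_atTop (c + 1)] with t ht
    have htc : c ≤ t := by omega
    have h1 : ((t - c : ℕ) : ℝ) ≠ 0 := by
      have : 0 < t - c := by omega
      exact_mod_cast this.ne'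
    have ht0 : (t : ℝ) ≠ 0 := by
      have : 0 < t := by omega
      exact_mod_cast this.ne'
    have h2 : (D * (a (t - c) : ℝ) / ((t - c : ℕ) : ℝ) ^ d) * (((t - c : ℕ) : ℝ) / (t : ℝ)) ^ d
        = D * (a (t - c) : ℝ) / (t : ℝ) ^ d := by
      rw [div_pow]
      field_simp
    rw [h2]
    have h3 : (a (t - c) : ℝ) ≤ (b t : ℝ) := by exact_mod_cast hb2 t htc
    have h4 : (0 : ℝ) ≤ (t : ℝ) ^ d := by positivity
    exact div_le_div_of_nonneg_right (mul_le_mul_of_nonneg_left h3 hD) h4
  · filter_upwards with t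
    have h3 : (b t : ℝ) ≤ (a t : ℝ) := by exact_mod_cast hb1 t
    have h4 : (0 : ℝ) ≤ (t : ℝ) ^ d := by positivity
    exact div_le_div_of_nonneg_right (mul_le_mul_of_nonneg_left h3 hD) h4

end Analysis

section Main

variable {A : Type u} [CommRing A] [IsNoetherianRing A] [IsLocalRing A]
  (I : Ideal A) (hI : ∃ n : ℕ, IsLocalRing.maximalIdeal A ^ n ≤ I)
  {M' M M'' : Type u} [AddCommGroup M'] [Module A M'] [AddCommGroup M] [Module A M]
    [AddCommGroup M''] [Module A M''] [Module.Finite A M'] [Module.Finite A M] [Module.Finite A M'']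
    (f : M' →ₗ[A] M) (g : M →ₗ[A] M'') (hf : Function.Injective f) (hg : Function.Surjective g)
    (hfg : LinearMap.range f = LinearMap.ker g)

include hI hf hg hfg in
theorem main (d : ℕ) (e' e'' : ℝ)
    (h' : Tendsto (fun t : ℕ => (d.factorial : ℝ) * ((Module.length A (M' ⧸ (I ^ t • (⊤ : Submodule A M')))).toNat : ℝ) / (t : ℝ) ^ d) atTop (nhds e'))
    (h'' : Tendsto (fun t : ℕ => (d.factorial : ℝ) * ((Module.length A (M'' ⧸ (I ^ t • (⊤ : Submodule A M'')))).toNat : ℝ) / (t : ℝ) ^ d) atTop (nhds e'')) :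
    Tendsto (fun t : ℕ => (d.factorial : ℝ) * ((Module.length A (M ⧸ (I ^ t • (⊤ : Submodule A M)))).toNat : ℝ) / (t : ℝ) ^ d) atTop (nhds (e' + e'')) := by
  obtain ⟨c, hc⟩ := exists_artinRees I f hf
  have hfinK : ∀ t, Module.length A (M' ⧸ Kt I f t) ≠ ⊤ :=
    fun t => length_ne_top I hI t _ (smul_top_le_Kt I f t)
  have hfin' : ∀ t, Module.length A (M' ⧸ (I ^ t • (⊤ : Submodule A M'))) ≠ ⊤ :=
    fun t => length_ne_top I hI t _ le_rfl
  have hfin'' : ∀ t, Module.length A (M'' ⧸ (I ^ t • (⊤ : Submodule A M''))) ≠ ⊤ :=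
    fun t => length_ne_top I hI t _ le_rfl
  have hb1 : ∀ t, (Module.length A (M' ⧸ Kt I f t)).toNat
      ≤ (Module.length A (M' ⧸ (I ^ t • (⊤ : Submodule A M')))).toNat := by
    intro t
    apply ENat.toNat_le_toNat _ (hfin' t)
    exact Module.length_le_of_surjective (Submodule.factor (smul_top_le_Kt I f t))
      (Submodule.factor_surjective _)
  have hb2 : ∀ t ≥ c, (Module.length A (M' ⧸ (I ^ (t - c) • (⊤ : Submodule A M')))).toNat
      ≤ (Module.length A (M' ⧸ Kt I f t)).toNat := by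
    intro t ht
    apply ENat.toNat_le_toNat _ (hfinK t)
    exact Module.length_le_of_surjective (Submodule.factor (hc t ht))
      (Submodule.factor_surjective _)
  have hK := squeeze
    (fun t => (Module.length A (M' ⧸ (I ^ t • (⊤ : Submodule A M')))).toNat)
    (fun t => (Module.length A (M' ⧸ Kt I f t)).toNat) c d (d.factorial : ℝ) e'
    (by positivity) h' hb1 hb2
  have hsum := hK.add h''
  refine hsum.congr ?_
  intro t
  have hlen := length_eq I f g hg hfg t
  have hnat : (Module.length A (M ⧸ (I ^ t • (⊤ : Submodule A M)))).toNat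
      = (Module.length A (M' ⧸ Kt I f t)).toNat
        + (Module.length A (M'' ⧸ (I ^ t • (⊤ : Submodule A M'')))).toNat := by
    rw [hlen, ENat.toNat_add (hfinK t) (hfin'' t)]
  show _ = (d.factorial : ℝ) * ((Module.length A (M ⧸ (I ^ t • (⊤ : Submodule A M)))).toNat : ℝ) / (t : ℝ) ^ d
  rw [hnat, Nat.cast_add]
  ring

end Main

end Groth.Agent.Lib.Helper32.SamuelAdd
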