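import Mathlib.RingTheory.AdicCompletion.Exactness

set_option autoImplicit false
universe u

namespace Groth.Agent.Lib.Helper32

open AdicCompletion

theorem adic_exact_of_shift {R : Type u} [CommRing R] (I : Ideal R) {K M N : Type u}
    [AddCommGroup K] [Module R K] [AddCommGroup M] [Module R M] [AddCommGroup N] [Module R N]
    (i : K →ₗ[R] M) (g : M →ₗ[R] N) (hi : Function.Injective i) (hg : Function.Surjective g)
    (hig : Function.Exact i g) (c : ℕ)
    (hAR : ∀ n, (I ^ (n + c) • ⊤ : Submodule R M) ⊓ LinearMap.range i ≤
      (I ^ n • ⊤ : Submodule R K).map i) :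
    Function.Injective (map I i) ∧ Function.Exact (map I i) (map I g) ∧
      Function.Surjective (map I g) := by
  refine ⟨?_, ?_, map_surjective I hg⟩
  · rw [← LinearMap.ker_eq_bot, LinearMap.ker_eq_bot']
    intro x
    obtain ⟨a, rfl⟩ := AdicCompletion.mk_surjective I K x
    intro hx
    have h1 : ∀ m, i (a m) ∈ (I ^ m • ⊤ : Submodule R M) := by
      intro m
      have := congrArg (fun y => y.val m) hx
      rw [map_mk] at this
      exact (Submodule.Quotient.mk_eq_zero _).mp this
    apply AdicCompletion.ext
    intro n
    obtain ⟨k', hk', hik'⟩ := hAR n ⟨h1 (n + c), ⟨a (n + c), rfl⟩⟩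
    rw [hi hik'] at hk'
    have h2 : a n - a (n + c) ∈ (I ^ n • ⊤ : Submodule R K) :=
      SModEq.sub_mem.mp (a.property (Nat.le_add_right n c))
    have h3 : a n ∈ (I ^ n • ⊤ : Submodule R K) := by
      have := add_mem h2 hk'
      rwa [sub_add_cancel] at this
    exact (Submodule.Quotient.mk_eq_zero _).mpr h3
  · intro y
    constructor
    · obtain ⟨b, rfl⟩ := AdicCompletion.mk_surjective I M y
      intro hy
      have h1 : ∀ m, g (b m) ∈ (I ^ m • ⊤ : Submodule R N) := by
        intro m
        have := congrArg (fun y => y.val m) hy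
        rw [map_mk] at this
        exact (Submodule.Quotient.mk_eq_zero _).mp this
      have h2 : ∀ n, ∃ cn ∈ (I ^ n • ⊤ : Submodule R M), g cn = g (b n) := by
        intro n
        have : g (b n) ∈ (I ^ n • ⊤ : Submodule R M).map g := by
          rw [Submodule.map_smul'', Submodule.map_top, LinearMap.range_eq_top.2 hg]
          exact h1 n
        exact this
      choose cs hcs hgcs using h2
      have h3 : ∀ n, ∃ k, i k = b n - cs n := fun n =>
        (hig (b n - cs n)).mp (by rw [map_sub, hgcs, sub_self])
      choose ks hks using h3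
      have hcauchy : ∀ n, ks (n + c) ≡ ks (n + 1 + c) [SMOD (I ^ n • ⊤ : Submodule R K)] := by
        intro n
        rw [SModEq.sub_mem]
        have hmem : i (ks (n + c) - ks (n + 1 + c)) ∈
            (I ^ (n + c) • ⊤ : Submodule R M) ⊓ LinearMap.range i := by
          refine ⟨?_, ⟨_, rfl⟩⟩
          rw [map_sub, hks, hks]
          have e : b (n + c) - cs (n + c) - (b (n + 1 + c) - cs (n + 1 + c)) =
              (b (n + c) - b (n + 1 + c)) - cs (n + c) + cs (n + 1 + c) := by abel
          rw [e]
          refine add_mem (sub_mem ?_ (hcs _)) ?_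
          · exact SModEq.sub_mem.mp (b.property (by omega))
          · exact Submodule.smul_mono_left (Ideal.pow_le_pow_right (by omega)) (hcs _)
        obtain ⟨k', hk', hik'⟩ := hAR n hmem
        rwa [hi hik'] at hk'
      refine ⟨mk I K (AdicCauchySequence.mk I K (fun n => ks (n + c)) hcauchy), ?_⟩
      apply AdicCompletion.ext
      intro n
      rw [map_mk]
      show Submodule.Quotient.mk (i (ks (n + c))) = Submodule.Quotient.mk (b n)
      rw [hks, Submodule.Quotient.eq]
      have e : b (n + c) - cs (n + c) - b n = -(b n - b (n + c)) - cs (n + c) := by abel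
      rw [e]
      refine sub_mem (neg_mem ?_) ?_
      · exact SModEq.sub_mem.mp (b.property (Nat.le_add_right n c))
      · exact Submodule.smul_mono_left (Ideal.pow_le_pow_right (Nat.le_add_right n c)) (hcs _)
    · rintro ⟨x, rfl⟩
      rw [map_comp_apply, hig.linearMap_comp_eq_zero, AdicCompletion.map_zero]
      rfl

end Groth.Agent.Lib.Helper32
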