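import Mathlib
set_option autoImplicit false
universe u

namespace Groth.Agent.Lib.Helper32.ArtinAA2

open MvPolynomial

theorem approx_of_exists {R Λ : Type u} [CommRing R] [CommRing Λ] [Algebra R Λ] (I : Ideal R)
    (hI : I.FG)
    (hsurj : ∀ a : Λ, ∃ c : R, a - algebraMap R Λ c ∈ I.map (algebraMap R Λ))
    (hex : ∀ (n m : ℕ) (F : Fin m → MvPolynomial (Fin n) R),
      (∃ a : Fin n → Λ, ∀ j, MvPolynomial.eval a (MvPolynomial.map (algebraMap R Λ) (F j)) = 0) →
        ∃ b : Fin n → R, ∀ j, MvPolynomial.eval b (F j) = 0)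
    (n m : ℕ) (F : Fin m → MvPolynomial (Fin n) R) (a : Fin n → Λ)
    (ha : ∀ j, MvPolynomial.eval a (MvPolynomial.map (algebraMap R Λ) (F j)) = 0) :
    ∃ b : Fin n → R, (∀ j, MvPolynomial.eval b (F j) = 0) ∧
      ∀ i, a i - algebraMap R Λ (b i) ∈ I.map (algebraMap R Λ) := by
  classical
  obtain ⟨s, μ, hμ⟩ := Submodule.fg_iff_exists_fin_generating_family.mp hI
  have hIΛ : I.map (algebraMap R Λ) = Ideal.span (Set.range fun k => algebraMap R Λ (μ k)) := by
    have h0 : I = Ideal.span (Set.range μ) := hμ.symm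
    rw [h0, Ideal.map_span, ← Set.range_comp]; rfl
  choose c hc using fun i => hsurj (a i)
  have hy' : ∀ i, ∃ y : Fin s → Λ, ∑ k, y k • algebraMap R Λ (μ k) = a i - algebraMap R Λ (c i) := by
    intro i
    have h1 := hc i
    rw [hIΛ] at h1
    exact (Submodule.mem_span_range_iff_exists_fun Λ).mp h1
  choose y hy using hy'
  let e : Fin n × Fin s ≃ Fin (n * s) := finProdFinEquiv
  let g : Fin n → MvPolynomial (Fin (n * s)) R :=
    fun i => C (c i) + ∑ k, C (μ k) * X (e (i, k))
  let y' : Fin (n * s) → Λ := fun t => y (e.symm t).1 (e.symm t).2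
  have hg : ∀ i, aeval y' (g i) = a i := by
    intro i
    simp only [g, map_add, map_sum, map_mul, aeval_C, aeval_X, y', Equiv.symm_apply_apply]
    have h2 : ∑ k, algebraMap R Λ (μ k) * y i k = a i - algebraMap R Λ (c i) := by
      rw [← hy i]
      exact Finset.sum_congr rfl fun k _ => by rw [smul_eq_mul, mul_comm]
    rw [h2]; ring
  have hevalmap : ∀ (N : ℕ) (v : Fin N → Λ) (p : MvPolynomial (Fin N) R),
      MvPolynomial.eval v (MvPolynomial.map (algebraMap R Λ) p) = aeval v p := by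
    intro N v p
    rw [eval_map, aeval_def]
  obtain ⟨z, hz⟩ := hex (n * s) m (fun j => bind₁ g (F j)) ⟨y', fun j => by
    rw [hevalmap, aeval_bind₁]
    have : (fun i => aeval y' (g i)) = a := funext hg
    rw [this, ← hevalmap]
    exact ha j⟩
  refine ⟨fun i => MvPolynomial.eval z (g i), fun j => ?_, fun i => ?_⟩
  · have h3 : eval₂Hom (RingHom.id R) z (bind₁ g (F j)) = 0 := hz j
    rw [eval₂Hom_bind₁] at h3
    exact h3
  · have h4 : algebraMap R Λ (MvPolynomial.eval z (g i)) =
        algebraMap R Λ (c i) + ∑ k, algebraMap R Λ (μ k) * algebraMap R Λ (z (e (i, k))) := by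
      simp only [g, map_add, map_sum, map_mul, eval_C, eval_X]
    have h5 : a i - algebraMap R Λ (MvPolynomial.eval z (g i)) =
        (a i - algebraMap R Λ (c i)) -
          ∑ k, algebraMap R Λ (μ k) * algebraMap R Λ (z (e (i, k))) := by
      rw [h4]; ring
    rw [h5]
    refine Ideal.sub_mem _ (hc i) (Ideal.sum_mem _ fun k _ => Ideal.mul_mem_right _ _ ?_)
    apply Ideal.mem_map_of_mem
    rw [← hμ]
    exact Submodule.subset_span ⟨k, rfl⟩

end Groth.Agent.Lib.Helper32.ArtinAA2
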