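import Groth.Agent.Lib.Helper13.Beil.Defs
set_option autoImplicit false
universe w u u₁ v₁ u₂ v₂
open CategoryTheory CategoryTheory.Limits CategoryTheory.Pretriangulated Opposite
open Groth.Agent.Lib.Helper13.Beil Groth.Agent.Lib.Helper40.Cpt

namespace Groth.Agent.Lib.Helper32.BeilF3

theorem finite_mid' (k : Type u) [Field k] (A : Type u) [Ring A] [Algebra k A]
    {M₁ M₂ M₃ : Type u} [AddCommGroup M₁] [AddCommGroup M₂] [AddCommGroup M₃]
    [Module A M₁] [Module A M₂] [Module A M₃] [Module k M₁] [Module k M₂] [Module k M₃]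
    [IsScalarTower k A M₁] [IsScalarTower k A M₂] [IsScalarTower k A M₃]
    (f : M₁ →ₗ[A] M₂) (g : M₂ →ₗ[A] M₃) (hex : Function.Exact f g)
    [Module.Finite k M₁] [Module.Finite k M₃] : Module.Finite k M₂ := by
  have : IsNoetherian k M₁ := isNoetherian_of_isNoetherianRing_of_finite k M₁
  have : IsNoetherian k M₃ := isNoetherian_of_isNoetherianRing_of_finite k M₃
  have hN : IsNoetherian k M₂ := by
    refine isNoetherian_of_range_eq_ker (f.restrictScalars k) (g.restrictScalars k) ?_
    ext x
    simp only [LinearMap.mem_range, LinearMap.mem_ker, LinearMap.restrictScalars_apply]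
    exact (hex x).symm
  infer_instance

variable (k : Type u) [Field k] (A : Type u) [Ring A] [Algebra k A]
  [HasDerivedCategory.{w} (ModuleCat.{u} A)]

omit [HasDerivedCategory.{w} (ModuleCat.{u} A)] in
theorem finite_mid {X₁ X₂ X₃ : ModuleCat.{u} A} (f : X₁ ⟶ X₂) (g : X₂ ⟶ X₃)
    (hex : Function.Exact f.hom g.hom)
    (h₁ : Module.Finite k (RestrictScalars k A X₁))
    (h₃ : Module.Finite k (RestrictScalars k A X₃)) :
    Module.Finite k (RestrictScalars k A X₂) := by
  let _ : Module k X₁ := Module.compHom X₁ (algebraMap k A)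
  let _ : Module k X₂ := Module.compHom X₂ (algebraMap k A)
  let _ : Module k X₃ := Module.compHom X₃ (algebraMap k A)
  have : IsScalarTower k A X₁ := IsScalarTower.of_compHom k A X₁
  have : IsScalarTower k A X₂ := IsScalarTower.of_compHom k A X₂
  have : IsScalarTower k A X₃ := IsScalarTower.of_compHom k A X₃
  have : Module.Finite k X₁ := h₁
  have : Module.Finite k X₃ := h₃
  have h2 : Module.Finite k X₂ := finite_mid' k A f.hom g.hom hex
  exact h2

omit [HasDerivedCategory.{w} (ModuleCat.{u} A)] in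
theorem subsingleton_mid {X₁ X₂ X₃ : ModuleCat.{u} A} (f : X₁ ⟶ X₂) (g : X₂ ⟶ X₃)
    (hex : Function.Exact f.hom g.hom)
    (h₁ : Subsingleton X₁) (h₃ : Subsingleton X₃) : Subsingleton X₂ := by
  refine ⟨fun x y => ?_⟩
  have hx : ∀ z : X₂, z = 0 := by
    intro z
    have hz : g.hom z = 0 := Subsingleton.elim _ _
    obtain ⟨w, rfl⟩ := (hex z).mp hz
    rw [Subsingleton.elim w 0, map_zero]
  rw [hx x, hx y]

theorem pfin_ext (T : Triangle (DerivedCategory (ModuleCat.{u} A)))
    (hT : T ∈ distTriang (DerivedCategory (ModuleCat.{u} A)))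
    (h₁ : Pfin k A T.obj₁) (h₃ : Pfin k A T.obj₃) : Pfin k A T.obj₂ := by
  have hex : ∀ i : ℤ, Function.Exact
      ((DerivedCategory.homologyFunctor (ModuleCat.{u} A) i).map T.mor₁).hom
      ((DerivedCategory.homologyFunctor (ModuleCat.{u} A) i).map T.mor₂).hom := by
    intro i
    have h := (DerivedCategory.homologyFunctor (ModuleCat.{u} A) i).map_distinguished_exact T hT
    exact (ShortComplex.ShortExact.moduleCat_exact_iff_function_exact _).mp h
  refine ⟨fun i => finite_mid k A _ _ (hex i) (h₁.1 i) (h₃.1 i), ?_⟩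
  refine (h₁.2.union h₃.2).subset ?_
  intro i hi
  by_contra hcon
  simp only [Set.mem_union, Set.mem_ofPred_eq, not_or, not_nontrivial_iff_subsingleton] at hcon
  have hs := subsingleton_mid A _ _ (hex i) hcon.1 hcon.2
  have hi' : Nontrivial ((DerivedCategory.homologyFunctor (ModuleCat.{u} A) i).obj T.obj₂) := hi
  exact not_subsingleton _ hs

end Groth.Agent.Lib.Helper32.BeilF3
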