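import Groth.Agent.Lib.Helper13.Beil.Defs
set_option autoImplicit false
universe w u u₁ v₁ u₂ v₂
open CategoryTheory CategoryTheory.Limits CategoryTheory.Pretriangulated Opposite
open Groth.Agent.Lib.Helper13.Beil Groth.Agent.Lib.Helper40.Cpt

namespace Groth.Agent.Lib.Helper32.BeilT1

theorem finAll_of_equivalence {D₁ : Type u₁} [Category.{v₁} D₁] [Preadditive D₁]
    {D₂ : Type u₂} [Category.{v₂} D₂] [Preadditive D₂] (E : D₁ ≌ D₂) [E.functor.Additive]
    (K : D₁) (h : FinAll.{u} K) : FinAll.{u} (E.functor.obj K) := by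
  intro J Y' c' hc' m
  have hc'' : IsColimit (Cofan.mk c'.pt c'.inj) :=
    hc'.ofIsoColimit (Cocone.ext (Iso.refl _) (by rintro ⟨j⟩; simp [Cofan.inj]))
  have hc : IsColimit (Cofan.mk (E.inverse.obj c'.pt) fun j => E.inverse.map (c'.inj j) :
      Cofan fun j => E.inverse.obj (Y' j)) :=
    isColimitCofanMkObjOfIsColimit E.inverse Y' c'.inj hc''
  obtain ⟨F, g, hg0, hsum⟩ := h J (fun j => E.inverse.obj (Y' j)) _ hc
    (E.unit.app K ≫ E.inverse.map m)
  refine ⟨F, fun i => E.functor.map (g i) ≫ E.counit.app (Y' i), fun i hi => ?_, ?_⟩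
  · change E.functor.map (g i) ≫ E.counit.app (Y' i) = 0
    rw [hg0 i hi, Functor.map_zero, zero_comp]
  · have h1 : m = E.functor.map (E.unit.app K ≫ E.inverse.map m) ≫ E.counit.app c'.pt := by
      rw [Functor.map_comp, Category.assoc]
      have hnat := E.counit.naturality m
      simp only [Functor.comp_map, Functor.id_map, Functor.comp_obj, Functor.id_obj] at hnat
      rw [hnat, ← Category.assoc, E.functor_unit_comp K]
      exact (Category.id_comp m).symm
    rw [h1, hsum, Functor.map_sum, Preadditive.sum_comp]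
    refine Finset.sum_congr rfl fun i _ => ?_
    have hnat := E.counit.naturality (c'.inj i)
    simp only [Functor.comp_map, Functor.id_map, Functor.comp_obj, Functor.id_obj] at hnat
    simp only [Cofan.inj] at hnat
    simp only [Cofan.mk_pt, Cofan.inj, Cofan.mk_ι_app, Functor.map_comp, Category.assoc]
    rw [← hnat]

end Groth.Agent.Lib.Helper32.BeilT1
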