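import Mathlib

set_option autoImplicit false
universe u

namespace Groth.Agent.Lib.Helper32.PurelyInsepPow

open Polynomial

theorem exists_pow_mem_range {F E : Type u} [Field F] [Field E] [Algebra F E]
    [IsPurelyInseparable F E] [FiniteDimensional F E] (q : ℕ) [ExpChar F q] :
    ∃ n, Module.finrank F E = q ^ n ∧ ∀ x : E, x ^ (q ^ n) ∈ (algebraMap F E).range := by
  obtain ⟨n, hn⟩ := IsPurelyInseparable.finrank_eq_pow (F := F) E q
  refine ⟨n, hn, fun x => ?_⟩
  obtain ⟨m, y, hm⟩ := IsPurelyInseparable.minpoly_eq_X_pow_sub_C F q x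
  have hdeg : (minpoly F x).natDegree = q ^ m := by
    rw [hm, natDegree_sub_C, natDegree_X_pow]
  have hdvd : q ^ m ∣ q ^ n := by
    rw [← hdeg, ← hn]
    exact minpoly.degree_dvd (Algebra.IsIntegral.isIntegral x)
  obtain ⟨c, hc⟩ := hdvd
  have hx : x ^ (q ^ m) = algebraMap F E y := by
    have h := minpoly.aeval F x
    rw [hm, map_sub, map_pow, aeval_X, aeval_C, sub_eq_zero] at h
    exact h
  exact ⟨y ^ c, by rw [map_pow, ← hx, ← pow_mul, ← hc]⟩

end Groth.Agent.Lib.Helper32.PurelyInsepPow
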