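import Mathlib
import Groth.Prelude.Def_HTop2

set_option autoImplicit false
universe u

namespace Groth.Agent.Lib.Helper32.SwanConductor

variable {C D : Type u} [CommRing C] [CommRing D]

section Abstract

variable (g : C →+* D)

def cond : Ideal D where
  carrier := {z | ∀ e : D, z * e ∈ g.range}
  add_mem' := by
    intro a b ha hb e
    rw [add_mul]
    exact add_mem (ha e) (hb e)
  zero_mem' := by
    intro e
    rw [zero_mul]
    exact zero_mem _
  smul_mem' := by
    intro c z hz e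
    rw [smul_eq_mul, mul_comm c z, mul_assoc]
    exact hz (c * e)

theorem mem_cond (z : D) : z ∈ cond g ↔ ∀ e : D, z * e ∈ g.range := Iff.rfl

theorem cond_le_range (z : D) (hz : z ∈ cond g) : z ∈ g.range := by
  have := hz 1
  rwa [mul_one] at this

variable {g}

theorem sq_mem_cond [IsReduced D] (hC : HTop.IsSeminormalRing C) (hginj : Function.Injective g)
    (z : D) (hz : z ^ 2 ∈ cond g) : z ∈ cond g := by
  intro e
  obtain ⟨x₀, hx₀⟩ := hz (e ^ 2)
  obtain ⟨y₀, hy₀⟩ := hz (z * e ^ 3)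
  have hx : g x₀ = (z * e) ^ 2 := by rw [hx₀]; ring
  have hy : g y₀ = (z * e) ^ 3 := by rw [hy₀]; ring
  have hxy : x₀ ^ 3 = y₀ ^ 2 := by
    apply hginj
    rw [map_pow, map_pow, hx, hy]
    ring
  obtain ⟨a₀, ⟨ha2, ha3⟩, -⟩ := hC x₀ y₀ hxy
  have h2 : (g a₀) ^ 2 = (z * e) ^ 2 := by rw [← map_pow, ← ha2, hx]
  have h3 : (g a₀) ^ 3 = (z * e) ^ 3 := by rw [← map_pow, ← ha3, hy]
  have h0 : (g a₀ - z * e) ^ 3 = 0 := by
    linear_combination 4 * h3 - 3 * (z * e + g a₀) * h2
  have h1 : g a₀ - z * e = 0 := IsReduced.eq_zero _ ⟨3, h0⟩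
  exact ⟨a₀, sub_eq_zero.mp h1⟩

theorem cond_isRadical [IsReduced D] (hC : HTop.IsSeminormalRing C)
    (hginj : Function.Injective g) : (cond g).IsRadical := by
  rw [Ideal.isRadical_iff_pow_one_lt 2 (by norm_num)]
  exact fun z hz => sq_mem_cond hC hginj z hz

open scoped Classical in
theorem surjective_of_RP [IsNoetherianRing C] (hC : HTop.IsSeminormalRing C) (g : C →+* D)
    [IsReduced D] (hfin : g.Finite) (hginj : Function.Injective g)
    (hspec : ∀ Q₁ Q₂ : Ideal D, Q₁.IsPrime → Q₂.IsPrime → Q₁.comap g = Q₂.comap g → Q₁ = Q₂)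
    (hRP : ∀ e : D, ∀ Q : Ideal D, Q.IsPrime → ∃ a s : C, g s ∉ Q ∧ g s * e - g a ∈ Q) :
    Function.Surjective g := by
  letI := g.toAlgebra
  haveI : Module.Finite C D := hfin
  haveI : Algebra.IsIntegral C D := Algebra.IsIntegral.of_finite C D
  haveI : IsNoetherianRing D := Algebra.FiniteType.isNoetherianRing C D
  have hrad := cond_isRadical (g := g) hC hginj
  suffices htop : cond g = ⊤ by
    intro e
    have h1 : (1 : D) ∈ cond g := by rw [htop]; exact Submodule.mem_top
    have := h1 e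
    rwa [one_mul] at this
  by_contra hne
  have hne' : (cond g).comap g ≠ ⊤ := Ideal.comap_ne_top g hne
  obtain ⟨m, hm, hIm⟩ := Ideal.exists_le_maximal _ hne'
  haveI := hm.isPrime
  obtain ⟨p, hpmin, -⟩ := Ideal.exists_minimalPrimes_le hIm
  have hpprime : p.IsPrime := hpmin.1.1
  have hIp : (cond g).comap g ≤ p := hpmin.1.2
  obtain ⟨Q₀, -, hQ₀prime, hQ₀p⟩ := Ideal.exists_ideal_over_prime_of_isIntegral p (⊥ : Ideal D)
    (by
      intro x hx
      have hx0 : g x = 0 := hx
      rw [hginj (hx0.trans (map_zero g).symm)]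
      exact zero_mem _)
  have hQ₀p' : Q₀.comap g = p := hQ₀p
  have hfinS : (cond g).minimalPrimes.Finite :=
    Ideal.finite_minimalPrimes_of_isNoetherianRing D (cond g)
  have hsInf : sInf (cond g).minimalPrimes = cond g := by
    rw [Ideal.sInf_minimalPrimes, hrad.radical]
  have hsQ : ∀ Q ∈ (cond g).minimalPrimes, Q ≠ Q₀ → ∃ s : C, s ∉ p ∧ g s ∈ Q := by
    intro Q hQ hQne
    by_contra hcon
    push Not at hcon
    have hQprime : Q.IsPrime := hQ.1.1
    have hle : Q.comap g ≤ p := by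
      intro s hs
      by_contra hsp
      exact hcon s hsp hs
    have hIQ : (cond g).comap g ≤ Q.comap g := Ideal.comap_mono hQ.1.2
    haveI : (Q.comap g).IsPrime := Ideal.comap_isPrime g Q
    have hge : p ≤ Q.comap g := hpmin.2 ⟨inferInstance, hIQ⟩ hle
    exact hQne (hspec Q Q₀ hQprime hQ₀prime ((le_antisymm hle hge).trans hQ₀p'.symm))
  let sQ : Ideal D → C := fun Q =>
    if h : Q ∈ (cond g).minimalPrimes ∧ Q ≠ Q₀ then (hsQ Q h.1 h.2).choose else 1
  have hsQ1 : ∀ Q, sQ Q ∉ p := by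
    intro Q
    by_cases h : Q ∈ (cond g).minimalPrimes ∧ Q ≠ Q₀
    · simp only [sQ, dif_pos h]
      exact (hsQ Q h.1 h.2).choose_spec.1
    · simp only [sQ, dif_neg h]
      exact hpprime.one_notMem
  have hsQ2 : ∀ Q ∈ (cond g).minimalPrimes, Q ≠ Q₀ → g (sQ Q) ∈ Q := by
    intro Q hQ hQne
    have h : Q ∈ (cond g).minimalPrimes ∧ Q ≠ Q₀ := ⟨hQ, hQne⟩
    simp only [sQ, dif_pos h]
    exact (hsQ Q h.1 h.2).choose_spec.2
  set s₂ : C := ∏ Q ∈ hfinS.toFinset, sQ Q with hs₂
  have hs₂p : s₂ ∉ p := by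
    rw [hs₂, Ideal.IsPrime.prod_mem_iff]
    rintro ⟨Q, -, hQ⟩
    exact hsQ1 Q hQ
  have hclaim : ∀ z ∈ Q₀, g s₂ * z ∈ cond g := by
    intro z hz
    rw [← hsInf, Ideal.mem_sInf]
    intro Q hQ
    by_cases hQne : Q = Q₀
    · rw [hQne]
      exact Ideal.mul_mem_left _ _ hz
    · apply Ideal.mul_mem_right
      have hdvd : sQ Q ∣ s₂ := Finset.dvd_prod_of_mem sQ (hfinS.mem_toFinset.mpr hQ)
      exact Ideal.mem_of_dvd Q (map_dvd g hdvd) (hsQ2 Q hQ hQne)
  have hclaim2 : ∀ e : D, ∃ s : C, s ∉ p ∧ g s * e ∈ g.range := by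
    intro e
    obtain ⟨a, s₁, hs₁, hz⟩ := hRP e Q₀ hQ₀prime
    have hs₁p : s₁ ∉ p := by
      intro h
      apply hs₁
      rw [← hQ₀p'] at h
      exact h
    obtain ⟨c, hc⟩ := cond_le_range g _ (hclaim _ hz)
    refine ⟨s₂ * s₁, ?_, c + s₂ * a, ?_⟩
    · intro h
      rcases hpprime.mem_or_mem h with h | h
      · exact hs₂p h
      · exact hs₁p h
    · rw [map_add, hc, map_mul, map_mul]
      ring
  obtain ⟨T, hT⟩ := (Module.Finite.fg_top : (⊤ : Submodule C D).FG)
  choose se hse1 hse2 using hclaim2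
  have hsT : (∏ e ∈ T, se e) ∉ p := by
    rw [Ideal.IsPrime.prod_mem_iff]
    rintro ⟨e, -, he⟩
    exact hse1 e he
  have hall : ∀ e : D, g (∏ e ∈ T, se e) * e ∈ g.range := by
    intro e
    have he : e ∈ Submodule.span C (T : Set D) := by rw [hT]; exact Submodule.mem_top
    induction he using Submodule.span_induction with
    | mem x hx =>
      have hdvd : se x ∣ ∏ e ∈ T, se e := Finset.dvd_prod_of_mem se hx
      obtain ⟨r, hr⟩ := hdvd
      obtain ⟨c, hc⟩ := hse2 x
      refine ⟨r * c, ?_⟩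
      rw [hr, map_mul, map_mul, hc]
      ring
    | zero => rw [mul_zero]; exact zero_mem _
    | add x y _ _ hx hy => rw [mul_add]; exact add_mem hx hy
    | smul c x _ hx =>
      obtain ⟨c', hc'⟩ := hx
      refine ⟨c * c', ?_⟩
      rw [map_mul, hc', Algebra.smul_def]
      show g c * _ = _ * (g c * x)
      ring
  have hmem : g (∏ e ∈ T, se e) ∈ cond g := hall
  exact hsT (hIp hmem)

end Abstract

section Concrete

variable {C C' : Type u} [CommRing C] [CommRing C'] [Algebra C C']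

variable (C) in
def RP (e : C') : Prop :=
  ∀ q : Ideal C', q.IsPrime → ∃ a s : C, algebraMap C C' s ∉ q ∧
    algebraMap C C' s * e - algebraMap C C' a ∈ q

variable (C C') in
def DD : Subalgebra C C' where
  carrier := {e | RP C e}
  mul_mem' := by
    intro e₁ e₂ h₁ h₂ q hq
    obtain ⟨a₁, s₁, hs₁, hz₁⟩ := h₁ q hq
    obtain ⟨a₂, s₂, hs₂, hz₂⟩ := h₂ q hq
    refine ⟨a₁ * a₂, s₁ * s₂, ?_, ?_⟩
    · rw [map_mul]
      intro h
      rcases hq.mem_or_mem h with h | h
      · exact hs₁ h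
      · exact hs₂ h
    · have e : algebraMap C C' (s₁ * s₂) * (e₁ * e₂) - algebraMap C C' (a₁ * a₂) =
          (algebraMap C C' s₁ * e₁ - algebraMap C C' a₁) * (algebraMap C C' s₂ * e₂) +
            algebraMap C C' a₁ * (algebraMap C C' s₂ * e₂ - algebraMap C C' a₂) := by
        rw [map_mul, map_mul]
        ring
      rw [e]
      exact add_mem (Ideal.mul_mem_right _ _ hz₁) (Ideal.mul_mem_left _ _ hz₂)
  one_mem' := by
    intro q hq
    exact ⟨1, 1, by rw [map_one]; exact hq.one_notMem, by rw [map_one, mul_one, sub_self]; exact zero_mem _⟩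
  add_mem' := by
    intro e₁ e₂ h₁ h₂ q hq
    obtain ⟨a₁, s₁, hs₁, hz₁⟩ := h₁ q hq
    obtain ⟨a₂, s₂, hs₂, hz₂⟩ := h₂ q hq
    refine ⟨s₂ * a₁ + s₁ * a₂, s₁ * s₂, ?_, ?_⟩
    · rw [map_mul]
      intro h
      rcases hq.mem_or_mem h with h | h
      · exact hs₁ h
      · exact hs₂ h
    · have e : algebraMap C C' (s₁ * s₂) * (e₁ + e₂) - algebraMap C C' (s₂ * a₁ + s₁ * a₂) =
          algebraMap C C' s₂ * (algebraMap C C' s₁ * e₁ - algebraMap C C' a₁) +
            algebraMap C C' s₁ * (algebraMap C C' s₂ * e₂ - algebraMap C C' a₂) := by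
        rw [map_mul, map_add, map_mul, map_mul]
        ring
      rw [e]
      exact add_mem (Ideal.mul_mem_left _ _ hz₁) (Ideal.mul_mem_left _ _ hz₂)
  zero_mem' := by
    intro q hq
    exact ⟨0, 1, by rw [map_one]; exact hq.one_notMem, by rw [map_zero, mul_zero, sub_self]; exact zero_mem _⟩
  algebraMap_mem' := by
    intro c q hq
    exact ⟨c, 1, by rw [map_one]; exact hq.one_notMem, by rw [map_one, one_mul, sub_self]; exact zero_mem _⟩

theorem mem_DD (e : C') : e ∈ DD C C' ↔ RP C e := Iff.rfl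

theorem mem_range_of_RP [IsNoetherianRing C] (hC : HTop.IsSeminormalRing C) [IsReduced C']
    [Module.Finite C C'] (hinj : Function.Injective (algebraMap C C'))
    (hspec : ∀ q₁ q₂ : Ideal C', q₁.IsPrime → q₂.IsPrime →
      q₁.comap (algebraMap C C') = q₂.comap (algebraMap C C') → q₁ = q₂)
    (e : C') (he : RP C e) : e ∈ (algebraMap C C').range := by
  haveI : IsReduced (DD C C') := isReduced_of_injective (DD C C').val Subtype.val_injective
  haveI : IsNoetherian C C' := isNoetherian_of_isNoetherianRing_of_finite C C'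
  haveI : Module.Finite C (DD C C') :=
    Module.Finite.iff_fg.mpr (IsNoetherian.noetherian (Subalgebra.toSubmodule (DD C C')))
  haveI : Algebra.IsIntegral C C' := Algebra.IsIntegral.of_finite C C'
  haveI : Algebra.IsIntegral (DD C C') C' := Algebra.IsIntegral.tower_top (R := C)
  have hcomp : ∀ q : Ideal C', (q.comap (algebraMap (DD C C') C')).comap
      (algebraMap C (DD C C')) = q.comap (algebraMap C C') := by
    intro q
    rw [Ideal.comap_comap]
    rfl
  have hsurj := surjective_of_RP hC (algebraMap C (DD C C'))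
    (RingHom.finite_algebraMap.mpr inferInstance)
    (fun x y hxy => hinj (congrArg Subtype.val hxy))
    (by
      intro Q₁ Q₂ hQ₁ hQ₂ h
      obtain ⟨q₁, -, hq₁, hq₁Q⟩ := Ideal.exists_ideal_over_prime_of_isIntegral Q₁ (⊥ : Ideal C')
        (by
          intro x hx
          have hx0 : ((x : DD C C') : C') = 0 := hx
          have : x = 0 := Subtype.ext hx0
          rw [this]
          exact zero_mem _)
      obtain ⟨q₂, -, hq₂, hq₂Q⟩ := Ideal.exists_ideal_over_prime_of_isIntegral Q₂ (⊥ : Ideal C')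
        (by
          intro x hx
          have hx0 : ((x : DD C C') : C') = 0 := hx
          have : x = 0 := Subtype.ext hx0
          rw [this]
          exact zero_mem _)
      have h12 : q₁ = q₂ := by
        apply hspec q₁ q₂ hq₁ hq₂
        rw [← hcomp, ← hcomp, hq₁Q, hq₂Q, h]
      rw [← hq₁Q, ← hq₂Q, h12])
    (by
      intro e' Q hQ
      obtain ⟨q, -, hq, hqQ⟩ := Ideal.exists_ideal_over_prime_of_isIntegral Q (⊥ : Ideal C')
        (by
          intro x hx
          have hx0 : ((x : DD C C') : C') = 0 := hx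
          have : x = 0 := Subtype.ext hx0
          rw [this]
          exact zero_mem _)
      obtain ⟨a, s, hs, hz⟩ := e'.2 q hq
      refine ⟨a, s, ?_, ?_⟩
      · intro h
        rw [← hqQ] at h
        exact hs h
      · rw [← hqQ]
        exact hz)
  obtain ⟨c, hc⟩ := hsurj ⟨e, he⟩
  exact ⟨c, congrArg Subtype.val hc⟩

end Concrete

end Groth.Agent.Lib.Helper32.SwanConductor
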