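import Groth.Agent.Lib.Helper32.PolLawChow
import Groth.Agent.Lib.Helper32.SwanConductor
import Groth.Agent.Lib.Helper32.PurelyInsepPow

set_option autoImplicit false
universe u
open scoped TensorProduct

namespace Groth.Agent.Lib.Helper32.ChowGlue

open Groth.Agent.Lib.Helper32.PolLawChow Groth.Agent.Lib.Helper32.SwanConductor

theorem mem_range_ring (A C C' B : Type u) [CommRing A] [CommRing C] [CommRing C'] [CommRing B]
    [Algebra A C] [Algebra A C'] [Algebra A B] [IsNoetherianRing C] (hC : HTop.IsSeminormalRing C)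
    (hCred : IsReduced C)
    (g : C →ₐ[A] C') [IsReduced C'] (hfin : g.toRingHom.Finite)
    (hbij : Function.Bijective (PrimeSpectrum.comap g.toRingHom))
    (hpi : ∀ Q : PrimeSpectrum C',
      (Ideal.ResidueField.map (PrimeSpectrum.comap g.toRingHom Q).asIdeal Q.asIdeal g.toRingHom
        rfl).IsPurelyInseparable)
    (d : ℕ) (hd : 0 < d)
    (hdeg : ∀ q : PrimeSpectrum C',
      @Module.finrank (PrimeSpectrum.comap g.toRingHom q).asIdeal.ResidueField
          q.asIdeal.ResidueField _ _
          (Ideal.ResidueField.map (PrimeSpectrum.comap g.toRingHom q).asIdeal q.asIdeal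
            g.toRingHom rfl).toAlgebra.toModule ∣ d)
    [Module.Flat A B] (φ : B →ₐ[A] C') (x : ⨂[A] _ : Fin d, B) (hx : x ∈ SymTen.TS A B d) :
    φ (mdAlg A B d x) ∈ g.range := by
  letI : Algebra C C' := g.toRingHom.toAlgebra
  haveI : Module.Finite C C' := hfin
  have hginj : Function.Injective (algebraMap C C') := by
    rw [injective_iff_map_eq_zero]
    intro c hc
    apply IsReduced.eq_zero
    rw [nilpotent_iff_mem_prime]
    intro p hp
    obtain ⟨Q, hQ⟩ := hbij.2 ⟨p, hp⟩
    have h1 : c ∈ (PrimeSpectrum.comap g.toRingHom Q).asIdeal := by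
      show g.toRingHom c ∈ Q.asIdeal
      have : g.toRingHom c = 0 := hc
      rw [this]
      exact zero_mem _
    rw [hQ] at h1
    exact h1
  have hspec : ∀ q₁ q₂ : Ideal C', q₁.IsPrime → q₂.IsPrime →
      q₁.comap (algebraMap C C') = q₂.comap (algebraMap C C') → q₁ = q₂ := by
    intro q₁ q₂ h₁ h₂ h
    have := hbij.1 (a₁ := ⟨q₁, h₁⟩) (a₂ := ⟨q₂, h₂⟩) (PrimeSpectrum.ext h)
    exact congrArg PrimeSpectrum.asIdeal this
  have hRP : RP C (φ (mdAlg A B d x)) := by
    intro q hq
    haveI := hq
    set Q : PrimeSpectrum C' := ⟨q, hq⟩ with hQdef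
    set P := PrimeSpectrum.comap g.toRingHom Q with hPdef
    let j := Ideal.ResidueField.mapₐ P.asIdeal q g rfl
    letI : Algebra P.asIdeal.ResidueField q.ResidueField :=
      (Ideal.ResidueField.map P.asIdeal q g.toRingHom rfl).toAlgebra
    haveI : IsPurelyInseparable P.asIdeal.ResidueField q.ResidueField := hpi Q
    have hdvd := hdeg Q
    have hfr : 0 < Module.finrank P.asIdeal.ResidueField q.ResidueField := by
      rcases Nat.eq_zero_or_pos (Module.finrank P.asIdeal.ResidueField q.ResidueField) with h0 | h0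
      · rw [h0] at hdvd
        exact absurd (Nat.eq_zero_of_zero_dvd hdvd) hd.ne'
      · exact h0
    haveI : FiniteDimensional P.asIdeal.ResidueField q.ResidueField :=
      Module.finite_of_finrank_pos hfr
    haveI : ExpChar P.asIdeal.ResidueField (ringExpChar P.asIdeal.ResidueField) :=
      ringExpChar.expChar _
    haveI : ExpChar q.ResidueField (ringExpChar P.asIdeal.ResidueField) :=
      expChar_of_injective_ringHom (algebraMap P.asIdeal.ResidueField q.ResidueField).injective _
    obtain ⟨n, hn, hpow⟩ := Groth.Agent.Lib.Helper32.PurelyInsepPow.exists_pow_mem_range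
      (F := P.asIdeal.ResidueField) (E := q.ResidueField) (ringExpChar P.asIdeal.ResidueField)
    rw [hn] at hdvd
    let χ : B →ₐ[A] q.ResidueField := (IsScalarTower.toAlgHom A C' q.ResidueField).comp φ
    obtain ⟨κ, hκ⟩ := chi_md_mem_range j (ringExpChar P.asIdeal.ResidueField) n hdvd
      (fun l => by
        obtain ⟨y, hy⟩ := hpow l
        exact ⟨y, hy⟩) χ x hx
    obtain ⟨a', s', hs', hκas⟩ := IsFractionRing.div_surjective (A := C ⧸ P.asIdeal) κ
    obtain ⟨a, rfl⟩ := Ideal.Quotient.mk_surjective a'
    obtain ⟨s, rfl⟩ := Ideal.Quotient.mk_surjective s'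
    have hsP : s ∉ P.asIdeal := by
      intro h
      have : Ideal.Quotient.mk P.asIdeal s = 0 := Ideal.Quotient.eq_zero_iff_mem.mpr h
      rw [this] at hs'
      exact (nonZeroDivisors.ne_zero hs') rfl
    have hs0 : algebraMap C P.asIdeal.ResidueField s ≠ 0 := by
      rw [Ne, Ideal.algebraMap_residueField_eq_zero]
      exact hsP
    have hκ' : κ * algebraMap C P.asIdeal.ResidueField s = algebraMap C P.asIdeal.ResidueField a := by
      rw [← hκas, ← Ideal.algebraMap_quotient_residueField_mk,
        ← Ideal.algebraMap_quotient_residueField_mk, div_mul_cancel₀]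
      rw [Ideal.algebraMap_quotient_residueField_mk]
      exact hs0
    refine ⟨a, s, ?_, ?_⟩
    · exact hsP
    · rw [← Ideal.algebraMap_residueField_eq_zero, map_sub, map_mul]
      have h1 : ∀ c : C, algebraMap C' q.ResidueField (algebraMap C C' c) =
          j (algebraMap C P.asIdeal.ResidueField c) := by
        intro c
        exact (Ideal.ResidueField.map_algebraMap P.asIdeal q g.toRingHom rfl c).symm
      have h2 : algebraMap C' q.ResidueField (φ (mdAlg A B d x)) = j κ := hκ.symm
      rw [h1, h1, h2, ← map_mul, mul_comm, hκ', sub_self]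
  have := mem_range_of_RP hC hginj hspec _ hRP
  obtain ⟨c, hc⟩ := this
  exact ⟨c, hc⟩

end Groth.Agent.Lib.Helper32.ChowGlue
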