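import Mathlib
import Groth.Prelude.Def_QuadGrp

open TensorProduct CliffordAlgebra

universe u v w

set_option linter.unusedSectionVars false

namespace Groth.Agent.Lib.Helper32.CliffBC2

variable {R : Type u} [CommRing R] {M : Type v} [AddCommGroup M] [Module R M] [Module.Free R M]
  (A : Type w) [CommRing A] [Algebra R A] (Q : QuadraticForm R M)

theorem baseChangeForm_tmul (a : A) (m : M) :
    QuadGrp.baseChangeForm A Q (a ⊗ₜ[R] m) = algebraMap R A (Q m) * (a * a) := by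
  rw [QuadGrp.baseChangeForm, LinearMap.compQuadraticMap_apply, QuadGrp.baseChange_tmul]
  simp [Algebra.smul_def]

noncomputable def fmap : A ⊗[R] M →ₗ[A] A ⊗[R] CliffordAlgebra Q :=
  TensorProduct.AlgebraTensorModule.map (LinearMap.id : A →ₗ[A] A) (ι Q)

theorem fmap_tmul (a : A) (m : M) : fmap A Q (a ⊗ₜ[R] m) = a ⊗ₜ[R] ι Q m := rfl

noncomputable def Q₁ : QuadraticMap A (A ⊗[R] M) (A ⊗[R] CliffordAlgebra Q) :=
  LinearMap.BilinMap.toQuadraticMap
    (LinearMap.compl₁₂ (LinearMap.mul A (A ⊗[R] CliffordAlgebra Q)) (fmap A Q) (fmap A Q))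

theorem Q₁_apply (x : A ⊗[R] M) : Q₁ A Q x = fmap A Q x * fmap A Q x := rfl

noncomputable def Q₂ : QuadraticMap A (A ⊗[R] M) (A ⊗[R] CliffordAlgebra Q) :=
  (Algebra.linearMap A (A ⊗[R] CliffordAlgebra Q)).compQuadraticMap (QuadGrp.baseChangeForm A Q)

theorem Q₂_apply (x : A ⊗[R] M) :
    Q₂ A Q x = algebraMap A (A ⊗[R] CliffordAlgebra Q) (QuadGrp.baseChangeForm A Q x) := rfl

theorem Q₁_eq_Q₂ : Q₁ A Q = Q₂ A Q := by
  apply _root_.baseChange_ext
  intro m
  rw [Q₁_apply, Q₂_apply, fmap_tmul, baseChangeForm_tmul, Algebra.TensorProduct.tmul_mul_tmul,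
    ι_sq_scalar, mul_one, mul_one, Algebra.TensorProduct.algebraMap_apply,
    Algebra.algebraMap_self_apply, Algebra.algebraMap_eq_smul_one (Q m),
    Algebra.algebraMap_eq_smul_one (Q m), TensorProduct.smul_tmul]

theorem fmap_mul_self (x : A ⊗[R] M) :
    fmap A Q x * fmap A Q x =
      algebraMap A (A ⊗[R] CliffordAlgebra Q) (QuadGrp.baseChangeForm A Q x) := by
  rw [← Q₁_apply, ← Q₂_apply, Q₁_eq_Q₂]

noncomputable def rho :
    CliffordAlgebra (QuadGrp.baseChangeForm A Q) →ₐ[A] A ⊗[R] CliffordAlgebra Q :=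
  CliffordAlgebra.lift (QuadGrp.baseChangeForm A Q) ⟨fmap A Q, fmap_mul_self A Q⟩

theorem rho_ι_tmul (a : A) (m : M) :
    rho A Q (ι (QuadGrp.baseChangeForm A Q) (a ⊗ₜ[R] m)) = a ⊗ₜ[R] ι Q m := by
  rw [rho, CliffordAlgebra.lift_ι_apply]
  rfl

theorem rho_ι (x : A ⊗[R] M) :
    rho A Q (ι (QuadGrp.baseChangeForm A Q) x) = fmap A Q x := by
  rw [rho, CliffordAlgebra.lift_ι_apply]

end Groth.Agent.Lib.Helper32.CliffBC2
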