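import Groth.Agent.Lib.Helper32.CubicLines

set_option autoImplicit false
set_option linter.unusedSectionVars false

namespace Groth.Agent.Lib.Helper32.Cubic

open MvPolynomial

variable {σ : Type} [Fintype σ] [DecidableEq σ]

theorem matrix_data {f : MvPolynomial σ ℂ} (hf : f.IsHomogeneous 3) (hf0 : f ≠ 0)
    (hsm : ∀ v : σ → ℂ, v ≠ 0 → eval v f = 0 → ∃ i : σ, eval v (pderiv i f) ≠ 0)
    (hcard : Fintype.card σ = 4) (p : σ → ℂ) (hp : p ≠ 0) (hFp : eval p f = 0)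
    (A : Matrix σ σ ℂ)
    (hA : A * A = 1 ∧ Module.finrank ℂ ↥(LinearMap.ker (Matrix.toLin' A - LinearMap.id)) = 3 ∧
        A.mulVec p = -p ∧ ∃ c : ℂ, aeval (fun i : σ => ∑ j : σ, C (A i j) * X j) f = C c * f) :
    ∃ φ : (σ → ℂ) →ₗ[ℂ] ℂ, φ p = 1 ∧ (∀ x, A.mulVec x = x - (2 * φ x) • p) ∧
      (∀ x, eval (A.mulVec x) f = eval x f) ∧ (∀ x, Qp f p x = 2 * φ x * Lp f p x) := by
  obtain ⟨-, hfin, hAp, c, hc⟩ := hA
  obtain ⟨φ, hφp, hAx⟩ := exists_phi_of_matrix A p hp (by rw [hfin, hcard]) hAp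
  have hfun := (aeval_matrix_eq_iff A f c).mp hc
  have hkey := key hf hf0 hsm p hFp φ hφp (by rw [hcard]; norm_num) c
    (fun x => by rw [← hAx]; exact hfun x)
  refine ⟨φ, hφp, hAx, ?_, hkey.2⟩
  intro x
  rw [hfun x, hkey.1, one_mul]

theorem conj_eq {f : MvPolynomial σ ℂ} (hf : f.IsHomogeneous 3)
    (hsm : ∀ v : σ → ℂ, v ≠ 0 → eval v f = 0 → ∃ i : σ, eval v (pderiv i f) ≠ 0)
    (A A' A'' : Matrix σ σ ℂ) (e e' e'' : σ → ℂ) (φ φ' φ'' : (σ → ℂ) →ₗ[ℂ] ℂ)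
    (hAA : A * A = 1)
    (hA : ∀ x, A.mulVec x = x - (2 * φ x) • e)
    (hFA : ∀ x, eval (A.mulVec x) f = eval x f)
    (hφ' : φ' e' = 1)
    (hA' : ∀ x, A'.mulVec x = x - (2 * φ' x) • e')
    (hFA' : ∀ x, eval (A'.mulVec x) f = eval x f)
    (hA'' : ∀ x, A''.mulVec x = x - (2 * φ'' x) • e'')
    (hQ'' : ∀ x, Qp f e'' x = 2 * φ'' x * Lp f e'' x)
    (he''0 : e'' ≠ 0) (hFe'' : eval e'' f = 0)
    (t₀ : ℂ) (ht₀ : t₀ ≠ 0) (he'' : e'' = t₀ • A.mulVec e') : A'' = A * A' * A := by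
  have hAAx : ∀ x, A.mulVec (A.mulVec x) = x := by
    intro x
    rw [Matrix.mulVec_mulVec, hAA, Matrix.one_mulVec]
  set ψ : (σ → ℂ) →ₗ[ℂ] ℂ := (1 / t₀) • (φ'.comp (Matrix.toLin' A)) with hψ
  have hψx : ∀ x, ψ x = (1 / t₀) * φ' (A.mulVec x) := by
    intro x
    simp [hψ, Matrix.toLin'_apply]
  have hψe'' : ψ e'' = 1 := by
    rw [hψx, he'', Matrix.mulVec_smul, hAAx, map_smul, hφ', smul_eq_mul]
    field_simp
  have hBx : ∀ x, (A * A' * A).mulVec x = x - (2 * ψ x) • e'' := by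
    intro x
    rw [← Matrix.mulVec_mulVec, ← Matrix.mulVec_mulVec, hA' (A.mulVec x), Matrix.mulVec_sub,
      Matrix.mulVec_smul, hAAx, hψx, he'', smul_smul]
    congr 2
    field_simp
  have hFB : ∀ x, eval (x - (2 * ψ x) • e'') f = eval x f := by
    intro x
    rw [← hBx, ← Matrix.mulVec_mulVec, ← Matrix.mulVec_mulVec, hFA, hFA', hFA]
  have hQψ := key_pos hf e'' hFe'' ψ hψe'' hFB
  have hL := Lp_ne_zero hf hsm e'' he''0 hFe''
  have hφψ := phi_unique f e'' hL φ'' ψ hQ'' hQψ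
  apply matrix_eq_of_mulVec_eq
  intro x
  rw [hA'', hBx, hφψ]

end Groth.Agent.Lib.Helper32.Cubic
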