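import Groth.Agent.Lib.Helper32.CubicKey
import Mathlib.LinearAlgebra.FiniteDimensional.Basic
import Mathlib.LinearAlgebra.LinearIndependent.Lemmas

set_option autoImplicit false
set_option linter.unusedSectionVars false

namespace Groth.Agent.Lib.Helper32.Cubic

open MvPolynomial

variable {σ : Type} [Fintype σ] [DecidableEq σ]

theorem line_L_Q_zero {f : MvPolynomial σ ℂ} (hf : f.IsHomogeneous 3) (e : σ → ℂ)
    (U : Submodule ℂ (σ → ℂ)) (he : e ∈ U) (hU : ∀ u ∈ U, eval u f = 0) (u : σ → ℂ) (hu : u ∈ U) :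
    Lp f e u = 0 ∧ Qp f e u = 0 := by
  have hcoef := cubic_coeffs (a0 := 0) (a1 := Qp f e u) (a2 := Lp f e u) (a3 := 0) (fun s => by
    have e1 := taylor hf u e s
    rw [hU u hu, hU e he, hU _ (U.add_mem hu (U.smul_mem s he))] at e1
    linear_combination -e1)
  exact ⟨hcoef.2.2.1, hcoef.2.1⟩

theorem two_dim_decomp (U : Submodule ℂ (σ → ℂ)) (hU2 : Module.finrank ℂ ↥U = 2)
    (e c : σ → ℂ) (he0 : e ≠ 0) (he : e ∈ U) (hc : c ∈ U) (hce : c ∉ Submodule.span ℂ {e}) :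
    ∀ u ∈ U, ∃ α β : ℂ, u = α • e + β • c := by
  have hli : LinearIndependent ℂ ![e, c] := by
    rw [LinearIndependent.pair_iff' he0]
    intro a ha
    apply hce
    rw [Submodule.mem_span_singleton]
    exact ⟨a, ha⟩
  have hfr := finrank_span_eq_card hli
  rw [Fintype.card_fin] at hfr
  have hrange : Set.range ![e, c] = {e, c} := by
    ext z
    simp only [Set.mem_range, Set.mem_insert_iff, Set.mem_singleton_iff]
    constructor
    · rintro ⟨i, rfl⟩
      fin_cases i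
      · left; rfl
      · right; rfl
    · rintro (rfl | rfl)
      · exact ⟨0, rfl⟩
      · exact ⟨1, rfl⟩
  rw [hrange] at hfr
  have hle : Submodule.span ℂ {e, c} ≤ U := by
    rw [Submodule.span_le]
    intro z hz
    rcases hz with rfl | rfl
    · exact he
    · exact hc
  have heq : Submodule.span ℂ {e, c} = U :=
    Submodule.eq_of_le_of_finrank_eq hle (by rw [hfr, hU2])
  intro u hu
  rw [← heq, Submodule.mem_span_pair] at hu
  obtain ⟨a, b, hab⟩ := hu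
  exact ⟨a, b, hab.symm⟩

theorem exists_not_mem_span (U : Submodule ℂ (σ → ℂ)) (hU2 : Module.finrank ℂ ↥U = 2)
    (e : σ → ℂ) : ∃ c ∈ U, c ∉ Submodule.span ℂ {e} := by
  by_contra hcon
  push Not at hcon
  have hle : U ≤ Submodule.span ℂ {e} := hcon
  have h1 := Submodule.finrank_mono hle
  have h2 : Module.finrank ℂ ↥(Submodule.span ℂ {e}) ≤ 1 := by
    have := finrank_span_le_card (R := ℂ) ({e} : Set (σ → ℂ))
    simpa using this
  omega

theorem inter_of_ne (U U' : Submodule ℂ (σ → ℂ)) (h2 : Module.finrank ℂ ↥U = 2)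
    (h2' : Module.finrank ℂ ↥U' = 2) (hne : U ≠ U') (e : σ → ℂ) (he0 : e ≠ 0)
    (he : e ∈ U) (he' : e ∈ U') (c : σ → ℂ) (hc : c ∈ U) (hc' : c ∈ U') :
    c ∈ Submodule.span ℂ {e} := by
  by_contra hce
  apply hne
  have hle : U ≤ U' := by
    intro u hu
    obtain ⟨α, β, rfl⟩ := two_dim_decomp U h2 e c he0 he hc hce u hu
    exact U'.add_mem (U'.smul_mem α he') (U'.smul_mem β hc')
  exact Submodule.eq_of_le_of_finrank_eq hle (by rw [h2, h2'])

def IsEckardt (f : MvPolynomial σ ℂ) (e : σ → ℂ) : Prop :=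
  ∃ U : Fin 3 → Submodule ℂ (σ → ℂ), Function.Injective U ∧
    ∀ i : Fin 3, Module.finrank ℂ ↥(U i) = 2 ∧ e ∈ U i ∧ ∀ u ∈ U i, eval u f = 0

theorem IsEckardt.eval_eq_zero {f : MvPolynomial σ ℂ} {e : σ → ℂ} (hE : IsEckardt f e) :
    eval e f = 0 := by
  obtain ⟨U, _, hU⟩ := hE
  exact (hU 0).2.2 e (hU 0).2.1

theorem eckardt_Q_zero {f : MvPolynomial σ ℂ} (hf : f.IsHomogeneous 3)
    (hcard : Fintype.card σ = 4) (e : σ → ℂ) (he0 : e ≠ 0) (hE : IsEckardt f e)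
    (hL : ∃ w, Lp f e w ≠ 0) : ∀ x, Lp f e x = 0 → Qp f e x = 0 := by
  obtain ⟨U, hinj, hU⟩ := hE
  have h01 : U 0 ≠ U 1 := fun h => by
    have := hinj h
    exact absurd this (by decide)
  have h12 : U 1 ≠ U 2 := fun h => by
    have := hinj h
    exact absurd this (by decide)
  have h02 : U 0 ≠ U 2 := fun h => by
    have := hinj h
    exact absurd this (by decide)
  have hLQ : ∀ i, ∀ u ∈ U i, Lp f e u = 0 ∧ Qp f e u = 0 := fun i u hu =>
    line_L_Q_zero hf e (U i) (hU i).2.1 (hU i).2.2 u hu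
  set K := LinearMap.ker (Lp f e) with hKdef
  have hKfin : Module.finrank ℂ ↥K = 3 := by
    rw [hKdef]
    obtain ⟨w, hw⟩ := hL
    have h1 := LinearMap.finrank_range_add_finrank_ker (Lp f e)
    rw [Module.finrank_fintype_fun_eq_card, hcard] at h1
    have hsurj : Function.Surjective (Lp f e) := by
      intro c
      refine ⟨(c / Lp f e w) • w, ?_⟩
      rw [map_smul, smul_eq_mul]
      field_simp
    rw [LinearMap.range_eq_top.mpr hsurj, finrank_top, Module.finrank_self] at h1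
    omega
  have hUK : ∀ i, U i ≤ K := fun i u hu => (hLQ i u hu).1
  have hsup : U 0 ⊔ U 1 = K := by
    have hle : U 0 ⊔ U 1 ≤ K := sup_le (hUK 0) (hUK 1)
    have hinf : U 0 ⊓ U 1 ≤ Submodule.span ℂ {e} := by
      intro c hc
      exact inter_of_ne (U 0) (U 1) (hU 0).1 (hU 1).1 h01 e he0 (hU 0).2.1 (hU 1).2.1 c hc.1 hc.2
    have h1 := Submodule.finrank_mono hinf
    have h2 : Module.finrank ℂ ↥(Submodule.span ℂ {e}) ≤ 1 := by
      have := finrank_span_le_card (R := ℂ) ({e} : Set (σ → ℂ))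
      simpa using this
    have h3 := Submodule.finrank_sup_add_finrank_inf_eq (U 0) (U 1)
    rw [(hU 0).1, (hU 1).1] at h3
    have h4 := Submodule.finrank_mono hle
    exact Submodule.eq_of_le_of_finrank_eq hle (by omega)
  obtain ⟨c, hcU, hce⟩ := exists_not_mem_span (U 2) (hU 2).1 e
  have hcK : c ∈ U 0 ⊔ U 1 := by
    rw [hsup]
    exact hUK 2 hcU
  obtain ⟨c0, hc0, c1, hc1, hcc⟩ := Submodule.mem_sup.mp hcK
  have hc0e : c0 ∉ Submodule.span ℂ {e} := by
    intro h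
    apply hce
    have hc0' : c0 ∈ U 1 := by
      obtain ⟨a, rfl⟩ := Submodule.mem_span_singleton.mp h
      exact (U 1).smul_mem a (hU 1).2.1
    have hcU1 : c ∈ U 1 := by
      rw [← hcc]
      exact (U 1).add_mem hc0' hc1
    exact inter_of_ne (U 1) (U 2) (hU 1).1 (hU 2).1 h12 e he0 (hU 1).2.1 (hU 2).2.1 c hcU1 hcU
  have hc1e : c1 ∉ Submodule.span ℂ {e} := by
    intro h
    apply hce
    have hc1' : c1 ∈ U 0 := by
      obtain ⟨a, rfl⟩ := Submodule.mem_span_singleton.mp h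
      exact (U 0).smul_mem a (hU 0).2.1
    have hcU0 : c ∈ U 0 := by
      rw [← hcc]
      exact (U 0).add_mem hc0 hc1'
    exact inter_of_ne (U 0) (U 2) (hU 0).1 (hU 2).1 h02 e he0 (hU 0).2.1 (hU 2).2.1 c hcU0 hcU
  have hB : PhiF f e c0 c1 = 0 := by
    have h1 := (hLQ 2 c hcU).2
    rw [← hcc, Qp_add, (hLQ 0 c0 hc0).2, (hLQ 1 c1 hc1).2] at h1
    linear_combination h1
  intro x hx
  have hxK : x ∈ U 0 ⊔ U 1 := by
    rw [hsup]
    exact hx
  obtain ⟨u0, hu0, u1, hu1, hxx⟩ := Submodule.mem_sup.mp hxK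
  obtain ⟨α, β, rfl⟩ := two_dim_decomp (U 0) (hU 0).1 e c0 he0 (hU 0).2.1 hc0 hc0e u0 hu0
  obtain ⟨γ, δ, rfl⟩ := two_dim_decomp (U 1) (hU 1).1 e c1 he0 (hU 1).2.1 hc1 hc1e u1 hu1
  rw [← hxx, Qp_add, (hLQ 0 _ hu0).2, (hLQ 1 _ hu1).2]
  simp only [map_add, map_smul, LinearMap.add_apply, LinearMap.smul_apply, smul_eq_mul]
  have he_e : PhiF f e e e = 0 := by
    rw [PhiF_self_left, (hLQ 0 e (hU 0).2.1).1, mul_zero]
  have he_c1 : PhiF f e e c1 = 0 := by
    rw [PhiF_self_left, (hLQ 1 c1 hc1).1, mul_zero]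
  have he_c0 : PhiF f e c0 e = 0 := by
    rw [PhiF_swap23, PhiF_self_left, (hLQ 0 c0 hc0).1, mul_zero]
  rw [he_e, he_c1, he_c0, hB]
  ring

theorem exists_M (f : MvPolynomial σ ℂ) (e : σ → ℂ)
    (hQK : ∀ x, Lp f e x = 0 → Qp f e x = 0) (hL : ∃ w, Lp f e w ≠ 0) :
    ∃ M : (σ → ℂ) →ₗ[ℂ] ℂ, ∀ x, Qp f e x = M x * Lp f e x := by
  obtain ⟨w, hw⟩ := hL
  set w0 : σ → ℂ := (1 / Lp f e w) • w with hw0
  have hLw0 : Lp f e w0 = 1 := by
    rw [hw0, map_smul, smul_eq_mul]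
    field_simp
  refine ⟨PhiF f e w0 - Qp f e w0 • Lp f e, fun x => ?_⟩
  have hx0 : Lp f e (x + (-(Lp f e x)) • w0) = 0 := by
    rw [map_add, map_smul, hLw0, smul_eq_mul]
    ring
  have hQ0 := hQK _ hx0
  rw [Qp_add, Qp_smul, map_smul, smul_eq_mul] at hQ0
  simp only [LinearMap.sub_apply, LinearMap.smul_apply, smul_eq_mul]
  rw [PhiF_swap23 f e w0 x]
  linear_combination hQ0

theorem M_apply_self {f : MvPolynomial σ ℂ} (hf : f.IsHomogeneous 3) (e : σ → ℂ)
    (hFe : eval e f = 0) (hL : ∃ w, Lp f e w ≠ 0) (M : (σ → ℂ) →ₗ[ℂ] ℂ)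
    (hM : ∀ x, Qp f e x = M x * Lp f e x) : M e = 2 := by
  obtain ⟨w, hw⟩ := hL
  have h1 := hM (w + (1 : ℂ) • e)
  rw [Qp_add_smul_self hf, map_add, map_add, map_smul, map_smul, Lp_self hf, hFe, hM w] at h1
  simp only [smul_eq_mul] at h1
  have h2 : (M e - 2) * Lp f e w = 0 := by linear_combination -h1
  rcases mul_eq_zero.mp h2 with h3 | h3
  · linear_combination h3
  · exact absurd h3 hw

end Groth.Agent.Lib.Helper32.Cubic
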