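import Groth.Agent.Lib.Helper32.CubicTensor
import Mathlib.LinearAlgebra.Matrix.SesquilinearForm

set_option autoImplicit false
set_option linter.unusedSectionVars false

namespace Groth.Agent.Lib.Helper32.Cubic

open MvPolynomial

variable {σ : Type} [Fintype σ] [DecidableEq σ]

noncomputable def Phi (T : σ → σ → σ → ℂ) :
    (σ → ℂ) →ₗ[ℂ] (σ → ℂ) →ₗ[ℂ] (σ → ℂ) →ₗ[ℂ] ℂ :=
  ∑ k, (LinearMap.proj k : (σ → ℂ) →ₗ[ℂ] ℂ).smulRight
    (Matrix.toLinearMap₂' ℂ (fun j i => T i j k : Matrix σ σ ℂ))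

theorem Phi_apply (T : σ → σ → σ → ℂ) (x y z : σ → ℂ) :
    Phi T x y z = ∑ k, ∑ j, ∑ i, x k * (y j * (z i * T i j k)) := by
  unfold Phi
  simp only [LinearMap.sum_apply, LinearMap.smulRight_apply, LinearMap.proj_apply,
    LinearMap.smul_apply, Matrix.toLinearMap₂'_apply, smul_eq_mul, Finset.mul_sum]

noncomputable def PhiF (f : MvPolynomial σ ℂ) :
    (σ → ℂ) →ₗ[ℂ] (σ → ℂ) →ₗ[ℂ] (σ → ℂ) →ₗ[ℂ] ℂ := Phi (tens f)

theorem PhiF_swap23 (f : MvPolynomial σ ℂ) (x y z : σ → ℂ) :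
    PhiF f x y z = PhiF f x z y := by
  unfold PhiF
  rw [Phi_apply, Phi_apply]
  apply Finset.sum_congr rfl
  intro k _
  rw [Finset.sum_comm]
  apply Finset.sum_congr rfl
  intro j _
  apply Finset.sum_congr rfl
  intro i _
  rw [tens_symm12 f j i k]
  ring

theorem PhiF_swap12 (f : MvPolynomial σ ℂ) (x y z : σ → ℂ) :
    PhiF f x y z = PhiF f y x z := by
  unfold PhiF
  rw [Phi_apply, Phi_apply]
  rw [Finset.sum_comm]
  apply Finset.sum_congr rfl
  intro k _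
  apply Finset.sum_congr rfl
  intro j _
  apply Finset.sum_congr rfl
  intro i _
  rw [tens_symm23 f i k j]
  ring

theorem PhiF_swap13 (f : MvPolynomial σ ℂ) (x y z : σ → ℂ) :
    PhiF f x y z = PhiF f z y x := by
  rw [PhiF_swap12, PhiF_swap23, PhiF_swap12]

theorem eval_eq_PhiF {f : MvPolynomial σ ℂ} (hf : f.IsHomogeneous 3) (x : σ → ℂ) :
    eval x f = (1 / 6) * PhiF f x x x := by
  rw [eval_eq hf, PhiF, Phi_apply]

theorem eval_pderiv_eq_PhiF {f : MvPolynomial σ ℂ} (hf : f.IsHomogeneous 3) (k : σ)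
    (x : σ → ℂ) :
    eval x (pderiv k f) = (1 / 2) * PhiF f (Pi.single k 1) x x := by
  rw [eval_pderiv1 hf, PhiF, Phi_apply]
  congr 1
  symm
  rw [Finset.sum_eq_single k]
  · simp
  · intro b _ hb
    simp [Pi.single_eq_of_ne hb]
  · intro h
    exact absurd (Finset.mem_univ k) h

theorem grad_eq_PhiF {f : MvPolynomial σ ℂ} (hf : f.IsHomogeneous 3) (w x : σ → ℂ) :
    ∑ k, w k * eval x (pderiv k f) = (1 / 2) * PhiF f w x x := by
  have hw : w = ∑ k, w k • (Pi.single k 1 : σ → ℂ) := by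
    ext i
    simp [Finset.sum_apply, Pi.single_apply]
  conv_rhs => rw [hw]
  simp only [map_sum, map_smul, LinearMap.sum_apply, LinearMap.smul_apply, smul_eq_mul,
    Finset.mul_sum]
  apply Finset.sum_congr rfl
  intro k _
  rw [eval_pderiv_eq_PhiF hf]
  ring

theorem exists_PhiF_ne_zero {f : MvPolynomial σ ℂ} (hf : f.IsHomogeneous 3)
    (hsm : ∀ v : σ → ℂ, v ≠ 0 → eval v f = 0 → ∃ i : σ, eval v (pderiv i f) ≠ 0)
    (v : σ → ℂ) (hv : v ≠ 0) (hv0 : eval v f = 0) : ∃ w, PhiF f w v v ≠ 0 := by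
  obtain ⟨i, hi⟩ := hsm v hv hv0
  refine ⟨Pi.single i 1, ?_⟩
  intro h
  apply hi
  rw [eval_pderiv_eq_PhiF hf, h, mul_zero]

end Groth.Agent.Lib.Helper32.Cubic
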