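import Groth.Agent.Lib.Helper32.CubicRefl
import Mathlib.Algebra.QuadraticDiscriminant
import Mathlib.FieldTheory.IsAlgClosed.Basic
import Mathlib.Analysis.Complex.Polynomial.Basic
import Mathlib.LinearAlgebra.Dimension.RankNullity

set_option autoImplicit false
set_option linter.unusedSectionVars false

namespace Groth.Agent.Lib.Helper32.Cubic

open MvPolynomial

variable {σ : Type} [Fintype σ] [DecidableEq σ]

theorem exists_eval_ne_zero {f : MvPolynomial σ ℂ} (hf0 : f ≠ 0) : ∃ x, eval x f ≠ 0 := by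
  by_contra hcon
  push Not at hcon
  apply hf0
  apply MvPolynomial.funext
  intro x
  rw [hcon x, map_zero]

theorem exists_quadratic_root (a b c : ℂ) (ha : a ≠ 0) : ∃ t : ℂ, a * (t * t) + b * t + c = 0 := by
  obtain ⟨s, hs⟩ := IsAlgClosed.exists_eq_mul_self (discrim a b c)
  exact exists_quadratic_eq_zero ha ⟨s, hs⟩

theorem eval_refl {f : MvPolynomial σ ℂ} (hf : f.IsHomogeneous 3) (p : σ → ℂ)
    (hp0 : eval p f = 0) (φ : (σ → ℂ) →ₗ[ℂ] ℂ) (x : σ → ℂ) :
    eval (x - (2 * φ x) • p) f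
      = eval x f - 2 * φ x * Qp f p x + 4 * (φ x) ^ 2 * Lp f p x := by
  have h : x - (2 * φ x) • p = x + (-(2 * φ x)) • p := by
    rw [neg_smul, sub_eq_add_neg]
  rw [h, taylor hf, hp0]
  ring

theorem exists_ne_zero_Qp_eq_zero (f : MvPolynomial σ ℂ) (p : σ → ℂ)
    (K : Submodule ℂ (σ → ℂ)) (hK : 1 < Module.finrank ℂ ↥K) :
    ∃ v ∈ K, v ≠ 0 ∧ Qp f p v = 0 := by
  have hpos : 0 < Module.finrank ℂ ↥K := by omega
  haveI : Nontrivial ↥K := Module.finrank_pos_iff.mp hpos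
  obtain ⟨u, hu⟩ := exists_ne (0 : ↥K)
  obtain ⟨w, hw⟩ := exists_linearIndependent_pair_of_one_lt_finrank hK hu
  rw [LinearIndependent.pair_iff] at hw
  by_cases hQw : Qp f p (w : σ → ℂ) = 0
  · refine ⟨w, w.2, ?_, hQw⟩
    intro h0
    have hw0 : w = 0 := Subtype.ext h0
    have := hw 0 1 (by rw [hw0]; simp)
    exact one_ne_zero this.2
  · obtain ⟨t, ht⟩ := exists_quadratic_root (Qp f p (w : σ → ℂ))
      (PhiF f p (u : σ → ℂ) (w : σ → ℂ)) (Qp f p (u : σ → ℂ)) hQw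
    refine ⟨(u : σ → ℂ) + t • (w : σ → ℂ), K.add_mem u.2 (K.smul_mem t w.2), ?_, ?_⟩
    · intro h0
      have h0' : (1 : ℂ) • u + t • w = 0 := by
        apply Subtype.ext
        simpa using h0
      exact one_ne_zero (hw 1 t h0').1
    · rw [Qp_add, Qp_smul, map_smul, smul_eq_mul]
      linear_combination ht

theorem key_c_sq {f : MvPolynomial σ ℂ} (hf0 : f ≠ 0)
    (p : σ → ℂ) (φ : (σ → ℂ) →ₗ[ℂ] ℂ) (hφ : φ p = 1) (c : ℂ)
    (h : ∀ x, eval (x - (2 * φ x) • p) f = c * eval x f) : c * c = 1 := by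
  obtain ⟨x, hx⟩ := exists_eval_ne_zero hf0
  have h1 := h x
  have h2 := h (x - (2 * φ x) • p)
  have hrr : x - (2 * φ x) • p - (2 * φ (x - (2 * φ x) • p)) • p = x := by
    have := refl_refl p φ hφ x
    rwa [refl_apply, refl_apply] at this
  rw [hrr, h1] at h2
  have : (c * c - 1) * eval x f = 0 := by linear_combination -h2
  rcases mul_eq_zero.mp this with h3 | h3
  · linear_combination h3
  · exact absurd h3 hx

theorem key_neg {f : MvPolynomial σ ℂ} (hf : f.IsHomogeneous 3)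
    (hsm : ∀ v : σ → ℂ, v ≠ 0 → eval v f = 0 → ∃ i : σ, eval v (pderiv i f) ≠ 0)
    (p : σ → ℂ) (hp0 : eval p f = 0)
    (φ : (σ → ℂ) →ₗ[ℂ] ℂ) (hφ : φ p = 1) (hcard : 2 < Fintype.card σ)
    (h : ∀ x, eval (x - (2 * φ x) • p) f = -1 * eval x f) : False := by
  have hstar : ∀ x, eval x f = φ x * (Qp f p x - 2 * φ x * Lp f p x) := by
    intro x
    have h1 := h x
    rw [eval_refl hf p hp0] at h1
    linear_combination (1 / 2) * h1
  have hK : 1 < Module.finrank ℂ ↥(LinearMap.ker φ) := by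
    have := finrank_ker_of_apply_eq_one p φ hφ
    omega
  obtain ⟨v, hvK, hv, hQv⟩ := exists_ne_zero_Qp_eq_zero f p (LinearMap.ker φ) hK
  have hvφ : φ v = 0 := hvK
  have hFv : eval v f = 0 := by
    rw [hstar v, hvφ, zero_mul]
  obtain ⟨w, hw⟩ := Lp_ne_zero hf hsm v hv hFv
  apply hw
  rw [← Qp_eq_grad]
  have hcoef := cubic_coeffs (a0 := 0) (a1 := Qp f w v)
    (a2 := Lp f w v - φ w * PhiF f p v w + 2 * (φ w) ^ 2 * Lp f p v)
    (a3 := eval w f - φ w * Qp f p w + 2 * (φ w) ^ 2 * Lp f p w) (fun s => by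
      have e1 := taylor hf v w s
      have e2 := hstar (v + s • w)
      rw [map_add, map_smul, hvφ, Qp_add, Qp_smul, hQv, map_add, map_smul, map_smul] at e2
      simp only [smul_eq_mul] at e2
      rw [hFv] at e1
      linear_combination e2 - e1)
  exact hcoef.2.1

theorem key_pos {f : MvPolynomial σ ℂ} (hf : f.IsHomogeneous 3)
    (p : σ → ℂ) (hp0 : eval p f = 0)
    (φ : (σ → ℂ) →ₗ[ℂ] ℂ) (hφ : φ p = 1)
    (h : ∀ x, eval (x - (2 * φ x) • p) f = eval x f) :
    ∀ x, Qp f p x = 2 * φ x * Lp f p x := by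
  have hstar : ∀ x, φ x * (Qp f p x - 2 * φ x * Lp f p x) = 0 := by
    intro x
    have h1 := h x
    rw [eval_refl hf p hp0] at h1
    linear_combination (-1 / 2) * h1
  have hne : ∀ x, φ x ≠ 0 → Qp f p x = 2 * φ x * Lp f p x := by
    intro x hx
    rcases mul_eq_zero.mp (hstar x) with h0 | h0
    · exact absurd h0 hx
    · linear_combination h0
  intro x
  by_cases hx : φ x = 0
  · have h1 : φ (x + (1 : ℂ) • p) ≠ 0 := by
      rw [map_add, map_smul, hx, hφ]
      simp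
    have h2 := hne (x + (1 : ℂ) • p) h1
    rw [Qp_add_smul_self hf, map_add, map_add, map_smul, map_smul, Lp_self hf, hp0, hx, hφ] at h2
    rw [hx]
    simp only [smul_eq_mul] at h2
    linear_combination h2
  · exact hne x hx

theorem key {f : MvPolynomial σ ℂ} (hf : f.IsHomogeneous 3) (hf0 : f ≠ 0)
    (hsm : ∀ v : σ → ℂ, v ≠ 0 → eval v f = 0 → ∃ i : σ, eval v (pderiv i f) ≠ 0)
    (p : σ → ℂ) (hp0 : eval p f = 0)
    (φ : (σ → ℂ) →ₗ[ℂ] ℂ) (hφ : φ p = 1) (hcard : 2 < Fintype.card σ) (c : ℂ)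
    (h : ∀ x, eval (x - (2 * φ x) • p) f = c * eval x f) :
    c = 1 ∧ ∀ x, Qp f p x = 2 * φ x * Lp f p x := by
  have hcc := key_c_sq hf0 p φ hφ c h
  have hc : c = 1 ∨ c = -1 := by
    have : (c - 1) * (c + 1) = 0 := by linear_combination hcc
    rcases mul_eq_zero.mp this with h1 | h1
    · left; linear_combination h1
    · right; linear_combination h1
  rcases hc with hc | hc
  · refine ⟨hc, key_pos hf p hp0 φ hφ ?_⟩
    intro x
    rw [h x, hc, one_mul]
  · exfalso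
    apply key_neg hf hsm p hp0 φ hφ hcard
    intro x
    rw [h x, hc]

theorem eval_refl_eq {f : MvPolynomial σ ℂ} (hf : f.IsHomogeneous 3)
    (p : σ → ℂ) (hp0 : eval p f = 0) (φ : (σ → ℂ) →ₗ[ℂ] ℂ)
    (hQ : ∀ x, Qp f p x = 2 * φ x * Lp f p x) (x : σ → ℂ) :
    eval (x - (2 * φ x) • p) f = eval x f := by
  rw [eval_refl hf p hp0, hQ x]
  ring

theorem phi_unique (f : MvPolynomial σ ℂ) (p : σ → ℂ) (hL : ∃ w, Lp f p w ≠ 0)
    (φ φ' : (σ → ℂ) →ₗ[ℂ] ℂ)
    (h1 : ∀ x, Qp f p x = 2 * φ x * Lp f p x) (h2 : ∀ x, Qp f p x = 2 * φ' x * Lp f p x) :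
    φ = φ' := by
  obtain ⟨w, hw⟩ := hL
  have hψ : ∀ x, (φ x - φ' x) * Lp f p x = 0 := by
    intro x
    linear_combination (1 / 2) * (h2 x) - (1 / 2) * (h1 x)
  have hne : ∀ x, Lp f p x ≠ 0 → φ x = φ' x := by
    intro x hx
    rcases mul_eq_zero.mp (hψ x) with h0 | h0
    · linear_combination h0
    · exact absurd h0 hx
  apply LinearMap.ext
  intro x
  by_cases hx : Lp f p x = 0
  · have h3 : Lp f p (x + w) ≠ 0 := by
      rw [map_add, hx, zero_add]
      exact hw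
    have h4 := hne (x + w) h3
    have h5 := hne w hw
    rw [map_add, map_add, h5] at h4
    exact add_right_cancel h4
  · exact hne x hx

end Groth.Agent.Lib.Helper32.Cubic
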