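import Groth.Agent.Lib.Helper32.CubicForm

set_option autoImplicit false
set_option linter.unusedSectionVars false

namespace Groth.Agent.Lib.Helper32.Cubic

open MvPolynomial

variable {σ : Type} [Fintype σ] [DecidableEq σ]

noncomputable def Lp (f : MvPolynomial σ ℂ) (e : σ → ℂ) : (σ → ℂ) →ₗ[ℂ] ℂ :=
  (1 / 2 : ℂ) • PhiF f e e

noncomputable def Qp (f : MvPolynomial σ ℂ) (e x : σ → ℂ) : ℂ :=
  (1 / 2) * PhiF f e x x

theorem Lp_apply (f : MvPolynomial σ ℂ) (e x : σ → ℂ) :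
    Lp f e x = (1 / 2) * PhiF f e e x := by
  simp [Lp]

theorem PhiF_self_left (f : MvPolynomial σ ℂ) (e x : σ → ℂ) :
    PhiF f e e x = 2 * Lp f e x := by
  rw [Lp_apply]
  ring

theorem taylor {f : MvPolynomial σ ℂ} (hf : f.IsHomogeneous 3) (x e : σ → ℂ) (t : ℂ) :
    eval (x + t • e) f = eval x f + t * Qp f e x + t ^ 2 * Lp f e x + t ^ 3 * eval e f := by
  simp only [eval_eq_PhiF hf, Qp, Lp_apply, map_add, map_smul, LinearMap.add_apply,
    LinearMap.smul_apply, smul_eq_mul]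
  rw [PhiF_swap13 f x x e, PhiF_swap12 f x e x, PhiF_swap13 f x e e, PhiF_swap23 f e x e]
  ring

theorem Qp_add (f : MvPolynomial σ ℂ) (e x y : σ → ℂ) :
    Qp f e (x + y) = Qp f e x + Qp f e y + PhiF f e x y := by
  simp only [Qp, map_add, LinearMap.add_apply]
  rw [PhiF_swap23 f e y x]
  ring

theorem Qp_smul (f : MvPolynomial σ ℂ) (e x : σ → ℂ) (t : ℂ) :
    Qp f e (t • x) = t ^ 2 * Qp f e x := by
  simp only [Qp, map_smul, LinearMap.smul_apply, smul_eq_mul]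
  ring

theorem Qp_self {f : MvPolynomial σ ℂ} (hf : f.IsHomogeneous 3) (e : σ → ℂ) :
    Qp f e e = 3 * eval e f := by
  rw [eval_eq_PhiF hf, Qp]
  ring

theorem Lp_self {f : MvPolynomial σ ℂ} (hf : f.IsHomogeneous 3) (e : σ → ℂ) :
    Lp f e e = 3 * eval e f := by
  rw [eval_eq_PhiF hf, Lp_apply]
  ring

theorem Qp_add_smul_self {f : MvPolynomial σ ℂ} (hf : f.IsHomogeneous 3) (e x : σ → ℂ) (t : ℂ) :
    Qp f e (x + t • e) = Qp f e x + 2 * t * Lp f e x + 3 * t ^ 2 * eval e f := by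
  rw [Qp_add, Qp_smul, Qp_self hf, map_smul, smul_eq_mul, PhiF_swap23, PhiF_self_left]
  ring

theorem Qp_eq_grad (f : MvPolynomial σ ℂ) (e x : σ → ℂ) : Qp f e x = Lp f x e := by
  rw [Qp, Lp_apply, PhiF_swap13 f e x x]

theorem Lp_ne_zero {f : MvPolynomial σ ℂ} (hf : f.IsHomogeneous 3)
    (hsm : ∀ v : σ → ℂ, v ≠ 0 → eval v f = 0 → ∃ i : σ, eval v (pderiv i f) ≠ 0)
    (v : σ → ℂ) (hv : v ≠ 0) (hv0 : eval v f = 0) : ∃ w, Lp f v w ≠ 0 := by
  obtain ⟨w, hw⟩ := exists_PhiF_ne_zero hf hsm v hv hv0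
  refine ⟨w, ?_⟩
  rw [Lp_apply, PhiF_swap13 f v v w]
  intro h
  apply hw
  linear_combination 2 * h

theorem Lp_add_smul (f : MvPolynomial σ ℂ) (e e' y : σ → ℂ) (s t : ℂ) :
    Lp f (s • e + t • e') y
      = s ^ 2 * Lp f e y + s * t * PhiF f e e' y + t ^ 2 * Lp f e' y := by
  simp only [Lp_apply, map_add, map_smul, LinearMap.add_apply, LinearMap.smul_apply, smul_eq_mul]
  rw [PhiF_swap12 f e' e y]
  ring

theorem cubic_coeffs {a0 a1 a2 a3 : ℂ}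
    (h : ∀ s : ℂ, a0 + a1 * s + a2 * s ^ 2 + a3 * s ^ 3 = 0) :
    a0 = 0 ∧ a1 = 0 ∧ a2 = 0 ∧ a3 = 0 := by
  have h0 := h 0
  have h1 := h 1
  have h2 := h (-1)
  have h3 := h 2
  have e0 : a0 = 0 := by linear_combination h0
  have e2 : a2 = 0 := by linear_combination (1 / 2) * h1 + (1 / 2) * h2 - h0
  have e3 : a3 = 0 := by
    linear_combination (1 / 6) * h3 - (1 / 3) * h1 + (1 / 6) * e0 - (1 / 3) * e2
  have e1 : a1 = 0 := by linear_combination h1 - e0 - e2 - e3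
  exact ⟨e0, e1, e2, e3⟩

end Groth.Agent.Lib.Helper32.Cubic
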