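import Groth.Agent.Lib.Helper32.CubicPolar
import Mathlib.LinearAlgebra.Matrix.ToLin
import Mathlib.LinearAlgebra.FiniteDimensional.Lemmas
import Mathlib.LinearAlgebra.Dimension.Constructions
import Mathlib.Algebra.MvPolynomial.Monad

set_option autoImplicit false
set_option linter.unusedSectionVars false

namespace Groth.Agent.Lib.Helper32.Cubic

open MvPolynomial

variable {σ : Type} [Fintype σ] [DecidableEq σ]

noncomputable def refl (p : σ → ℂ) (φ : (σ → ℂ) →ₗ[ℂ] ℂ) : (σ → ℂ) →ₗ[ℂ] (σ → ℂ) :=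
  LinearMap.id - (2 : ℂ) • φ.smulRight p

theorem refl_apply (p : σ → ℂ) (φ : (σ → ℂ) →ₗ[ℂ] ℂ) (x : σ → ℂ) :
    refl p φ x = x - (2 * φ x) • p := by
  simp [refl, LinearMap.smulRight_apply, smul_smul]

theorem refl_refl (p : σ → ℂ) (φ : (σ → ℂ) →ₗ[ℂ] ℂ) (h : φ p = 1) (x : σ → ℂ) :
    refl p φ (refl p φ x) = x := by
  rw [refl_apply, refl_apply]
  simp only [map_sub, map_smul, smul_eq_mul, h, mul_one]
  ext i
  simp only [Pi.sub_apply, Pi.smul_apply, smul_eq_mul]
  ring

noncomputable def reflMat (p : σ → ℂ) (φ : (σ → ℂ) →ₗ[ℂ] ℂ) : Matrix σ σ ℂ :=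
  LinearMap.toMatrix' (refl p φ)

theorem reflMat_mulVec (p : σ → ℂ) (φ : (σ → ℂ) →ₗ[ℂ] ℂ) (x : σ → ℂ) :
    (reflMat p φ).mulVec x = x - (2 * φ x) • p := by
  rw [← refl_apply, reflMat, ← Matrix.toLin'_apply, Matrix.toLin'_toMatrix']

theorem reflMat_mul_self (p : σ → ℂ) (φ : (σ → ℂ) →ₗ[ℂ] ℂ) (h : φ p = 1) :
    reflMat p φ * reflMat p φ = 1 := by
  rw [reflMat, ← LinearMap.toMatrix'_comp]
  have : (refl p φ).comp (refl p φ) = LinearMap.id := by
    refine LinearMap.ext fun x => ?_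
    rw [LinearMap.comp_apply, LinearMap.id_apply]
    exact refl_refl p φ h x
  rw [this, LinearMap.toMatrix'_id]

theorem finrank_ker_of_apply_eq_one (p : σ → ℂ) (φ : (σ → ℂ) →ₗ[ℂ] ℂ) (h : φ p = 1) :
    Module.finrank ℂ ↥(LinearMap.ker φ) + 1 = Fintype.card σ := by
  have h1 := LinearMap.finrank_range_add_finrank_ker φ
  rw [Module.finrank_fintype_fun_eq_card] at h1
  have hsurj : Function.Surjective φ := by
    intro c
    refine ⟨c • p, ?_⟩
    rw [map_smul, h, smul_eq_mul, mul_one]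
  rw [LinearMap.range_eq_top.mpr hsurj, finrank_top, Module.finrank_self] at h1
  omega

theorem reflMat_finrank (p : σ → ℂ) (hp : p ≠ 0) (φ : (σ → ℂ) →ₗ[ℂ] ℂ) (h : φ p = 1) :
    Module.finrank ℂ ↥(LinearMap.ker (Matrix.toLin' (reflMat p φ) - LinearMap.id)) + 1
      = Fintype.card σ := by
  have hk : LinearMap.ker (Matrix.toLin' (reflMat p φ) - LinearMap.id) = LinearMap.ker φ := by
    ext x
    simp only [LinearMap.mem_ker, LinearMap.sub_apply, Matrix.toLin'_apply, reflMat_mulVec,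
      LinearMap.id_apply]
    constructor
    · intro hx
      have hx' : (2 * φ x) • p = 0 := by
        have : x - (2 * φ x) • p - x = -((2 * φ x) • p) := by abel
        rw [this] at hx
        exact neg_eq_zero.mp hx
      rcases smul_eq_zero.mp hx' with h0 | h0
      · have : (2 : ℂ) ≠ 0 := two_ne_zero
        exact (mul_eq_zero.mp h0).resolve_left this
      · exact absurd h0 hp
    · intro hx
      rw [hx]
      simp
  rw [hk]
  exact finrank_ker_of_apply_eq_one p φ h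

theorem matrix_eq_of_mulVec_eq {A A' : Matrix σ σ ℂ} (h : ∀ x, A.mulVec x = A'.mulVec x) :
    A = A' := by
  apply Matrix.toLin'.injective
  apply LinearMap.ext
  intro x
  rw [Matrix.toLin'_apply, Matrix.toLin'_apply, h]

theorem exists_phi_of_matrix (A : Matrix σ σ ℂ) (p : σ → ℂ) (hp : p ≠ 0)
    (hker : Module.finrank ℂ ↥(LinearMap.ker (Matrix.toLin' A - LinearMap.id)) + 1
      = Fintype.card σ)
    (hAp : A.mulVec p = -p) :
    ∃ φ : (σ → ℂ) →ₗ[ℂ] ℂ, φ p = 1 ∧ ∀ x, A.mulVec x = x - (2 * φ x) • p := by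
  set N : (σ → ℂ) →ₗ[ℂ] (σ → ℂ) := Matrix.toLin' A - LinearMap.id with hN
  have hNx : ∀ x, N x = A.mulVec x - x := by
    intro x
    simp [hN, Matrix.toLin'_apply]
  have hNp : N p = (-2 : ℂ) • p := by
    rw [hNx, hAp]
    ext i
    simp only [Pi.sub_apply, Pi.neg_apply, Pi.smul_apply, smul_eq_mul]
    ring
  have h1 := LinearMap.finrank_range_add_finrank_ker N
  rw [Module.finrank_fintype_fun_eq_card] at h1
  have hr : Module.finrank ℂ ↥(LinearMap.range N) = 1 := by omega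
  have hNp0 : N p ≠ 0 := by
    rw [hNp]
    intro h0
    rcases smul_eq_zero.mp h0 with h | h
    · norm_num at h
    · exact hp h
  let v : ↥(LinearMap.range N) := ⟨N p, LinearMap.mem_range_self N p⟩
  have hv : v ≠ 0 := by
    intro h0
    apply hNp0
    exact congrArg Subtype.val h0
  have hall := (finrank_eq_one_iff_of_nonzero' v hv).mp hr
  have hspan : ∀ x, ∃ d : ℂ, N x = d • p := by
    intro x
    obtain ⟨c, hc⟩ := hall ⟨N x, LinearMap.mem_range_self N x⟩
    have hc' : c • N p = N x := congrArg Subtype.val hc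
    refine ⟨c * (-2), ?_⟩
    rw [← hc', hNp, smul_smul]
  obtain ⟨i₀, hi₀⟩ : ∃ i, p i ≠ 0 := by
    by_contra hcon
    push Not at hcon
    apply hp
    ext i
    exact hcon i
  refine ⟨(-1 / (2 * p i₀) : ℂ) • ((LinearMap.proj i₀ : (σ → ℂ) →ₗ[ℂ] ℂ).comp N), ?_, ?_⟩
  · simp only [LinearMap.smul_apply, LinearMap.comp_apply, LinearMap.proj_apply, hNp,
      Pi.smul_apply, smul_eq_mul]
    field_simp
  · intro x
    obtain ⟨d, hd⟩ := hspan x
    have hAx : A.mulVec x = x + N x := by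
      rw [hNx]
      abel
    rw [hAx, hd]
    simp only [LinearMap.smul_apply, LinearMap.comp_apply, LinearMap.proj_apply, hd,
      Pi.smul_apply, smul_eq_mul]
    have : 2 * (-1 / (2 * p i₀) * (d * p i₀)) = -d := by
      field_simp
    rw [this]
    ext i
    simp only [Pi.add_apply, Pi.sub_apply, Pi.smul_apply, smul_eq_mul]
    ring

theorem eval_aeval_matrix (A : Matrix σ σ ℂ) (f : MvPolynomial σ ℂ) (x : σ → ℂ) :
    eval x (aeval (fun i : σ => ∑ j : σ, C (A i j) * X j) f) = eval (A.mulVec x) f := by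
  have h := eval₂Hom_bind₁ (RingHom.id ℂ) x (fun i : σ => ∑ j : σ, C (A i j) * X j) f
  have e1 : (eval x) (aeval (fun i : σ => ∑ j : σ, C (A i j) * X j) f)
      = eval₂Hom (RingHom.id ℂ) x (bind₁ (fun i : σ => ∑ j : σ, C (A i j) * X j) f) := rfl
  rw [e1, h]
  have e2 : (fun i => (eval₂Hom (RingHom.id ℂ) x) (∑ j : σ, C (A i j) * X j)) = A.mulVec x := by
    funext i
    simp [Matrix.mulVec, dotProduct]
  rw [e2]
  rfl

theorem aeval_matrix_eq_iff (A : Matrix σ σ ℂ) (f : MvPolynomial σ ℂ) (c : ℂ) :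
    aeval (fun i : σ => ∑ j : σ, C (A i j) * X j) f = C c * f ↔
      ∀ x, eval (A.mulVec x) f = c * eval x f := by
  constructor
  · intro h x
    rw [← eval_aeval_matrix, h]
    simp
  · intro h
    apply MvPolynomial.funext
    intro x
    rw [eval_aeval_matrix, h]
    simp

end Groth.Agent.Lib.Helper32.Cubic
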