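import Mathlib.RingTheory.MvPolynomial.EulerIdentity
import Mathlib.RingTheory.MvPolynomial.Homogeneous
import Mathlib.Algebra.MvPolynomial.Funext
import Mathlib.Algebra.MvPolynomial.PDeriv
import Mathlib.RingTheory.Derivation.Lie
import Mathlib.Analysis.Complex.Basic
import Mathlib.Tactic

set_option autoImplicit false
set_option linter.unusedSectionVars false

namespace Groth.Agent.Lib.Helper32.Cubic

open MvPolynomial

variable {σ : Type} [Fintype σ] [DecidableEq σ]

theorem pderiv_comm (i j : σ) (p : MvPolynomial σ ℂ) :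
    pderiv i (pderiv j p) = pderiv j (pderiv i p) := by
  have h : ⁅(pderiv i : Derivation ℂ (MvPolynomial σ ℂ) (MvPolynomial σ ℂ)),
      (pderiv j : Derivation ℂ (MvPolynomial σ ℂ) (MvPolynomial σ ℂ))⁆ = 0 := by
    apply MvPolynomial.derivation_ext
    intro k
    rw [Derivation.commutator_apply]
    simp only [pderiv_X, Derivation.coe_zero, Pi.zero_apply]
    by_cases h1 : j = k
    · by_cases h2 : i = k
      · subst h1; subst h2; simp
      · subst h1
        simp [Pi.single_eq_of_ne' h2, pderiv_one]
    · by_cases h2 : i = k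
      · subst h2
        simp [Pi.single_eq_of_ne' h1, pderiv_one]
      · simp [Pi.single_eq_of_ne' h1, Pi.single_eq_of_ne' h2]
  have h2 := congrArg (fun D => D p) h
  simp only [Derivation.commutator_apply, Derivation.coe_zero, Pi.zero_apply] at h2
  exact sub_eq_zero.mp h2

theorem euler_eval {n : ℕ} {g : MvPolynomial σ ℂ} (hg : g.IsHomogeneous n) (x : σ → ℂ) :
    ∑ i, x i * eval x (pderiv i g) = n * eval x g := by
  have h := congrArg (eval x) hg.sum_X_mul_pderiv
  simpa [map_sum, nsmul_eq_mul] using h

noncomputable def tens (f : MvPolynomial σ ℂ) (i j k : σ) : ℂ :=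
  coeff 0 (pderiv i (pderiv j (pderiv k f)))

theorem tens_symm12 (f : MvPolynomial σ ℂ) (i j k : σ) : tens f i j k = tens f j i k := by
  unfold tens
  rw [pderiv_comm]

theorem tens_symm23 (f : MvPolynomial σ ℂ) (i j k : σ) : tens f i j k = tens f i k j := by
  unfold tens
  rw [pderiv_comm j k]

theorem pderiv3_eq {f : MvPolynomial σ ℂ} (hf : f.IsHomogeneous 3) (i j k : σ) :
    pderiv i (pderiv j (pderiv k f)) = C (tens f i j k) := by
  have h : (pderiv i (pderiv j (pderiv k f))).IsHomogeneous 0 := by
    have h1 := hf.pderiv (i := k)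
    have h2 := h1.pderiv (i := j)
    have h3 := h2.pderiv (i := i)
    simpa using h3
  rw [← totalDegree_zero_iff_isHomogeneous, totalDegree_eq_zero_iff_eq_C] at h
  exact h

theorem eval_pderiv2 {f : MvPolynomial σ ℂ} (hf : f.IsHomogeneous 3) (j k : σ) (x : σ → ℂ) :
    eval x (pderiv j (pderiv k f)) = ∑ i, x i * tens f i j k := by
  have h2 : (pderiv j (pderiv k f)).IsHomogeneous 1 := by
    have h1 := hf.pderiv (i := k)
    have h2 := h1.pderiv (i := j)
    simpa using h2
  have h := euler_eval h2 x
  simp only [Nat.cast_one, one_mul] at h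
  rw [← h]
  apply Finset.sum_congr rfl
  intro i _
  rw [pderiv3_eq hf, eval_C]

theorem eval_pderiv1 {f : MvPolynomial σ ℂ} (hf : f.IsHomogeneous 3) (k : σ) (x : σ → ℂ) :
    eval x (pderiv k f) = (1 / 2) * ∑ j, ∑ i, x j * (x i * tens f i j k) := by
  have h1 : (pderiv k f).IsHomogeneous 2 := by
    have h1 := hf.pderiv (i := k)
    simpa using h1
  have h := euler_eval h1 x
  have h' : eval x (pderiv k f) = (1 / 2) * ∑ j, x j * eval x (pderiv j (pderiv k f)) := by
    rw [h]
    push_cast
    ring
  rw [h']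
  congr 1
  apply Finset.sum_congr rfl
  intro j _
  rw [eval_pderiv2 hf, Finset.mul_sum]

theorem eval_eq {f : MvPolynomial σ ℂ} (hf : f.IsHomogeneous 3) (x : σ → ℂ) :
    eval x f = (1 / 6) * ∑ k, ∑ j, ∑ i, x k * (x j * (x i * tens f i j k)) := by
  have h := euler_eval hf x
  have h' : eval x f = (1 / 3) * ∑ k, x k * eval x (pderiv k f) := by
    rw [h]
    push_cast
    ring
  rw [h']
  have : ∀ k, x k * eval x (pderiv k f)
      = (1 / 2) * ∑ j, ∑ i, x k * (x j * (x i * tens f i j k)) := by
    intro k
    rw [eval_pderiv1 hf]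
    simp only [Finset.mul_sum]
    apply Finset.sum_congr rfl
    intro j _
    apply Finset.sum_congr rfl
    intro i _
    ring
  simp only [this, ← Finset.mul_sum]
  ring

end Groth.Agent.Lib.Helper32.Cubic
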