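import Mathlib

set_option autoImplicit false
universe u v

namespace Groth.Agent.Lib.Helper32.DetIntegral

open Polynomial

theorem isIntegral_of_isRoot_charpoly {S Ω : Type*} [CommRing S] [Field Ω] [Algebra S Ω]
    {ι : Type*} [Fintype ι] [DecidableEq ι] (M : Matrix ι ι Ω) (hM : IsIntegral S M)
    (μ : Ω) (hμ : IsRoot M.charpoly μ) : IsIntegral S μ := by
  rcases isEmpty_or_nonempty ι with hι | hι
  · exfalso
    rw [Matrix.charpoly_isEmpty] at hμ
    simp at hμ
  obtain ⟨Q, hQ, hQ0⟩ := hM
  have hspec : μ ∈ spectrum Ω M := Matrix.mem_spectrum_iff_isRoot_charpoly.2 hμ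
  have h1 := spectrum.subset_polynomial_aeval M (Q.map (algebraMap S Ω)) ⟨μ, hspec, rfl⟩
  have h2 : aeval M (Q.map (algebraMap S Ω)) = 0 := by
    rw [aeval_map_algebraMap]
    exact hQ0
  rw [h2, spectrum.zero_eq, Set.mem_singleton_iff] at h1
  refine ⟨Q, hQ, ?_⟩
  rw [← eval_map]
  exact h1

theorem isIntegral_det {S F : Type*} [CommRing S] [Field F] [Algebra S F]
    {ι : Type*} [Fintype ι] [DecidableEq ι] (M : Matrix ι ι F) (hM : IsIntegral S M) :
    IsIntegral S M.det := by
  let Ω := AlgebraicClosure F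
  let φ : Matrix ι ι F →ₐ[S] Matrix ι ι Ω := AlgHom.mapMatrix (IsScalarTower.toAlgHom S F Ω)
  have hM' : IsIntegral S (φ M) := hM.map φ
  have hdet : (φ M).det = algebraMap F Ω M.det := by
    show (((IsScalarTower.toAlgHom S F Ω) : F →+* Ω).mapMatrix M).det = _
    rw [← RingHom.map_det]
    rfl
  have h1 : IsIntegral S (φ M).det := by
    rw [Matrix.det_eq_prod_roots_charpoly]
    refine IsIntegral.multiset_prod fun μ hμ => ?_
    exact isIntegral_of_isRoot_charpoly (φ M) hM' μ (isRoot_of_mem_roots hμ)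
  rw [hdet] at h1
  exact (isIntegral_algebraMap_iff (algebraMap F Ω).injective).1 h1

theorem det_mem_range {S F : Type*} [CommRing S] [IsDomain S] [IsIntegrallyClosed S] [Field F]
    [Algebra S F] [IsFractionRing S F]
    {ι : Type*} [Fintype ι] [DecidableEq ι] (M : Matrix ι ι F) (hM : IsIntegral S M) :
    ∃ s : S, algebraMap S F s = M.det :=
  IsIntegrallyClosed.isIntegral_iff.1 (isIntegral_det M hM)

instance mvPolynomial_fin_isIntegrallyClosed (A : Type u) [CommRing A] [IsDomain A]
    [IsIntegrallyClosed A] (n : ℕ) : IsIntegrallyClosed (MvPolynomial (Fin n) A) := by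
  induction n with
  | zero => exact IsIntegrallyClosed.of_equiv (MvPolynomial.isEmptyAlgEquiv A (Fin 0)).symm.toRingEquiv
  | succ n ih =>
    exact IsIntegrallyClosed.of_equiv (MvPolynomial.finSuccEquiv A n).symm.toRingEquiv

end Groth.Agent.Lib.Helper32.DetIntegral
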