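import Mathlib
import Groth.Prelude.Def_PolLaw
import Groth.Prelude.Def_PolLaw2

set_option autoImplicit false
universe u
open scoped TensorProduct

namespace Groth.Agent.Lib.Helper32.DetNormalBasis

variable {A : Type u} [CommRing A] {B : Type u} [CommRing B] [Algebra A B]
  {M : Type u} [AddCommGroup M] [Module A M] [Module B M] [IsScalarTower A B M]
  {K : Type u} [Field K] [Algebra A K]

section Basis

variable (K M) in
theorem span_one_tmul :
    ⊤ ≤ Submodule.span K (Set.range fun b : M => (1 : K) ⊗ₜ[A] b) := by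
  intro x hx
  clear hx
  induction x using TensorProduct.induction_on with
  | zero => exact zero_mem _
  | add x y hx hy => exact add_mem hx hy
  | tmul k b =>
    have h : k ⊗ₜ[A] b = k • ((1 : K) ⊗ₜ[A] b) := by
      rw [TensorProduct.smul_tmul', smul_eq_mul, mul_one]
    rw [h]
    exact Submodule.smul_mem _ _ (Submodule.subset_span ⟨b, rfl⟩)

variable (K M) in
theorem exists_basis_one_tmul :
    ∃ (I : Type u) (e : Module.Basis I K (K ⊗[A] M)) (β : I → M),
      ∀ i, e i = (1 : K) ⊗ₜ[A] β i := by
  refine ⟨_, Module.Basis.ofSpan (span_one_tmul (A := A) M K), ?_⟩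
  have h := Module.Basis.ofSpan_subset (span_one_tmul (A := A) M K)
  have h2 : ∀ i, ∃ b : M, (1 : K) ⊗ₜ[A] b =
      Module.Basis.ofSpan (span_one_tmul (A := A) M K) i := fun i => h ⟨i, rfl⟩
  choose β hβ using h2
  exact ⟨β, fun i => (hβ i).symm⟩

end Basis

variable {I : Type u} [Fintype I] [DecidableEq I] (e : Module.Basis I K (K ⊗[A] M)) (m : I → M)
  (he : ∀ i, e i = (1 : K) ⊗ₜ[A] m i)

section BR

variable (R : Type u) [CommRing R] [Algebra A R] [Algebra K R] [IsScalarTower A K R]

noncomputable def bR : Module.Basis I R (R ⊗[A] M) :=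
  (Algebra.TensorProduct.basis R e).map
    (TensorProduct.AlgebraTensorModule.cancelBaseChange A K R R M)

omit [Fintype I] [DecidableEq I] in
include he in
theorem bR_apply (i : I) : bR e R i = (1 : R) ⊗ₜ[A] m i := by
  rw [bR, Module.Basis.map_apply, Algebra.TensorProduct.basis_apply, he,
    TensorProduct.AlgebraTensorModule.cancelBaseChange_tmul, one_smul]

noncomputable def matR (x : R ⊗[A] B) : Matrix I I R :=
  LinearMap.toMatrix (bR e R) (bR e R) (PolLaw.actEnd M R x)

theorem matR_mul (x y : R ⊗[A] B) : matR e R (x * y) = matR e R x * matR e R y := by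
  unfold matR
  rw [map_mul, Module.End.mul_eq_comp, LinearMap.toMatrix_comp (bR e R) (bR e R) (bR e R)]

theorem matR_one : matR e R (1 : R ⊗[A] B) = 1 := by
  unfold matR
  rw [map_one, Module.End.one_eq_id, LinearMap.toMatrix_id]

theorem matR_add (x y : R ⊗[A] B) : matR e R (x + y) = matR e R x + matR e R y := by
  unfold matR
  rw [map_add, map_add]

theorem matR_smul (r : R) (x : R ⊗[A] B) : matR e R (r • x) = r • matR e R x := by
  unfold matR
  rw [map_smul, map_smul]

theorem det_matR (x : R ⊗[A] B) :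
    (matR e R x).det = LinearMap.det (PolLaw.actEnd M R x) := by
  unfold matR
  rw [LinearMap.det_toMatrix]

end BR

section Nat

variable {R R' : Type u} [CommRing R] [Algebra A R] [Algebra K R] [IsScalarTower A K R]
  [CommRing R'] [Algebra A R'] [Algebra K R'] [IsScalarTower A K R']

include he in
theorem repr_rTensor (ψ : R →ₐ[A] R') (z : R ⊗[A] M) (i : I) :
    (bR e R').repr (ψ.toLinearMap.rTensor M z) i = ψ ((bR e R).repr z i) := by
  conv_lhs => rw [← (bR e R).sum_repr z]
  rw [map_sum, map_sum, Finsupp.finsetSum_apply]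
  have : ∀ k : I, (bR e R').repr (ψ.toLinearMap.rTensor M (((bR e R).repr z k) • (bR e R) k)) i =
      if k = i then ψ ((bR e R).repr z k) else 0 := by
    intro k
    rw [bR_apply e m he, TensorProduct.smul_tmul', LinearMap.rTensor_tmul, smul_eq_mul, mul_one,
      AlgHom.toLinearMap_apply]
    have h2 : ψ ((bR e R).repr z k) ⊗ₜ[A] m k = ψ ((bR e R).repr z k) • (bR e R') k := by
      rw [bR_apply e m he, TensorProduct.smul_tmul', smul_eq_mul, mul_one]
    rw [h2, map_smul, Module.Basis.repr_self, Finsupp.smul_apply, Finsupp.single_apply,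
      smul_eq_mul]
    split_ifs <;> simp
  simp only [this]
  rw [Finset.sum_ite_eq' Finset.univ i, if_pos (Finset.mem_univ i)]

include he in
theorem matR_map (ψ : R →ₐ[A] R') (x : R ⊗[A] B) :
    matR e R' (Algebra.TensorProduct.map ψ (AlgHom.id A B) x) = (matR e R x).map ψ := by
  ext i j
  rw [Matrix.map_apply]
  unfold matR
  rw [LinearMap.toMatrix_apply, LinearMap.toMatrix_apply, ← repr_rTensor e m he ψ,
    PolLaw.rTensor_actEnd M ψ x]
  congr 3
  rw [bR_apply e m he, bR_apply e m he, LinearMap.rTensor_tmul, AlgHom.toLinearMap_apply, map_one]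

include he in
theorem det_matR_map (ψ : R →ₐ[A] R') (x : R ⊗[A] B) :
    (matR e R' (Algebra.TensorProduct.map ψ (AlgHom.id A B) x)).det = ψ (matR e R x).det := by
  rw [matR_map e m he, AlgHom.map_det]
  rfl

end Nat

end Groth.Agent.Lib.Helper32.DetNormalBasis
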