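import Mathlib
import Groth.Prelude.Def_PolLaw
import Groth.Prelude.Def_PolLaw2
import Groth.Agent.Lib.Helper32.DetNormalBasis

set_option autoImplicit false
universe u
open scoped TensorProduct

namespace Groth.Agent.Lib.Helper32.DetNormalLaw

open Groth.Agent.Lib.Helper32.DetNormalBasis

variable {A : Type u} [CommRing A] {B : Type u} [CommRing B] [Algebra A B]
  {M : Type u} [AddCommGroup M] [Module A M] [Module B M] [IsScalarTower A B M]
  {K : Type u} [Field K] [Algebra A K]
  {I : Type u} [Fintype I] [DecidableEq I] (e : Module.Basis I K (K ⊗[A] M)) (m : I → M)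
  (he : ∀ i, e i = (1 : K) ⊗ₜ[A] m i)

variable (A K) in
noncomputable def iR (S : Type u) [CommSemiring S] [Algebra A S] : S →ₐ[A] K ⊗[A] S :=
  Algebra.TensorProduct.includeRight

variable (B) in
noncomputable def gamFun (S : Type u) [CommSemiring S] [Algebra A S] (x : S ⊗[A] B) : S ⊗[A] K :=
  Algebra.TensorProduct.comm A K S
    (matR (B := B) e (K ⊗[A] S)
      (Algebra.TensorProduct.map (iR A K S) (AlgHom.id A B) x)).det

section Compat

variable {S S' : Type u} [CommSemiring S] [Algebra A S] [CommSemiring S'] [Algebra A S']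

theorem comm_map (φ : S →ₐ[A] S') (c : K ⊗[A] S) :
    φ.toLinearMap.rTensor K (Algebra.TensorProduct.comm A K S c) =
      Algebra.TensorProduct.comm A K S'
        (Algebra.TensorProduct.map (AlgHom.id A K) φ c) := by
  induction c using TensorProduct.induction_on with
  | zero => simp
  | tmul k s => simp
  | add x y hx hy => simp only [map_add, hx, hy]

theorem map_iR (φ : S →ₐ[A] S') (x : S ⊗[A] B) :
    Algebra.TensorProduct.map (Algebra.TensorProduct.map (AlgHom.id A K) φ) (AlgHom.id A B)
      (Algebra.TensorProduct.map (iR A K S) (AlgHom.id A B) x) =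
    Algebra.TensorProduct.map (iR A K S') (AlgHom.id A B) (φ.toLinearMap.rTensor B x) := by
  induction x using TensorProduct.induction_on with
  | zero => simp
  | tmul s b => simp [iR]
  | add x y hx hy => simp only [map_add, hx, hy]

include he in
theorem gamFun_compat (φ : S →ₐ[A] S') (x : S ⊗[A] B) :
    φ.toLinearMap.rTensor K (gamFun B e S x) = gamFun B e S' (φ.toLinearMap.rTensor B x) := by
  unfold gamFun
  rw [comm_map, ← det_matR_map e m he, map_iR]

end Compat

variable (B) in
include he in
noncomputable def gamLaw : B →ₚₗ[A] K where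
  toFun' S _ _ := gamFun B e S
  isCompat' φ := funext (gamFun_compat e m he φ)

theorem gamLaw_toFun' (S : Type u) [CommSemiring S] [Algebra A S] (x : S ⊗[A] B) :
    (gamLaw B e m he).toFun' S x = gamFun B e S x := rfl

theorem map_iR_smul (S : Type u) [CommSemiring S] [Algebra A S] (s : S) (x : S ⊗[A] B) :
    Algebra.TensorProduct.map (iR A K S) (AlgHom.id A B) (s • x) =
      (iR A K S s) • Algebra.TensorProduct.map (iR A K S) (AlgHom.id A B) x := by
  induction x using TensorProduct.induction_on with
  | zero => simp
  | tmul t b =>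
    rw [TensorProduct.smul_tmul', Algebra.TensorProduct.map_tmul, Algebra.TensorProduct.map_tmul,
      TensorProduct.smul_tmul', smul_eq_mul, smul_eq_mul, map_mul]
  | add x y hx hy => simp only [smul_add, map_add, hx, hy]

theorem comm_pow_mul (S : Type u) [CommSemiring S] [Algebra A S] (s : S) (n : ℕ) (c : K ⊗[A] S) :
    Algebra.TensorProduct.comm A K S ((iR A K S s) ^ n * c) =
      s ^ n • Algebra.TensorProduct.comm A K S c := by
  rw [map_mul, map_pow]
  have : Algebra.TensorProduct.comm A K S (iR A K S s) = s ⊗ₜ[A] (1 : K) := by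
    simp [iR]
  rw [this, Algebra.TensorProduct.tmul_pow, one_pow, Algebra.smul_def,
    Algebra.TensorProduct.algebraMap_apply, Algebra.algebraMap_self, RingHom.id_apply]

variable (B) in
include he in
noncomputable def gam (d : ℕ) (hcard : Fintype.card I = d) : PolLaw.MulLaw A B K d where
  law := gamLaw B e m he
  homog S _ _ s x := by
    rw [gamLaw_toFun', gamLaw_toFun']
    unfold gamFun
    rw [map_iR_smul, matR_smul, Matrix.det_smul, hcard, comm_pow_mul]
  mult S _ _ := by
    refine ⟨?_, fun x y => ?_⟩
    · rw [gamLaw_toFun']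
      unfold gamFun
      rw [map_one, matR_one, Matrix.det_one, map_one]
    · rw [gamLaw_toFun', gamLaw_toFun', gamLaw_toFun']
      unfold gamFun
      rw [map_mul, matR_mul, Matrix.det_mul, map_mul]

theorem gam_toFun' (d : ℕ) (hcard : Fintype.card I = d) (S : Type u) [CommSemiring S]
    [Algebra A S] (x : S ⊗[A] B) :
    (gam B e m he d hcard).law.toFun' S x = gamFun B e S x := rfl

end Groth.Agent.Lib.Helper32.DetNormalLaw
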