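import Mathlib
import Groth.Prelude.Def_PolLaw
import Groth.Prelude.Def_PolLaw2
import Groth.Agent.Lib.Helper32.DetNormalLaw
import Groth.Agent.Lib.Helper32.DetIntegral

set_option autoImplicit false
universe u
open scoped TensorProduct

namespace Groth.Agent.Lib.Helper32.DetNormalInt

open Groth.Agent.Lib.Helper32.DetNormalBasis Groth.Agent.Lib.Helper32.DetNormalLaw
  Groth.Agent.Lib.Helper32.DetIntegral

variable {A : Type u} [CommRing A] [IsDomain A] {B : Type u} [CommRing B] [Algebra A B]
  {M : Type u} [AddCommGroup M] [Module A M] [Module B M] [IsScalarTower A B M]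
  {K : Type u} [Field K] [Algebra A K] [IsFractionRing A K]

section Clear

variable (K) in
theorem exists_clear (S : Type u) [CommRing S] [Algebra A S] (w : K ⊗[A] S) :
    ∃ a : A, a ≠ 0 ∧ ∃ s : S, (algebraMap A K a ⊗ₜ[A] (1 : S)) * w = (1 : K) ⊗ₜ[A] s := by
  induction w using TensorProduct.induction_on with
  | zero => exact ⟨1, one_ne_zero, 0, by simp⟩
  | tmul c s0 =>
    obtain ⟨⟨a0, a⟩, hc⟩ := IsLocalization.surj (nonZeroDivisors A) c
    refine ⟨a.1, nonZeroDivisors.ne_zero a.2, a0 • s0, ?_⟩
    rw [Algebra.TensorProduct.tmul_mul_tmul, one_mul, mul_comm, hc, TensorProduct.tmul_smul,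
      TensorProduct.smul_tmul', Algebra.smul_def, mul_one]
  | add w1 w2 h1 h2 =>
    obtain ⟨a1, ha1, s1, hs1⟩ := h1
    obtain ⟨a2, ha2, s2, hs2⟩ := h2
    refine ⟨a1 * a2, mul_ne_zero ha1 ha2, a2 • s1 + a1 • s2, ?_⟩
    have e1 : (algebraMap A K (a1 * a2) ⊗ₜ[A] (1 : S)) =
        (algebraMap A K a2 ⊗ₜ[A] (1 : S)) * (algebraMap A K a1 ⊗ₜ[A] (1 : S)) := by
      rw [Algebra.TensorProduct.tmul_mul_tmul, one_mul, map_mul, mul_comm]
    have e2 : (algebraMap A K (a1 * a2) ⊗ₜ[A] (1 : S)) =
        (algebraMap A K a1 ⊗ₜ[A] (1 : S)) * (algebraMap A K a2 ⊗ₜ[A] (1 : S)) := by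
      rw [Algebra.TensorProduct.tmul_mul_tmul, one_mul, map_mul]
    have e3 : ∀ (a : A) (s : S), (algebraMap A K a ⊗ₜ[A] (1 : S)) * ((1 : K) ⊗ₜ[A] s) =
        (1 : K) ⊗ₜ[A] (a • s) := by
      intro a s
      rw [Algebra.TensorProduct.tmul_mul_tmul, one_mul, mul_one, TensorProduct.tmul_smul,
        TensorProduct.smul_tmul', Algebra.smul_def, mul_one]
    rw [mul_add, TensorProduct.tmul_add]
    congr 1
    · rw [e1, mul_assoc, hs1, e3]
    · rw [e2, mul_assoc, hs2, e3]

end Clear

section Frac

variable (n : ℕ)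

local notation "Sn" => MvPolynomial (Fin n) A
local notation "Ln" => FractionRing (MvPolynomial (Fin n) A)

omit [IsDomain A] in
variable (A) in
theorem algebraMap_injective_L :
    Function.Injective (algebraMap A (FractionRing (MvPolynomial (Fin n) A))) := by
  rw [IsScalarTower.algebraMap_eq A (MvPolynomial (Fin n) A) (FractionRing (MvPolynomial (Fin n) A))]
  exact (IsFractionRing.injective (MvPolynomial (Fin n) A) _).comp
    (MvPolynomial.C_injective (Fin n) A)

variable (A K) in
@[instance_reducible]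
noncomputable def algKL : Algebra K (FractionRing (MvPolynomial (Fin n) A)) :=
  (IsFractionRing.lift (algebraMap_injective_L A n)).toAlgebra

attribute [local instance] algKL

instance towerKL : IsScalarTower A K (FractionRing (MvPolynomial (Fin n) A)) :=
  IsScalarTower.of_algebraMap_eq fun a => by
    show algebraMap A _ a = (IsFractionRing.lift (algebraMap_injective_L A n)) (algebraMap A K a)
    rw [IsFractionRing.lift_algebraMap]

variable (A K) in
noncomputable def jL : K ⊗[A] MvPolynomial (Fin n) A →ₐ[A] FractionRing (MvPolynomial (Fin n) A) :=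
  Algebra.TensorProduct.lift (IsScalarTower.toAlgHom A K _) (IsScalarTower.toAlgHom A _ _)
    (fun _ _ => Commute.all _ _)

theorem jL_tmul (k : K) (s : MvPolynomial (Fin n) A) :
    jL A K n (k ⊗ₜ[A] s) = algebraMap K _ k * algebraMap (MvPolynomial (Fin n) A) _ s := by
  simp [jL]

theorem jL_injective : Function.Injective (jL A K n) := by
  rw [injective_iff_map_eq_zero]
  intro w hw
  obtain ⟨a, ha, s, hs⟩ := exists_clear K (MvPolynomial (Fin n) A) w
  have h1 : jL A K n ((1 : K) ⊗ₜ[A] s) = 0 := by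
    rw [← hs, map_mul, hw, mul_zero]
  rw [jL_tmul, map_one, one_mul] at h1
  have hs0 : s = 0 := by
    apply IsFractionRing.injective (MvPolynomial (Fin n) A) (FractionRing (MvPolynomial (Fin n) A))
    rw [h1, map_zero]
  rw [hs0, TensorProduct.tmul_zero] at hs
  have hunit : (algebraMap A K a)⁻¹ ⊗ₜ[A] (1 : MvPolynomial (Fin n) A) *
      (algebraMap A K a ⊗ₜ[A] (1 : MvPolynomial (Fin n) A)) = 1 := by
    rw [Algebra.TensorProduct.tmul_mul_tmul, one_mul, inv_mul_cancel₀, Algebra.TensorProduct.one_def]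
    intro h0
    exact ha ((IsFractionRing.injective A K) (h0.trans (map_zero _).symm))
  calc w = ((algebraMap A K a)⁻¹ ⊗ₜ[A] (1 : MvPolynomial (Fin n) A) *
        (algebraMap A K a ⊗ₜ[A] (1 : MvPolynomial (Fin n) A))) * w := by rw [hunit, one_mul]
    _ = 0 := by rw [mul_assoc, hs, mul_zero]

variable {I : Type u} [Fintype I] [DecidableEq I] (e : Module.Basis I K (K ⊗[A] M)) (m : I → M)
  (he : ∀ i, e i = (1 : K) ⊗ₜ[A] m i)

theorem map_jL (x : MvPolynomial (Fin n) A ⊗[A] B) :
    Algebra.TensorProduct.map (jL A K n) (AlgHom.id A B)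
      (Algebra.TensorProduct.map (iR A K (MvPolynomial (Fin n) A)) (AlgHom.id A B) x) =
    Algebra.TensorProduct.map (IsScalarTower.toAlgHom A (MvPolynomial (Fin n) A)
      (FractionRing (MvPolynomial (Fin n) A))) (AlgHom.id A B) x := by
  induction x using TensorProduct.induction_on with
  | zero => simp
  | tmul s b => simp [iR, jL]
  | add x y hx hy => simp only [map_add, hx, hy]

noncomputable def PhiL : MvPolynomial (Fin n) A ⊗[A] B →ₐ[MvPolynomial (Fin n) A]
    Matrix I I (FractionRing (MvPolynomial (Fin n) A)) :=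
  ((LinearMap.toMatrixAlgEquiv (bR e (FractionRing (MvPolynomial (Fin n) A)))).toAlgHom.restrictScalars
    (MvPolynomial (Fin n) A)).comp
    (((PolLaw.actEnd M (FractionRing (MvPolynomial (Fin n) A))).restrictScalars
      (MvPolynomial (Fin n) A)).comp
      (Algebra.TensorProduct.map (Algebra.ofId (MvPolynomial (Fin n) A)
        (FractionRing (MvPolynomial (Fin n) A))) (AlgHom.id A B)))

omit [IsDomain A] in
theorem map_ofId (x : MvPolynomial (Fin n) A ⊗[A] B) :
    Algebra.TensorProduct.map (Algebra.ofId (MvPolynomial (Fin n) A)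
        (FractionRing (MvPolynomial (Fin n) A))) (AlgHom.id A B) x =
    Algebra.TensorProduct.map (IsScalarTower.toAlgHom A (MvPolynomial (Fin n) A)
      (FractionRing (MvPolynomial (Fin n) A))) (AlgHom.id A B) x := by
  induction x using TensorProduct.induction_on with
  | zero => simp
  | tmul s b => rfl
  | add x y hx hy => simp only [map_add, hx, hy]

theorem PhiL_apply (x : MvPolynomial (Fin n) A ⊗[A] B) :
    PhiL (B := B) n e x = matR e (FractionRing (MvPolynomial (Fin n) A))
      (Algebra.TensorProduct.map (IsScalarTower.toAlgHom A (MvPolynomial (Fin n) A)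
        (FractionRing (MvPolynomial (Fin n) A))) (AlgHom.id A B) x) := by
  rw [← map_ofId]
  rfl

include he in
theorem PhiL_eq_zero (u : MvPolynomial (Fin n) A ⊗[A] B)
    (hu : PolLaw.actEnd M (MvPolynomial (Fin n) A) u = 0) : PhiL (B := B) n e u = 0 := by
  rw [PhiL_apply]
  unfold matR
  have : PolLaw.actEnd M (FractionRing (MvPolynomial (Fin n) A))
      (Algebra.TensorProduct.map (IsScalarTower.toAlgHom A (MvPolynomial (Fin n) A)
        (FractionRing (MvPolynomial (Fin n) A))) (AlgHom.id A B) u) = 0 := by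
    apply (bR e (FractionRing (MvPolynomial (Fin n) A))).ext
    intro i
    have h1 : bR e (FractionRing (MvPolynomial (Fin n) A)) i =
        (IsScalarTower.toAlgHom A (MvPolynomial (Fin n) A)
          (FractionRing (MvPolynomial (Fin n) A))).toLinearMap.rTensor M
          ((1 : MvPolynomial (Fin n) A) ⊗ₜ[A] m i) := by
      rw [bR_apply e m he, LinearMap.rTensor_tmul, AlgHom.toLinearMap_apply, map_one]
    rw [h1, ← PolLaw.rTensor_actEnd, hu, LinearMap.zero_apply, map_zero, LinearMap.zero_apply]
  rw [this, map_zero]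

variable [Module.Finite A M]

include he in
theorem isIntegral_PhiL (x : MvPolynomial (Fin n) A ⊗[A] B) :
    IsIntegral (MvPolynomial (Fin n) A) (PhiL (B := B) n e x) := by
  obtain ⟨Q, hQ, hQ0⟩ := LinearMap.exists_monic_and_aeval_eq_zero (MvPolynomial (Fin n) A)
    (PolLaw.actEnd M (MvPolynomial (Fin n) A) x)
  refine ⟨Q, hQ, ?_⟩
  show Polynomial.aeval (PhiL (B := B) n e x) Q = 0
  rw [Polynomial.aeval_algHom_apply]
  apply PhiL_eq_zero n e m he
  rw [← Polynomial.aeval_algHom_apply]
  exact hQ0

variable [IsIntegrallyClosed A]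

include he in
theorem gamFun_mem (x : MvPolynomial (Fin n) A ⊗[A] B) :
    ∃ s : MvPolynomial (Fin n) A, gamFun B e (MvPolynomial (Fin n) A) x = s ⊗ₜ[A] (1 : K) := by
  obtain ⟨s, hs⟩ := det_mem_range (S := MvPolynomial (Fin n) A)
    (F := FractionRing (MvPolynomial (Fin n) A)) (PhiL (B := B) n e x) (isIntegral_PhiL n e m he x)
  refine ⟨s, ?_⟩
  rw [PhiL_apply, ← map_jL (K := K), det_matR_map e m he] at hs
  have h2 : jL A K n ((1 : K) ⊗ₜ[A] s) = algebraMap _ _ s := by
    rw [jL_tmul, map_one, one_mul]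
  rw [← h2] at hs
  have h3 := jL_injective (K := K) n hs
  unfold gamFun
  rw [← h3]
  simp

omit [Module.Finite A M] [IsIntegrallyClosed A] in
include he in
theorem jL_gamFun (x : MvPolynomial (Fin n) A ⊗[A] B) :
    jL A K n ((Algebra.TensorProduct.comm A K (MvPolynomial (Fin n) A)).symm
      (gamFun B e (MvPolynomial (Fin n) A) x)) =
    LinearMap.det (PolLaw.actEnd M (FractionRing (MvPolynomial (Fin n) A))
      (Algebra.TensorProduct.map (IsScalarTower.toAlgHom A (MvPolynomial (Fin n) A)
        (FractionRing (MvPolynomial (Fin n) A))) (AlgHom.id A B) x)) := by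
  unfold gamFun
  rw [AlgEquiv.symm_apply_apply, ← det_matR_map e m he, map_jL, det_matR]

omit [Module.Finite A M] [IsIntegrallyClosed A] in
theorem jL_lTensor (t : MvPolynomial (Fin n) A ⊗[A] A) :
    jL A K n ((Algebra.TensorProduct.comm A K (MvPolynomial (Fin n) A)).symm
      ((Algebra.linearMap A K).lTensor (MvPolynomial (Fin n) A) t)) =
    algebraMap (MvPolynomial (Fin n) A) (FractionRing (MvPolynomial (Fin n) A))
      (TensorProduct.rid A (MvPolynomial (Fin n) A) t) := by
  induction t using TensorProduct.induction_on with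
  | zero => simp
  | tmul s a =>
    rw [LinearMap.lTensor_tmul, Algebra.linearMap_apply, Algebra.TensorProduct.comm_symm_tmul,
      jL_tmul, TensorProduct.rid_tmul, ← IsScalarTower.algebraMap_apply, Algebra.smul_def, map_mul,
      ← IsScalarTower.algebraMap_apply]
  | add x y hx hy => simp only [map_add, hx, hy]

end Frac

end Groth.Agent.Lib.Helper32.DetNormalInt
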