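import Groth.Agent.Lib.Helper32.PolLawTd2

set_option autoImplicit false
universe u
open scoped TensorProduct

namespace Groth.Agent.Lib.Helper32.PolLawCorestrict

open Groth.Agent.Lib.Helper32.PolLawBasic Groth.Agent.Lib.Helper32.PolLawFactor
  Groth.Agent.Lib.Helper32.PolLawFactorC Groth.Agent.Lib.Helper32.PolLawQuotC
  Groth.Agent.Lib.Helper32.PolLawGammaGen MvPolynomial

variable {A : Type u} [CommRing A] {B : Type u} [CommRing B] [Algebra A B]
  {C : Type u} [CommRing C] [Algebra A C] {d : ℕ} (γ : PolLaw.MulLaw A B C d)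
  (C₀ : Subalgebra A C) (hmem : ∀ p : MvPolynomial (Fin d × B) A, hLinC (Gp γ).law d p ∈ C₀)

noncomputable def k0 : MvPolynomial (Fin d × B) A →ₗ[A] C₀ :=
  LinearMap.codRestrict (Subalgebra.toSubmodule C₀) (hLinC (Gp γ).law d) hmem

noncomputable def K0law : MvPolynomial B A →ₚₗ[A] C₀ :=
  PolLaw.postcomp (k0 γ C₀ hmem) (GamLaw d)

theorem K0law_toFun' (S : Type u) [CommSemiring S] [Algebra A S] (x : S ⊗[A] MvPolynomial B A) :
    (K0law γ C₀ hmem).toFun' S x = (k0 γ C₀ hmem).lTensor S (Gam d S x) := rfl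

theorem val_K0law (S : Type u) [CommSemiring S] [Algebra A S] (x : S ⊗[A] MvPolynomial B A) :
    Algebra.TensorProduct.map (AlgHom.id S S) C₀.val ((K0law γ C₀ hmem).toFun' S x) =
      (Gp γ).law.toFun' S x := by
  rw [K0law_toFun', ← PolLaw.lTensor_algHom_apply, ← LinearMap.lTensor_comp_apply,
    factorC (Gp γ).law (Gp γ).homog]
  rfl

omit [Algebra A B] in
theorem val_injective (n : ℕ) :
    Function.Injective (Algebra.TensorProduct.map
      (AlgHom.id (MvPolynomial (Fin n) A) (MvPolynomial (Fin n) A)) C₀.val) := by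
  have h := Module.Flat.lTensor_preserves_injective_linearMap (M := MvPolynomial (Fin n) A)
    C₀.val.toLinearMap Subtype.val_injective
  intro x y hxy
  apply h
  rw [PolLaw.lTensor_algHom_apply, PolLaw.lTensor_algHom_apply]
  exact hxy

theorem K0_compat {S S' : Type u} [CommSemiring S] [Algebra A S] [CommSemiring S'] [Algebra A S']
    (φ : S →ₐ[A] S') (x : S ⊗[A] MvPolynomial B A) :
    (K0law γ C₀ hmem).toFun' S' (Algebra.TensorProduct.map φ (AlgHom.id A _) x) =
      Algebra.TensorProduct.map φ (AlgHom.id A _) ((K0law γ C₀ hmem).toFun' S x) :=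
  compat (K0law γ C₀ hmem) φ x

noncomputable def K0 : PolLaw.MulLaw A (MvPolynomial B A) C₀ d where
  law := K0law γ C₀ hmem
  homog S _ _ s x := by
    rw [K0law_toFun', K0law_toFun', Gam_smul, lTensor_smul']
  mult S _ _ := by
    refine ⟨?_, fun x y => ?_⟩
    · rw [K0law_toFun', PolLawCH.Gam_one, Algebra.TensorProduct.one_def, LinearMap.lTensor_tmul,
        Algebra.TensorProduct.one_def]
      congr 1
      apply Subtype.ext
      exact hLinC_one γ
    · obtain ⟨n, ψ, x', y', rfl, rfl⟩ := exists_lift₂ x y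
      rw [← map_mul, K0_compat, K0_compat, K0_compat, ← map_mul]
      congr 1
      apply val_injective C₀ n
      rw [map_mul, val_K0law, val_K0law, val_K0law, ((Gp γ).mult _).2]

theorem ker_piB_le' : RingHom.ker (piB (A := A) (B := B)) ≤ PolLaw.ker (K0 γ C₀ hmem).law := by
  intro p hp
  apply mem_ker_of_mvPolynomial
  intro n x w
  apply val_injective C₀ n
  show Algebra.TensorProduct.map _ _ ((K0law γ C₀ hmem).toFun' _ _) =
    Algebra.TensorProduct.map _ _ ((K0law γ C₀ hmem).toFun' _ _)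
  rw [val_K0law, val_K0law, Gp_toFun', Gp_toFun', map_add, map_mul,
    Algebra.TensorProduct.map_tmul, (RingHom.mem_ker).mp hp, TensorProduct.tmul_zero, mul_zero,
    add_zero]

noncomputable def κ1 : PolLaw.MulLaw A (MvPolynomial B A ⧸ RingHom.ker (piB (A := A) (B := B)))
    C₀ d :=
  quot (K0 γ C₀ hmem) (ker_piB_le' γ C₀ hmem)

noncomputable def cores : PolLaw.MulLaw A B C₀ d := (κ1 γ C₀ hmem).precomp eB

theorem cores_piB (S : Type u) [CommSemiring S] [Algebra A S] (x : S ⊗[A] MvPolynomial B A) :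
    (cores γ C₀ hmem).law.toFun' S (Algebra.TensorProduct.map (AlgHom.id S S) piB x) =
      (k0 γ C₀ hmem).lTensor S (Gam d S x) := by
  rw [cores, mulLaw_precomp_toFun', eB_piB, κ1, quot_qm]
  rfl

theorem val_cores (S : Type u) [CommSemiring S] [Algebra A S] (y : S ⊗[A] B) :
    Algebra.TensorProduct.map (AlgHom.id S S) C₀.val ((cores γ C₀ hmem).law.toFun' S y) =
      γ.law.toFun' S y := by
  obtain ⟨x, rfl⟩ := map_piB_surjective S y
  rw [cores_piB, ← K0law_toFun', val_K0law, Gp_toFun']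

end Groth.Agent.Lib.Helper32.PolLawCorestrict
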