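import Mathlib
import Groth.Prelude.Def_PolLaw
import Groth.Prelude.Def_PolLaw2
import Groth.Agent.Lib.Helper32.DetNormalInt
import Groth.Agent.Lib.Helper32.PolLawCorestrict

set_option autoImplicit false
universe u
open scoped TensorProduct

namespace Groth.Agent.Lib.Helper32.DetNormalMain

open Groth.Agent.Lib.Helper32.DetNormalBasis Groth.Agent.Lib.Helper32.DetNormalLaw
  Groth.Agent.Lib.Helper32.DetIntegral Groth.Agent.Lib.Helper32.DetNormalInt
  Groth.Agent.Lib.Helper32.PolLawFactorC Groth.Agent.Lib.Helper32.PolLawGammaGen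
  Groth.Agent.Lib.Helper32.PolLawCorestrict Groth.Agent.Lib.Helper32.PolLawTd2

variable {A : Type u} [CommRing A] [IsDomain A] [IsIntegrallyClosed A]
  {B : Type u} [CommRing B] [Algebra A B]
  {M : Type u} [AddCommGroup M] [Module A M] [Module B M] [IsScalarTower A B M]
  [Module.Finite A M]
  {K : Type u} [Field K] [Algebra A K] [IsFractionRing A K]
  {I : Type u} [Fintype I] [DecidableEq I] (e : Module.Basis I K (K ⊗[A] M)) (m : I → M)
  (he : ∀ i, e i = (1 : K) ⊗ₜ[A] m i) (d : ℕ) (hcard : Fintype.card I = d)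

include he in
theorem gamFun_mem_all (S : Type u) [CommSemiring S] [Algebra A S] (x : S ⊗[A] B) :
    ∃ w : S ⊗[A] A, (Algebra.linearMap A K).lTensor S w = gamFun B e S x := by
  obtain ⟨n, ψ, p, rfl⟩ := PolynomialLaw.exists_lift (R := A) (M := B) x
  obtain ⟨s, hs⟩ := gamFun_mem n e m he p
  refine ⟨ψ s ⊗ₜ[A] (1 : A), ?_⟩
  rw [← gamFun_compat e m he, hs, LinearMap.rTensor_tmul, LinearMap.lTensor_tmul,
    AlgHom.toLinearMap_apply, Algebra.linearMap_apply, map_one]

omit [IsDomain A] [IsIntegrallyClosed A] [IsFractionRing A K] in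
theorem cfC_lTensor {σ : Type*} (ν : σ →₀ ℕ) (w : MvPolynomial σ A ⊗[A] A) :
    cfC ν ((Algebra.linearMap A K).lTensor (MvPolynomial σ A) w) = algebraMap A K (cfC ν w) := by
  induction w using TensorProduct.induction_on with
  | zero => simp
  | tmul p a =>
    rw [LinearMap.lTensor_tmul, cfC_tmul, cfC_tmul, Algebra.linearMap_apply, smul_eq_mul, map_mul,
      Algebra.smul_def]
  | add x y hx hy => simp only [map_add, hx, hy]

include he in
theorem Mgen_le_bot :
    Mgen (gam B e m he d hcard).law ≤ (⊥ : Subalgebra A K) := by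
  refine Algebra.adjoin_le ?_
  rintro c ⟨σ, y, ν, rfl⟩
  obtain ⟨w, hw⟩ := gamFun_mem_all e m he (MvPolynomial σ A) y
  rw [gam_toFun', ← hw, cfC_lTensor]
  exact Subalgebra.algebraMap_mem _ _

include he in
theorem hmem (p : MvPolynomial (Fin d × B) A) :
    hLinC (Gp (gam B e m he d hcard)).law d p ∈ (⊥ : Subalgebra A K) :=
  Mgen_le_bot e m he d hcard (hLinC_mem (gam B e m he d hcard) p)

variable (K) in
noncomputable def botE : (⊥ : Subalgebra A K) ≃ₐ[A] A :=
  Algebra.botEquivOfInjective (IsFractionRing.injective A K)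

omit [IsIntegrallyClosed A] in
theorem algebraMap_botE (c : (⊥ : Subalgebra A K)) : algebraMap A K (botE K c) = c.1 := by
  obtain ⟨a, ha⟩ : ∃ a, c = (botE K).symm a := ⟨botE K c, by simp⟩
  rw [ha, AlgEquiv.apply_symm_apply]
  rfl

include he in
noncomputable def NN : PolLaw.MulLaw A B A d :=
  (cores (gam B e m he d hcard) ⊥ (hmem e m he d hcard)).postcomp (botE K).toAlgHom

theorem NN_spec (S : Type u) [CommSemiring S] [Algebra A S] (x : S ⊗[A] B) :
    (Algebra.linearMap A K).lTensor S ((NN e m he d hcard).law.toFun' S x) =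
      gamFun B e S x := by
  have h1 : (NN e m he d hcard).law.toFun' S x =
      (botE K).toAlgHom.toLinearMap.lTensor S
        ((cores (gam B e m he d hcard) ⊥ (hmem e m he d hcard)).law.toFun' S x) := rfl
  rw [h1, ← LinearMap.lTensor_comp_apply]
  have h2 : (Algebra.linearMap A K) ∘ₗ (botE K).toAlgHom.toLinearMap =
      (⊥ : Subalgebra A K).val.toLinearMap := by
    apply LinearMap.ext
    intro c
    exact algebraMap_botE c
  rw [h2, PolLaw.lTensor_algHom_apply, val_cores, gam_toFun']

theorem NN_formula (n : ℕ) (x : MvPolynomial (Fin n) A ⊗[A] B) :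
    algebraMap (MvPolynomial (Fin n) A) (FractionRing (MvPolynomial (Fin n) A))
        (TensorProduct.rid A (MvPolynomial (Fin n) A)
          ((NN e m he d hcard).law.toFun' (MvPolynomial (Fin n) A) x)) =
      LinearMap.det (PolLaw.actEnd M (FractionRing (MvPolynomial (Fin n) A))
        (Algebra.TensorProduct.map
          (IsScalarTower.toAlgHom A (MvPolynomial (Fin n) A)
            (FractionRing (MvPolynomial (Fin n) A)))
          (AlgHom.id A B) x)) := by
  rw [← jL_lTensor (K := K), NN_spec, jL_gamFun n e m he]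

theorem unique_of_formula (N' : PolLaw.MulLaw A B A d)
    (h : ∀ (n : ℕ) (x : MvPolynomial (Fin n) A ⊗[A] B),
      algebraMap (MvPolynomial (Fin n) A) (FractionRing (MvPolynomial (Fin n) A))
          (TensorProduct.rid A (MvPolynomial (Fin n) A)
            (N'.law.toFun' (MvPolynomial (Fin n) A) x)) =
        LinearMap.det (PolLaw.actEnd M (FractionRing (MvPolynomial (Fin n) A))
          (Algebra.TensorProduct.map
            (IsScalarTower.toAlgHom A (MvPolynomial (Fin n) A)
              (FractionRing (MvPolynomial (Fin n) A)))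
            (AlgHom.id A B) x))) :
    N' = NN e m he d hcard := by
  apply PolLaw.MulLaw.ext
  apply law_ext_mv'
  intro n x
  have h1 := (h n x).trans (NN_formula e m he d hcard n x).symm
  have h2 := IsFractionRing.injective (MvPolynomial (Fin n) A)
    (FractionRing (MvPolynomial (Fin n) A)) h1
  exact (TensorProduct.rid A (MvPolynomial (Fin n) A)).injective h2

end Groth.Agent.Lib.Helper32.DetNormalMain
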