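import Mathlib

set_option autoImplicit false
universe u v
open TensorProduct

namespace Groth.Agent.Lib.Helper32.DiagSym3

section perm

variable (k : Type u) [CommRing k] (A : Type v) [CommRing A] [Algebra k A]

noncomputable def s1 : A ⊗[k] (A ⊗[k] A) →ₐ[k] A ⊗[k] (A ⊗[k] A) :=
  (Algebra.TensorProduct.leftComm k A A A).toAlgHom

noncomputable def s2 : A ⊗[k] (A ⊗[k] A) →ₐ[k] A ⊗[k] (A ⊗[k] A) :=
  Algebra.TensorProduct.map (AlgHom.id k A) (Algebra.TensorProduct.comm k A A).toAlgHom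

noncomputable def rr : A ⊗[k] (A ⊗[k] A) →ₐ[k] A ⊗[k] A :=
  (Algebra.TensorProduct.map (Algebra.TensorProduct.lmul' k) (AlgHom.id k A)).comp
    (Algebra.TensorProduct.assoc k k k A A A).symm.toAlgHom

noncomputable def i13 : A ⊗[k] A →ₐ[k] A ⊗[k] (A ⊗[k] A) :=
  Algebra.TensorProduct.map (AlgHom.id k A) (Algebra.TensorProduct.includeRight)

noncomputable def i23 : A ⊗[k] A →ₐ[k] A ⊗[k] (A ⊗[k] A) :=
  Algebra.TensorProduct.includeRight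

noncomputable def mu1 : A ⊗[k] A →ₐ[k] A ⊗[k] A :=
  (Algebra.TensorProduct.includeLeft).comp (Algebra.TensorProduct.lmul' k)

variable {k A}

@[simp] lemma s1_tmul (a b c : A) : s1 k A (a ⊗ₜ (b ⊗ₜ c)) = b ⊗ₜ (a ⊗ₜ c) := by
  simp [s1]

@[simp] lemma s2_tmul (a b c : A) : s2 k A (a ⊗ₜ (b ⊗ₜ c)) = a ⊗ₜ (c ⊗ₜ b) := by
  simp [s2]

@[simp] lemma rr_tmul (a b c : A) : rr k A (a ⊗ₜ (b ⊗ₜ c)) = (a * b) ⊗ₜ c := by
  simp [rr]

@[simp] lemma i13_tmul (a b : A) : i13 k A (a ⊗ₜ b) = a ⊗ₜ ((1 : A) ⊗ₜ b) := by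
  simp [i13]

@[simp] lemma i23_tmul (a b : A) : i23 k A (a ⊗ₜ b) = (1 : A) ⊗ₜ (a ⊗ₜ b) := by
  simp [i23]

@[simp] lemma mu1_tmul (a b : A) : mu1 k A (a ⊗ₜ b) = (a * b) ⊗ₜ (1 : A) := by
  simp [mu1]

lemma mu1_apply (h : A ⊗[k] A) : mu1 k A h = (Algebra.TensorProduct.lmul' k h) ⊗ₜ (1 : A) := rfl

lemma hom3_ext {B : Type*} [Semiring B] [Algebra k B] {f g : A ⊗[k] (A ⊗[k] A) →ₐ[k] B}
    (h : ∀ a b c : A, f (a ⊗ₜ (b ⊗ₜ c)) = g (a ⊗ₜ (b ⊗ₜ c))) : f = g := by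
  apply AlgHom.toLinearMap_injective
  apply TensorProduct.ext_threefold'
  intro a b c
  exact h a b c

lemma s1_s1 (x : A ⊗[k] (A ⊗[k] A)) : s1 k A (s1 k A x) = x := by
  have : (s1 k A).comp (s1 k A) = AlgHom.id k _ := hom3_ext (by intro a b c; simp)
  exact DFunLike.congr_fun this x

lemma s2_s2 (x : A ⊗[k] (A ⊗[k] A)) : s2 k A (s2 k A x) = x := by
  have : (s2 k A).comp (s2 k A) = AlgHom.id k _ := hom3_ext (by intro a b c; simp)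
  exact DFunLike.congr_fun this x

lemma braid (x : A ⊗[k] (A ⊗[k] A)) :
    s2 k A (s1 k A (s2 k A x)) = s1 k A (s2 k A (s1 k A x)) := by
  have : ((s2 k A).comp ((s1 k A).comp (s2 k A))) = ((s1 k A).comp ((s2 k A).comp (s1 k A))) :=
    hom3_ext (by intro a b c; simp)
  exact DFunLike.congr_fun this x

noncomputable def Sy3 (x : A ⊗[k] (A ⊗[k] A)) : A ⊗[k] (A ⊗[k] A) :=
  x + s1 k A x + s2 k A x + s1 k A (s2 k A x) + s2 k A (s1 k A x) + s1 k A (s2 k A (s1 k A x))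

lemma s1_Sy3 (x : A ⊗[k] (A ⊗[k] A)) : s1 k A (Sy3 x) = Sy3 x := by
  unfold Sy3
  simp only [map_add, s1_s1]
  abel

lemma s2_Sy3 (x : A ⊗[k] (A ⊗[k] A)) : s2 k A (Sy3 x) = Sy3 x := by
  unfold Sy3
  simp only [map_add, s2_s2]
  rw [braid x]
  have : s2 k A (s1 k A (s2 k A (s1 k A x))) = s1 k A (s2 k A x) := by
    rw [braid (s1 k A x), s1_s1]
  rw [this]
  abel

lemma Sy3_of_fixed (x : A ⊗[k] (A ⊗[k] A)) (h1 : s1 k A x = x) (h2 : s2 k A x = x) :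
    Sy3 x = (6 : ℕ) • x := by
  unfold Sy3
  simp only [h1, h2]
  abel

lemma Sy3_tmul (a b c : A) :
    Sy3 (a ⊗ₜ[k] (b ⊗ₜ[k] c)) = a ⊗ₜ (b ⊗ₜ c) + b ⊗ₜ (a ⊗ₜ c) + a ⊗ₜ (c ⊗ₜ b) + c ⊗ₜ (a ⊗ₜ b)
      + b ⊗ₜ (c ⊗ₜ a) + c ⊗ₜ (b ⊗ₜ a) := by
  simp [Sy3]

lemma hom2_congr {f g : A ⊗[k] A →ₐ[k] A ⊗[k] A}
    (h : ∀ a b : A, f (a ⊗ₜ b) = g (a ⊗ₜ b)) (x : A ⊗[k] A) : f x = g x := by
  have : f = g := Algebra.TensorProduct.ext' h
  rw [this]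

lemma rr_i13 (h : A ⊗[k] A) : rr k A (i13 k A h) = h :=
  hom2_congr (f := (rr k A).comp (i13 k A)) (g := AlgHom.id k _) (by intro a b; simp) h

lemma rr_i23 (h : A ⊗[k] A) : rr k A (i23 k A h) = h :=
  hom2_congr (f := (rr k A).comp (i23 k A)) (g := AlgHom.id k _) (by intro a b; simp) h

lemma rr_s1_i13 (h : A ⊗[k] A) : rr k A (s1 k A (i13 k A h)) = h :=
  hom2_congr (f := (rr k A).comp ((s1 k A).comp (i13 k A))) (g := AlgHom.id k _)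
    (by intro a b; simp) h

lemma rr_s1_i23 (h : A ⊗[k] A) : rr k A (s1 k A (i23 k A h)) = h :=
  hom2_congr (f := (rr k A).comp ((s1 k A).comp (i23 k A))) (g := AlgHom.id k _)
    (by intro a b; simp) h

lemma rr_s2_i13 (h : A ⊗[k] A) : rr k A (s2 k A (i13 k A h)) = mu1 k A h :=
  hom2_congr (f := (rr k A).comp ((s2 k A).comp (i13 k A))) (g := mu1 k A)
    (by intro a b; simp) h

lemma rr_s1_s2_i13 (h : A ⊗[k] A) : rr k A (s1 k A (s2 k A (i13 k A h))) = mu1 k A h :=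
  hom2_congr (f := (rr k A).comp ((s1 k A).comp ((s2 k A).comp (i13 k A)))) (g := mu1 k A)
    (by intro a b; simp [mul_comm]) h

lemma rr_s2_s1_i23 (h : A ⊗[k] A) : rr k A (s2 k A (s1 k A (i23 k A h))) = mu1 k A h :=
  hom2_congr (f := (rr k A).comp ((s2 k A).comp ((s1 k A).comp (i23 k A)))) (g := mu1 k A)
    (by intro a b; simp) h

lemma rr_s1_s2_s1_i23 (h : A ⊗[k] A) :
    rr k A (s1 k A (s2 k A (s1 k A (i23 k A h)))) = mu1 k A h :=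
  hom2_congr (f := (rr k A).comp ((s1 k A).comp ((s2 k A).comp ((s1 k A).comp (i23 k A)))))
    (g := mu1 k A) (by intro a b; simp [mul_comm]) h

lemma rr_Sy3_mul (h1 h2 : A ⊗[k] A) (hh1 : Algebra.TensorProduct.lmul' k h1 = 0)
    (hh2 : Algebra.TensorProduct.lmul' k h2 = 0) :
    rr k A (Sy3 (i13 k A h1 * i23 k A h2)) = (2 : ℕ) • (h1 * h2) := by
  have m1 : mu1 k A h1 = 0 := by rw [mu1_apply, hh1, zero_tmul]
  have m2 : mu1 k A h2 = 0 := by rw [mu1_apply, hh2, zero_tmul]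
  unfold Sy3
  simp only [map_add, map_mul, rr_i13, rr_i23, rr_s1_i13, rr_s1_i23, rr_s2_i13, rr_s1_s2_i13,
    rr_s2_s1_i23, rr_s1_s2_s1_i23, m1, m2, zero_mul, mul_zero, add_zero]
  rw [two_nsmul]

end perm

end Groth.Agent.Lib.Helper32.DiagSym3
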