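import Groth.Agent.Lib.Helper32.DiagSym3

set_option autoImplicit false
universe u v
open TensorProduct

namespace Groth.Agent.Lib.Helper32.DiagSym3

section kaehler

variable {k : Type u} [Field k] {A : Type v} [CommRing A] [Algebra k A]

lemma D_eq_fromIdeal (b : A) :
    KaehlerDifferential.D k A b = KaehlerDifferential.fromIdeal k A
      ⟨1 ⊗ₜ b - b ⊗ₜ 1, KaehlerDifferential.one_smul_sub_smul_one_mem_ideal k b⟩ := rfl

lemma fromIdeal_eq_zero_iff (x : KaehlerDifferential.ideal k A) :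
    KaehlerDifferential.fromIdeal k A x = 0 ↔ (x : A ⊗[k] A) ∈ (KaehlerDifferential.ideal k A) ^ 2 :=
  Ideal.toCotangent_eq_zero _ _

noncomputable def pre : A ⊗[k] A →ₗ[k] A ⊗[k] A :=
  LinearMap.id - (Algebra.TensorProduct.includeLeft.toLinearMap : A →ₗ[k] A ⊗[k] A).comp
    (LinearMap.mul' k A)

lemma pre_apply (y : A ⊗[k] A) : pre y = y - (LinearMap.mul' k A y) ⊗ₜ[k] (1 : A) := rfl

lemma proj_mem (y : A ⊗[k] A) :
    pre y ∈ (KaehlerDifferential.ideal k A).restrictScalars k := by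
  change _ ∈ RingHom.ker _
  rw [RingHom.mem_ker]
  induction y using TensorProduct.induction_on with
  | zero => simp
  | tmul a b => simp [pre_apply]
  | add x y hx hy =>
    simp only [map_add] at hx hy ⊢
    rw [hx, hy, add_zero]

noncomputable def proj : A ⊗[k] A →ₗ[k] KaehlerDifferential.ideal k A :=
  (pre.codRestrict ((KaehlerDifferential.ideal k A).restrictScalars k) proj_mem : _ →ₗ[k] _)

lemma proj_coe (y : A ⊗[k] A) :
    ((proj y : KaehlerDifferential.ideal k A) : A ⊗[k] A) =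
      y - (LinearMap.mul' k A y) ⊗ₜ[k] (1 : A) := rfl

lemma fromIdeal_proj_tmul (a b : A) :
    KaehlerDifferential.fromIdeal k A (proj (a ⊗ₜ[k] b)) = a • KaehlerDifferential.D k A b := by
  rw [D_eq_fromIdeal]
  have : LinearMap.CompatibleSMul { x // x ∈ KaehlerDifferential.ideal k A } Ω[A⁄k] A (A ⊗[k] A) :=
    inferInstance
  rw [← LinearMap.map_smul_of_tower (KaehlerDifferential.fromIdeal k A)]
  congr 1
  apply Subtype.ext
  rw [proj_coe]
  simp only [LinearMap.mul'_apply, Submodule.coe_smul_of_tower, smul_sub,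
    TensorProduct.smul_tmul', smul_eq_mul, mul_one]

noncomputable def L2 : A ⊗[k] A →ₗ[k] Ω[A⁄k] :=
  ((KaehlerDifferential.fromIdeal k A).restrictScalars k).comp proj

lemma L2_apply (y : A ⊗[k] A) : L2 y = KaehlerDifferential.fromIdeal k A (proj y) := rfl

lemma D_formula (D : A ⊗[k] A →ₗ[k] Ω[A⁄k])
    (hD : ∀ a b : A, D (a ⊗ₜ[k] b) =
      (2 : A) • (a • KaehlerDifferential.D k A b) - b • KaehlerDifferential.D k A a) :
    D + (KaehlerDifferential.D k A).toLinearMap.comp (LinearMap.mul' k A) = (3 : ℕ) • L2 := by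
  apply TensorProduct.ext'
  intro a b
  simp only [LinearMap.add_apply, LinearMap.comp_apply, LinearMap.smul_apply, L2_apply,
    fromIdeal_proj_tmul, hD, LinearMap.mul'_apply]
  change _ + KaehlerDifferential.D k A (a * b) = _
  rw [Derivation.leibniz]
  module

lemma D_on_ideal (D : A ⊗[k] A →ₗ[k] Ω[A⁄k])
    (hD : ∀ a b : A, D (a ⊗ₜ[k] b) =
      (2 : A) • (a • KaehlerDifferential.D k A b) - b • KaehlerDifferential.D k A a)
    (z : A ⊗[k] A) (hz : z ∈ KaehlerDifferential.ideal k A) :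
    D z = (3 : ℕ) • KaehlerDifferential.fromIdeal k A ⟨z, hz⟩ := by
  have h0 : LinearMap.mul' k A z = 0 := by
    have : Algebra.TensorProduct.lmul' k z = 0 := hz
    rw [← Algebra.TensorProduct.lmul'_toLinearMap]
    exact this
  have := LinearMap.congr_fun (D_formula D hD) z
  simp only [LinearMap.add_apply, LinearMap.comp_apply, h0, LinearMap.smul_apply, L2_apply] at this
  have e : (proj z : KaehlerDifferential.ideal k A) = ⟨z, hz⟩ := by
    apply Subtype.ext
    rw [proj_coe, h0, zero_tmul, sub_zero]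
  rw [e] at this
  rw [← this]
  change _ = _ + KaehlerDifferential.D k A 0
  rw [map_zero, add_zero]

lemma mem_sq_of_D_eq_zero [CharZero k] (D : A ⊗[k] A →ₗ[k] Ω[A⁄k])
    (hD : ∀ a b : A, D (a ⊗ₜ[k] b) =
      (2 : A) • (a • KaehlerDifferential.D k A b) - b • KaehlerDifferential.D k A a)
    (z : A ⊗[k] A) (hz : z ∈ KaehlerDifferential.ideal k A) (h : D z = 0) :
    z ∈ (KaehlerDifferential.ideal k A) ^ 2 := by
  rw [D_on_ideal D hD z hz] at h
  rw [← Nat.cast_smul_eq_nsmul k, smul_eq_zero] at h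
  rcases h with h | h
  · exfalso
    have : ((3 : ℕ) : k) ≠ 0 := by exact_mod_cast (by norm_num : (3 : ℕ) ≠ 0)
    exact this h
  · exact (fromIdeal_eq_zero_iff _).mp h

end kaehler

end Groth.Agent.Lib.Helper32.DiagSym3
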