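import Groth.Agent.Lib.Helper32.DiagSym3K

set_option autoImplicit false
universe u v
open TensorProduct

namespace Groth.Agent.Lib.Helper32.DiagSym3

section perm

variable (k : Type u) [CommRing k] (A : Type v) [CommRing A] [Algebra k A]

noncomputable def r23 : A ⊗[k] (A ⊗[k] A) →ₐ[k] A ⊗[k] A :=
  (Algebra.TensorProduct.comm k A A).toAlgHom.comp
    (Algebra.TensorProduct.map (AlgHom.id k A) (Algebra.TensorProduct.lmul' k))

noncomputable def j21 : A ⊗[k] A →ₐ[k] A ⊗[k] (A ⊗[k] A) :=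
  (Algebra.TensorProduct.map (AlgHom.id k A) (Algebra.TensorProduct.includeLeft)).comp
    (Algebra.TensorProduct.comm k A A).toAlgHom

noncomputable def cm : A ⊗[k] A →ₐ[k] A ⊗[k] A := (Algebra.TensorProduct.comm k A A).toAlgHom

variable {k A}

@[simp] lemma r23_tmul (a b c : A) : r23 k A (a ⊗ₜ (b ⊗ₜ c)) = (b * c) ⊗ₜ a := by
  simp [r23]

@[simp] lemma j21_tmul (a b : A) : j21 k A (a ⊗ₜ b) = b ⊗ₜ (a ⊗ₜ (1 : A)) := by
  simp [j21]

@[simp] lemma cm_tmul (a b : A) : cm k A (a ⊗ₜ b) = b ⊗ₜ a := by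
  simp [cm]

lemma rr_s2_i23 (h : A ⊗[k] A) : rr k A (s2 k A (i23 k A h)) = cm k A h :=
  hom2_congr (f := (rr k A).comp ((s2 k A).comp (i23 k A))) (g := cm k A) (by intro a b; simp) h

lemma r23_i13 (h : A ⊗[k] A) : r23 k A (i13 k A h) = cm k A h :=
  hom2_congr (f := (r23 k A).comp (i13 k A)) (g := cm k A) (by intro a b; simp) h

lemma r23_i23 (h : A ⊗[k] A) : r23 k A (i23 k A h) = mu1 k A h :=
  hom2_congr (f := (r23 k A).comp (i23 k A)) (g := mu1 k A) (by intro a b; simp) h

lemma r23_s2_i13 (h : A ⊗[k] A) : r23 k A (s2 k A (i13 k A h)) = cm k A h :=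
  hom2_congr (f := (r23 k A).comp ((s2 k A).comp (i13 k A))) (g := cm k A) (by intro a b; simp) h

lemma r23_s2_i23 (h : A ⊗[k] A) : r23 k A (s2 k A (i23 k A h)) = mu1 k A h :=
  hom2_congr (f := (r23 k A).comp ((s2 k A).comp (i23 k A))) (g := mu1 k A)
    (by intro a b; simp [mul_comm]) h

lemma r23_j21 (h : A ⊗[k] A) : r23 k A (j21 k A h) = h :=
  hom2_congr (f := (r23 k A).comp (j21 k A)) (g := AlgHom.id k _) (by intro a b; simp) h

lemma r23_s2_j21 (h : A ⊗[k] A) : r23 k A (s2 k A (j21 k A h)) = h :=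
  hom2_congr (f := (r23 k A).comp ((s2 k A).comp (j21 k A))) (g := AlgHom.id k _)
    (by intro a b; simp) h

lemma rr_j21 (h : A ⊗[k] A) : rr k A (j21 k A h) = mu1 k A h :=
  hom2_congr (f := (rr k A).comp (j21 k A)) (g := mu1 k A) (by intro a b; simp [mul_comm]) h

lemma rr_s2_j21 (h : A ⊗[k] A) : rr k A (s2 k A (j21 k A h)) = cm k A h :=
  hom2_congr (f := (rr k A).comp ((s2 k A).comp (j21 k A))) (g := cm k A) (by intro a b; simp) h

lemma mul'_mu1 (h : A ⊗[k] A) : LinearMap.mul' k A (mu1 k A h) = LinearMap.mul' k A h := by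
  induction h using TensorProduct.induction_on with
  | zero => simp
  | tmul a b => simp
  | add x y hx hy => simp only [map_add, hx, hy]

lemma mul'_cm (h : A ⊗[k] A) : LinearMap.mul' k A (cm k A h) = LinearMap.mul' k A h := by
  induction h using TensorProduct.induction_on with
  | zero => simp
  | tmul a b => simp [mul_comm]
  | add x y hx hy => simp only [map_add, hx, hy]

lemma rr_T_mul (h1 h2 : A ⊗[k] A) (hh1 : Algebra.TensorProduct.lmul' k h1 = 0) :
    rr k A (i13 k A h1 * i23 k A h2 + s2 k A (i13 k A h1 * i23 k A h2)) = h1 * h2 := by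
  have m1 : mu1 k A h1 = 0 := by rw [mu1_apply, hh1, zero_tmul]
  simp only [map_add, map_mul, rr_i13, rr_i23, rr_s2_i13, rr_s2_i23, m1, zero_mul, add_zero]

lemma r23_T_mul (h1 h2 : A ⊗[k] A) (hh2 : Algebra.TensorProduct.lmul' k h2 = 0) :
    r23 k A (i13 k A h1 * i23 k A h2 + s2 k A (i13 k A h1 * i23 k A h2)) = 0 := by
  have m2 : mu1 k A h2 = 0 := by rw [mu1_apply, hh2, zero_tmul]
  simp only [map_add, map_mul, r23_i13, r23_i23, r23_s2_i13, r23_s2_i23, m2, mul_zero, add_zero]

end perm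

section kaehler

variable {k : Type u} [Field k] {A : Type v} [CommRing A] [Algebra k A]

lemma L2_eq : (L2 : A ⊗[k] A →ₗ[k] Ω[A⁄k]) =
    ((KaehlerDifferential.D k A).tensorProductTo).restrictScalars k := by
  apply TensorProduct.ext'
  intro a b
  rw [L2_apply, fromIdeal_proj_tmul, LinearMap.restrictScalars_apply, Derivation.tensorProductTo_tmul]

lemma tensorProductTo_of_mem (z : A ⊗[k] A) (hz : z ∈ KaehlerDifferential.ideal k A) :
    (KaehlerDifferential.D k A).tensorProductTo z = KaehlerDifferential.fromIdeal k A ⟨z, hz⟩ := by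
  have h0 : LinearMap.mul' k A z = 0 := by
    have : Algebra.TensorProduct.lmul' k z = 0 := hz
    rw [← Algebra.TensorProduct.lmul'_toLinearMap]
    exact this
  have := LinearMap.congr_fun (L2_eq (k := k) (A := A)) z
  rw [LinearMap.restrictScalars_apply] at this
  rw [← this, L2_apply]
  congr 1
  apply Subtype.ext
  rw [proj_coe, h0, zero_tmul, sub_zero]

end kaehler

end Groth.Agent.Lib.Helper32.DiagSym3
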