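import Mathlib
import Groth.Agent.Lib.Helper20.FPApprox
set_option autoImplicit false
universe u
open CategoryTheory

namespace Groth.Agent.Lib.Helper32.FPFactor

open Groth.Agent.Lib.Helper20.FPApprox

theorem exists_fp_factor {A : Type u} [CommRing A] (Λ : Type u) [CommRing Λ] [Algebra A Λ]
    (F : CommAlgCat.{u} A ⥤ Type u) [Limits.PreservesFilteredColimits F]
    (ξ : F.obj (CommAlgCat.of A Λ)) :
    ∃ (B : Type u) (_ : CommRing B) (_ : Algebra A B) (_ : Algebra.FinitePresentation A B)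
      (ι : B →ₐ[A] Λ) (ξ₀ : F.obj (CommAlgCat.of A B)),
      F.map (CommAlgCat.ofHom ι) ξ₀ = ξ := by
  let good : Pres A Λ → Prop := fun _ => True
  have hcof : ∀ S₀ : Finset Λ, ∃ j : Pres A Λ, good j ∧ S₀ ⊆ j.S := fun S₀ =>
    ⟨⟨S₀, ⊥, Submodule.fg_bot, fun x hx => by rw [(Submodule.mem_bot _).mp hx, map_zero]⟩,
      trivial, subset_rfl⟩
  obtain ⟨hd, hn, ⟨hc⟩⟩ := exists_isColimit good hcof (fun _ _ _ _ _ _ => trivial)
  let E := commAlgCatEquivUnder (CommRingCat.of A)
  have hc1 : Limits.IsColimit (E.inverse.mapCocone (cocone good)) :=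
    Limits.isColimitOfPreserves E.inverse hc
  have := hd
  have := hn
  have : Limits.PreservesColimitsOfShape (GoodPres good) F := inferInstance
  have hc2 : Limits.IsColimit (F.mapCocone (E.inverse.mapCocone (cocone good))) :=
    Limits.isColimitOfPreserves F hc1
  let e : E.inverse.obj (cocone good).pt ≅ CommAlgCat.of A Λ :=
    (E.unitIso.app (CommAlgCat.of A Λ)).symm
  obtain ⟨j, y, hy⟩ := Limits.Types.jointly_surjective_of_isColimit hc2 (F.map e.inv ξ)
  let ej : E.inverse.obj ((functor good).obj j) ≅ CommAlgCat.of A j.1.Alg :=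
    (E.unitIso.app (CommAlgCat.of A j.1.Alg)).symm
  refine ⟨j.1.Alg, inferInstance, inferInstance, j.1.finitePresentation, j.1.leg,
    F.map ej.hom y, ?_⟩
  have hcomm : ej.hom ≫ CommAlgCat.ofHom j.1.leg =
      E.inverse.map ((cocone good).ι.app j) ≫ e.hom := by
    ext x
    rfl
  have h1 : F.map (E.inverse.map ((cocone good).ι.app j)) y = F.map e.inv ξ := hy
  have h2 : F.map (ej.hom ≫ CommAlgCat.ofHom j.1.leg) y = ξ := by
    rw [hcomm, F.map_comp]
    show F.map e.hom (F.map (E.inverse.map ((cocone good).ι.app j)) y) = ξ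
    rw [h1]
    have : F.map e.hom (F.map e.inv ξ) = (F.map e.inv ≫ F.map e.hom) ξ := rfl
    rw [this, ← F.map_comp, e.inv_hom_id, F.map_id]
    rfl
  rw [F.map_comp] at h2
  exact h2

end Groth.Agent.Lib.Helper32.FPFactor
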