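import Groth.Agent.Lib.Helper32.PolLawBasic
import Mathlib.Algebra.CharP.Lemmas
import Mathlib.Algebra.CharP.Algebra
import Mathlib.FieldTheory.IntermediateField.Basic

set_option autoImplicit false
universe u
open scoped TensorProduct

namespace Groth.Agent.Lib.Helper32.FieldLawFrob

open Groth.Agent.Lib.Helper32.PolLawBasic

theorem qm_ne_zero (k : Type u) [Field k] (q : ℕ) [ExpChar k q] (m : ℕ) : q ^ m ≠ 0 :=
  pow_ne_zero _ (expChar_pos k q).ne'

variable {k : Type u} [Field k] (q : ℕ) [ExpChar k q] (m : ℕ)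

theorem add_pow_alg (S : Type*) [CommSemiring S] [Algebra k S] (x y : S) :
    (x + y) ^ q ^ m = x ^ q ^ m + y ^ q ^ m := by
  rcases subsingleton_or_nontrivial S with h | h
  · exact Subsingleton.elim _ _
  · have := expChar_of_injective_algebraMap (algebraMap k S).injective q
    exact add_pow_expChar_pow x y q m



variable {K : Type u} [Field K] [Algebra k K] (L : IntermediateField k K)
  (hL : ∀ x : K, x ^ q ^ m ∈ L)

def psi : K → L := fun x => ⟨x ^ q ^ m, hL x⟩

theorem psi_add (x y : K) : psi q m L hL (x + y) = psi q m L hL x + psi q m L hL y := by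
  apply Subtype.ext
  exact add_pow_alg (k := k) q m K x y

theorem psi_zero : psi q m L hL 0 = 0 := by
  apply Subtype.ext
  exact zero_pow (qm_ne_zero k q m)

theorem psi_mul (x y : K) : psi q m L hL (x * y) = psi q m L hL x * psi q m L hL y := by
  apply Subtype.ext
  exact mul_pow x y _

theorem psi_one : psi q m L hL 1 = 1 := by
  apply Subtype.ext
  exact one_pow _

theorem psi_smul (c : k) (x : K) : psi q m L hL (c • x) = c ^ q ^ m • psi q m L hL x := by
  apply Subtype.ext
  exact smul_pow c x _

section Psi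

variable (S : Type u) [CommSemiring S] [Algebra k S]

noncomputable def PsiAdd : S ⊗[k] K →+ S ⊗[k] L :=
  TensorProduct.liftAddHom
    { toFun := fun s =>
        { toFun := fun x => (s ^ q ^ m) ⊗ₜ[k] psi q m L hL x
          map_zero' := by rw [psi_zero, TensorProduct.tmul_zero]
          map_add' := fun x y => by rw [psi_add, TensorProduct.tmul_add] }
      map_zero' := by
        ext x
        show ((0 : S) ^ q ^ m) ⊗ₜ[k] psi q m L hL x = 0
        rw [zero_pow (qm_ne_zero k q m), TensorProduct.zero_tmul]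
      map_add' := fun s s' => by
        ext x
        show ((s + s') ^ q ^ m) ⊗ₜ[k] psi q m L hL x =
          (s ^ q ^ m) ⊗ₜ[k] psi q m L hL x + (s' ^ q ^ m) ⊗ₜ[k] psi q m L hL x
        rw [add_pow_alg (k := k) q m S s s', TensorProduct.add_tmul] }
    (fun c s x => by
      show ((c • s) ^ q ^ m) ⊗ₜ[k] psi q m L hL x = (s ^ q ^ m) ⊗ₜ[k] psi q m L hL (c • x)
      rw [smul_pow, psi_smul, TensorProduct.smul_tmul])

theorem PsiAdd_tmul (s : S) (x : K) :
    PsiAdd q m L hL S (s ⊗ₜ[k] x) = (s ^ q ^ m) ⊗ₜ[k] psi q m L hL x := rfl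

theorem PsiAdd_mul (z w : S ⊗[k] K) :
    PsiAdd q m L hL S (z * w) = PsiAdd q m L hL S z * PsiAdd q m L hL S w := by
  induction z using TensorProduct.induction_on with
  | zero => simp
  | add x y hx hy => simp only [add_mul, map_add, hx, hy]
  | tmul s x =>
    induction w using TensorProduct.induction_on with
    | zero => simp
    | add x y hx hy => simp only [mul_add, map_add, hx, hy]
    | tmul s' x' =>
      rw [Algebra.TensorProduct.tmul_mul_tmul, PsiAdd_tmul, PsiAdd_tmul, PsiAdd_tmul,
        Algebra.TensorProduct.tmul_mul_tmul, mul_pow, psi_mul]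

theorem PsiAdd_one : PsiAdd q m L hL S 1 = 1 := by
  rw [Algebra.TensorProduct.one_def, PsiAdd_tmul, one_pow, psi_one]
  rfl

theorem PsiAdd_smul (a : S) (z : S ⊗[k] K) :
    PsiAdd q m L hL S (a • z) = a ^ q ^ m • PsiAdd q m L hL S z := by
  induction z using TensorProduct.induction_on with
  | zero => simp
  | add x y hx hy => simp only [smul_add, map_add, hx, hy]
  | tmul s x =>
    rw [TensorProduct.smul_tmul', PsiAdd_tmul, PsiAdd_tmul, TensorProduct.smul_tmul', smul_eq_mul,
      smul_eq_mul, mul_pow]

theorem incl_PsiAdd (z : S ⊗[k] K) :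
    Algebra.TensorProduct.map (AlgHom.id S S) L.val (PsiAdd q m L hL S z) = z ^ q ^ m := by
  induction z using TensorProduct.induction_on with
  | zero => simp [zero_pow (qm_ne_zero k q m)]
  | add x y hx hy => rw [map_add, map_add, hx, hy, add_pow_alg (k := k) q m (S ⊗[k] K)]
  | tmul s x =>
    rw [PsiAdd_tmul, Algebra.TensorProduct.map_tmul, Algebra.TensorProduct.tmul_pow]
    rfl

variable {S}
variable {S' : Type u} [CommSemiring S'] [Algebra k S']

theorem PsiAdd_map (φ : S →ₐ[k] S') (z : S ⊗[k] K) :
    PsiAdd q m L hL S' (φ.toLinearMap.rTensor K z) =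
      φ.toLinearMap.rTensor L (PsiAdd q m L hL S z) := by
  induction z using TensorProduct.induction_on with
  | zero => simp
  | add x y hx hy => simp only [map_add, hx, hy]
  | tmul s x =>
    rw [LinearMap.rTensor_tmul, PsiAdd_tmul, PsiAdd_tmul, LinearMap.rTensor_tmul,
      AlgHom.toLinearMap_apply, AlgHom.toLinearMap_apply, map_pow]

end Psi

noncomputable def frobLaw : K →ₚₗ[k] L where
  toFun' S _ _ := PsiAdd q m L hL S
  isCompat' {S} _ _ {S'} _ _ φ := by
    funext z
    simp only [Function.comp_apply]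
    rw [PsiAdd_map]

theorem frobLaw_toFun' (S : Type u) [CommSemiring S] [Algebra k S] (z : S ⊗[k] K) :
    (frobLaw q m L hL).toFun' S z = PsiAdd q m L hL S z := rfl

end Groth.Agent.Lib.Helper32.FieldLawFrob
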