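import Groth.Agent.Lib.Helper32.PolLawBasic
import Mathlib.RingTheory.TensorProduct.MvPolynomial
import Mathlib.Algebra.MvPolynomial.Nilpotent
import Mathlib.Algebra.Ring.GeomSum
import Mathlib.RingTheory.Nilpotent.Lemmas
import Mathlib.RingTheory.Ideal.Quotient.Operations

set_option autoImplicit false
universe u
open scoped TensorProduct
open Polynomial

namespace Groth.Agent.Lib.Helper32.PolLawReduced

open Groth.Agent.Lib.Helper32.PolLawBasic

variable {A : Type u} [CommRing A] {B : Type u} [CommRing B] [Algebra A B]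
  {C : Type u} [CommRing C] [Algebra A C]

theorem isReduced_mvPolynomial_tensor [IsReduced C] (σ : Type*) :
    IsReduced (MvPolynomial σ A ⊗[A] C) := by
  let e : MvPolynomial σ A ⊗[A] C ≃+* MvPolynomial σ C :=
    ((Algebra.TensorProduct.comm A (MvPolynomial σ A) C).toRingEquiv).trans
      (MvPolynomial.algebraTensorAlgEquiv A C).toRingEquiv
  exact isReduced_of_injective e e.injective

section Psi

variable {R : Type u} [CommRing R] [Algebra A R] {D : Type u} [CommRing D] [Algebra A D]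
  (π : R ⊗[A] C →ₐ[A] D)

noncomputable def Ψ : R[X] ⊗[A] C →ₐ[A] D[X] :=
  Algebra.TensorProduct.productMap
    (Polynomial.mapAlgHom (π.comp (Algebra.TensorProduct.includeLeft : R →ₐ[A] R ⊗[A] C)))
    ((IsScalarTower.toAlgHom A D D[X]).comp
      (π.comp (Algebra.TensorProduct.includeRight : C →ₐ[A] R ⊗[A] C)))

theorem Ψ_ι (z : R ⊗[A] C) :
    Ψ π (Algebra.TensorProduct.map (IsScalarTower.toAlgHom A R R[X]) (AlgHom.id A C) z) =
      Polynomial.C (π z) := by
  induction z using TensorProduct.induction_on with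
  | zero => simp
  | add x y hx hy => simp only [map_add, hx, hy]
  | tmul r c =>
    simp only [Ψ, Algebra.TensorProduct.map_tmul, Algebra.TensorProduct.productMap_apply_tmul,
      AlgHom.id_apply, IsScalarTower.coe_toAlgHom', Polynomial.algebraMap_apply, AlgHom.comp_apply,
      Algebra.algebraMap_self, RingHom.id_apply]
    rw [show (Polynomial.mapAlgHom (π.comp
      (Algebra.TensorProduct.includeLeft : R →ₐ[A] R ⊗[A] C))) (Polynomial.C r) =
      Polynomial.C (π (r ⊗ₜ 1)) by simp, ← Polynomial.C_mul, ← map_mul]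
    simp

theorem eval_Ψ (a : A) (P : R[X] ⊗[A] C) :
    (Ψ π P).eval (algebraMap A D a) =
      π (Algebra.TensorProduct.map
        ((Polynomial.aeval (algebraMap A R a) : R[X] →ₐ[R] R).restrictScalars A)
        (AlgHom.id A C) P) := by
  induction P using TensorProduct.induction_on with
  | zero => simp
  | add x y hx hy => simp only [map_add, Polynomial.eval_add, hx, hy]
  | tmul p c =>
    simp only [Ψ, Algebra.TensorProduct.map_tmul, Algebra.TensorProduct.productMap_apply_tmul,
      AlgHom.id_apply, IsScalarTower.coe_toAlgHom', Polynomial.algebraMap_apply, AlgHom.comp_apply,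
      Algebra.algebraMap_self, RingHom.id_apply, Polynomial.eval_mul, Polynomial.eval_C,
      AlgHom.coe_restrictScalars']
    have h1 : (Polynomial.mapAlgHom (π.comp
        (Algebra.TensorProduct.includeLeft : R →ₐ[A] R ⊗[A] C)) p).eval (algebraMap A D a) =
        π ((Polynomial.aeval (algebraMap A R a) p) ⊗ₜ 1) := by
      rw [Polynomial.coe_mapAlgHom, Polynomial.eval_map, Polynomial.coe_aeval_eq_eval]
      have h2 : algebraMap A D a = (π.comp
          (Algebra.TensorProduct.includeLeft : R →ₐ[A] R ⊗[A] C)) (algebraMap A R a) := by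
        rw [AlgHom.commutes]
      rw [h2]
      exact (Polynomial.hom_eval₂ p (RingHom.id R) ((π.comp
          (Algebra.TensorProduct.includeLeft : R →ₐ[A] R ⊗[A] C)) : R →+* D)
          (algebraMap A R a)).symm.trans (by simp [Polynomial.eval₂_id])
    rw [h1, ← map_mul]
    simp

end Psi


section Main

variable {d : ℕ} (F : PolLaw.MulLaw A B C d)

theorem F_pow (S : Type u) [CommSemiring S] [Algebra A S] (z : S ⊗[A] B) (n : ℕ) :
    F.law.toFun' S (z ^ n) = F.law.toFun' S z ^ n := by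
  induction n with
  | zero => rw [pow_zero, pow_zero, (F.mult S).1]
  | succ n ih => rw [pow_succ, pow_succ, (F.mult S).2, ih]

theorem map_ev_ι {R : Type u} [CommRing R] [Algebra A R] (M : Type u) [CommRing M] [Algebra A M]
    (r : R) (z : R ⊗[A] M) :
    Algebra.TensorProduct.map ((Polynomial.aeval r : R[X] →ₐ[R] R).restrictScalars A)
      (AlgHom.id A M)
      (Algebra.TensorProduct.map (IsScalarTower.toAlgHom A R R[X]) (AlgHom.id A M) z) = z := by
  induction z using TensorProduct.induction_on with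
  | zero => simp
  | add x y hx hy => simp only [map_add, hx, hy]
  | tmul r' c => simp

theorem mem_ker_of_pow_mem [IsReduced C] (b : B) (n : ℕ) (hb : b ^ n ∈ PolLaw.ker F.law) :
    b ∈ PolLaw.ker F.law := by
  rcases Nat.eq_zero_or_pos n with hn | hn
  · rw [hn, pow_zero] at hb
    rw [(Ideal.eq_top_iff_one _).mpr hb]
    trivial
  apply mem_ker_of_mvPolynomial
  intro m x w
  have hred : IsReduced (MvPolynomial (Fin m) A ⊗[A] C) := isReduced_mvPolynomial_tensor _
  rw [← sub_eq_zero]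
  have hnil : nilradical (MvPolynomial (Fin m) A ⊗[A] C) = ⊥ := nilradical_eq_zero _
  rw [← Ideal.mem_bot, ← hnil, nilradical_eq_sInf, Ideal.mem_sInf]
  intro 𝔭 h𝔭
  have : 𝔭.IsPrime := h𝔭
  rw [← Ideal.Quotient.eq_zero_iff_mem, map_sub, sub_eq_zero]
  let π : MvPolynomial (Fin m) A ⊗[A] C →ₐ[A] (MvPolynomial (Fin m) A ⊗[A] C) ⧸ 𝔭 :=
    Ideal.Quotient.mkₐ A 𝔭
  show π _ = π _
  set β : MvPolynomial (Fin m) A ⊗[A] B := 1 ⊗ₜ[A] b with hβ
  have hβn : ∀ (S : Type u) [CommSemiring S] [Algebra A S] (u v : S ⊗[A] B),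
      F.law.toFun' S (u + v * (1 ⊗ₜ[A] b) ^ n) = F.law.toFun' S u := by
    intro S _ _ u v
    rw [Algebra.TensorProduct.tmul_pow, one_pow]
    exact hb S u v
  by_cases hx : π (F.law.toFun' _ x) = 0
  · have h1 := geom_sum₂_mul (x + w * β) (w * β) n
    rw [add_sub_cancel_right] at h1
    have h2 : (x + w * β) ^ n =
        (∑ i ∈ Finset.range n, (x + w * β) ^ i * (w * β) ^ (n - 1 - i)) * x + w ^ n * β ^ n := by
      rw [h1, mul_pow]
      ring
    have h3 := congrArg (F.law.toFun' (MvPolynomial (Fin m) A)) h2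
    rw [F_pow, hβn, (F.mult _).2] at h3
    have h4 := congrArg π h3
    rw [map_pow, map_mul, hx, mul_zero] at h4
    rw [hx]
    exact pow_eq_zero_iff (Nat.pos_iff_ne_zero.mp hn) |>.mp h4
  · let ι : MvPolynomial (Fin m) A →ₐ[A] (MvPolynomial (Fin m) A)[X] :=
      IsScalarTower.toAlgHom A _ _
    let ιB := Algebra.TensorProduct.map ι (AlgHom.id A B)
    let y : (MvPolynomial (Fin m) A)[X] ⊗[A] B := -((X ⊗ₜ[A] (1 : B)) * ιB w * (1 ⊗ₜ[A] b))
    have h1 := geom_sum₂_mul (ιB x) y n
    set Y := ∑ i ∈ Finset.range n, ιB x ^ i * y ^ (n - 1 - i) with hY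
    have h2 : ιB x ^ n - y ^ n =
        ιB x ^ n + (-(-((X ⊗ₜ[A] (1 : B)) * ιB w)) ^ n) * (1 ⊗ₜ[A] b) ^ n := by
      simp only [y]
      ring
    rw [h2] at h1
    have h3 := congrArg (F.law.toFun' (MvPolynomial (Fin m) A)[X]) h1
    rw [hβn, (F.mult _).2, F_pow] at h3
    have hιx : F.law.toFun' (MvPolynomial (Fin m) A)[X] (ιB x) =
        Algebra.TensorProduct.map ι (AlgHom.id A C) (F.law.toFun' _ x) := compat F.law ι x
    have h4 := congrArg (Ψ (D := (MvPolynomial (Fin m) A ⊗[A] C) ⧸ 𝔭) π) h3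
    rw [map_mul, map_pow, hιx, Ψ_ι, ← Polynomial.C_pow] at h4
    set P := Ψ (D := (MvPolynomial (Fin m) A ⊗[A] C) ⧸ 𝔭) π (F.law.toFun' (MvPolynomial (Fin m) A)[X] (ιB x - y)) with hP
    set Q := Ψ (D := (MvPolynomial (Fin m) A ⊗[A] C) ⧸ 𝔭) π (F.law.toFun' (MvPolynomial (Fin m) A)[X] Y) with hQ
    have hc : π (F.law.toFun' _ x) ^ n ≠ 0 := pow_ne_zero _ hx
    have hP0 : P ≠ 0 := by
      intro h
      rw [h, mul_zero] at h4
      exact hc (Polynomial.C_eq_zero.mp h4.symm)
    have hQ0 : Q ≠ 0 := by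
      intro h
      rw [h, zero_mul] at h4
      exact hc (Polynomial.C_eq_zero.mp h4.symm)
    have hdeg : P.natDegree = 0 := by
      have := congrArg Polynomial.natDegree h4
      rw [Polynomial.natDegree_mul hQ0 hP0, Polynomial.natDegree_C] at this
      omega
    have hPC := Polynomial.eq_C_of_natDegree_eq_zero hdeg
    have e0 := eval_Ψ (D := (MvPolynomial (Fin m) A ⊗[A] C) ⧸ 𝔭) π 0 (F.law.toFun' (MvPolynomial (Fin m) A)[X] (ιB x - y))
    have e1 := eval_Ψ (D := (MvPolynomial (Fin m) A ⊗[A] C) ⧸ 𝔭) π 1 (F.law.toFun' (MvPolynomial (Fin m) A)[X] (ιB x - y))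
    rw [← compat] at e0 e1
    have hξ : ∀ r : MvPolynomial (Fin m) A,
        Algebra.TensorProduct.map
          ((Polynomial.aeval r : (MvPolynomial (Fin m) A)[X] →ₐ[_] _).restrictScalars A)
          (AlgHom.id A B) (ιB x - y) = x + (r ⊗ₜ[A] (1 : B)) * w * (1 ⊗ₜ[A] b) := by
      intro r
      have hy : ιB x - y = ιB x + (X ⊗ₜ[A] (1 : B)) * ιB w * (1 ⊗ₜ[A] b) := by
        simp only [y]
        ring
      rw [hy, map_add, map_mul, map_mul, map_ev_ι, map_ev_ι, Algebra.TensorProduct.map_tmul,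
        Algebra.TensorProduct.map_tmul]
      simp
    rw [hξ, ← hP, hPC] at e0 e1
    simp only [map_zero, map_one, Polynomial.eval_C, TensorProduct.zero_tmul, zero_mul,
      add_zero] at e0 e1
    rw [show ((1 : MvPolynomial (Fin m) A) ⊗ₜ[A] (1 : B)) = 1 from rfl, one_mul] at e1
    rw [← e0, ← e1]

end Main

end Groth.Agent.Lib.Helper32.PolLawReduced
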