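import Groth.Agent.Lib.Helper32.FieldLawSep
import Groth.Agent.Lib.Helper32.FieldLawFrob
import Groth.Agent.Lib.Helper32.PolLawReduced
import Groth.Prelude.Def_PolLaw2

set_option autoImplicit false
universe u
open scoped TensorProduct
open Polynomial

namespace Groth.Agent.Lib.Helper32.FieldLawMain

open Groth.Agent.Lib.Helper32.PolLawBasic Groth.Agent.Lib.Helper32.FieldLawSep
  Groth.Agent.Lib.Helper32.FieldLawFrob

variable {k : Type u} [Field k] {K : Type u} [Field K] [Algebra k K] [FiniteDimensional k K]
  (q : ℕ) [ExpChar k q] (m : ℕ)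
  (hL : ∀ x : K, x ^ q ^ m ∈ separableClosure k K) {d : ℕ}

section KF

variable (F : PolLaw.MulLaw k K k d)

theorem val_pow (S : Type u) [CommRing S] [Algebra k S] (z : S ⊗[k] K) (n : ℕ) :
    val F S (z ^ n) = val F S z ^ n := by
  rw [val, val, Groth.Agent.Lib.Helper32.PolLawReduced.F_pow, map_pow]

theorem val_precomp (S : Type u) [CommRing S] [Algebra k S]
    (w : S ⊗[k] (separableClosure k K)) :
    val (F.precomp (separableClosure k K).val) S w =
      val F S (Algebra.TensorProduct.map (AlgHom.id S S) (separableClosure k K).val w) := by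
  rw [val, val, mulLaw_precomp_toFun']

theorem exists_j :
    ∃ j, d = j * Module.finrank k (separableClosure k K) ∧
      ∀ (S : Type u) [CommRing S] [Algebra k S] (z : S ⊗[k] K),
        val F S z ^ q ^ m = (Algebra.norm S (PsiAdd q m (separableClosure k K) hL S z)) ^ j := by
  obtain ⟨j, hj, hval⟩ := sep_main (F.precomp (separableClosure k K).val)
  refine ⟨j, hj, fun S _ _ z => ?_⟩
  rw [← val_pow, ← incl_PsiAdd q m (separableClosure k K) hL, ← val_precomp, hval]

end KF

section Unique

include hL in
theorem unique (F F' : PolLaw.MulLaw k K k d) : F = F' := by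
  obtain ⟨j, hj, hval⟩ := exists_j q m hL F
  obtain ⟨j', hj', hval'⟩ := exists_j q m hL F'
  have hpos : 0 < Module.finrank k (separableClosure k K) := Module.finrank_pos
  have hjj : j = j' := by
    have : j * Module.finrank k (separableClosure k K) =
        j' * Module.finrank k (separableClosure k K) := by rw [← hj, ← hj']
    exact Nat.eq_of_mul_eq_mul_right hpos this
  subst hjj
  apply Groth.Agent.Lib.Helper32.PolLawEtale.law_ext_mv
  intro n x
  apply (Algebra.TensorProduct.rid k (MvPolynomial (Fin n) k) (MvPolynomial (Fin n) k)).injective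
  have h1 := hval (MvPolynomial (Fin n) k) x
  rw [← hval' (MvPolynomial (Fin n) k) x] at h1
  have := iterateFrobenius_inj (MvPolynomial (Fin n) k) q m
  apply this
  rw [iterateFrobenius_def, iterateFrobenius_def]
  exact h1

end Unique

section Exist

noncomputable def exLaw (i : ℕ) : K →ₚₗ[k] k :=
  ((PolLaw.MulLaw.pow k k i).law.comp
    (PolLaw.normLaw k (separableClosure k K) (Module.finrank k (separableClosure k K)) rfl).law).comp
      (frobLaw q m (separableClosure k K) hL)

theorem exLaw_toFun' (i : ℕ) (S : Type u) [CommSemiring S] [Algebra k S] (z : S ⊗[k] K) :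
    (exLaw q m hL i).toFun' S z =
      ((PolLaw.normLaw k (separableClosure k K) (Module.finrank k (separableClosure k K))
        rfl).law.toFun' S (PsiAdd q m (separableClosure k K) hL S z)) ^ i := rfl

theorem exLaw_one (i : ℕ) (S : Type u) [CommSemiring S] [Algebra k S] :
    (exLaw q m hL i).toFun' S 1 = 1 := by
  rw [exLaw_toFun', PsiAdd_one, ((PolLaw.normLaw k (separableClosure k K) _ rfl).mult S).1, one_pow]

theorem exLaw_mul (i : ℕ) (S : Type u) [CommSemiring S] [Algebra k S] (x y : S ⊗[k] K) :
    (exLaw q m hL i).toFun' S (x * y) =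
      (exLaw q m hL i).toFun' S x * (exLaw q m hL i).toFun' S y := by
  rw [exLaw_toFun', exLaw_toFun', exLaw_toFun', PsiAdd_mul,
    ((PolLaw.normLaw k (separableClosure k K) _ rfl).mult S).2, mul_pow]

theorem exLaw_smul (i : ℕ) (S : Type u) [CommSemiring S] [Algebra k S] (a : S) (z : S ⊗[k] K) :
    (exLaw q m hL i).toFun' S (a • z) =
      a ^ (Module.finrank k (separableClosure k K) * q ^ m * i) • (exLaw q m hL i).toFun' S z := by
  rw [exLaw_toFun', exLaw_toFun', PsiAdd_smul,
    (PolLaw.normLaw k (separableClosure k K) _ rfl).homog S, _root_.smul_pow, ← pow_mul, ← pow_mul]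
  congr 2
  ring

end Exist

end Groth.Agent.Lib.Helper32.FieldLawMain
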