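import Groth.Agent.Lib.Helper32.FieldLawMain

set_option autoImplicit false
universe u
open scoped TensorProduct
open Polynomial IntermediateField

namespace Groth.Agent.Lib.Helper32.FieldLawNec

variable {k : Type u} [Field k]

section Norm

variable {L' : Type u} [Field L'] [Algebra k L'] [FiniteDimensional k L']

theorem norm_X_sub (a : L') :
    ∃ χ : k[X], χ.Monic ∧ χ.natDegree = Module.finrank k L' ∧ aeval a χ = 0 ∧
      Algebra.norm k[X] ((X : k[X]) ⊗ₜ[k] (1 : L') - 1 ⊗ₜ[k] a) = χ := by
  classical
  let b := Module.finBasis k L'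
  refine ⟨(Algebra.leftMulMatrix b a).charpoly, Matrix.charpoly_monic _, ?_, ?_, ?_⟩
  · rw [Matrix.charpoly_natDegree_eq_dim, Fintype.card_fin]
  · apply Algebra.leftMulMatrix_injective b
    rw [map_zero, ← Polynomial.aeval_algHom_apply, Matrix.aeval_self_charpoly]
  · rw [Algebra.norm_eq_matrix_det (Algebra.TensorProduct.basis k[X] b), map_sub,
      Groth.Agent.Lib.Helper47.NormBC.leftMulMatrix_basis_tmul,
      Groth.Agent.Lib.Helper47.NormBC.leftMulMatrix_basis_tmul, map_one, Matrix.charpoly]
    congr 1
    ext i j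
    simp [Matrix.charmatrix_apply, Matrix.one_apply, Matrix.diagonal_apply]

end Norm

section Deg

variable {K : Type u} [Field K] [Algebra k K] [FiniteDimensional k K]
  (q : ℕ) [ExpChar k q] (m : ℕ)

theorem le_adjoin (x : K) (a : separableClosure k K) (ha : (a : K) ∈ k⟮x⟯)
    (hgen : k⟮a⟯ = ⊤) : separableClosure k K ≤ k⟮x⟯ := by
  have h1 : (separableClosure k K) = (k⟮a⟯).map (separableClosure k K).val := by
    rw [hgen, ← AlgHom.fieldRange_eq_map, IntermediateField.fieldRange_val]
  rw [h1, IntermediateField.adjoin_map, IntermediateField.adjoin_le_iff]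
  rintro y ⟨z, hz, rfl⟩
  rw [Set.mem_singleton_iff] at hz
  subst hz
  exact ha

theorem finrank_adjoin_ge (x : K) (hle : separableClosure k K ≤ k⟮x⟯)
    (hx : ∀ r, x ^ q ^ r ∈ separableClosure k K → m ≤ r) :
    Module.finrank k (separableClosure k K) * q ^ m ≤ Module.finrank k k⟮x⟯ := by
  let M' : IntermediateField (separableClosure k K) K := IntermediateField.extendScalars hle
  have h1 : Module.finrank k (separableClosure k K) * Module.finrank (separableClosure k K) M' =
      Module.finrank k M' := Module.finrank_mul_finrank k (separableClosure k K) M'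
  have h2 : Module.finrank k M' = Module.finrank k k⟮x⟯ := rfl
  have h3 : (separableClosure k K)⟮x⟯ ≤ M' := by
    rw [IntermediateField.adjoin_le_iff]
    rintro y hy
    rw [Set.mem_singleton_iff] at hy
    subst hy
    exact IntermediateField.mem_adjoin_simple_self k y
  have h4 := IntermediateField.finrank_le_of_le_right h3
  have hint : IsIntegral (separableClosure k K) x := Algebra.IsIntegral.isIntegral x
  rw [IntermediateField.adjoin.finrank hint] at h4
  have := expChar_of_injective_algebraMap (algebraMap k (separableClosure k K)).injective q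
  obtain ⟨r, y, hr⟩ := IsPurelyInseparable.minpoly_eq_X_pow_sub_C (separableClosure k K) q x
  have hxr : x ^ q ^ r ∈ separableClosure k K := by
    have h5 := minpoly.aeval (separableClosure k K) x
    rw [hr, map_sub, map_pow, aeval_X, aeval_C, sub_eq_zero] at h5
    rw [h5]
    exact y.2
  have hmr := hx r hxr
  rw [hr, natDegree_X_pow_sub_C] at h4
  calc Module.finrank k (separableClosure k K) * q ^ m
      ≤ Module.finrank k (separableClosure k K) * q ^ r :=
        Nat.mul_le_mul_left _ (Nat.pow_le_pow_right (expChar_pos k q) hmr)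
    _ ≤ Module.finrank k (separableClosure k K) * Module.finrank (separableClosure k K) M' :=
        Nat.mul_le_mul_left _ h4
    _ = Module.finrank k k⟮x⟯ := by rw [h1, h2]

open Groth.Agent.Lib.Helper32.FieldLawFrob in
theorem irreducible_expand (hL : ∀ x : K, x ^ q ^ m ∈ separableClosure k K) (x : K)
    (hgen : k⟮psi q m (separableClosure k K) hL x⟯ = ⊤)
    (hx : ∀ r, x ^ q ^ r ∈ separableClosure k K → m ≤ r) (χ : k[X]) (hmon : χ.Monic)
    (hdeg : χ.natDegree = Module.finrank k (separableClosure k K))
    (hroot : aeval (psi q m (separableClosure k K) hL x) χ = 0) :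
    Irreducible (expand k (q ^ m) χ) := by
  have hle : separableClosure k K ≤ k⟮x⟯ :=
    le_adjoin x (psi q m (separableClosure k K) hL x)
      (pow_mem (IntermediateField.mem_adjoin_simple_self k x) _) hgen
  have hge := finrank_adjoin_ge q m x hle hx
  have hint : IsIntegral k x := Algebra.IsIntegral.isIntegral x
  have hpos : 0 < q ^ m := Nat.pos_of_ne_zero (qm_ne_zero k q m)
  have hNm : (expand k (q ^ m) χ).Monic := hmon.expand hpos
  have hev : aeval x (expand k (q ^ m) χ) = 0 := by
    rw [expand_aeval]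
    have : x ^ q ^ m = algebraMap (separableClosure k K) K (psi q m (separableClosure k K) hL x) :=
      rfl
    rw [this, aeval_algebraMap_apply, hroot, map_zero]
  have hdvd : minpoly k x ∣ expand k (q ^ m) χ := minpoly.dvd k x hev
  have heq : expand k (q ^ m) χ = minpoly k x := by
    apply eq_of_monic_of_dvd_of_natDegree_le (minpoly.monic hint) hNm hdvd
    rw [natDegree_expand, hdeg, ← IntermediateField.adjoin.finrank hint]
    exact hge
  rw [heq]
  exact minpoly.irreducible hint

open Groth.Agent.Lib.Helper32.FieldLawFrob in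
theorem exists_good_x (hL : ∀ x : K, x ^ q ^ m ∈ separableClosure k K) (hm : 1 ≤ m) (x₀ : K)
    (hx₀ : x₀ ^ q ^ (m - 1) ∉ separableClosure k K) :
    ∃ x : K, k⟮psi q m (separableClosure k K) hL x⟯ = ⊤ ∧
      ∀ r, x ^ q ^ r ∈ separableClosure k K → m ≤ r := by
  have hK := expChar_of_injective_algebraMap (algebraMap k K).injective q
  have hinf : Infinite k := by
    by_contra h
    rw [not_infinite_iff_finite] at h
    have hsep : Algebra.IsSeparable k K := Algebra.IsAlgebraic.isSeparable_of_perfectField
    have htop := (separableClosure.eq_top_iff k K).mpr hsep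
    apply hx₀
    rw [htop]
    exact IntermediateField.mem_top
  obtain ⟨θ, hθ⟩ := Field.exists_primitive_element k (separableClosure k K)
  have hfin : Finite (IntermediateField k (separableClosure k K)) :=
    Field.finite_intermediateField_of_exists_primitive_element k _ ⟨θ, hθ⟩
  have hb : k⟮θ ^ q ^ m⟯ = ⊤ := by
    rw [← IntermediateField.adjoin_simple_eq_adjoin_pow_expChar_pow_of_isSeparable' k
      (separableClosure k K) θ q m]
    exact hθ
  let a₀ := psi q m (separableClosure k K) hL x₀
  let f : k → IntermediateField k (separableClosure k K) :=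
    fun c => k⟮a₀ + c ^ q ^ m • θ ^ q ^ m⟯
  obtain ⟨c, c', hne, heq⟩ := Finite.exists_ne_map_eq_of_infinite f
  have hcc : c ^ q ^ m - c' ^ q ^ m ≠ 0 := by
    rw [← sub_pow_expChar_pow]
    exact pow_ne_zero _ (sub_ne_zero.mpr hne)
  have h1 : a₀ + c ^ q ^ m • θ ^ q ^ m ∈ f c := IntermediateField.mem_adjoin_simple_self k _
  have h2 : a₀ + c' ^ q ^ m • θ ^ q ^ m ∈ f c := by
    rw [heq]
    exact IntermediateField.mem_adjoin_simple_self k _
  have h3 : (c ^ q ^ m - c' ^ q ^ m) • θ ^ q ^ m ∈ f c := by
    have := sub_mem h1 h2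
    rw [add_sub_add_left_eq_sub, ← sub_smul] at this
    exact this
  have h4 : θ ^ q ^ m ∈ f c := by
    have := IntermediateField.smul_mem (f c) h3 (x := (c ^ q ^ m - c' ^ q ^ m)⁻¹)
    rw [smul_smul, inv_mul_cancel₀ hcc, one_smul] at this
    exact this
  have h5 : f c = ⊤ := by
    rw [eq_top_iff, ← hb, IntermediateField.adjoin_simple_le_iff]
    exact h4
  refine ⟨x₀ + c • (θ : K), ?_, ?_⟩
  · have : psi q m (separableClosure k K) hL (x₀ + c • (θ : K)) = a₀ + c ^ q ^ m • θ ^ q ^ m := by
      apply Subtype.ext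
      show (x₀ + c • (θ : K)) ^ q ^ m = x₀ ^ q ^ m + c ^ q ^ m • (θ : K) ^ q ^ m
      rw [add_pow_expChar_pow, _root_.smul_pow]
    rw [this]
    exact h5
  · intro r hr
    by_contra hlt
    push Not at hlt
    have h6 : (x₀ + c • (θ : K)) ^ q ^ (m - 1) ∈ separableClosure k K := by
      have : q ^ (m - 1) = q ^ r * q ^ (m - 1 - r) := by
        rw [← pow_add]
        congr 1
        omega
      rw [this, pow_mul]
      exact pow_mem hr _
    rw [add_pow_expChar_pow] at h6
    have h7 : (c • (θ : K)) ^ q ^ (m - 1) ∈ separableClosure k K :=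
      pow_mem (IntermediateField.smul_mem _ θ.2) _
    apply hx₀
    have := sub_mem h6 h7
    rw [add_sub_cancel_right] at this
    exact this

open Groth.Agent.Lib.Helper32.FieldLawFrob Groth.Agent.Lib.Helper32.FieldLawSep
  Groth.Agent.Lib.Helper32.FieldLawMain in
theorem dvd_of_law {d : ℕ} (hL : ∀ x : K, x ^ q ^ m ∈ separableClosure k K)
    (F : PolLaw.MulLaw k K k d)
    (hmin : m = 0 ∨ ∃ x₀ : K, x₀ ^ q ^ (m - 1) ∉ separableClosure k K) :
    Module.finrank k (separableClosure k K) * q ^ m ∣ d := by
  obtain ⟨j, hj, hval⟩ := exists_j q m hL F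
  rcases Nat.eq_zero_or_pos m with hm0 | hmpos
  · subst hm0
    rw [pow_zero, mul_one, hj]
    exact Dvd.intro_left j rfl
  · rcases hmin with hm0 | ⟨x₀, hx₀⟩
    · omega
    · obtain ⟨x, hgen, hx⟩ := exists_good_x q m hL hmpos x₀ hx₀
      obtain ⟨χ, hmon, hdeg, hroot, hnorm⟩ := norm_X_sub (k := k)
        (psi q m (separableClosure k K) hL x)
      have hirr := irreducible_expand q m hL x hgen hx χ hmon hdeg hroot
      have hP := hval k[X] ((X : k[X]) ⊗ₜ[k] (1 : K) - 1 ⊗ₜ[k] x)
      have hPsi : PsiAdd q m (separableClosure k K) hL k[X]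
          ((X : k[X]) ⊗ₜ[k] (1 : K) - 1 ⊗ₜ[k] x) =
          Algebra.TensorProduct.map (expand k (q ^ m)) (AlgHom.id k (separableClosure k K))
            ((X : k[X]) ⊗ₜ[k] (1 : separableClosure k K) -
              1 ⊗ₜ[k] psi q m (separableClosure k K) hL x) := by
        rw [map_sub, map_sub, PsiAdd_tmul, PsiAdd_tmul, psi_one, one_pow,
          Algebra.TensorProduct.map_tmul, Algebra.TensorProduct.map_tmul, expand_X, map_one,
          map_one, AlgHom.id_apply]
      rw [hPsi, Groth.Agent.Lib.Helper47.NormBC.norm_map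
        (Module.finBasis k (separableClosure k K)), hnorm] at hP
      have hprime : Prime (expand k (q ^ m) χ) := hirr.prime
      have hP0 : val F k[X] ((X : k[X]) ⊗ₜ[k] (1 : K) - 1 ⊗ₜ[k] x) ≠ 0 := by
        intro h0
        rw [h0, zero_pow (qm_ne_zero k q m)] at hP
        exact pow_ne_zero _ hprime.ne_zero hP.symm
      have hfin : FiniteMultiplicity (expand k (q ^ m) χ)
          (val F k[X] ((X : k[X]) ⊗ₜ[k] (1 : K) - 1 ⊗ₜ[k] x)) :=
        FiniteMultiplicity.of_not_isUnit hprime.not_isUnit hP0
      have h1 := congrArg (multiplicity (expand k (q ^ m) χ)) hP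
      rw [hfin.multiplicity_pow hprime, multiplicity_pow_self_of_prime hprime] at h1
      rw [hj, ← h1]
      exact ⟨multiplicity (expand k (q ^ m) χ)
        (val F k[X] ((X : k[X]) ⊗ₜ[k] (1 : K) - 1 ⊗ₜ[k] x)), by ring⟩

end Deg

end Groth.Agent.Lib.Helper32.FieldLawNec
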