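import Groth.Agent.Lib.Helper32.PolLawEtale
import Groth.Agent.Lib.Helper47.NormBC
import Mathlib.RingTheory.TotallySplit
import Mathlib.RingTheory.Etale.Field
import Mathlib.FieldTheory.PrimitiveElement

set_option autoImplicit false
universe u
open scoped TensorProduct
open Polynomial

namespace Groth.Agent.Lib.Helper32.FieldLawSep

open Groth.Agent.Lib.Helper32.PolLawBasic Groth.Agent.Lib.Helper32.PolLawProd
  Groth.Agent.Lib.Helper32.PolLawIdem Groth.Agent.Lib.Helper32.PolLawBC
  Groth.Agent.Lib.Helper32.PolLawSplit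

variable {k : Type u} [Field k] {L : Type u} [Field L] [Algebra k L] {d : ℕ}
  {Ω : Type u} [Field Ω] [Algebra k Ω] {n : ℕ} (E : Ω ⊗[k] L ≃ₐ[Ω] (Fin n → Ω))

section Coord

variable (R : Type u) [CommRing R] [Algebra Ω R] [Algebra k R] [IsScalarTower k Ω R]

noncomputable def ER : R ⊗[k] L ≃ₐ[R] (Fin n → R) :=
  (Algebra.TensorProduct.cancelBaseChange k Ω R R L).symm.trans
    ((Algebra.TensorProduct.congr AlgEquiv.refl E).trans
      (Algebra.TensorProduct.piScalarRight Ω R R (Fin n)))

theorem ER_cancel_tmul (r : R) (b' : Ω ⊗[k] L) (i : Fin n) :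
    ER E R (Algebra.TensorProduct.cancelBaseChange k Ω R R L (r ⊗ₜ[Ω] b')) i = E b' i • r := by
  rw [ER, AlgEquiv.trans_apply, AlgEquiv.symm_apply_apply, AlgEquiv.trans_apply,
    Algebra.TensorProduct.congr_apply, Algebra.TensorProduct.map_tmul]
  rfl

theorem ER_tmul (r : R) (x : L) (i : Fin n) :
    ER E R (r ⊗ₜ[k] x) i = E ((1 : Ω) ⊗ₜ[k] x) i • r := by
  have h := ER_cancel_tmul E R r ((1 : Ω) ⊗ₜ[k] x) i
  rw [Algebra.TensorProduct.cancelBaseChange_tmul, one_smul] at h
  exact h

theorem eq_sum_ER (w : R ⊗[Ω] (Ω ⊗[k] L)) :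
    w = ∑ i, (ER E R (Algebra.TensorProduct.cancelBaseChange k Ω R R L w) i) ⊗ₜ[Ω] eps E i := by
  induction w using TensorProduct.induction_on with
  | zero => simp
  | add x y hx hy =>
    conv_lhs => rw [hx, hy]
    rw [← Finset.sum_add_distrib]
    refine Finset.sum_congr rfl fun i _ => ?_
    rw [map_add, map_add, Pi.add_apply, TensorProduct.add_tmul]
  | tmul r b' =>
    simp only [ER_cancel_tmul]
    conv_lhs => rw [eq_sum_eps E b', TensorProduct.tmul_sum]
    refine Finset.sum_congr rfl fun i _ => ?_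
    rw [TensorProduct.tmul_smul, TensorProduct.smul_tmul']

end Coord

section Val

variable (G : PolLaw.MulLaw k L k d)

noncomputable def val (S : Type u) [CommRing S] [Algebra k S] (z : S ⊗[k] L) : S :=
  Algebra.TensorProduct.rid k S S (G.law.toFun' S z)

theorem val_map {S S' : Type u} [CommRing S] [Algebra k S] [CommRing S'] [Algebra k S']
    (φ : S →ₐ[k] S') (z : S ⊗[k] L) :
    val G S' (Algebra.TensorProduct.map φ (AlgHom.id k L) z) = φ (val G S z) := by
  rw [val, val, compat, rid_map_gen]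

variable (kk : Fin n → ℕ) (hk : ∀ i, pe (eps E i) (bc Ω G) = X ^ kk i)

include hk

theorem val_eq_prod (R : Type u) [CommRing R] [Algebra Ω R] [Algebra k R] [IsScalarTower k Ω R]
    (z : R ⊗[k] L) : val G R z = ∏ i, (ER E R z i) ^ kk i := by
  obtain ⟨w, rfl⟩ := (Algebra.TensorProduct.cancelBaseChange k Ω R R L).surjective z
  have h := G_sum (bc Ω G) (eps E) (eps_idem E) (eps_orth E) (eps_sum E) kk hk R
    (fun i => ER E R (Algebra.TensorProduct.cancelBaseChange k Ω R R L w) i)
  rw [← eq_sum_ER, bc_toFun'] at h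
  have hc : Algebra.TensorProduct.cancelBaseChange k Ω Ω R L w =
      Algebra.TensorProduct.cancelBaseChange k Ω R R L w := rfl
  rw [hc] at h
  have h2 := congrArg (Algebra.TensorProduct.rid Ω R R) h
  rw [AlgEquiv.apply_symm_apply] at h2
  rw [val, h2, Algebra.TensorProduct.one_def, TensorProduct.smul_tmul',
    Algebra.TensorProduct.rid_tmul, one_smul, smul_eq_mul, mul_one]

end Val

section Poly

theorem rootMult_prod {Ω : Type*} [Field Ω] {n : ℕ} (ρ : Fin n → Ω) (hρ : Function.Injective ρ)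
    (kk : Fin n → ℕ) (i : Fin n) :
    rootMultiplicity (ρ i) (∏ l, (X - C (ρ l)) ^ kk l) = kk i := by
  classical
  have hne : (∏ l, (X - C (ρ l)) ^ kk l) ≠ (0 : Polynomial Ω) :=
    Finset.prod_ne_zero_iff.mpr fun l _ => pow_ne_zero _ (X_sub_C_ne_zero _)
  rw [← Finset.mul_prod_erase Finset.univ _ (Finset.mem_univ i)] at hne ⊢
  rw [rootMultiplicity_mul hne, rootMultiplicity_X_sub_C_pow, rootMultiplicity_eq_zero, add_zero]
  rw [IsRoot, eval_prod]
  refine Finset.prod_ne_zero_iff.mpr fun l hl => ?_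
  rw [eval_pow, eval_sub, eval_X, eval_C]
  refine pow_ne_zero _ (sub_ne_zero.mpr fun h => ?_)
  exact (Finset.ne_of_mem_erase hl) (hρ h).symm

theorem exps_eq {k Ω : Type*} [Field k] [Field Ω] [Algebra k Ω] (μ P : k[X]) (hμ : Irreducible μ)
    (hsep : μ.Separable) {n : ℕ} (ρ : Fin n → Ω) (hρ : Function.Injective ρ)
    (hroot : ∀ i, aeval (ρ i) μ = 0) (kk : Fin n → ℕ)
    (hP : P.map (algebraMap k Ω) = ∏ i, (X - C (ρ i)) ^ kk i) :
    ∃ j, ∀ i, kk i = j := by
  classical
  have hPm : P.map (algebraMap k Ω) ≠ 0 := by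
    rw [hP]
    exact Finset.prod_ne_zero_iff.mpr fun l _ => pow_ne_zero _ (X_sub_C_ne_zero _)
  have hP0 : P ≠ 0 := fun h => hPm (by rw [h, Polynomial.map_zero])
  have hfin : FiniteMultiplicity μ P := FiniteMultiplicity.of_not_isUnit hμ.not_isUnit hP0
  obtain ⟨R, hR, hnd⟩ := hfin.exists_eq_pow_mul_and_not_dvd
  refine ⟨multiplicity μ P, fun i => ?_⟩
  have hcop : IsCoprime μ R := (hμ.coprime_iff_not_dvd).mpr hnd
  have hRi : ¬ IsRoot (R.map (algebraMap k Ω)) (ρ i) := by
    intro hr
    obtain ⟨a, b, hab⟩ := hcop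
    have h1 := congrArg (fun p => aeval (ρ i) p) hab
    simp only [map_add, map_mul, hroot i, mul_zero, zero_add, map_one] at h1
    rw [IsRoot, eval_map_algebraMap] at hr
    rw [hr, mul_zero] at h1
    exact zero_ne_one h1
  have hμi : rootMultiplicity (ρ i) (μ.map (algebraMap k Ω)) = 1 := by
    rw [← count_roots]
    apply le_antisymm
    · exact count_roots_le_one (hsep.map) _
    · rw [Multiset.one_le_count_iff_mem, mem_roots (Polynomial.map_ne_zero hμ.ne_zero), IsRoot,
        eval_map_algebraMap]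
      exact hroot i
  have h2 := rootMult_prod ρ hρ kk i
  rw [← hP] at h2
  rw [← h2]
  conv_lhs => rw [hR]
  rw [Polynomial.map_mul, Polynomial.map_pow]
  have hne : (μ.map (algebraMap k Ω)) ^ multiplicity μ P * R.map (algebraMap k Ω) ≠ 0 := by
    rw [← Polynomial.map_pow, ← Polynomial.map_mul, ← hR]
    exact hPm
  rw [rootMultiplicity_mul hne, rootMultiplicity_eq_zero hRi, add_zero, ← count_roots, roots_pow,
    Multiset.count_nsmul, count_roots, hμi, mul_one]

end Poly

section Main

variable (G : PolLaw.MulLaw k L k d)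

noncomputable def sig (i : Fin n) : L →ₐ[k] Ω :=
  (((Pi.evalAlgHom Ω (fun _ : Fin n => Ω) i).comp (E : Ω ⊗[k] L →ₐ[Ω] (Fin n → Ω))).restrictScalars
    k).comp Algebra.TensorProduct.includeRight

theorem sig_apply (i : Fin n) (x : L) : sig E i x = E ((1 : Ω) ⊗ₜ[k] x) i := rfl

theorem E_apply_eq (i : Fin n) (b' : Ω ⊗[k] L) :
    E b' i = Algebra.TensorProduct.lift (Algebra.ofId Ω Ω) (sig E i)
      (fun _ _ => Commute.all _ _) b' := by
  induction b' using TensorProduct.induction_on with
  | zero => simp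
  | add x y hx hy => rw [map_add, map_add, Pi.add_apply, hx, hy]
  | tmul ω x =>
    rw [Algebra.TensorProduct.lift_tmul, sig_apply, Algebra.ofId_apply, Algebra.algebraMap_self,
      RingHom.id_apply]
    have : ω ⊗ₜ[k] x = ω • ((1 : Ω) ⊗ₜ[k] x) := by
      rw [TensorProduct.smul_tmul', smul_eq_mul, mul_one]
    rw [this, map_smul, Pi.smul_apply, smul_eq_mul]

theorem sig_injective : Function.Injective (sig E) := by
  classical
  intro i j hij
  by_contra hne
  have h1 := E_apply_eq E i (E.symm (Pi.single i 1))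
  have h2 := E_apply_eq E j (E.symm (Pi.single i 1))
  rw [hij, ← h2, AlgEquiv.apply_symm_apply] at h1
  rw [Pi.single_eq_same, Pi.single_eq_of_ne (fun h => hne h.symm)] at h1
  exact one_ne_zero h1

end Main

section SepMain

theorem sep_main [FiniteDimensional k L] [Algebra.IsSeparable k L] (G : PolLaw.MulLaw k L k d) :
    ∃ j, d = j * Module.finrank k L ∧
      ∀ (S : Type u) [CommRing S] [Algebra k S] (z : S ⊗[k] L),
        val G S z = (Algebra.norm S z) ^ j := by
  classical
  let Ω := AlgebraicClosure k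
  have : Algebra.FormallyEtale k L := Algebra.FormallyEtale.of_isSeparable k L
  have : Algebra.IsFiniteSplit Ω (Ω ⊗[k] L) := inferInstance
  obtain ⟨n, ⟨E⟩⟩ := Algebra.IsFiniteSplit.nonempty_algEquiv_fun Ω (Ω ⊗[k] L)
  have hn : n = Module.finrank k L := by
    have h1 := E.toLinearEquiv.finrank_eq
    rw [Module.finrank_baseChange, Module.finrank_fin_fun] at h1
    exact h1.symm
  have hA : ∀ a : Ω, IsIdempotentElem a → a = 0 ∨ a = 1 := fun a ha =>
    IsIdempotentElem.iff_eq_zero_or_one.mp ha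
  choose kk hk using fun i => exists_pe_eq (eps E i) (bc Ω G) hA (eps_idem E i)
  let pb := Field.powerBasisOfFiniteOfSeparable k L
  have hμ : Irreducible (minpoly k pb.gen) := minpoly.irreducible (Algebra.IsIntegral.isIntegral _)
  have hsep : (minpoly k pb.gen).Separable := Algebra.IsSeparable.isSeparable k pb.gen
  let ρ : Fin n → Ω := fun i => sig E i pb.gen
  have hρ : Function.Injective ρ := by
    intro i j hij
    exact sig_injective E (pb.algHom_ext hij)
  have hroot : ∀ i, aeval (ρ i) (minpoly k pb.gen) = 0 := by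
    intro i
    show aeval (sig E i pb.gen) (minpoly k pb.gen) = 0
    rw [aeval_algHom_apply, minpoly.aeval, map_zero]
  let P : k[X] := val G k[X] ((X : k[X]) ⊗ₜ[k] (1 : L) - 1 ⊗ₜ[k] pb.gen)
  have hP : P.map (algebraMap k Ω) = ∏ i, (X - C (ρ i)) ^ kk i := by
    have h1 := val_map G (Polynomial.mapAlg k Ω) ((X : k[X]) ⊗ₜ[k] (1 : L) - 1 ⊗ₜ[k] pb.gen)
    rw [val_eq_prod E G kk hk] at h1
    have h2 : (Polynomial.mapAlg k Ω) P = P.map (algebraMap k Ω) := by
      rw [Polynomial.mapAlg_eq_map]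
    rw [← h2, ← h1]
    refine Finset.prod_congr rfl fun i _ => ?_
    congr 1
    rw [map_sub, map_sub, Pi.sub_apply, Algebra.TensorProduct.map_tmul,
      Algebra.TensorProduct.map_tmul, ER_tmul, ER_tmul, map_one,
      ← Algebra.TensorProduct.one_def, map_one, Pi.one_apply, one_smul, Polynomial.mapAlg_eq_map,
      Polynomial.map_X, Algebra.smul_def, map_one (Polynomial.mapAlg k Ω), mul_one,
      AlgHom.id_apply]
    rfl
  obtain ⟨j, hj⟩ := exps_eq (minpoly k pb.gen) P hμ hsep ρ hρ hroot kk hP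
  have hdeg : ∑ i, kk i = d := by
    have h1 := pe_sum' (bc Ω G) (eps E) (eps_idem E) (eps_orth E) Finset.univ
    rw [eps_sum, pe_one] at h1
    simp only [hk, Finset.prod_pow_eq_pow_sum] at h1
    have := congrArg natDegree h1
    rw [natDegree_X_pow, natDegree_X_pow] at this
    exact this.symm
  refine ⟨j, ?_, ?_⟩
  · rw [← hdeg, ← hn]
    simp only [hj, Finset.sum_const, Finset.card_univ, Fintype.card_fin, smul_eq_mul]
    ring
  · intro S _ _ z
    have hinj : Function.Injective (Algebra.TensorProduct.includeRight : S →ₐ[k] Ω ⊗[k] S) :=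
      Algebra.TensorProduct.includeRight_injective (algebraMap k Ω).injective
    apply hinj
    rw [← val_map, val_eq_prod E G kk hk, map_pow,
      ← Groth.Agent.Lib.Helper47.NormBC.norm_map pb.basis,
      ← Algebra.norm_eq_of_algEquiv (ER E (Ω ⊗[k] S)), norm_pi]
    simp only [hj, Finset.prod_pow]

end SepMain

end Groth.Agent.Lib.Helper32.FieldLawSep
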