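import Mathlib
import Groth.Prelude.Def_Red2
import Groth.Prelude.Def_Pi1
import Groth.Agent.Lib.Lead.GaTorsor
import Groth.Agent.Lib.Helper50.CurveReg
universe u
open CategoryTheory CategoryTheory.Limits MonoidalCategory CartesianMonoidalCategory MonObj AlgebraicGeometry Polynomial

namespace Groth.Agent.Lib.Helper32.FixPtT1

theorem height_eq_one_of_isMaximal (k : Type u) [Field k] (m : Ideal k[X]) [hm : m.IsMaximal] :
    m.height = 1 := by
  have hne : m ≠ ⊥ := by
    intro h
    have : IsField k[X] := by
      rw [Ring.isField_iff_maximal_bot]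
      exact h ▸ hm
    exact Polynomial.not_isField k this
  apply le_antisymm
  · have h1 : ringKrullDim k[X] ≤ 1 := by
      have : Ring.KrullDimLE 1 k[X] := inferInstance
      exact Ring.krullDimLE_iff.mp this
    have h2 := Ideal.height_le_ringKrullDim_of_ne_top (I := m) hm.ne_top
    have h3 : ((m.height : WithBot ℕ∞)) ≤ 1 := h2.trans h1
    exact_mod_cast h3
  · rw [Order.one_le_iff_ne_zero, Ne, Ideal.height_eq_zero_iff]
    intro h0
    rw [IsDomain.minimalPrimes_eq_singleton_bot] at h0
    exact hne h0

theorem curve_facts (k : Type u) [Field k] :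
    (∀ x : Spec (CommRingCat.of k[X]), IsClosed ({x} : Set (Spec (CommRingCat.of k[X]))) →
      ringKrullDim ((Spec (CommRingCat.of k[X])).presheaf.stalk x) = 1) ∧
    Pi1.IsNormalScheme (Spec (CommRingCat.of k[X])) := by
  constructor
  · intro x hx
    let _ : Algebra k[X] ((Spec (CommRingCat.of k[X])).presheaf.stalk x) :=
      StructureSheaf.stalkAlgebra (CommRingCat.of k[X]) x
    have hp : (PrimeSpectrum.asIdeal (R := k[X]) x).IsPrime := PrimeSpectrum.isPrime x
    have : IsLocalization.AtPrime ((Spec (CommRingCat.of k[X])).presheaf.stalk x)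
        (PrimeSpectrum.asIdeal (R := k[X]) x) :=
      StructureSheaf.IsLocalization.to_stalk (CommRingCat.of k[X]) x
    rw [IsLocalization.AtPrime.ringKrullDim_eq_height (PrimeSpectrum.asIdeal (R := k[X]) x)
      ((Spec (CommRingCat.of k[X])).presheaf.stalk x)]
    have hmax : (PrimeSpectrum.asIdeal (R := k[X]) x).IsMaximal :=
      (PrimeSpectrum.isClosed_singleton_iff_isMaximal x).mp hx
    have := height_eq_one_of_isMaximal k (PrimeSpectrum.asIdeal (R := k[X]) x)
    rw [this]; rfl
  · intro x
    let _ : Algebra k[X] ((Spec (CommRingCat.of k[X])).presheaf.stalk x) :=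
      StructureSheaf.stalkAlgebra (CommRingCat.of k[X]) x
    have hp : (PrimeSpectrum.asIdeal (R := k[X]) x).IsPrime := PrimeSpectrum.isPrime x
    have : IsLocalization.AtPrime ((Spec (CommRingCat.of k[X])).presheaf.stalk x)
        (PrimeSpectrum.asIdeal (R := k[X]) x) :=
      StructureSheaf.IsLocalization.to_stalk (CommRingCat.of k[X]) x
    have hle : (PrimeSpectrum.asIdeal (R := k[X]) x).primeCompl ≤ nonZeroDivisors k[X] :=
      (PrimeSpectrum.asIdeal (R := k[X]) x).primeCompl_le_nonZeroDivisors
    have hdom : IsDomain ((Spec (CommRingCat.of k[X])).presheaf.stalk x) :=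
      IsLocalization.isDomain_of_le_nonZeroDivisors _ hle
    refine ⟨hdom, ?_⟩
    exact isIntegrallyClosed_of_isLocalization
        ((Spec (CommRingCat.of k[X])).presheaf.stalk x)
        (PrimeSpectrum.asIdeal (R := k[X]) x).primeCompl hle

end Groth.Agent.Lib.Helper32.FixPtT1
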