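import Mathlib.RingTheory.Flat.Basic
import Mathlib.LinearAlgebra.TensorProduct.RightExactness

set_option autoImplicit false
universe u

namespace Groth.Agent.Lib.Helper32

open TensorProduct

section
variable {R : Type u} [CommRing R] (J : Ideal R)

noncomputable def mu (X : Type u) [AddCommGroup X] [Module R X] : J ⊗[R] X →ₗ[R] X :=
  TensorProduct.lift ((LinearMap.lsmul R X).comp J.subtype)

lemma mu_tmul (X : Type u) [AddCommGroup X] [Module R X] (a : J) (x : X) :
    mu J X (a ⊗ₜ x) = (a : R) • x := by
  simp [mu]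

lemma mu_nat {X Y : Type u} [AddCommGroup X] [Module R X] [AddCommGroup Y] [Module R Y]
    (f : X →ₗ[R] Y) (t : J ⊗[R] X) : f (mu J X t) = mu J Y (LinearMap.lTensor J f t) := by
  induction t using TensorProduct.induction_on with
  | zero => simp
  | tmul a x => simp [mu_tmul]
  | add s t hs ht => simp [hs, ht]

lemma mu_injective (N : Type u) [AddCommGroup N] [Module R N] [Module.Flat R N] :
    Function.Injective (mu J N) := by
  have : mu J N = (TensorProduct.lid R N).toLinearMap ∘ₗ (LinearMap.rTensor N J.subtype) := by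
    apply TensorProduct.ext'
    intro a x
    simp [mu_tmul]
  rw [this]
  exact (TensorProduct.lid R N).injective.comp
    (Module.Flat.rTensor_preserves_injective_linearMap _ Subtype.val_injective)

lemma mem_range_mu (X : Type u) [AddCommGroup X] [Module R X] (x : X)
    (hx : x ∈ (J • ⊤ : Submodule R X)) : ∃ t, mu J X t = x := by
  induction hx using Submodule.smul_induction_on' with
  | smul a ha m _ => exact ⟨⟨a, ha⟩ ⊗ₜ m, mu_tmul ..⟩
  | add x _ y _ hx hy =>
    obtain ⟨s, rfl⟩ := hx
    obtain ⟨t, rfl⟩ := hy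
    exact ⟨s + t, map_add ..⟩

lemma mu_mem (X : Type u) [AddCommGroup X] [Module R X] (t : J ⊗[R] X) :
    mu J X t ∈ (J • ⊤ : Submodule R X) := by
  induction t using TensorProduct.induction_on with
  | zero => simp
  | tmul a x => rw [mu_tmul]; exact Submodule.smul_mem_smul a.2 trivial
  | add s t hs ht => rw [map_add]; exact add_mem hs ht

theorem flat_inf_le {K M N : Type u} [AddCommGroup K] [Module R K] [AddCommGroup M] [Module R M]
    [AddCommGroup N] [Module R N] [Module.Flat R N]
    (i : K →ₗ[R] M) (g : M →ₗ[R] N) (hg : Function.Surjective g) (hig : Function.Exact i g) :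
    (J • ⊤ : Submodule R M) ⊓ LinearMap.range i ≤ (J • ⊤ : Submodule R K).map i := by
  rintro x ⟨hxJ, k, rfl⟩
  obtain ⟨t, ht⟩ := mem_range_mu J M _ hxJ
  have h0 : LinearMap.lTensor J g t = 0 := by
    apply mu_injective J N
    rw [← mu_nat, ht, map_zero]
    exact hig.apply_apply_eq_zero k
  have hex : Function.Exact (LinearMap.lTensor J i) (LinearMap.lTensor J g) :=
    lTensor_exact J hig hg
  obtain ⟨s, hs⟩ := (hex t).mp h0
  refine ⟨mu J K s, mu_mem J K s, ?_⟩
  rw [mu_nat, hs, ht]

end

end Groth.Agent.Lib.Helper32
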