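import Groth.Agent.Lib.Helper32.PolLawBCC

set_option autoImplicit false
universe u
open scoped TensorProduct

namespace Groth.Agent.Lib.Helper32.GammaBC

open Groth.Agent.Lib.Helper32.PolLawBasic Groth.Agent.Lib.Helper32.PolLawBC
  Groth.Agent.Lib.Helper32.PolLawProd

variable {A : Type u} [CommRing A] {B : Type u} [CommRing B] [Algebra A B]
  {C : Type u} [CommRing C] [Algebra A C]
  (A' : Type u) [CommRing A'] [Algebra A A']

section Def

variable (R : Type u) [CommSemiring R] [Algebra A' R] (F : B →ₚₗ[A] C)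

noncomputable def bcFunG : R ⊗[A'] (A' ⊗[A] B) → R ⊗[A'] (A' ⊗[A] C) :=
  letI := algA (A := A) A' R
  haveI := towerA (A := A) A' R
  fun x => (Algebra.TensorProduct.cancelBaseChange A A' A' R C).symm
    (F.toFun' R (Algebra.TensorProduct.cancelBaseChange A A' A' R B x))

theorem bcFunG_eq (R : Type u) [CommSemiring R] [Algebra A' R] [inst : Algebra A R]
    [tower : IsScalarTower A A' R] (x : R ⊗[A'] (A' ⊗[A] B)) :
    bcFunG A' R F x = (Algebra.TensorProduct.cancelBaseChange A A' A' R C).symm
      (F.toFun' R (Algebra.TensorProduct.cancelBaseChange A A' A' R B x)) := by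
  have h : inst = algA (A := A) A' R :=
    Algebra.algebra_ext _ _ (fun a => IsScalarTower.algebraMap_apply A A' R a)
  subst h
  rfl

theorem cancel_symm_map {R R' : Type u} [CommSemiring R] [Algebra A' R] [CommSemiring R']
    [Algebra A' R'] [Algebra A R] [IsScalarTower A A' R] [Algebra A R'] [IsScalarTower A A' R']
    (φ : R →ₐ[A'] R') (z : R ⊗[A] C) :
    (Algebra.TensorProduct.cancelBaseChange A A' A' R' C).symm
      (Algebra.TensorProduct.map (φ.restrictScalars A) (AlgHom.id A C) z) =
    Algebra.TensorProduct.map φ (AlgHom.id A' (A' ⊗[A] C))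
      ((Algebra.TensorProduct.cancelBaseChange A A' A' R C).symm z) := by
  rw [AlgEquiv.symm_apply_eq, cancel_map, AlgEquiv.apply_symm_apply]

noncomputable def bcLawG : (A' ⊗[A] B) →ₚₗ[A'] (A' ⊗[A] C) where
  toFun' R _ _ := bcFunG A' R F
  isCompat' {R} _ _ {R'} _ _ φ := by
    let _ := algA (A := A) A' R
    have := towerA (A := A) A' R
    let _ := algA (A := A) A' R'
    have := towerA (A := A) A' R'
    funext x
    simp only [Function.comp_apply]
    rw [rTensor_eq_map, rTensor_eq_map, bcFunG_eq, bcFunG_eq, cancel_map,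
      compat F (φ.restrictScalars A), cancel_symm_map]

theorem bcLawG_toFun' (R : Type u) [CommSemiring R] [Algebra A' R] [Algebra A R]
    [IsScalarTower A A' R] (x : R ⊗[A'] (A' ⊗[A] B)) :
    (bcLawG A' F).toFun' R x = (Algebra.TensorProduct.cancelBaseChange A A' A' R C).symm
      (F.toFun' R (Algebra.TensorProduct.cancelBaseChange A A' A' R B x)) :=
  bcFunG_eq A' F R x

end Def

section Mul

variable {d : ℕ} (F : PolLaw.MulLaw A B C d)

theorem cancel_symm_smul (R : Type u) [CommSemiring R] [Algebra A' R] [Algebra A R]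
    [IsScalarTower A A' R] (s : R) (z : R ⊗[A] C) :
    (Algebra.TensorProduct.cancelBaseChange A A' A' R C).symm (s • z) =
      s • (Algebra.TensorProduct.cancelBaseChange A A' A' R C).symm z := by
  rw [AlgEquiv.symm_apply_eq, cancel_smul, AlgEquiv.apply_symm_apply]

noncomputable def bcG : PolLaw.MulLaw A' (A' ⊗[A] B) (A' ⊗[A] C) d where
  law := bcLawG A' F.law
  homog R _ _ s x := by
    let _ := algA (A := A) A' R
    have := towerA (A := A) A' R
    rw [bcLawG_toFun', bcLawG_toFun', cancel_smul, F.homog, cancel_symm_smul]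
  mult R _ _ := by
    let _ := algA (A := A) A' R
    have := towerA (A := A) A' R
    refine ⟨?_, fun x y => ?_⟩
    · rw [bcLawG_toFun', map_one, (F.mult R).1, map_one]
    · rw [bcLawG_toFun', bcLawG_toFun', bcLawG_toFun', map_mul, (F.mult R).2, map_mul]

theorem bcG_toFun' (R : Type u) [CommSemiring R] [Algebra A' R] [Algebra A R]
    [IsScalarTower A A' R] (x : R ⊗[A'] (A' ⊗[A] B)) :
    (bcG A' F).law.toFun' R x = (Algebra.TensorProduct.cancelBaseChange A A' A' R C).symm
      (F.law.toFun' R (Algebra.TensorProduct.cancelBaseChange A A' A' R B x)) :=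
  bcFunG_eq A' F.law R x

end Mul

variable (C' : Type u) [CommRing C'] [Algebra A' C'] [Algebra A C'] [IsScalarTower A A' C']

section Back

variable (S : Type u) [CommSemiring S] [Algebra A S]

noncomputable def back : (A' ⊗[A] S) ⊗[A'] C' ≃+* S ⊗[A] C' :=
  ((Algebra.TensorProduct.comm A' (A' ⊗[A] S) C').toRingEquiv.trans
    (Algebra.TensorProduct.cancelBaseChange A A' A' C' S).toRingEquiv).trans
      (Algebra.TensorProduct.comm A C' S).toRingEquiv

theorem back_tmul (a' : A') (s : S) (c' : C') :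
    back A' C' S ((a' ⊗ₜ[A] s) ⊗ₜ[A'] c') = s ⊗ₜ[A] (a' • c') := by
  simp [back]

theorem back_smul (s : S) (z : (A' ⊗[A] S) ⊗[A'] C') :
    back A' C' S (((1 : A') ⊗ₜ[A] s) • z) = s • back A' C' S z := by
  rw [Groth.Agent.Lib.Helper32.PolLawProd.smul_eq_tmul_mul,
    Groth.Agent.Lib.Helper32.PolLawProd.smul_eq_tmul_mul, map_mul, back_tmul, one_smul]

variable {S}
variable {S' : Type u} [CommSemiring S'] [Algebra A S']

theorem back_map (φ : S →ₐ[A] S') (z : (A' ⊗[A] S) ⊗[A'] C') :
    back A' C' S' (Algebra.TensorProduct.map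
      (Algebra.TensorProduct.map (AlgHom.id A' A') φ) (AlgHom.id A' C') z) =
      Algebra.TensorProduct.map φ (AlgHom.id A C') (back A' C' S z) := by
  induction z using TensorProduct.induction_on with
  | zero => simp
  | add x y hx hy => simp only [map_add, hx, hy]
  | tmul w c' =>
    induction w using TensorProduct.induction_on with
    | zero => simp
    | add x y hx hy => simp only [TensorProduct.add_tmul, map_add, hx, hy]
    | tmul a' s => simp [back_tmul]

end Back

section Fwd

variable (S : Type u) [CommSemiring S] [Algebra A S]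

noncomputable def fwd : S ⊗[A] B →+* (A' ⊗[A] S) ⊗[A'] (A' ⊗[A] B) :=
  (Algebra.TensorProduct.cancelBaseChange A A' A' (A' ⊗[A] S) B).symm.toRingEquiv.toRingHom.comp
    (Algebra.TensorProduct.map (Algebra.TensorProduct.includeRight : S →ₐ[A] A' ⊗[A] S)
      (AlgHom.id A B)).toRingHom

theorem fwd_apply (y : S ⊗[A] B) :
    fwd (B := B) A' S y = (Algebra.TensorProduct.cancelBaseChange A A' A' (A' ⊗[A] S) B).symm
      (Algebra.TensorProduct.map (Algebra.TensorProduct.includeRight : S →ₐ[A] A' ⊗[A] S)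
        (AlgHom.id A B) y) := rfl

theorem fwd_tmul (s : S) (b : B) :
    fwd (B := B) A' S (s ⊗ₜ[A] b) = ((1 : A') ⊗ₜ[A] s) ⊗ₜ[A'] ((1 : A') ⊗ₜ[A] b) := by
  rw [fwd_apply, Algebra.TensorProduct.map_tmul, Algebra.TensorProduct.cancelBaseChange_symm_tmul]
  rfl

theorem fwd_smul (s : S) (y : S ⊗[A] B) :
    fwd (B := B) A' S (s • y) = ((1 : A') ⊗ₜ[A] s) • fwd A' S y := by
  rw [smul_eq_tmul_mul, smul_eq_tmul_mul, map_mul, fwd_tmul, Algebra.TensorProduct.one_def]

variable {S}
variable {S' : Type u} [CommSemiring S'] [Algebra A S']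

theorem fwd_map (φ : S →ₐ[A] S') (y : S ⊗[A] B) :
    fwd (B := B) A' S' (Algebra.TensorProduct.map φ (AlgHom.id A B) y) =
      Algebra.TensorProduct.map (Algebra.TensorProduct.map (AlgHom.id A' A') φ)
        (AlgHom.id A' (A' ⊗[A] B)) (fwd A' S y) := by
  induction y using TensorProduct.induction_on with
  | zero => simp
  | add x y hx hy => simp only [map_add, hx, hy]
  | tmul s b => simp [fwd_tmul]

end Fwd

section Res

variable (F' : (A' ⊗[A] B) →ₚₗ[A'] C')

noncomputable def resFun (S : Type u) [CommSemiring S] [Algebra A S] : S ⊗[A] B → S ⊗[A] C' :=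
  fun y => back A' C' S (F'.toFun' (A' ⊗[A] S) (fwd A' S y))

noncomputable def resLaw : B →ₚₗ[A] C' where
  toFun' S _ _ := resFun A' C' F' S
  isCompat' {S} _ _ {S'} _ _ φ := by
    funext y
    simp only [Function.comp_apply]
    rw [rTensor_eq_map, rTensor_eq_map, resFun, resFun, fwd_map, compat F', back_map]

theorem resLaw_toFun' (S : Type u) [CommSemiring S] [Algebra A S] (y : S ⊗[A] B) :
    (resLaw A' C' F').toFun' S y = back A' C' S (F'.toFun' (A' ⊗[A] S) (fwd A' S y)) := rfl

variable {d : ℕ} (G : PolLaw.MulLaw A' (A' ⊗[A] B) C' d)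

noncomputable def res : PolLaw.MulLaw A B C' d where
  law := resLaw A' C' G.law
  homog S _ _ s y := by
    rw [resLaw_toFun', resLaw_toFun', fwd_smul, G.homog, Algebra.TensorProduct.tmul_pow, one_pow, back_smul]
  mult S _ _ := by
    refine ⟨?_, fun x y => ?_⟩
    · rw [resLaw_toFun', map_one, (G.mult _).1, map_one]
    · rw [resLaw_toFun', resLaw_toFun', resLaw_toFun', map_mul, (G.mult _).2, map_mul]

theorem res_toFun' (S : Type u) [CommSemiring S] [Algebra A S] (y : S ⊗[A] B) :
    (res A' C' G).law.toFun' S y = back A' C' S (G.law.toFun' (A' ⊗[A] S) (fwd A' S y)) := rfl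

end Res

section Claims

variable (R : Type u) [CommSemiring R] [Algebra A' R] [Algebra A R] [IsScalarTower A A' R]

noncomputable def mR : A' ⊗[A] R →ₐ[A'] R :=
  Algebra.TensorProduct.lift (Algebra.ofId A' R) (AlgHom.id A R) (fun _ _ => Commute.all _ _)

theorem mR_tmul (a' : A') (r : R) : mR (A := A) A' R (a' ⊗ₜ[A] r) = algebraMap A' R a' * r := by
  simp [mR, Algebra.ofId_apply]

noncomputable def qR : R ⊗[A] C' →ₐ[A'] R ⊗[A'] C' :=
  Algebra.TensorProduct.mapOfCompatibleSMul A' A A' R C'

theorem qR_tmul (r : R) (c' : C') : qR A' C' R (r ⊗ₜ[A] c') = r ⊗ₜ[A'] c' := rfl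

theorem claim1 (y : R ⊗[A] B) :
    Algebra.TensorProduct.map (mR (A := A) A' R) (AlgHom.id A' (A' ⊗[A] B)) (fwd A' R y) =
      (Algebra.TensorProduct.cancelBaseChange A A' A' R B).symm y := by
  induction y using TensorProduct.induction_on with
  | zero => simp
  | add x y hx hy => simp only [map_add, hx, hy]
  | tmul r b =>
    rw [fwd_tmul, Algebra.TensorProduct.map_tmul, mR_tmul, map_one, one_mul,
      Algebra.TensorProduct.cancelBaseChange_symm_tmul]
    rfl

theorem claim2 (z : (A' ⊗[A] R) ⊗[A'] C') :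
    Algebra.TensorProduct.map (mR (A := A) A' R) (AlgHom.id A' C') z =
      qR A' C' R (back A' C' R z) := by
  induction z using TensorProduct.induction_on with
  | zero => simp
  | add x y hx hy => simp only [map_add, hx, hy]
  | tmul w c' =>
    induction w using TensorProduct.induction_on with
    | zero => simp
    | add x y hx hy => simp only [TensorProduct.add_tmul, map_add, hx, hy]
    | tmul a' r =>
      rw [Algebra.TensorProduct.map_tmul, mR_tmul, back_tmul, qR_tmul, AlgHom.id_apply,
        ← Algebra.smul_def, TensorProduct.smul_tmul]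

theorem claim3 (f₀ : C →ₐ[A] C') (f' : A' ⊗[A] C →ₐ[A'] C')
    (h : ∀ c, f' ((1 : A') ⊗ₜ[A] c) = f₀ c) (z : R ⊗[A] C) :
    qR A' C' R (f₀.toLinearMap.lTensor R z) =
      f'.toLinearMap.lTensor R ((Algebra.TensorProduct.cancelBaseChange A A' A' R C).symm z) := by
  induction z using TensorProduct.induction_on with
  | zero => simp
  | add x y hx hy => simp only [map_add, hx, hy]
  | tmul r c =>
    rw [LinearMap.lTensor_tmul, Algebra.TensorProduct.cancelBaseChange_symm_tmul,
      LinearMap.lTensor_tmul, qR_tmul]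
    congr 1
    exact (h c).symm

theorem claim4 (S : Type u) [CommSemiring S] [Algebra A S] (f₀ : C →ₐ[A] C')
    (f' : A' ⊗[A] C →ₐ[A'] C') (h : ∀ c, f' ((1 : A') ⊗ₜ[A] c) = f₀ c) (z : S ⊗[A] C) :
    back A' C' S (f'.toLinearMap.lTensor (A' ⊗[A] S) (fwd A' S z)) =
      f₀.toLinearMap.lTensor S z := by
  induction z using TensorProduct.induction_on with
  | zero => simp
  | add x y hx hy => simp only [map_add, hx, hy]
  | tmul s c =>
    rw [fwd_tmul, LinearMap.lTensor_tmul, LinearMap.lTensor_tmul, back_tmul, one_smul]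
    congr 1
    exact h c

theorem cancel_fwd (S : Type u) [CommSemiring S] [Algebra A S] (y : S ⊗[A] B) :
    Algebra.TensorProduct.cancelBaseChange A A' A' (A' ⊗[A] S) B (fwd A' S y) =
      Algebra.TensorProduct.map (Algebra.TensorProduct.includeRight : S →ₐ[A] A' ⊗[A] S)
        (AlgHom.id A B) y := by
  rw [fwd_apply, AlgEquiv.apply_symm_apply]

variable {d : ℕ} (γ : PolLaw.MulLaw A B C d)

theorem bcG_fwd (S : Type u) [CommSemiring S] [Algebra A S] (y : S ⊗[A] B) :
    (bcG A' γ).law.toFun' (A' ⊗[A] S) (fwd A' S y) = fwd A' S (γ.law.toFun' S y) := by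
  rw [bcG_toFun', cancel_fwd, compat, fwd_apply]

end Claims

section Main

variable {d : ℕ} (γ : PolLaw.MulLaw A B C d)

theorem isGammaD_bcG (hγ : PolLaw.IsGammaD γ) : PolLaw.IsGammaD (bcG A' γ) := by
  intro C' _ _ F'
  let _ : Algebra A C' := algA (A := A) A' C'
  have : IsScalarTower A A' C' := towerA (A := A) A' C'
  obtain ⟨f₀, hf₀, hf₀u⟩ := hγ C' (res A' C' F')
  let f' : A' ⊗[A] C →ₐ[A'] C' :=
    Algebra.TensorProduct.lift (Algebra.ofId A' C') f₀ (fun _ _ => Commute.all _ _)
  have hf' : ∀ c, f' ((1 : A') ⊗ₜ[A] c) = f₀ c := by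
    intro c
    simp [f']
  refine ⟨f', ?_, ?_⟩
  · apply PolynomialLaw.ext
    funext R _ _ x
    let _ : Algebra A R := algA (A := A) A' R
    have : IsScalarTower A A' R := towerA (A := A) A' R
    show f'.toLinearMap.lTensor R ((bcG A' γ).law.toFun' R x) = F'.law.toFun' R x
    have h1 : f₀.toLinearMap.lTensor R (γ.law.toFun' R
        (Algebra.TensorProduct.cancelBaseChange A A' A' R B x)) =
        (res A' C' F').law.toFun' R (Algebra.TensorProduct.cancelBaseChange A A' A' R B x) :=
      congrFun (congrArg (fun L => PolynomialLaw.toFun' L R) hf₀) _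
    rw [bcG_toFun', ← claim3 A' C' R f₀ f' hf', h1, res_toFun', ← claim2, ← compat F'.law, claim1,
      AlgEquiv.symm_apply_apply]
  · intro g hg
    let g₀ : C →ₐ[A] C' := (g.restrictScalars A).comp Algebra.TensorProduct.includeRight
    have hg₀ : ∀ c, g ((1 : A') ⊗ₜ[A] c) = g₀ c := fun c => rfl
    have h2 : g₀ = f₀ := by
      apply hf₀u
      apply PolynomialLaw.ext
      funext S _ _ y
      show g₀.toLinearMap.lTensor S (γ.law.toFun' S y) = (res A' C' F').law.toFun' S y
      have h3 : g.toLinearMap.lTensor (A' ⊗[A] S) ((bcG A' γ).law.toFun' (A' ⊗[A] S)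
          (fwd A' S y)) = F'.law.toFun' (A' ⊗[A] S) (fwd A' S y) :=
        congrFun (congrArg (fun L => PolynomialLaw.toFun' L (A' ⊗[A] S)) hg) _
      rw [res_toFun', ← h3, bcG_fwd, claim4 A' C' S g₀ g hg₀]
    apply AlgHom.ext
    intro z
    induction z using TensorProduct.induction_on with
    | zero => simp
    | add x y hx hy => simp only [map_add, hx, hy]
    | tmul a' c =>
      have e : a' ⊗ₜ[A] c = a' • ((1 : A') ⊗ₜ[A] c) := by
        rw [TensorProduct.smul_tmul', smul_eq_mul, mul_one]
      rw [e, map_smul, map_smul, hg₀, hf', h2]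

end Main

end Groth.Agent.Lib.Helper32.GammaBC
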