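import Groth.Agent.Lib.Helper32.PolLawGammaFT
import Groth.Prelude.Def_SymTen

set_option autoImplicit false
universe u
open scoped TensorProduct

namespace Groth.Agent.Lib.Helper32.PolLawPolar

open Groth.Agent.Lib.Helper32.PolLawBasic Groth.Agent.Lib.Helper32.PolLawBC
  Groth.Agent.Lib.Helper32.PolLawFactor
  Groth.Agent.Lib.Helper32.PolLawFactorC Groth.Agent.Lib.Helper32.PolLawGammaGen
  Groth.Agent.Lib.Helper32.PolLawGammaFT MvPolynomial

variable {A : Type u} [CommRing A] {B : Type u} [CommRing B] [Algebra A B]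
  {C : Type u} [CommRing C] [Algebra A C] {d : ℕ} (γ : PolLaw.MulLaw A B C d)

section Comb

noncomputable def oneD (d : ℕ) : Fin d →₀ ℕ := ∑ k : Fin d, Finsupp.single k 1

theorem sum_single_eq_oneD_iff (c : Fin d → Fin d) :
    (∑ k : Fin d, Finsupp.single (c k) 1 : Fin d →₀ ℕ) = oneD d ↔ Function.Bijective c := by
  classical
  constructor
  · intro h
    have hsurj : Function.Surjective c := by
      intro j
      by_contra hj
      push Not at hj
      have h1 := DFunLike.congr_fun h j
      rw [oneD, Finsupp.finsetSum_apply, Finsupp.finsetSum_apply] at h1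
      rw [Finset.sum_eq_zero (fun k _ => Finsupp.single_eq_of_ne (hj k).symm)] at h1
      rw [Finset.sum_eq_single j (fun k _ hk => Finsupp.single_eq_of_ne hk.symm)
        (fun hj' => absurd (Finset.mem_univ j) hj')] at h1
      simp at h1
    exact ⟨Finite.injective_iff_surjective.mpr hsurj, hsurj⟩
  · intro hc
    exact Equiv.sum_comp (Equiv.ofBijective c hc) (fun k => (Finsupp.single k 1 : Fin d →₀ ℕ))

theorem coeff_prod_X (c : Fin d → Fin d) :
    coeff (oneD d) (∏ k : Fin d, (X (c k) : MvPolynomial (Fin d) A)) =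
      if Function.Bijective c then 1 else 0 := by
  classical
  have : (∏ k : Fin d, (X (c k) : MvPolynomial (Fin d) A)) =
      monomial (∑ k : Fin d, Finsupp.single (c k) 1) 1 := by
    rw [monomial_sum_one]
    rfl
  rw [this, coeff_monomial]
  simp only [sum_single_eq_oneD_iff]

theorem sum_bijective {M : Type*} [AddCommMonoid M] (g : (Fin d → Fin d) → M) :
    (∑ c : Fin d → Fin d, if Function.Bijective c then g c else 0) =
      ∑ σ : Equiv.Perm (Fin d), g σ := by
  classical
  rw [← Finset.sum_filter]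
  symm
  refine Finset.sum_bij (fun σ _ => (σ : Fin d → Fin d)) ?_ ?_ ?_ ?_
  · intro σ _
    rw [Finset.mem_filter]
    exact ⟨Finset.mem_univ _, σ.bijective⟩
  · intro σ _ σ' _ h
    exact DFunLike.coe_injective h
  · intro c hc
    rw [Finset.mem_filter] at hc
    exact ⟨Equiv.ofBijective c hc.2, Finset.mem_univ _, rfl⟩
  · intro σ _
    rfl

end Comb

section CfC

theorem cfC_lTensor {C' : Type u} [CommRing C'] [Algebra A C'] {ι : Type*} (g : C →ₗ[A] C')
    (ν : ι →₀ ℕ) (Φ : MvPolynomial ι A ⊗[A] C) :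
    cfC ν (g.lTensor (MvPolynomial ι A) Φ) = g (cfC ν Φ) := by
  induction Φ using TensorProduct.induction_on with
  | zero => simp
  | add x y hx hy => simp only [map_add, hx, hy]
  | tmul p c => rw [LinearMap.lTensor_tmul, cfC_tmul, cfC_tmul, map_smul]

end CfC

section Model

abbrev PB (A B : Type u) [CommRing A] [CommRing B] [Algebra A B] : Type u := MvPolynomial B A

abbrev PdB (A B : Type u) [CommRing A] [CommRing B] [Algebra A B] (d : ℕ) : Type u :=
  MvPolynomial (Fin d × B) A

noncomputable def rho (k : Fin d) : MvPolynomial B A →ₐ[A] MvPolynomial (Fin d × B) A :=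
  rename (Prod.mk k)

noncomputable def hh : MvPolynomial (Fin d × B) A →ₗ[A] C := hLinC (Gp γ).law d

theorem Gp_sum {n : ℕ} (S : Type u) [CommSemiring S] [Algebra A S] (s : Fin n → S)
    (f : Fin n → MvPolynomial B A) :
    (Gp γ).law.toFun' S (∑ j, s j ⊗ₜ[A] f j) =
      ∑ c : Fin d → Fin n, (∏ k, s (c k)) ⊗ₜ[A] hh γ (∏ k, rho k (f (c k))) := by
  rw [factorC (Gp γ).law (Gp γ).homog, PolLawFactor.Gam]
  simp only [map_sum, Algebra.TensorProduct.map_tmul, AlgHom.id_apply]
  rw [Finset.prod_univ_sum, Fintype.piFinset_univ, map_sum]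
  refine Finset.sum_congr rfl fun c _ => ?_
  rw [prod_tmul, LinearMap.lTensor_tmul]
  rfl

theorem gamma_sum_X {n : ℕ} (S : Type u) [CommSemiring S] [Algebra A S] (s : Fin n → S)
    (f : Fin n → MvPolynomial B A) :
    γ.law.toFun' S (∑ j, s j ⊗ₜ[A] piB (f j)) =
      ∑ c : Fin d → Fin n, (∏ k, s (c k)) ⊗ₜ[A] hh γ (∏ k, rho k (f (c k))) := by
  rw [← Gp_sum, Gp_toFun']
  simp only [map_sum, Algebra.TensorProduct.map_tmul, AlgHom.id_apply]

noncomputable def mt : MultilinearMap A (fun _ : Fin d => MvPolynomial B A) C :=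
  ∑ σ : Equiv.Perm (Fin d), (hh γ).compMultilinearMap
    (((MultilinearMap.mkPiAlgebra A (Fin d) (MvPolynomial (Fin d × B) A)).compLinearMap
      (fun k => (rho (A := A) (B := B) k).toLinearMap)).domDomCongr σ)

theorem mt_apply (f : Fin d → MvPolynomial B A) :
    mt γ f = ∑ σ : Equiv.Perm (Fin d), hh γ (∏ k, rho k (f (σ k))) := by
  rw [mt, _root_.sum_apply]
  rfl

noncomputable def pol (b : Fin d → B) : C :=
  cfC (oneD d) (γ.law.toFun' (MvPolynomial (Fin d) A) (∑ i, (X i : MvPolynomial (Fin d) A) ⊗ₜ[A] b i))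

theorem pol_piB (f : Fin d → MvPolynomial B A) : pol γ (fun i => piB (f i)) = mt γ f := by
  rw [pol, gamma_sum_X, map_sum, mt_apply]
  simp only [cfC_tmul, coeff_prod_X, ite_smul, one_smul, zero_smul]
  exact sum_bijective (fun c => hh γ (∏ k, rho k (f (c k))))

theorem piB_X (b : B) : piB (A := A) (X b) = b := by simp [piB]

noncomputable def polM : MultilinearMap A (fun _ : Fin d => B) C where
  toFun := pol γ
  map_update_add' := by
    intro _ b k v v'
    have e : ∀ (w : B) (q : MvPolynomial B A), piB q = w →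
        Function.update b k w = fun i => piB (Function.update (fun i => (X (b i) : MvPolynomial B A)) k q i) := by
      intro w q hq
      funext i
      by_cases hi : i = k
      · subst hi
        simp [hq]
      · simp [Function.update_of_ne hi, piB_X]
    rw [e (v + v') (X v + X v') (by rw [map_add, piB_X, piB_X]), e v (X v) (piB_X v),
      e v' (X v') (piB_X v'), pol_piB, pol_piB, pol_piB, MultilinearMap.map_update_add]
  map_update_smul' := by
    intro _ b k a v
    have e : ∀ (w : B) (q : MvPolynomial B A), piB q = w →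
        Function.update b k w = fun i => piB (Function.update (fun i => (X (b i) : MvPolynomial B A)) k q i) := by
      intro w q hq
      funext i
      by_cases hi : i = k
      · subst hi
        simp [hq]
      · simp [Function.update_of_ne hi, piB_X]
    rw [e (a • v) (a • X v) (by rw [map_smul, piB_X]), e v (X v) (piB_X v), pol_piB, pol_piB,
      MultilinearMap.map_update_smul]

@[simp] theorem polM_apply (b : Fin d → B) : polM γ b = pol γ b := rfl

theorem sum_tmul_pol {n : ℕ} (S : Type u) [CommSemiring S] [Algebra A S] (s : Fin n → S)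
    (b : Fin n → B) :
    (∑ c : Fin d → Fin n, (∏ i, s (c i)) ⊗ₜ[A] pol γ (fun i => b (c i))) =
      d.factorial • γ.law.toFun' S (∑ j, s j ⊗ₜ[A] b j) := by
  have h1 : γ.law.toFun' S (∑ j, s j ⊗ₜ[A] b j) =
      ∑ c : Fin d → Fin n, (∏ k, s (c k)) ⊗ₜ[A]
        hh γ (∏ k, rho k ((X (b (c k)) : MvPolynomial B A))) := by
    rw [← gamma_sum_X γ S s (fun j => X (b j))]
    simp only [piB_X]
  have h2 : ∀ c : Fin d → Fin n, pol γ (fun i => b (c i)) =
      ∑ σ : Equiv.Perm (Fin d), hh γ (∏ k, rho k ((X (b (c (σ k))) : MvPolynomial B A))) := by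
    intro c
    rw [← mt_apply γ (fun i => X (b (c i))), ← pol_piB]
    simp only [piB_X]
  simp only [h2, TensorProduct.tmul_sum]
  rw [Finset.sum_comm, h1]
  have h3 : ∀ σ : Equiv.Perm (Fin d),
      (∑ c : Fin d → Fin n, (∏ i, s (c i)) ⊗ₜ[A]
        hh γ (∏ k, rho k ((X (b (c (σ k))) : MvPolynomial B A)))) =
      ∑ c : Fin d → Fin n, (∏ k, s (c k)) ⊗ₜ[A]
        hh γ (∏ k, rho k ((X (b (c k)) : MvPolynomial B A))) := by
    intro σ
    rw [← Equiv.sum_comp (Equiv.arrowCongr σ.symm (Equiv.refl (Fin n)))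
      (fun c => (∏ k, s (c k)) ⊗ₜ[A] hh γ (∏ k, rho k ((X (b (c k)) : MvPolynomial B A))))]
    refine Finset.sum_congr rfl fun c _ => ?_
    have : (∏ k, s ((Equiv.arrowCongr σ.symm (Equiv.refl (Fin n))) c k)) = ∏ i, s (c i) :=
      Equiv.prod_comp σ (fun i => s (c i))
    rw [this]
    rfl
  rw [Finset.sum_congr rfl (fun σ _ => h3 σ), Finset.sum_const, Finset.card_univ,
    Fintype.card_perm, Fintype.card_fin]

end Model

section Main

noncomputable def psiT : (⨂[A] _ : Fin d, B) →ₗ[A] C := PiTensorProduct.lift (polM γ)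

@[simp] theorem psiT_tprod (b : Fin d → B) : psiT γ (PiTensorProduct.tprod A b) = pol γ b := by
  rw [psiT, PiTensorProduct.lift.tprod, polM_apply]

variable (Φ : C →ₗ[A] (⨂[A] _ : Fin d, B))
  (hΦ : ∀ (S : Type u) [CommSemiring S] [Algebra A S] (n : ℕ) (s : Fin n → S) (b : Fin n → B),
      Φ.lTensor S (γ.law.toFun' S (∑ j, s j ⊗ₜ[A] b j)) =
        ∑ c : Fin d → Fin n, (∏ i, s (c i)) ⊗ₜ[A] PiTensorProduct.tprod A (fun i => b (c i)))

include hΦ

theorem Phi_pol (b : Fin d → B) :
    Φ (pol γ b) = ∑ σ : Equiv.Perm (Fin d), PiTensorProduct.tprod A (fun i => b (σ i)) := by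
  rw [pol, ← cfC_lTensor, hΦ, map_sum]
  simp only [cfC_tmul, coeff_prod_X, ite_smul, one_smul, zero_smul]
  exact sum_bijective (fun c => PiTensorProduct.tprod A (fun i => b (c i)))

theorem Phi_psiT (z : ⨂[A] _ : Fin d, B) :
    Φ (psiT γ z) = ∑ σ : Equiv.Perm (Fin d), PiTensorProduct.reindex A (fun _ : Fin d => B) σ z := by
  have : Φ ∘ₗ psiT γ = ∑ σ : Equiv.Perm (Fin d),
      (PiTensorProduct.reindex A (fun _ : Fin d => B) σ).toLinearMap := by
    apply PiTensorProduct.ext
    apply MultilinearMap.ext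
    intro b
    simp only [LinearMap.compMultilinearMap_apply, LinearMap.comp_apply, psiT_tprod,
      LinearMap.coe_sum, Finset.sum_apply, LinearEquiv.coe_coe, PiTensorProduct.reindex_tprod]
    rw [Phi_pol γ Φ hΦ]
    exact (Equiv.sum_comp (Equiv.inv (Equiv.Perm (Fin d)))
      (fun σ => PiTensorProduct.tprod A (fun i => b (σ i)))).symm
  have h2 := LinearMap.congr_fun this z
  simpa using h2

theorem psiT_Phi_coef (hγ : PolLaw.IsGammaD γ) (x : C) : psiT γ (Φ x) = d.factorial • x := by
  have hx : x ∈ Submodule.span A (CoefSet γ.law) := by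
    rw [span_coefSet_eq_top γ hγ]
    exact Submodule.mem_top
  induction hx using Submodule.span_induction with
  | zero => simp
  | add x y _ _ hx hy => rw [map_add, map_add, hx, hy, smul_add]
  | smul a x _ hx => rw [map_smul, map_smul, hx, smul_comm]
  | mem x hx =>
    obtain ⟨σ, y, ν, rfl⟩ := hx
    obtain ⟨n, p, b, rfl⟩ := exists_fin_repr (MvPolynomial σ A) y
    rw [← cfC_lTensor, ← cfC_lTensor, hΦ, map_sum]
    simp only [LinearMap.lTensor_tmul, psiT_tprod]
    rw [sum_tmul_pol, map_nsmul]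

end Main

end Groth.Agent.Lib.Helper32.PolLawPolar
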