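import Groth.Agent.Lib.Helper32.PolLawBasic
import Groth.Agent.Lib.Helper22.PolLaw

set_option autoImplicit false
universe u
open scoped TensorProduct
open Polynomial

namespace Groth.Agent.Lib.Helper32.PolLawProd

open Groth.Agent.Lib.Helper22.PolLawLib

theorem idem_trivial_of_connected {R : Type*} [CommRing R] [ConnectedSpace (PrimeSpectrum R)]
    (s : R) (hs : IsIdempotentElem s) : s = 0 ∨ s = 1 := by
  have hclopen : IsClopen ((PrimeSpectrum.basicOpen s : TopologicalSpace.Opens (PrimeSpectrum R)) :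
      Set (PrimeSpectrum R)) := PrimeSpectrum.isClopen_iff.mpr ⟨s, hs, rfl⟩
  have hnil : ∀ t : R, IsIdempotentElem t → IsNilpotent t → t = 0 := by
    intro t ht ⟨n, hn⟩
    cases n with
    | zero => rw [pow_zero] at hn; rw [← mul_one t, hn, mul_zero]
    | succ n => rw [ht.pow_succ_eq] at hn; exact hn
  rcases isClopen_iff.mp hclopen with h | h
  · left
    apply hnil s hs
    rw [← PrimeSpectrum.basicOpen_eq_bot_iff]
    exact TopologicalSpace.Opens.ext h
  · right
    have h2 : (PrimeSpectrum.basicOpen (1 - s) : Set (PrimeSpectrum R)) = ∅ := by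
      rw [← PrimeSpectrum.zeroLocus_eq_basicOpen_of_isIdempotentElem s hs]
      ext x
      simp only [PrimeSpectrum.mem_zeroLocus, Set.singleton_subset_iff, SetLike.mem_coe,
        Set.mem_empty_iff_false, iff_false]
      intro hx
      have : x ∈ (PrimeSpectrum.basicOpen s : Set (PrimeSpectrum R)) := by rw [h]; trivial
      exact this hx
    have h3 : 1 - s = 0 := by
      apply hnil (1 - s) hs.one_sub
      rw [← PrimeSpectrum.basicOpen_eq_bot_iff]
      exact TopologicalSpace.Opens.ext h2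
    exact (sub_eq_zero.mp h3).symm

theorem coeff_mul_coeff {A : Type u} [CommRing A] (p : A[X])
    (hmul : aeval (C X * X : A[X][X]) p = aeval (C X : A[X][X]) p * aeval (X : A[X][X]) p)
    (k l : ℕ) : p.coeff l * p.coeff k = if k = l then p.coeff l else 0 := by
  have h1 : aeval (C X : A[X][X]) p = C p := by
    have := Polynomial.aeval_algebraMap_apply (A := A[X]) (B := A[X][X]) (X : A[X]) p
    rw [aeval_X_left_apply] at this
    exact this
  have h2 : (aeval (X : A[X][X]) p).coeff l = C (p.coeff l) := by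
    rw [aeval_eq_sum_range, finsetSum_coeff]
    simp only [coeff_smul, coeff_X_pow]
    rw [Finset.sum_eq_single l]
    · simp [Algebra.smul_def]
    · intro b _ hb
      simp [Ne.symm hb]
    · intro hl
      have : p.coeff l = 0 := by
        apply coeff_eq_zero_of_natDegree_lt
        simpa using hl
      simp [this]
  have h3 : (aeval (C X * X : A[X][X]) p).coeff l = monomial l (p.coeff l) := by
    rw [aeval_eq_sum_range, finsetSum_coeff]
    simp only [coeff_smul, mul_pow, ← C_pow, coeff_C_mul, coeff_X_pow]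
    rw [Finset.sum_eq_single l]
    · simp [Algebra.smul_def, ← C_mul_X_pow_eq_monomial]
    · intro b _ hb
      simp [Ne.symm hb]
    · intro hl
      have : p.coeff l = 0 := by
        apply coeff_eq_zero_of_natDegree_lt
        simpa using hl
      simp [this]
  have := congrArg (fun q => (q.coeff l).coeff k) hmul
  simp only [h3, h1, coeff_C_mul, h2] at this
  rw [coeff_monomial, coeff_mul_C] at this
  rw [mul_comm, ← this]
  simp only [eq_comm]

theorem eq_X_pow_of_mul {A : Type u} [CommRing A]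
    (hA : ∀ a : A, IsIdempotentElem a → a = 0 ∨ a = 1)
    [Nontrivial A] (p : A[X]) (h1 : p.eval 1 = 1)
    (hmul : aeval (C X * X : A[X][X]) p = aeval (C X : A[X][X]) p * aeval (X : A[X][X]) p) :
    ∃ k, p = X ^ k := by
  have hc := coeff_mul_coeff p hmul
  have hidem : ∀ l, p.coeff l = 0 ∨ p.coeff l = 1 := fun l => hA _ (by
    have := hc l l
    simpa [IsIdempotentElem] using this)
  have hex : ∃ l, p.coeff l = 1 := by
    by_contra hno
    push Not at hno
    have : p = 0 := by
      ext l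
      rcases hidem l with h | h
      · simpa using h
      · exact absurd h (hno l)
    rw [this] at h1
    simp at h1
  obtain ⟨l, hl⟩ := hex
  refine ⟨l, ?_⟩
  ext k
  rw [coeff_X_pow]
  have := hc k l
  rw [hl, one_mul] at this
  rw [this]

section General

variable {A : Type u} [CommRing A] {B : Type u} [CommRing B] [Algebra A B]

theorem rid_mul (S : Type u) [CommSemiring S] [Algebra A S] (x y : S ⊗[A] A) :
    TensorProduct.rid A S (x * y) = TensorProduct.rid A S x * TensorProduct.rid A S y := by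
  induction x using TensorProduct.induction_on with
  | zero => simp
  | add x x' hx hx' => simp only [add_mul, map_add, hx, hx']
  | tmul s a =>
    induction y using TensorProduct.induction_on with
    | zero => simp
    | add y y' hy hy' => simp only [mul_add, map_add, hy, hy']
    | tmul s' a' =>
      simp [Algebra.TensorProduct.tmul_mul_tmul, mul_smul, mul_comm a a']

theorem rid_one (S : Type u) [CommSemiring S] [Algebra A S] :
    TensorProduct.rid A S (1 : S ⊗[A] A) = 1 := by
  simp [Algebra.TensorProduct.one_def]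

theorem rid_smul_one (S : Type u) [CommSemiring S] [Algebra A S] (s : S) :
    TensorProduct.rid A S (s • (1 : S ⊗[A] A)) = s := by
  simp [Algebra.TensorProduct.one_def, TensorProduct.smul_tmul']

theorem smul_eq_tmul_mul (S : Type u) [CommSemiring S] [Algebra A S] (s : S) (x : S ⊗[A] B) :
    s • x = (s ⊗ₜ[A] (1 : B)) * x := by
  induction x using TensorProduct.induction_on with
  | zero => simp
  | add x y hx hy => simp only [smul_add, mul_add, hx, hy]
  | tmul s' b => simp [TensorProduct.smul_tmul', Algebra.TensorProduct.tmul_mul_tmul]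

variable (e : B)

noncomputable def q (S : Type u) [CommSemiring S] [Algebra A S] (s : S) : S ⊗[A] B :=
  s ⊗ₜ[A] e + 1 ⊗ₜ[A] (1 - e)

theorem q_mul (he : IsIdempotentElem e) (S : Type u) [CommSemiring S] [Algebra A S] (s s' : S) :
    q e S (s * s') = q (A := A) e S s * q e S s' := by
  have h1 : e * e = e := he
  have h2 : e * (1 - e) = 0 := by rw [mul_sub, mul_one, h1, sub_self]
  have h3 : (1 - e) * e = 0 := by rw [mul_comm, h2]
  have h4 : (1 - e) * (1 - e) = 1 - e := he.one_sub
  simp only [q, add_mul, mul_add, Algebra.TensorProduct.tmul_mul_tmul, h1, h2, h3, h4,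
    TensorProduct.tmul_zero, add_zero, zero_add, one_mul, mul_one]

theorem q_one (S : Type u) [CommSemiring S] [Algebra A S] : q (A := A) e S 1 = 1 := by
  rw [q, ← TensorProduct.tmul_add, add_sub_cancel, Algebra.TensorProduct.one_def]

theorem q_map {S S' : Type u} [CommSemiring S] [Algebra A S] [CommSemiring S'] [Algebra A S']
    (φ : S →ₐ[A] S') (s : S) :
    Algebra.TensorProduct.map φ (AlgHom.id A B) (q e S s) = q e S' (φ s) := by
  simp [q]

theorem q_mul_q_compl (he : IsIdempotentElem e) (S : Type u) [CommSemiring S] [Algebra A S]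
    (s : S) : q (A := A) e S s * q (1 - e) S s = s • (1 : S ⊗[A] B) := by
  have h1 : e * e = e := he
  have h2 : e * (1 - e) = 0 := by rw [mul_sub, mul_one, h1, sub_self]
  have h3 : (1 - e) * e = 0 := by rw [mul_comm, h2]
  have h4 : (1 - e) * (1 - e) = 1 - e := he.one_sub
  simp only [q, sub_sub_cancel, add_mul, mul_add, Algebra.TensorProduct.tmul_mul_tmul, h1, h2,
    h3, h4, TensorProduct.tmul_zero, add_zero, zero_add, one_mul, mul_one]
  rw [← TensorProduct.tmul_add, sub_add_cancel, Algebra.TensorProduct.one_def,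
    TensorProduct.smul_tmul', smul_eq_mul, mul_one]

variable {d : ℕ} (F : PolLaw.MulLaw A B A d)

noncomputable def pe : A[X] := TensorProduct.rid A A[X] (F.law.toFun' A[X] (q e A[X] X))

theorem rid_F_q (S : Type u) [CommSemiring S] [Algebra A S] (s : S) :
    TensorProduct.rid A S (F.law.toFun' S (q e S s)) = aeval s (pe e F) := by
  have h := compat F.law (aeval s : A[X] →ₐ[A] S) (q e A[X] X)
  rw [q_map, aeval_X] at h
  rw [h, rid_rTensor]
  rfl

theorem exists_pe_eq (hA : ∀ a : A, IsIdempotentElem a → a = 0 ∨ a = 1) [Nontrivial A]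
    (he : IsIdempotentElem e) : ∃ k, pe e F = X ^ k := by
  apply eq_X_pow_of_mul hA
  · have h := rid_F_q e F A 1
    rw [q_one, (F.mult A).1, rid_one] at h
    rw [← coe_aeval_eq_eval, ← h]
  · rw [← rid_F_q, ← rid_F_q, ← rid_F_q, q_mul e he, (F.mult _).2, rid_mul]

theorem F_q_eq (k : ℕ) (hk : pe e F = X ^ k) (S : Type u) [CommSemiring S] [Algebra A S] (s : S) :
    F.law.toFun' S (q e S s) = s ^ k • (1 : S ⊗[A] A) := by
  apply (TensorProduct.rid A S).injective
  rw [rid_F_q, hk, rid_smul_one]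
  simp

theorem degree_add [Nontrivial A] (he : IsIdempotentElem e) (k₁ k₂ : ℕ) (h₁ : pe e F = X ^ k₁)
    (h₂ : pe (1 - e) F = X ^ k₂) : k₁ + k₂ = d := by
  have h := (F.mult A[X]).2 (q e A[X] X) (q (1 - e) A[X] X)
  rw [q_mul_q_compl e he, F.homog, (F.mult _).1, F_q_eq e F k₁ h₁, F_q_eq (1 - e) F k₂ h₂,
    smul_mul_smul_comm, one_mul, ← pow_add] at h
  have h' := congrArg (TensorProduct.rid A A[X]) h
  rw [rid_smul_one, rid_smul_one] at h'
  have := congrArg natDegree h'
  rw [natDegree_X_pow, natDegree_X_pow] at this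
  exact this.symm

end General

section Prod

variable {A : Type u} [CommRing A] {B₁ : Type u} [CommRing B₁] [Algebra A B₁]
  {B₂ : Type u} [CommRing B₂] [Algebra A B₂]

noncomputable def j₁ : B₁ →ₚₗ[A] (B₁ × B₂) where
  toFun' S _ _ := fun u => (LinearMap.inl A B₁ B₂).lTensor S u + 1 ⊗ₜ[A] ((0, 1) : B₁ × B₂)
  isCompat' φ := by
    funext u
    simp only [Function.comp_apply, map_add]
    congr 1
    · rw [← LinearMap.comp_apply, LinearMap.rTensor_comp_lTensor, ← LinearMap.lTensor_comp_rTensor,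
        LinearMap.comp_apply]
    · simp

noncomputable def j₂ : B₂ →ₚₗ[A] (B₁ × B₂) where
  toFun' S _ _ := fun u => (LinearMap.inr A B₁ B₂).lTensor S u + 1 ⊗ₜ[A] ((1, 0) : B₁ × B₂)
  isCompat' φ := by
    funext u
    simp only [Function.comp_apply, map_add]
    congr 1
    · rw [← LinearMap.comp_apply, LinearMap.rTensor_comp_lTensor, ← LinearMap.lTensor_comp_rTensor,
        LinearMap.comp_apply]
    · simp

variable (S : Type u) [CommSemiring S] [Algebra A S]

theorem prodRight_apply (x : S ⊗[A] (B₁ × B₂)) :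
    Algebra.TensorProduct.prodRight A S S B₁ B₂ x =
      ((LinearMap.fst A B₁ B₂).lTensor S x, (LinearMap.snd A B₁ B₂).lTensor S x) := by
  induction x using TensorProduct.induction_on with
  | zero => simp only [map_zero]; rfl
  | add x y hx hy => simp only [map_add, hx, hy, Prod.mk_add_mk]
  | tmul s b => rfl

theorem prodRight_inl (u : S ⊗[A] B₁) :
    Algebra.TensorProduct.prodRight A S S B₁ B₂ ((LinearMap.inl A B₁ B₂).lTensor S u) = (u, 0) := by
  induction u using TensorProduct.induction_on with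
  | zero => simp only [map_zero]; rfl
  | add x y hx hy => simp only [map_add, hx, hy, Prod.mk_add_mk, add_zero]
  | tmul s b => simp [Algebra.TensorProduct.prodRight_tmul]

theorem prodRight_inr (u : S ⊗[A] B₂) :
    Algebra.TensorProduct.prodRight A S S B₁ B₂ ((LinearMap.inr A B₁ B₂).lTensor S u) = (0, u) := by
  induction u using TensorProduct.induction_on with
  | zero => simp only [map_zero]; rfl
  | add x y hx hy => simp only [map_add, hx, hy, Prod.mk_add_mk, add_zero]
  | tmul s b => simp [Algebra.TensorProduct.prodRight_tmul]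

theorem prodRight_j₁ (u : S ⊗[A] B₁) :
    Algebra.TensorProduct.prodRight A S S B₁ B₂ ((j₁ (B₂ := B₂)).toFun' S u) = (u, 1) := by
  show Algebra.TensorProduct.prodRight A S S B₁ B₂
    ((LinearMap.inl A B₁ B₂).lTensor S u + 1 ⊗ₜ[A] ((0, 1) : B₁ × B₂)) = (u, 1)
  rw [map_add, prodRight_inl, Algebra.TensorProduct.prodRight_tmul]
  simp [Algebra.TensorProduct.one_def]

theorem prodRight_j₂ (u : S ⊗[A] B₂) :
    Algebra.TensorProduct.prodRight A S S B₁ B₂ ((j₂ (B₁ := B₁)).toFun' S u) = (1, u) := by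
  show Algebra.TensorProduct.prodRight A S S B₁ B₂
    ((LinearMap.inr A B₁ B₂).lTensor S u + 1 ⊗ₜ[A] ((1, 0) : B₁ × B₂)) = (1, u)
  rw [map_add, prodRight_inr, Algebra.TensorProduct.prodRight_tmul]
  simp [Algebra.TensorProduct.one_def]

theorem prodRight_q (s : S) :
    Algebra.TensorProduct.prodRight A S S B₁ B₂ (q ((1, 0) : B₁ × B₂) S s) = (s • 1, 1) := by
  have : (1 : B₁ × B₂) - (1, 0) = (0, 1) := by ext <;> simp
  rw [q, this, map_add, Algebra.TensorProduct.prodRight_tmul, Algebra.TensorProduct.prodRight_tmul]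
  simp [Algebra.TensorProduct.one_def, TensorProduct.smul_tmul']

theorem prodRight_q' (s : S) :
    Algebra.TensorProduct.prodRight A S S B₁ B₂ (q ((0, 1) : B₁ × B₂) S s) = (1, s • 1) := by
  have : (1 : B₁ × B₂) - (0, 1) = (1, 0) := by ext <;> simp
  rw [q, this, map_add, Algebra.TensorProduct.prodRight_tmul, Algebra.TensorProduct.prodRight_tmul]
  simp [Algebra.TensorProduct.one_def, TensorProduct.smul_tmul']

theorem eq_j₁_mul_j₂ (x : S ⊗[A] (B₁ × B₂)) :
    x = (j₁ (B₂ := B₂)).toFun' S ((LinearMap.fst A B₁ B₂).lTensor S x) *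
      (j₂ (B₁ := B₁)).toFun' S ((LinearMap.snd A B₁ B₂).lTensor S x) := by
  apply (Algebra.TensorProduct.prodRight A S S B₁ B₂).injective
  rw [map_mul, prodRight_j₁, prodRight_j₂, prodRight_apply]
  simp

theorem j₁_one : (j₁ (B₂ := B₂)).toFun' S (1 : S ⊗[A] B₁) = 1 := by
  apply (Algebra.TensorProduct.prodRight A S S B₁ B₂).injective
  rw [prodRight_j₁, map_one]
  rfl

theorem j₁_mul (u v : S ⊗[A] B₁) :
    (j₁ (B₂ := B₂)).toFun' S (u * v) = (j₁ (B₂ := B₂)).toFun' S u * (j₁ (B₂ := B₂)).toFun' S v := by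
  apply (Algebra.TensorProduct.prodRight A S S B₁ B₂).injective
  rw [map_mul, prodRight_j₁, prodRight_j₁, prodRight_j₁]
  simp

theorem j₁_smul (s : S) (u : S ⊗[A] B₁) :
    (j₁ (B₂ := B₂)).toFun' S (s • u) = q ((1, 0) : B₁ × B₂) S s * (j₁ (B₂ := B₂)).toFun' S u := by
  apply (Algebra.TensorProduct.prodRight A S S B₁ B₂).injective
  rw [map_mul, prodRight_j₁, prodRight_j₁, prodRight_q]
  simp

theorem j₂_one : (j₂ (B₁ := B₁)).toFun' S (1 : S ⊗[A] B₂) = 1 := by
  apply (Algebra.TensorProduct.prodRight A S S B₁ B₂).injective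
  rw [prodRight_j₂, map_one]
  rfl

theorem j₂_mul (u v : S ⊗[A] B₂) :
    (j₂ (B₁ := B₁)).toFun' S (u * v) = (j₂ (B₁ := B₁)).toFun' S u * (j₂ (B₁ := B₁)).toFun' S v := by
  apply (Algebra.TensorProduct.prodRight A S S B₁ B₂).injective
  rw [map_mul, prodRight_j₂, prodRight_j₂, prodRight_j₂]
  simp

theorem j₂_smul (s : S) (u : S ⊗[A] B₂) :
    (j₂ (B₁ := B₁)).toFun' S (s • u) = q ((0, 1) : B₁ × B₂) S s * (j₂ (B₁ := B₁)).toFun' S u := by
  apply (Algebra.TensorProduct.prodRight A S S B₁ B₂).injective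
  rw [map_mul, prodRight_j₂, prodRight_j₂, prodRight_q']
  simp


variable {d : ℕ} (F : PolLaw.MulLaw A (B₁ × B₂) A d)

noncomputable def mk₁ (k : ℕ) (hk : pe ((1, 0) : B₁ × B₂) F = X ^ k) : PolLaw.MulLaw A B₁ A k where
  law := F.law.comp j₁
  homog S _ _ s x := by
    show F.law.toFun' S (j₁.toFun' S (s • x)) = s ^ k • F.law.toFun' S (j₁.toFun' S x)
    rw [j₁_smul, (F.mult S).2, F_q_eq _ F k hk, smul_mul_assoc, one_mul]
  mult S _ _ := by
    refine ⟨?_, fun x y => ?_⟩
    · show F.law.toFun' S (j₁.toFun' S 1) = 1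
      rw [j₁_one, (F.mult S).1]
    · show F.law.toFun' S (j₁.toFun' S (x * y)) =
        F.law.toFun' S (j₁.toFun' S x) * F.law.toFun' S (j₁.toFun' S y)
      rw [j₁_mul, (F.mult S).2]

noncomputable def mk₂ (k : ℕ) (hk : pe ((0, 1) : B₁ × B₂) F = X ^ k) : PolLaw.MulLaw A B₂ A k where
  law := F.law.comp j₂
  homog S _ _ s x := by
    show F.law.toFun' S (j₂.toFun' S (s • x)) = s ^ k • F.law.toFun' S (j₂.toFun' S x)
    rw [j₂_smul, (F.mult S).2, F_q_eq _ F k hk, smul_mul_assoc, one_mul]
  mult S _ _ := by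
    refine ⟨?_, fun x y => ?_⟩
    · show F.law.toFun' S (j₂.toFun' S 1) = 1
      rw [j₂_one, (F.mult S).1]
    · show F.law.toFun' S (j₂.toFun' S (x * y)) =
        F.law.toFun' S (j₂.toFun' S x) * F.law.toFun' S (j₂.toFun' S y)
      rw [j₂_mul, (F.mult S).2]

theorem main [ConnectedSpace (PrimeSpectrum A)] :
    ∃ d₁ d₂ : ℕ, d₁ + d₂ = d ∧
      (∃ (F₁ : PolLaw.MulLaw A B₁ A d₁) (F₂ : PolLaw.MulLaw A B₂ A d₂),
        ∀ (S : Type u) [CommSemiring S] [Algebra A S] (x : S ⊗[A] (B₁ × B₂)),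
          F.law.toFun' S x = F₁.law.toFun' S (LinearMap.lTensor S (LinearMap.fst A B₁ B₂) x) *
            F₂.law.toFun' S (LinearMap.lTensor S (LinearMap.snd A B₁ B₂) x)) ∧
      ∀ (e₁ e₂ : ℕ) (G₁ : PolLaw.MulLaw A B₁ A e₁) (G₂ : PolLaw.MulLaw A B₂ A e₂),
        (∀ (S : Type u) [CommSemiring S] [Algebra A S] (x : S ⊗[A] (B₁ × B₂)),
          F.law.toFun' S x = G₁.law.toFun' S (LinearMap.lTensor S (LinearMap.fst A B₁ B₂) x) *
            G₂.law.toFun' S (LinearMap.lTensor S (LinearMap.snd A B₁ B₂) x)) → e₁ = d₁ ∧ e₂ = d₂ := by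
  have hne : Nonempty (PrimeSpectrum A) := inferInstance
  have hnt : Nontrivial A := (PrimeSpectrum.nonempty_iff_nontrivial).mp hne
  have hA : ∀ a : A, IsIdempotentElem a → a = 0 ∨ a = 1 := idem_trivial_of_connected
  have hid₁ : IsIdempotentElem ((1, 0) : B₁ × B₂) := by
    show ((1, 0) : B₁ × B₂) * (1, 0) = (1, 0)
    ext <;> simp
  have hcompl : (1 : B₁ × B₂) - (1, 0) = (0, 1) := by ext <;> simp
  obtain ⟨d₁, hd₁⟩ := exists_pe_eq ((1, 0) : B₁ × B₂) F hA hid₁
  obtain ⟨d₂, hd₂⟩ := exists_pe_eq ((0, 1) : B₁ × B₂) F hA (hcompl ▸ hid₁.one_sub)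
  refine ⟨d₁, d₂, degree_add _ F hid₁ d₁ d₂ hd₁ (hcompl ▸ hd₂), ⟨mk₁ F d₁ hd₁, mk₂ F d₂ hd₂, ?_⟩, ?_⟩
  · intro S _ _ x
    show F.law.toFun' S x = F.law.toFun' S (j₁.toFun' S _) * F.law.toFun' S (j₂.toFun' S _)
    rw [← (F.mult S).2, ← eq_j₁_mul_j₂]
  · intro e₁ e₂ G₁ G₂ hG
    constructor
    · have h := hG A[X] (q ((1, 0) : B₁ × B₂) A[X] X)
      have hp := prodRight_apply (A := A) (B₁ := B₁) (B₂ := B₂) A[X] (q (A := A) ((1, 0) : B₁ × B₂) A[X] X)
      rw [prodRight_q] at hp
      have hp1 := (Prod.ext_iff.mp hp).1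
      have hp2 := (Prod.ext_iff.mp hp).2
      simp only at hp1 hp2
      rw [← hp1, ← hp2, G₁.homog, (G₁.mult _).1, (G₂.mult _).1, mul_one, F_q_eq _ F d₁ hd₁] at h
      have h' := congrArg (TensorProduct.rid A A[X]) h
      rw [rid_smul_one, rid_smul_one] at h'
      have := congrArg natDegree h'
      rw [natDegree_X_pow, natDegree_X_pow] at this
      exact this.symm
    · have h := hG A[X] (q ((0, 1) : B₁ × B₂) A[X] X)
      have hp := prodRight_apply (A := A) (B₁ := B₁) (B₂ := B₂) A[X] (q (A := A) ((0, 1) : B₁ × B₂) A[X] X)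
      rw [prodRight_q'] at hp
      have hp1 := (Prod.ext_iff.mp hp).1
      have hp2 := (Prod.ext_iff.mp hp).2
      simp only at hp1 hp2
      rw [← hp1, ← hp2, G₂.homog, (G₁.mult _).1, (G₂.mult _).1, one_mul, F_q_eq _ F d₂ hd₂] at h
      have h' := congrArg (TensorProduct.rid A A[X]) h
      rw [rid_smul_one, rid_smul_one] at h'
      have := congrArg natDegree h'
      rw [natDegree_X_pow, natDegree_X_pow] at this
      exact this.symm

end Prod

end Groth.Agent.Lib.Helper32.PolLawProd
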