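import Groth.Agent.Lib.Helper32.PolLawCH
import Groth.Agent.Lib.Helper32.PolLawProd
import Mathlib.LinearAlgebra.TensorProduct.RightExactness

set_option autoImplicit false
universe u
open scoped TensorProduct

namespace Groth.Agent.Lib.Helper32.PolLawQuotC

open Groth.Agent.Lib.Helper32.PolLawBasic Groth.Agent.Lib.Helper32.PolLawProd

variable {A : Type u} [CommRing A] {B : Type u} [CommRing B] [Algebra A B]
  {C : Type u} [CommRing C] [Algebra A C]

section Fun

variable (I : Ideal B) (S : Type u) [CommSemiring S] [Algebra A S]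

noncomputable def qm : S ⊗[A] B →ₐ[A] S ⊗[A] (B ⧸ I) :=
  Algebra.TensorProduct.map (AlgHom.id A S) (Ideal.Quotient.mkₐ A I)

theorem qm_tmul (s : S) (b : B) : qm I S (s ⊗ₜ[A] b) = s ⊗ₜ[A] (Ideal.Quotient.mk I b) := by
  simp [qm]

theorem qm_surjective : Function.Surjective (qm (A := A) I S) := by
  have := LinearMap.lTensor_surjective (R := A) S (g := (Ideal.Quotient.mkₐ A I).toLinearMap)
    (Ideal.Quotient.mkₐ_surjective A I)
  intro y
  obtain ⟨z, hz⟩ := this y
  refine ⟨z, ?_⟩
  rw [← hz]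
  clear hz
  induction z using TensorProduct.induction_on with
  | zero => simp
  | add x y hx hy => simp only [map_add, hx, hy]
  | tmul s b => simp [qm]

theorem qm_smul (s : S) (x : S ⊗[A] B) : qm I S (s • x) = s • qm I S x := by
  rw [smul_eq_tmul_mul, smul_eq_tmul_mul, map_mul, qm_tmul, map_one]

variable {I S}

theorem add_mul_eq (F : B →ₚₗ[A] C) (hI : I ≤ PolLaw.ker F) (x w y : S ⊗[A] B)
    (hy : y ∈ I.map (Algebra.TensorProduct.includeRight : B →ₐ[A] S ⊗[A] B)) :
    F.toFun' S (x + w * y) = F.toFun' S x := by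
  revert x w
  rw [Ideal.map, ← Ideal.submodule_span_eq] at hy
  refine Submodule.span_induction (p := fun y _ => ∀ x w : S ⊗[A] B,
    F.toFun' S (x + w * y) = F.toFun' S x) ?_ ?_ ?_ ?_ hy
  · rintro _ ⟨b, hb, rfl⟩ x w
    exact hI hb S x w
  · intro x w
    simp
  · intro y z _ _ hy hz x w
    rw [mul_add, ← add_assoc, hz, hy]
  · intro a y _ hy x w
    rw [smul_eq_mul, ← mul_assoc]
    exact hy x (w * a)

theorem eq_of_qm_eq (F : B →ₚₗ[A] C) (hI : I ≤ PolLaw.ker F) (x x' : S ⊗[A] B)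
    (h : qm I S x = qm I S x') : F.toFun' S x = F.toFun' S x' := by
  let _ : CommRing S := (algebraMap A S).commSemiringToCommRing
  have hk : x' - x ∈ RingHom.ker (qm (A := A) I S) := by
    rw [RingHom.mem_ker, map_sub, h, sub_self]
  have hk2 : x' - x ∈ I.map (Algebra.TensorProduct.includeRight : B →ₐ[A] S ⊗[A] B) := by
    have := Algebra.TensorProduct.lTensor_ker (R := A) (A := S) (Ideal.Quotient.mkₐ A I)
      (Ideal.Quotient.mkₐ_surjective A I)
    rw [show RingHom.ker (Ideal.Quotient.mkₐ A I) = I from Ideal.Quotient.mkₐ_ker A I] at this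
    rw [← this]
    exact hk
  have := add_mul_eq F hI x 1 (x' - x) hk2
  rw [one_mul, add_sub_cancel] at this
  exact this.symm

end Fun

section Law

variable (I : Ideal B)

noncomputable def quotFun (F : B →ₚₗ[A] C) (S : Type u) [CommSemiring S] [Algebra A S] :
    S ⊗[A] (B ⧸ I) → S ⊗[A] C :=
  fun y => F.toFun' S (Function.surjInv (qm_surjective (A := A) I S) y)

variable {I}

theorem quotFun_qm (F : B →ₚₗ[A] C) (hI : I ≤ PolLaw.ker F) (S : Type u) [CommSemiring S]
    [Algebra A S] (x : S ⊗[A] B) : quotFun I F S (qm I S x) = F.toFun' S x :=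
  eq_of_qm_eq F hI _ _ (Function.surjInv_eq (qm_surjective (A := A) I S) _)

theorem qm_map {S S' : Type u} [CommSemiring S] [Algebra A S] [CommSemiring S'] [Algebra A S']
    (φ : S →ₐ[A] S') (x : S ⊗[A] B) :
    Algebra.TensorProduct.map φ (AlgHom.id A (B ⧸ I)) (qm I S x) =
      qm I S' (Algebra.TensorProduct.map φ (AlgHom.id A B) x) := by
  induction x using TensorProduct.induction_on with
  | zero => simp
  | add x y hx hy => simp only [map_add, hx, hy]
  | tmul s b => simp [qm]

noncomputable def quotPLaw (F : B →ₚₗ[A] C) (hI : I ≤ PolLaw.ker F) : (B ⧸ I) →ₚₗ[A] C where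
  toFun' S _ _ := quotFun I F S
  isCompat' {S} _ _ {S'} _ _ φ := by
    funext y
    obtain ⟨x, rfl⟩ := qm_surjective (A := A) I S y
    simp only [Function.comp_apply]
    rw [quotFun_qm F hI, rTensor_eq_map, rTensor_eq_map, qm_map, quotFun_qm F hI, compat]

theorem quotPLaw_qm (F : B →ₚₗ[A] C) (hI : I ≤ PolLaw.ker F) (S : Type u) [CommSemiring S]
    [Algebra A S] (x : S ⊗[A] B) : (quotPLaw F hI).toFun' S (qm I S x) = F.toFun' S x :=
  quotFun_qm F hI S x

variable {d : ℕ}

noncomputable def quot (F : PolLaw.MulLaw A B C d) (hI : I ≤ PolLaw.ker F.law) :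
    PolLaw.MulLaw A (B ⧸ I) C d where
  law := quotPLaw F.law hI
  homog S _ _ s y := by
    obtain ⟨x, rfl⟩ := qm_surjective (A := A) I S y
    rw [← qm_smul, quotPLaw_qm, quotPLaw_qm, F.homog]
  mult S _ _ := by
    refine ⟨?_, fun y y' => ?_⟩
    · rw [← map_one (qm (A := A) I S), quotPLaw_qm, (F.mult S).1]
    · obtain ⟨x, rfl⟩ := qm_surjective (A := A) I S y
      obtain ⟨x', rfl⟩ := qm_surjective (A := A) I S y'
      rw [← map_mul, quotPLaw_qm, quotPLaw_qm, quotPLaw_qm, (F.mult S).2]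

theorem quot_qm (F : PolLaw.MulLaw A B C d) (hI : I ≤ PolLaw.ker F.law) (S : Type u)
    [CommSemiring S] [Algebra A S] (x : S ⊗[A] B) :
    (quot F hI).law.toFun' S (qm I S x) = F.law.toFun' S x :=
  quotFun_qm F.law hI S x

theorem mem_ker_of_mk_mem (F : PolLaw.MulLaw A B C d) (hI : I ≤ PolLaw.ker F.law) (b : B)
    (hb : Ideal.Quotient.mk I b ∈ PolLaw.ker (quot F hI).law) : b ∈ PolLaw.ker F.law := by
  intro S _ _ x w
  have := hb S (qm I S x) (qm I S w)
  rw [← qm_tmul, ← map_mul, ← map_add, quot_qm, quot_qm] at this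
  exact this

theorem ker_quot (F : PolLaw.MulLaw A B C d) :
    PolLaw.ker (quot F (le_refl (PolLaw.ker F.law))).law = ⊥ := by
  rw [eq_bot_iff]
  intro y hy
  obtain ⟨b, rfl⟩ := Ideal.Quotient.mk_surjective y
  have := mem_ker_of_mk_mem F le_rfl b hy
  rw [Ideal.mem_bot, Ideal.Quotient.eq_zero_iff_mem]
  exact this

end Law

end Groth.Agent.Lib.Helper32.PolLawQuotC
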