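import Groth.Agent.Lib.Helper32.PolLawTSUniv

set_option autoImplicit false
universe u
open scoped TensorProduct

namespace Groth.Agent.Lib.Helper32.PolLawTSFact

open Groth.Agent.Lib.Helper32.PolLawBasic Groth.Agent.Lib.Helper32.PolLawFactor
  Groth.Agent.Lib.Helper32.PolLawFactorC Groth.Agent.Lib.Helper32.PolLawGammaGen
  Groth.Agent.Lib.Helper32.PolLawGammaFT
  Groth.Agent.Lib.Helper32.PolLawPolar Groth.Agent.Lib.Helper32.PolLawSym
  Groth.Agent.Lib.Helper32.PolLawNorm Groth.Agent.Lib.Helper32.PolLawNormKer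
  Groth.Agent.Lib.Helper32.PolLawTd Groth.Agent.Lib.Helper32.PolLawTd2
  Groth.Agent.Lib.Helper32.PolLawCorestrict Groth.Agent.Lib.Helper32.PolLawTS
  Groth.Agent.Lib.Helper32.PolLawTSUniv MvPolynomial

variable {A : Type u} [CommRing A] {B : Type u} [CommRing B] [Algebra A B] {d : ℕ}

theorem psiT_kap {C' : Type u} [CommRing C'] [Algebra A C'] (F : PolLaw.MulLaw A B C' d)
    (y : MvPolynomial (Fin d × B) A) (hy : ∀ σ : Equiv.Perm (Fin d), sg σ y = y) :
    psiT F (kap A B d y) = ((d.factorial : ℕ) : A) • hv F id y := by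
  obtain ⟨J, hJ⟩ := exists_support A ((1 : A) ⊗ₜ[A] y)
  have h := EP A (psiT F ∘ₗ (kap A B d).toLinearMap) (((d.factorial : ℕ) : A) • hv F id) J ?_
    ((1 : A) ⊗ₜ[A] y) (inv_one_tmul y hy) (hJ J (Finset.Subset.refl J))
  · exact hv_ground_of_lTensor _ _ y h
  · rw [lTensor_comp_apply', PolLaw.lTensor_algHom_apply]
    have e1 : Algebra.TensorProduct.map (AlgHom.id (Rg A B) (Rg A B)) (kap A B d)
        (Gam d (Rg A B) (gen J)) = kapS A B d (Rg A B) (Gam d (Rg A B) (gen J)) := rfl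
    rw [e1, kapS_Gam, LinearMap.lTensor_smul, LinearMap.smul_apply, hv_Gam, Gv_toFun']
    obtain ⟨n, s, b, hw⟩ := exists_fin_repr'' (Rg A B)
      (Algebra.TensorProduct.map (AlgHom.id (Rg A B) (Rg A B)) (aeval id) (gen J))
    rw [hw, TP_sum, map_sum]
    simp only [LinearMap.lTensor_tmul, psiT_tprod]
    rw [sum_tmul_pol, Nat.cast_smul_eq_nsmul]

theorem hi_of_isUnit (hu : IsUnit ((d.factorial : ℕ) : A)) (t : SymTen.TS A B d) :
    ∃ y : MvPolynomial (Fin d × B) A,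
      (∀ σ : Equiv.Perm (Fin d), sg σ y = y) ∧ kap A B d y = (t : ⨂[A] _ : Fin d, B) := by
  obtain ⟨u, hu⟩ := hu
  obtain ⟨x, hx⟩ := kap_surjective (A := A) (B := B) (d := d) (t : ⨂[A] _ : Fin d, B)
  refine ⟨(↑u⁻¹ : A) • ∑ σ : Equiv.Perm (Fin d), sg σ x, fun ρ => ?_, ?_⟩
  · rw [map_smul, map_sum]
    simp only [sg_apply_apply]
    congr 1
    exact Equiv.sum_comp (Equiv.mulLeft ρ) (fun σ => sg σ x)
  · rw [map_smul, map_sum]
    simp only [kap_sg, hx]
    have h3 : ∀ σ : Equiv.Perm (Fin d), SymTen.perm A B d σ (t : ⨂[A] _ : Fin d, B) = t := by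
      intro σ
      rw [SymTen.perm_apply]
      exact t.2 σ
    rw [Finset.sum_congr rfl (fun σ _ => h3 σ), Finset.sum_const, Finset.card_univ,
      Fintype.card_perm, Fintype.card_fin, ← Nat.cast_smul_eq_nsmul A, ← hu, smul_smul,
      Units.inv_mul, one_smul]

theorem hii_of_isUnit (hu : IsUnit ((d.factorial : ℕ) : A))
    (C' : Type u) [CommRing C'] [Algebra A C'] (F : PolLaw.MulLaw A B C' d)
    (y : MvPolynomial (Fin d × B) A) (hy : ∀ σ : Equiv.Perm (Fin d), sg σ y = y)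
    (h0 : kap A B d y = 0) : hv F id y = 0 := by
  obtain ⟨u, hu⟩ := hu
  have h := psiT_kap F y hy
  rw [h0, map_zero, ← hu] at h
  have h2 := congrArg (fun z => (↑u⁻¹ : A) • z) h
  simp only [smul_zero, smul_smul, Units.inv_mul, one_smul] at h2
  exact h2.symm

theorem isGammaD_tau_of_isUnit (hu : IsUnit ((d.factorial : ℕ) : A)) :
    PolLaw.IsGammaD (tau A B d) :=
  isGammaD_of (hi_of_isUnit hu) (fun C' _ _ F y hy h0 => hii_of_isUnit hu C' F y hy h0)

end Groth.Agent.Lib.Helper32.PolLawTSFact
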