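import Groth.Agent.Lib.Helper32.PolLawLazard
import Groth.Agent.Lib.Helper32.PolLawTSFact

set_option autoImplicit false
universe u
open scoped TensorProduct

namespace Groth.Agent.Lib.Helper32.PolLawTSFlat

open Groth.Agent.Lib.Helper32.PolLawBasic Groth.Agent.Lib.Helper32.PolLawFactor
  Groth.Agent.Lib.Helper32.PolLawFactorC Groth.Agent.Lib.Helper32.PolLawGammaGen
  Groth.Agent.Lib.Helper32.PolLawPolar Groth.Agent.Lib.Helper32.PolLawSym
  Groth.Agent.Lib.Helper32.PolLawNorm Groth.Agent.Lib.Helper32.PolLawNormKer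
  Groth.Agent.Lib.Helper32.PolLawTd Groth.Agent.Lib.Helper32.PolLawTd2
  Groth.Agent.Lib.Helper32.PolLawCorestrict Groth.Agent.Lib.Helper32.PolLawTS
  Groth.Agent.Lib.Helper32.PolLawTSUniv Groth.Agent.Lib.Helper32.PolLawLazard MvPolynomial

variable {A : Type u} [CommRing A] {B : Type u} [CommRing B] [Algebra A B] {d : ℕ}

theorem TdLin_sum_eq_zero {τ' : Type u} (V : MvPolynomial B A →ₗ[A] MvPolynomial τ' A) {n : ℕ}
    (c : Fin n → A) (q : Fin n → Fin d → MvPolynomial B A) (jj : Fin n → Fin d)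
    (hV0 : ∀ i, V (q i (jj i)) = 0) :
    TdLin (d := d) V (∑ i, c i • ptM (q i)) = 0 := by
  rw [map_sum]
  refine Finset.sum_eq_zero fun i _ => ?_
  rw [map_smul, TdLin_ptM, ptM_apply, Finset.prod_eq_zero (Finset.mem_univ (jj i)), smul_zero]
  rw [hV0 i, map_zero]

theorem hii_of_flat [Module.Flat A B] (C' : Type u) [CommRing C'] [Algebra A C']
    (F : PolLaw.MulLaw A B C' d) (y : MvPolynomial (Fin d × B) A)
    (hy : ∀ σ : Equiv.Perm (Fin d), sg σ y = y) (h0 : kap A B d y = 0) : hv F id y = 0 := by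
  classical
  obtain ⟨n, c, q, jj, hq, hyq⟩ := exists_repr_of_kap_eq_zero y h0
  obtain ⟨J₁, hJ₁⟩ := exists_support A ((1 : A) ⊗ₜ[A] y)
  set J₀ := J₁ ∪ Finset.univ.biUnion (fun i : Fin n =>
    Finset.univ.biUnion (fun k : Fin d => (q i k).support)) with hJ₀
  have hsupp : ∀ i, (q i (jj i)).support ⊆ J₀ := by
    intro i m hm
    rw [hJ₀]
    apply Finset.mem_union_right
    rw [Finset.mem_biUnion]
    refine ⟨i, Finset.mem_univ i, ?_⟩
    rw [Finset.mem_biUnion]
    exact ⟨jj i, Finset.mem_univ _, hm⟩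
  obtain ⟨k, V, v', hV, hV0⟩ := exists_flat_factor J₀ (fun i => q i (jj i)) hsupp hq
  have hT0 : TdLin (d := d) V y = 0 := by
    rw [hyq]
    exact TdLin_sum_eq_zero V c q jj hV0
  have h := EP A (hv F id) (hv F v' ∘ₗ TdLin V) J₀ ?_ ((1 : A) ⊗ₜ[A] y) (inv_one_tmul y hy)
    (hJ₁ J₀ Finset.subset_union_left)
  · have h2 := hv_ground_of_lTensor _ _ y h
    rw [h2, LinearMap.comp_apply, hT0, map_zero]
  · rw [lTensor_comp_apply', TdLin_Gam, hv_Gam, hv_Gam, Gv_toFun', Gv_toFun']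
    congr 1
    rw [gen, map_sum, map_sum, map_sum]
    refine Finset.sum_congr rfl fun m hm => ?_
    rw [LinearMap.lTensor_tmul, Algebra.TensorProduct.map_tmul, Algebra.TensorProduct.map_tmul,
      hV]
    exact (support_monomial_subset).trans (Finset.singleton_subset_iff.mpr hm)

theorem hi_of_flat [Module.Flat A B] (t : SymTen.TS A B d) :
    ∃ y : MvPolynomial (Fin d × B) A,
      (∀ σ : Equiv.Perm (Fin d), sg σ y = y) ∧ kap A B d y = (t : ⨂[A] _ : Fin d, B) := by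
  classical
  obtain ⟨x, hx⟩ := kap_surjective (A := A) (B := B) (d := d) (t : ⨂[A] _ : Fin d, B)
  have hker : ∀ σ : Equiv.Perm (Fin d), kap A B d (sg σ x - x) = 0 := by
    intro σ
    rw [map_sub, kap_sg, hx, SymTen.perm_apply, t.2 σ, sub_self]
  choose n c q jj hq hrep using fun σ => exists_repr_of_kap_eq_zero (sg σ x - x) (hker σ)
  obtain ⟨J₁, hJ₁⟩ := exists_support A ((1 : A) ⊗ₜ[A] x)
  set J₀ := J₁ ∪ Finset.univ.biUnion (fun σ : Equiv.Perm (Fin d) =>
    Finset.univ.biUnion (fun i : Fin (n σ) =>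
      Finset.univ.biUnion (fun k : Fin d => (q σ i k).support))) with hJ₀
  have hsupp : ∀ p : (Σ σ : Equiv.Perm (Fin d), Fin (n σ)),
      (q p.1 p.2 (jj p.1 p.2)).support ⊆ J₀ := by
    rintro ⟨σ, i⟩ m hm
    rw [hJ₀]
    apply Finset.mem_union_right
    rw [Finset.mem_biUnion]
    refine ⟨σ, Finset.mem_univ σ, ?_⟩
    rw [Finset.mem_biUnion]
    refine ⟨i, Finset.mem_univ i, ?_⟩
    rw [Finset.mem_biUnion]
    exact ⟨jj σ i, Finset.mem_univ _, hm⟩
  obtain ⟨k, V, v', hV, hV0⟩ := exists_flat_factor J₀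
    (ι' := Σ σ : Equiv.Perm (Fin d), Fin (n σ)) (fun p => q p.1 p.2 (jj p.1 p.2)) hsupp
    (fun p => hq p.1 p.2)
  have hinv : ∀ σ : Equiv.Perm (Fin d), sg σ (TdLin (d := d) V x) = TdLin V x := by
    intro σ
    rw [← TdLin_sg]
    have e : sg σ x = x + (sg σ x - x) := by ring
    rw [e, map_add, hrep σ, TdLin_sum_eq_zero V (c σ) (q σ) (jj σ) (fun i => hV0 ⟨σ, i⟩),
      add_zero]
  refine ⟨Td (aeval (fun i => (X (v' i) : MvPolynomial B A))) (TdLin V x), fun σ => ?_, ?_⟩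
  · rw [← Td_sg, hinv]
  · rw [kap_Td, ← hx]
    have hx' : x = ∑ p ∈ Fintype.piFinset (fun _ : Fin d => J₀),
        cS A (thetaOf p) ((1 : A) ⊗ₜ[A] x) • (monomial (thetaOf p) (1 : A)) := by
      have h1 := congrArg (TensorProduct.lid A _) (hJ₁ J₀ Finset.subset_union_left)
      rw [TensorProduct.lid_tmul, one_smul, map_sum] at h1
      simp only [TensorProduct.lid_tmul] at h1
      exact h1
    conv_lhs => rw [hx']
    conv_rhs => rw [hx']
    rw [map_sum, map_sum, map_sum]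
    refine Finset.sum_congr rfl fun p hp => ?_
    rw [map_smul, map_smul, map_smul]
    congr 1
    rw [TdLin_monomial, tupleOf_thetaOf, kapv_ptM, monomial_thetaOf, ← ptM_apply, kap_ptM]
    refine Finset.prod_congr rfl fun j _ => ?_
    rw [hV]
    rw [Fintype.mem_piFinset] at hp
    exact (support_monomial_subset).trans (Finset.singleton_subset_iff.mpr (hp j))

theorem isGammaD_tau_of_flat [Module.Flat A B] : PolLaw.IsGammaD (tau A B d) :=
  isGammaD_of hi_of_flat (fun C' _ _ F y hy h0 => hii_of_flat C' F y hy h0)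

end Groth.Agent.Lib.Helper32.PolLawTSFlat
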