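import Groth.Agent.Lib.Helper32.PolLawGammaApp
import Groth.Agent.Lib.Helper32.PolLawPolar
import Groth.Agent.Lib.Helper32.PolLawQuotC
import Groth.Agent.Lib.Helper32.PolLawTSFlat

set_option autoImplicit false
universe u
open scoped TensorProduct

namespace Groth.Agent.Lib.Helper32.GammaDescend

open Groth.Agent.Lib.Helper32.PolLawBasic Groth.Agent.Lib.Helper32.PolLawFactorC
  Groth.Agent.Lib.Helper32.PolLawQuotC

variable {A : Type u} [CommRing A] {P B T : Type u} [CommRing P] [Algebra A P] [CommRing B]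
  [Algebra A B] [CommRing T] [Algebra A T] {d : ℕ} (τ : PolLaw.MulLaw A P T d) (π : P →ₐ[A] B)

def JJ : Ideal T where
  carrier := {t | ∀ (C' : Type u) [CommRing C'] [Algebra A C'] (F : PolLaw.MulLaw A B C' d)
    (f : T →ₐ[A] C'), PolLaw.postcomp f.toLinearMap τ.law = (F.precomp π).law → f t = 0}
  zero_mem' := by
    intro C' _ _ F f _
    exact map_zero f
  add_mem' := by
    intro a b ha hb C' _ _ F f h
    rw [map_add, ha C' F f h, hb C' F f h, add_zero]
  smul_mem' := by
    intro c a ha C' _ _ F f h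
    rw [smul_eq_mul, map_mul, ha C' F f h, mul_zero]

noncomputable def tq : PolLaw.MulLaw A P (T ⧸ JJ τ π) d :=
  τ.postcomp (Ideal.Quotient.mkₐ A (JJ τ π))

theorem tq_toFun' (S : Type u) [CommSemiring S] [Algebra A S] (x : S ⊗[A] P) :
    (tq τ π).law.toFun' S x =
      (Ideal.Quotient.mkₐ A (JJ τ π)).toLinearMap.lTensor S (τ.law.toFun' S x) := rfl

theorem postcomp_toFun' {C' : Type u} [CommRing C'] [Algebra A C'] (f : T →ₐ[A] C')
    (S : Type u) [CommSemiring S] [Algebra A S] (x : S ⊗[A] P) :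
    (PolLaw.postcomp f.toLinearMap τ.law).toFun' S x = f.toLinearMap.lTensor S (τ.law.toFun' S x) :=
  rfl

theorem ker_le : RingHom.ker π ≤ PolLaw.ker (tq τ π).law := by
  intro i hi
  apply mem_ker_of_mvPolynomial
  intro n x w
  rw [tq_toFun', tq_toFun']
  apply ext_cfC
  intro ν
  rw [Groth.Agent.Lib.Helper32.PolLawPolar.cfC_lTensor,
    Groth.Agent.Lib.Helper32.PolLawPolar.cfC_lTensor, ← sub_eq_zero, ← map_sub, ← map_sub]
  show Ideal.Quotient.mk (JJ τ π) _ = 0
  rw [Ideal.Quotient.eq_zero_iff_mem]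
  intro C' _ _ F f hf
  show f.toLinearMap _ = 0
  rw [← Groth.Agent.Lib.Helper32.PolLawPolar.cfC_lTensor, map_sub, ← postcomp_toFun',
    ← postcomp_toFun', hf, mulLaw_precomp_toFun', mulLaw_precomp_toFun', map_add, map_mul,
    Algebra.TensorProduct.map_tmul, (RingHom.mem_ker).mp hi, TensorProduct.tmul_zero, mul_zero,
    add_zero, sub_self, map_zero]

noncomputable def γ1 : PolLaw.MulLaw A (P ⧸ RingHom.ker π) (T ⧸ JJ τ π) d :=
  quot (tq τ π) (ker_le τ π)

variable {π}

noncomputable def eB (hπ : Function.Surjective π) : B →ₐ[A] P ⧸ RingHom.ker π :=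
  ((Ideal.quotientKerAlgEquivOfSurjective hπ).symm : B ≃ₐ[A] _).toAlgHom

noncomputable def γB (hπ : Function.Surjective π) : PolLaw.MulLaw A B (T ⧸ JJ τ π) d :=
  (γ1 τ π).precomp (eB hπ)

theorem eB_π (hπ : Function.Surjective π) (S : Type u) [CommSemiring S] [Algebra A S]
    (x : S ⊗[A] P) :
    Algebra.TensorProduct.map (AlgHom.id S S) (eB hπ)
      (Algebra.TensorProduct.map (AlgHom.id S S) π x) = qm _ S x := by
  induction x using TensorProduct.induction_on with
  | zero => simp
  | add x y hx hy => simp only [map_add, hx, hy]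
  | tmul s p =>
    rw [Algebra.TensorProduct.map_tmul, Algebra.TensorProduct.map_tmul, qm_tmul]
    congr 1
    show (Ideal.quotientKerAlgEquivOfSurjective hπ).symm (π p) = _
    rw [AlgEquiv.symm_apply_eq]
    rfl

theorem map_π_surjective (hπ : Function.Surjective π) (S : Type u) [CommSemiring S]
    [Algebra A S] :
    Function.Surjective (Algebra.TensorProduct.map (AlgHom.id S S) π) := by
  have := LinearMap.lTensor_surjective (R := A) S (g := π.toLinearMap) hπ
  intro y
  obtain ⟨z, hz⟩ := this y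
  exact ⟨z, by rw [← hz, PolLaw.lTensor_algHom_apply]⟩

theorem γB_π (hπ : Function.Surjective π) (S : Type u) [CommSemiring S] [Algebra A S]
    (x : S ⊗[A] P) :
    (γB τ hπ).law.toFun' S (Algebra.TensorProduct.map (AlgHom.id S S) π x) =
      (Ideal.Quotient.mkₐ A (JJ τ π)).toLinearMap.lTensor S (τ.law.toFun' S x) := by
  rw [γB, mulLaw_precomp_toFun', eB_π, γ1, quot_qm, tq_toFun']

theorem isGammaD_γB (hτ : PolLaw.IsGammaD τ) (hπ : Function.Surjective π) :
    PolLaw.IsGammaD (γB τ hπ) := by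
  intro C' _ _ F
  obtain ⟨f, hf, hfu⟩ := hτ C' (F.precomp π)
  have hfJ : ∀ t ∈ JJ τ π, f t = 0 := fun t ht => ht C' F f hf
  refine ⟨Ideal.Quotient.liftₐ (JJ τ π) f hfJ, ?_, ?_⟩
  · apply PolynomialLaw.ext
    funext S _ _ y
    obtain ⟨x, rfl⟩ := map_π_surjective hπ S y
    show (Ideal.Quotient.liftₐ (JJ τ π) f hfJ).toLinearMap.lTensor S
      ((γB τ hπ).law.toFun' S _) = _
    rw [γB_π, ← LinearMap.lTensor_comp_apply]
    have e : (Ideal.Quotient.liftₐ (JJ τ π) f hfJ).toLinearMap ∘ₗ
        (Ideal.Quotient.mkₐ A (JJ τ π)).toLinearMap = f.toLinearMap := by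
      apply LinearMap.ext
      intro t
      rfl
    rw [e, ← postcomp_toFun', hf, mulLaw_precomp_toFun']
  · intro g hg
    have h1 : g.comp (Ideal.Quotient.mkₐ A (JJ τ π)) = f := by
      apply hfu
      apply PolynomialLaw.ext
      funext S _ _ x
      have hgx := congrFun (congrArg (fun L => PolynomialLaw.toFun' L S) hg)
        (Algebra.TensorProduct.map (AlgHom.id S S) π x)
      rw [mulLaw_precomp_toFun', ← hgx]
      show (g.comp (Ideal.Quotient.mkₐ A (JJ τ π))).toLinearMap.lTensor S (τ.law.toFun' S x) =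
        g.toLinearMap.lTensor S ((γB τ hπ).law.toFun' S _)
      rw [γB_π, ← LinearMap.lTensor_comp_apply]
      rfl
    apply AlgHom.ext
    intro q
    obtain ⟨t, rfl⟩ := Ideal.Quotient.mk_surjective q
    have := DFunLike.congr_fun h1 t
    exact this

section Exist

open Groth.Agent.Lib.Helper32.PolLawGammaGen

theorem exists_isGammaD (A B : Type u) [CommRing A] [CommRing B] [Algebra A B] (d : ℕ) :
    ∃ (C : Type u) (_ : CommRing C) (_ : Algebra A C) (γ : PolLaw.MulLaw A B C d),
      PolLaw.IsGammaD γ :=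
  ⟨_, inferInstance, inferInstance,
    γB (Groth.Agent.Lib.Helper32.PolLawTS.tau A (MvPolynomial B A) d)
      (piB_surjective (A := A) (B := B)),
    isGammaD_γB _ Groth.Agent.Lib.Helper32.PolLawTSFlat.isGammaD_tau_of_flat _⟩

end Exist

section Equiv

variable {A : Type u} [CommRing A] {B B' C : Type u} [CommRing B] [Algebra A B] [CommRing B']
  [Algebra A B'] [CommRing C] [Algebra A C] {d : ℕ} (γ : PolLaw.MulLaw A B C d)

theorem map_symm_map (e : B' ≃ₐ[A] B) (S : Type u) [CommSemiring S] [Algebra A S]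
    (x : S ⊗[A] B') :
    Algebra.TensorProduct.map (AlgHom.id S S) (e.symm : B →ₐ[A] B')
      (Algebra.TensorProduct.map (AlgHom.id S S) (e : B' →ₐ[A] B) x) = x := by
  induction x using TensorProduct.induction_on with
  | zero => simp
  | add x y hx hy => simp only [map_add, hx, hy]
  | tmul s b => simp

theorem map_map_symm (e : B' ≃ₐ[A] B) (S : Type u) [CommSemiring S] [Algebra A S]
    (y : S ⊗[A] B) :
    Algebra.TensorProduct.map (AlgHom.id S S) (e : B' →ₐ[A] B)
      (Algebra.TensorProduct.map (AlgHom.id S S) (e.symm : B →ₐ[A] B') y) = y := by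
  induction y using TensorProduct.induction_on with
  | zero => simp
  | add x y hx hy => simp only [map_add, hx, hy]
  | tmul s b => simp

theorem isGammaD_precomp_equiv (hγ : PolLaw.IsGammaD γ) (e : B' ≃ₐ[A] B) :
    PolLaw.IsGammaD (γ.precomp (e : B' →ₐ[A] B)) := by
  intro C' _ _ F
  obtain ⟨f, hf, hfu⟩ := hγ C' (F.precomp (e.symm : B →ₐ[A] B'))
  refine ⟨f, ?_, ?_⟩
  · apply PolynomialLaw.ext
    funext S _ _ x
    show f.toLinearMap.lTensor S ((γ.precomp (e : B' →ₐ[A] B)).law.toFun' S x) = _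
    have h1 := congrFun (congrArg (fun L => PolynomialLaw.toFun' L S) hf)
      (Algebra.TensorProduct.map (AlgHom.id S S) (e : B' →ₐ[A] B) x)
    rw [mulLaw_precomp_toFun', map_symm_map] at h1
    rw [mulLaw_precomp_toFun']
    exact h1
  · intro g hg
    apply hfu
    apply PolynomialLaw.ext
    funext S _ _ y
    show g.toLinearMap.lTensor S (γ.law.toFun' S y) = _
    have h1 := congrFun (congrArg (fun L => PolynomialLaw.toFun' L S) hg)
      (Algebra.TensorProduct.map (AlgHom.id S S) (e.symm : B →ₐ[A] B') y)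
    rw [mulLaw_precomp_toFun']
    rw [← h1]
    show _ = g.toLinearMap.lTensor S ((γ.precomp (e : B' →ₐ[A] B)).law.toFun' S _)
    rw [mulLaw_precomp_toFun', map_map_symm]

end Equiv

end Groth.Agent.Lib.Helper32.GammaDescend
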