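import Mathlib.RingTheory.Spectrum.Prime.Topology
import Mathlib.Topology.Connected.TotallyDisconnected
import Mathlib.RingTheory.Nilpotent.Basic

set_option autoImplicit false
universe u

namespace Groth.Agent.Lib.Helper32.IdemTop

variable {C : Type u} [CommRing C]

def IsOrthFam (s : Finset C) : Prop :=
  (∀ e ∈ s, IsIdempotentElem e) ∧ (∀ e ∈ s, e ≠ 0) ∧
    (∀ e ∈ s, ∀ e' ∈ s, e ≠ e' → e * e' = 0) ∧ ∑ e ∈ s, e = 1

theorem exists_orthFam : ∃ s : Finset C, IsOrthFam s := by
  classical
  rcases subsingleton_or_nontrivial C with h | h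
  · exact ⟨∅, by simp [IsOrthFam, eq_iff_true_of_subsingleton]⟩
  · refine ⟨{1}, ?_⟩
    simp [IsOrthFam, IsIdempotentElem]

theorem IsOrthFam.refine {s : Finset C} (hs : IsOrthFam s) {e f : C} (he : e ∈ s)
    (hf : IsIdempotentElem f) (hfe : f * e = f) (hf0 : f ≠ 0) (hfe' : f ≠ e) :
    ∃ s' : Finset C, IsOrthFam s' ∧ s'.card = s.card + 1 := by
  classical
  obtain ⟨hidem, hne, horth, hsum⟩ := hs
  have hee : e * e = e := hidem e he
  have hff : f * f = f := hf
  have hef : e * f = f := by rw [mul_comm, hfe]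
  set g := e - f with hg
  have hgg : g * g = g := by
    rw [hg, sub_mul, mul_sub, mul_sub, hee, hef, hfe, hff, sub_self, sub_zero]
  have hg0 : g ≠ 0 := by
    rw [hg, sub_ne_zero]
    exact fun h => hfe' h.symm
  have hfg : f * g = 0 := by rw [hg, mul_sub, hfe, hff, sub_self]
  have hfo : ∀ e' ∈ s.erase e, f * e' = 0 := by
    intro e' he'
    rw [← hfe, mul_assoc, horth e he e' (Finset.mem_of_mem_erase he')
      (Finset.ne_of_mem_erase he').symm, mul_zero]
  have hgo : ∀ e' ∈ s.erase e, g * e' = 0 := by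
    intro e' he'
    rw [hg, sub_mul, hfo e' he', sub_zero, horth e he e' (Finset.mem_of_mem_erase he')
      (Finset.ne_of_mem_erase he').symm]
  have hfg' : f ≠ g := by
    intro h
    apply hf0
    rw [← hff]
    nth_rewrite 2 [h]
    exact hfg
  have hfs : f ∉ s.erase e := by
    intro h
    apply hf0
    rw [← hff]
    exact hfo f h
  have hgs : g ∉ s.erase e := by
    intro h
    apply hg0
    rw [← hgg]
    exact hgo g h
  refine ⟨insert f (insert g (s.erase e)), ⟨?_, ?_, ?_, ?_⟩, ?_⟩
  · intro x hx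
    rcases Finset.mem_insert.mp hx with rfl | hx
    · exact hf
    rcases Finset.mem_insert.mp hx with rfl | hx
    · exact hgg
    · exact hidem x (Finset.mem_of_mem_erase hx)
  · intro x hx
    rcases Finset.mem_insert.mp hx with rfl | hx
    · exact hf0
    rcases Finset.mem_insert.mp hx with rfl | hx
    · exact hg0
    · exact hne x (Finset.mem_of_mem_erase hx)
  · intro x hx y hy hxy
    have hx' : x = f ∨ x = g ∨ x ∈ s.erase e := by
      simpa only [Finset.mem_insert] using hx
    have hy' : y = f ∨ y = g ∨ y ∈ s.erase e := by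
      simpa only [Finset.mem_insert] using hy
    rcases hx' with hxf | hxg | hxs
    · rcases hy' with hyf | hyg | hys
      · exact absurd (hxf.trans hyf.symm) hxy
      · rw [hxf, hyg]; exact hfg
      · rw [hxf]; exact hfo y hys
    · rcases hy' with hyf | hyg | hys
      · rw [hxg, hyf, mul_comm]; exact hfg
      · exact absurd (hxg.trans hyg.symm) hxy
      · rw [hxg]; exact hgo y hys
    · rcases hy' with hyf | hyg | hys
      · rw [hyf, mul_comm]; exact hfo x hxs
      · rw [hyg, mul_comm]; exact hgo x hxs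
      · exact horth x (Finset.mem_of_mem_erase hxs) y (Finset.mem_of_mem_erase hys) hxy
  · rw [Finset.sum_insert, Finset.sum_insert hgs, ← add_assoc, hg, add_sub_cancel,
      Finset.add_sum_erase s (fun x => x) he, hsum]
    simp only [Finset.mem_insert, not_or]
    exact ⟨hfg', hfs⟩
  · rw [Finset.card_insert_of_notMem, Finset.card_insert_of_notMem hgs, Finset.card_erase_of_mem he]
    · have : 0 < s.card := Finset.card_pos.mpr ⟨e, he⟩
      omega
    · simp only [Finset.mem_insert, not_or]
      exact ⟨hfg', hfs⟩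

theorem isPreconnected_basicOpen_of_primitive {e : C} (he : IsIdempotentElem e)
    (hprim : ∀ f : C, IsIdempotentElem f → f * e = f → f = 0 ∨ f = e) :
    IsPreconnected (PrimeSpectrum.basicOpen e : Set (PrimeSpectrum C)) := by
  rw [isPreconnected_iff_subset_of_disjoint]
  intro u v hu hv huv hdisj
  have hDe : IsClopen (PrimeSpectrum.basicOpen e : Set (PrimeSpectrum C)) :=
    PrimeSpectrum.isClopen_iff.mpr ⟨e, he, rfl⟩
  set T : Set (PrimeSpectrum C) := (PrimeSpectrum.basicOpen e : Set (PrimeSpectrum C)) ∩ u with hT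
  have hT' : T = (PrimeSpectrum.basicOpen e : Set (PrimeSpectrum C)) ∩ vᶜ := by
    ext p
    simp only [hT, Set.mem_inter_iff, Set.mem_compl_iff]
    constructor
    · rintro ⟨hp, hpu⟩
      refine ⟨hp, fun hpv => ?_⟩
      have : p ∈ (PrimeSpectrum.basicOpen e : Set (PrimeSpectrum C)) ∩ (u ∩ v) := ⟨hp, hpu, hpv⟩
      rw [hdisj] at this
      exact this
    · rintro ⟨hp, hpv⟩
      refine ⟨hp, ?_⟩
      rcases huv hp with h | h
      · exact h
      · exact absurd h hpv
  have hTclopen : IsClopen T := by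
    refine ⟨?_, ?_⟩
    · rw [hT']
      exact hDe.1.inter hv.isClosed_compl
    · exact hDe.2.inter hu
  obtain ⟨f, hf, hTf⟩ := PrimeSpectrum.isClopen_iff.mp hTclopen
  have hle : PrimeSpectrum.basicOpen f ≤ PrimeSpectrum.basicOpen e := by
    intro p hp
    have : p ∈ T := by rw [hTf]; exact hp
    exact this.1
  have hfe : f * e = f := by
    apply PrimeSpectrum.basicOpen_injOn_isIdempotentElem (hf.mul he) hf
    rw [PrimeSpectrum.basicOpen_mul]
    exact inf_eq_left.mpr hle
  rcases hprim f hf hfe with h0 | h1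
  · right
    intro p hp
    rcases huv hp with h | h
    · exfalso
      have : p ∈ T := ⟨hp, h⟩
      rw [hTf, h0, PrimeSpectrum.basicOpen_zero] at this
      exact this
    · exact h
  · left
    intro p hp
    have : p ∈ T := by rw [hTf, h1]; exact hp
    exact this.2

theorem card_connectedComponents_le (d : ℕ) (H : ∀ s : Finset C, IsOrthFam s → s.card ≤ d) :
    Finite (ConnectedComponents (PrimeSpectrum C)) ∧
      Nat.card (ConnectedComponents (PrimeSpectrum C)) ≤ d := by
  classical
  let Q : ℕ → Prop := fun k => ∃ s : Finset C, IsOrthFam s ∧ s.card = k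
  obtain ⟨s₀, hs₀⟩ := exists_orthFam (C := C)
  have hQ₀ : Q s₀.card := ⟨s₀, hs₀, rfl⟩
  have hn := Nat.findGreatest_spec (P := Q) (H s₀ hs₀) hQ₀
  obtain ⟨s, hs, hcard⟩ := hn
  have hmax : ∀ s' : Finset C, IsOrthFam s' → s'.card ≤ s.card := by
    intro s' hs'
    rw [hcard]
    exact Nat.le_findGreatest (H s' hs') ⟨s', hs', rfl⟩
  have hprim : ∀ e ∈ s, ∀ f : C, IsIdempotentElem f → f * e = f → f = 0 ∨ f = e := by
    intro e he f hf hfe
    by_contra hcon
    rw [not_or] at hcon
    obtain ⟨s', hs', hc⟩ := hs.refine he hf hfe hcon.1 hcon.2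
    have := hmax s' hs'
    omega
  have hpt : ∀ e : s, ∃ p : PrimeSpectrum C, p ∈ (PrimeSpectrum.basicOpen (e : C) : Set (PrimeSpectrum C)) := by
    intro e
    by_contra hcon
    have hbot : PrimeSpectrum.basicOpen (e : C) = ⊥ := by
      ext p
      simp only [TopologicalSpace.Opens.coe_bot, Set.mem_empty_iff_false, iff_false]
      exact fun hp => hcon ⟨p, hp⟩
    rw [PrimeSpectrum.basicOpen_eq_bot_iff] at hbot
    exact hs.2.1 e e.2 ((hs.1 e e.2).eq_zero_of_isNilpotent hbot)
  choose x hx using hpt
  let g : s → ConnectedComponents (PrimeSpectrum C) := fun e => ConnectedComponents.mk (x e)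
  have hg : Function.Surjective g := by
    intro c
    obtain ⟨p, rfl⟩ := ConnectedComponents.surjective_coe c
    have hex : ∃ e ∈ s, e ∉ p.asIdeal := by
      by_contra hcon
      push Not at hcon
      have : ∑ e ∈ s, e ∈ p.asIdeal := sum_mem hcon
      rw [hs.2.2.2] at this
      exact p.2.ne_top ((Ideal.eq_top_iff_one _).mpr this)
    obtain ⟨e, he, hep⟩ := hex
    refine ⟨⟨e, he⟩, ?_⟩
    show ConnectedComponents.mk (x ⟨e, he⟩) = ConnectedComponents.mk p
    rw [ConnectedComponents.coe_eq_coe]
    have hpre := isPreconnected_basicOpen_of_primitive (hs.1 e he) (hprim e he)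
    have hp : p ∈ (PrimeSpectrum.basicOpen e : Set (PrimeSpectrum C)) := hep
    have := hpre.subset_connectedComponent hp (hx ⟨e, he⟩)
    exact connectedComponent_eq this |>.symm
  have hfin : Finite (ConnectedComponents (PrimeSpectrum C)) := Finite.of_surjective g hg
  refine ⟨hfin, ?_⟩
  calc Nat.card (ConnectedComponents (PrimeSpectrum C)) ≤ Nat.card s :=
        Nat.card_le_card_of_surjective g hg
    _ = s.card := by rw [Nat.card_eq_fintype_card, Fintype.card_coe]
    _ ≤ d := H s hs

end Groth.Agent.Lib.Helper32.IdemTop
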