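import Groth.Agent.Lib.Helper94.KosDivDefs

set_option autoImplicit false
universe u

open CategoryTheory CategoryTheory.Limits AlgebraicGeometry Opposite TopologicalSpace
open Groth.Agent.Lib.Lead.Inv Groth.Agent.Lib.Helper94.KosDiv

namespace Groth.Agent.Lib.Helper32.KosDivINC

variable {X : Scheme.{u}}

theorem idealModι_comp_toSubscheme_of_le (I K : X.IdealSheafData) (hKI : K ≤ I) :
    ClSub.idealModι K ≫ ClSub.toSubscheme I = 0 := by
  refine Groth.Agent.Lib.Helper14.LogSub.hom_ext_of_basis _ _ _ X.isBasis_affineOpens ?_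
  intro U hU s
  have h1 : Groth.Agent.Lib.Helper22.IdealModAff.incl K U s ∈ K.ideal ⟨U, hU⟩ :=
    (Groth.Agent.Lib.Helper22.IdealModAff.mem_ideal_iff K ⟨U, hU⟩ _).2 ⟨s, rfl⟩
  have h2 : Groth.Agent.Lib.Helper22.IdealModAff.incl K U s ∈ I.ideal ⟨U, hU⟩ :=
    (Scheme.IdealSheafData.le_def.mp hKI ⟨U, hU⟩) h1
  rw [← Scheme.IdealSheafData.ker_subschemeι_app, RingHom.mem_ker] at h2
  exact h2

theorem exists_incl (I J : X.IdealSheafData) :
    ∃ jI : ClSub.idealMod (I * J) ⟶ ClSub.idealMod I,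
      jI ≫ ClSub.idealModι I = ClSub.idealModι (I * J) := by
  have hle : I * J ≤ I := by
    rw [Scheme.IdealSheafData.le_def]
    intro U
    show I.ideal U * J.ideal U ≤ I.ideal U
    exact Ideal.mul_le_left (I := I.ideal U) (J := J.ideal U)
  exact ⟨kernel.lift (ClSub.toSubscheme I) (ClSub.idealModι (I * J))
    (idealModι_comp_toSubscheme_of_le I (I * J) hle), kernel.lift_ι _ _ _⟩

end Groth.Agent.Lib.Helper32.KosDivINC
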