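import Mathlib
import Groth.Agent.Lib.Helper32.NeronUnqQSRing

set_option autoImplicit false
universe u
open CategoryTheory CategoryTheory.Limits AlgebraicGeometry

namespace Groth.Agent.Lib.Helper32.NeronUnqQS

theorem key {X S : Scheme.{u}} (f : X ⟶ S) {U : S.Opens} (hU : IsAffineOpen U) {V : X.Opens}
    (hV : IsAffineOpen V) (e : V ≤ f ⁻¹ᵁ U) (P : Spec Γ(X, V)) :
    ∃ (E₁ : S.residueField (f (hV.fromSpec P)) ≅
        CommRingCat.of ((Spec.map (f.appLE U V e)) P).asIdeal.ResidueField)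
      (E₂ : X.residueField (hV.fromSpec P) ≅ CommRingCat.of P.asIdeal.ResidueField),
      E₁.hom ≫ CommRingCat.ofHom (Ideal.ResidueField.map ((Spec.map (f.appLE U V e)) P).asIdeal
        P.asIdeal (f.appLE U V e).hom rfl) = f.residueFieldMap (hV.fromSpec P) ≫ E₂.hom := by
  have H : Spec.map (f.appLE U V e) ≫ hU.fromSpec = hV.fromSpec ≫ f :=
    IsAffineOpen.SpecMap_appLE_fromSpec f hU hV e
  have h1 := Scheme.Hom.residueFieldMap_congr H P
  rw [Scheme.residueFieldMap_comp, Scheme.residueFieldMap_comp] at h1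
  have h2 := Groth.Agent.Lib.Helper55.residueFieldMap_SpecMap (f.appLE U V e) P
  have hpt : hU.fromSpec ((Spec.map (f.appLE U V e)) P) = f (hV.fromSpec P) := by
    rw [← Scheme.Hom.comp_apply, H, Scheme.Hom.comp_apply]
  refine ⟨(S.residueFieldCongr hpt).symm ≪≫
    asIso (hU.fromSpec.residueFieldMap ((Spec.map (f.appLE U V e)) P)) ≪≫
    Scheme.Spec.residueFieldIso _ _,
    asIso (hV.fromSpec.residueFieldMap P) ≪≫ Scheme.Spec.residueFieldIso _ P, ?_⟩
  rw [← h2]
  simp only [Iso.trans_hom, Iso.symm_hom, asIso_hom, Category.assoc, Iso.hom_inv_id_assoc]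
  rw [reassoc_of% h1]
  simp

theorem exists_etale_section_through {X S : Scheme.{u}} (f : X ⟶ S) [Smooth f] (x : X)
    (hfin : (f.residueFieldMap x).hom.Finite)
    (hsep : letI := (f.residueFieldMap x).hom.toAlgebra
      Algebra.IsSeparable (S.residueField (f x)) (X.residueField x)) :
    ∃ (S' : Scheme.{u}) (g : S' ⟶ S) (s' : S'), Etale g ∧ ∃ h : S' ⟶ X, h ≫ f = g ∧ h s' = x := by
  obtain ⟨U, hU, V, hV, hxV, e, hf⟩ := Smooth.exists_isStandardSmooth f x
  obtain ⟨n, g, hgC, hg⟩ := hf.exists_etale_mvPolynomial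
  obtain ⟨P, rfl⟩ : ∃ P : Spec Γ(X, V), hV.fromSpec P = x :=
    ⟨hV.primeIdealOf ⟨x, hxV⟩, hV.fromSpec_primeIdealOf ⟨x, hxV⟩⟩
  obtain ⟨E₁, E₂, hE⟩ := key f hU hV e P
  algebraize [(f.appLE U V e).hom]
  let gA : MvPolynomial (Fin n) Γ(S, U) →ₐ[Γ(S, U)] Γ(X, V) :=
    { g with commutes' := fun r => congr($hgC r) }
  let p : PrimeSpectrum Γ(S, U) := (Spec.map (f.appLE U V e)) P
  let μ : p.asIdeal.ResidueField →+* P.asIdeal.ResidueField :=
    Ideal.ResidueField.map p.asIdeal P.asIdeal (f.appLE U V e).hom rfl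
  letI algκ : Algebra p.asIdeal.ResidueField P.asIdeal.ResidueField := μ.toAlgebra
  have hμ : μ = (E₂.hom.hom.comp (f.residueFieldMap (hV.fromSpec P)).hom).comp E₁.inv.hom := by
    have h3 : CommRingCat.ofHom μ = E₁.inv ≫ f.residueFieldMap (hV.fromSpec P) ≫ E₂.hom := by
      rw [← hE, Iso.inv_hom_id_assoc]
    have h4 := congrArg CommRingCat.Hom.hom h3
    simpa using h4
  have hfinμ : μ.Finite := by
    rw [hμ]
    refine RingHom.Finite.comp (RingHom.Finite.comp ?_ hfin) ?_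
    · exact RingHom.Finite.of_surjective _ (E₂.commRingCatIsoToRingEquiv.surjective)
    · exact RingHom.Finite.of_surjective _ (E₁.symm.commRingCatIsoToRingEquiv.surjective)
  haveI : FiniteDimensional p.asIdeal.ResidueField P.asIdeal.ResidueField := hfinμ
  haveI : Algebra.IsSeparable p.asIdeal.ResidueField P.asIdeal.ResidueField := by
    letI := (f.residueFieldMap (hV.fromSpec P)).hom.toAlgebra
    refine Algebra.IsSeparable.of_equiv_equiv (A₁ := S.residueField (f (hV.fromSpec P)))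
      (B₁ := X.residueField (hV.fromSpec P)) E₁.commRingCatIsoToRingEquiv
      E₂.commRingCatIsoToRingEquiv ?_
    have h4 := congrArg CommRingCat.Hom.hom hE
    ext r
    have h5 : μ (E₁.hom.hom r) = E₂.hom.hom ((f.residueFieldMap (hV.fromSpec P)).hom r) :=
      congrArg (fun ψ => ψ r) h4
    exact h5
  haveI : IsScalarTower Γ(S, U) p.asIdeal.ResidueField P.asIdeal.ResidueField := by
    refine IsScalarTower.of_algebraMap_eq' ?_
    ext r
    simp only [RingHom.comp_apply]
    rw [RingHom.algebraMap_toAlgebra, Ideal.ResidueField.map_algebraMap]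
    rfl
  let θA : Γ(X, V) →ₐ[Γ(S, U)] P.asIdeal.ResidueField :=
    IsScalarTower.toAlgHom Γ(S, U) Γ(X, V) P.asIdeal.ResidueField
  obtain ⟨R₂, _, _, hE', 𝔮₂, _, σ, h1, h2⟩ :=
    Groth.Agent.Lib.Helper32.NeronUnqQSRing.exists_etale_section_data' n gA p
      P.asIdeal.ResidueField θA
  have hker : RingHom.ker θA.toRingHom = P.asIdeal := by
    ext a
    rw [RingHom.mem_ker]
    exact Ideal.algebraMap_residueField_eq_zero
  rw [hker] at h2
  let a : Spec Γ(X, V) ⟶ Spec (.of (MvPolynomial (Fin n) Γ(S, U))) :=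
    Spec.map (CommRingCat.ofHom g)
  let bσ : Spec (.of R₂) ⟶ Spec (.of (MvPolynomial (Fin n) Γ(S, U))) :=
    Spec.map (CommRingCat.ofHom σ.toRingHom)
  let c : Spec (.of R₂) ⟶ Spec Γ(S, U) := Spec.map (CommRingCat.ofHom (algebraMap Γ(S, U) R₂))
  have ha : Etale a := HasRingHomProperty.Spec_iff.mpr hg
  have hc : Etale c := HasRingHomProperty.Spec_iff.mpr (RingHom.etale_algebraMap.mpr hE')
  let gfin : pullback a bσ ⟶ S := pullback.snd a bσ ≫ c ≫ hU.fromSpec
  let hfin' : pullback a bσ ⟶ X := pullback.fst a bσ ≫ hV.fromSpec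
  have hpt : a P = bσ ⟨𝔮₂, inferInstance⟩ := PrimeSpectrum.ext h2
  obtain ⟨z, hz1, hz2⟩ := Scheme.Pullback.exists_preimage_pullback (f := a) (g := bσ)
    P ⟨𝔮₂, inferInstance⟩ hpt
  refine ⟨pullback a bσ, gfin, z, inferInstance, hfin', ?_, ?_⟩
  · change (pullback.fst a bσ ≫ hV.fromSpec) ≫ f = pullback.snd a bσ ≫ c ≫ hU.fromSpec
    rw [Category.assoc, ← IsAffineOpen.SpecMap_appLE_fromSpec f hU hV e]
    have hfac : Spec.map (f.appLE U V e) =
        a ≫ Spec.map (CommRingCat.ofHom (MvPolynomial.C : Γ(S, U) →+* _)) := by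
      rw [← Spec.map_comp]
      congr 1
      ext r
      exact congr($hgC r).symm
    have hfac2 : c = bσ ≫ Spec.map (CommRingCat.ofHom (MvPolynomial.C : Γ(S, U) →+* _)) := by
      change Spec.map _ = Spec.map _ ≫ Spec.map _
      rw [← Spec.map_comp]
      congr 1
      ext r
      exact (σ.commutes r).symm
    rw [hfac, hfac2, Category.assoc, Category.assoc, pullback.condition_assoc]
  · change hV.fromSpec (pullback.fst a bσ z) = hV.fromSpec P
    rw [hz1]

end Groth.Agent.Lib.Helper32.NeronUnqQS
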