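import Groth.Agent.Lib.Helper32.PolLawBC
import Groth.Agent.Lib.Helper27.BcAlong

set_option autoImplicit false
universe u
open scoped TensorProduct

namespace Groth.Agent.Lib.Helper32.NormModBack

variable {R : Type u} [CommRing R] (Q : Type u) [CommRing Q] [Algebra R Q]
  (Y : Type u) [AddCommGroup Y] [Module R Y] [Module Q Y] [IsScalarTower R Q Y]

section Back

variable (S : Type u) [CommSemiring S] [Algebra R S]

noncomputable def backM : (Q ⊗[R] S) ⊗[Q] Y ≃+ S ⊗[R] Y :=
  ((TensorProduct.comm Q (Q ⊗[R] S) Y).toAddEquiv.trans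
    (TensorProduct.AlgebraTensorModule.cancelBaseChange R Q Q Y S).toAddEquiv).trans
      (TensorProduct.comm R Y S).toAddEquiv

theorem backM_tmul (q : Q) (s : S) (y : Y) :
    backM Q Y S ((q ⊗ₜ[R] s) ⊗ₜ[Q] y) = s ⊗ₜ[R] (q • y) := by
  simp [backM]

theorem backM_symm_tmul (s : S) (y : Y) :
    (backM Q Y S).symm (s ⊗ₜ[R] y) = ((1 : Q) ⊗ₜ[R] s) ⊗ₜ[Q] y := by
  rw [AddEquiv.symm_apply_eq, backM_tmul, one_smul]

theorem backM_smul (s : S) (z : (Q ⊗[R] S) ⊗[Q] Y) :
    backM Q Y S (((1 : Q) ⊗ₜ[R] s) • z) = s • backM Q Y S z := by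
  induction z using TensorProduct.induction_on with
  | zero => simp
  | add x y hx hy => simp only [smul_add, map_add, hx, hy]
  | tmul w y =>
    induction w using TensorProduct.induction_on with
    | zero => simp
    | add x y hx hy => simp only [TensorProduct.add_tmul, smul_add, map_add, hx, hy]
    | tmul q s₁ =>
      rw [TensorProduct.smul_tmul', smul_eq_mul, Algebra.TensorProduct.tmul_mul_tmul, one_mul,
        backM_tmul, backM_tmul, TensorProduct.smul_tmul', smul_eq_mul]

variable {S}
variable {S' : Type u} [CommSemiring S'] [Algebra R S']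

theorem backM_map (φ : S →ₐ[R] S') (z : (Q ⊗[R] S) ⊗[Q] Y) :
    backM Q Y S' ((Algebra.TensorProduct.map (AlgHom.id Q Q) φ).toLinearMap.rTensor Y z) =
      φ.toLinearMap.rTensor Y (backM Q Y S z) := by
  induction z using TensorProduct.induction_on with
  | zero => simp
  | add x y hx hy => simp only [map_add, hx, hy]
  | tmul w y =>
    induction w using TensorProduct.induction_on with
    | zero => simp
    | add x y hx hy => simp only [TensorProduct.add_tmul, map_add, hx, hy]
    | tmul q s => simp [backM_tmul]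

theorem backM_symm_map (φ : S →ₐ[R] S') (w : S ⊗[R] Y) :
    (backM Q Y S').symm (φ.toLinearMap.rTensor Y w) =
      (Algebra.TensorProduct.map (AlgHom.id Q Q) φ).toLinearMap.rTensor Y
        ((backM Q Y S).symm w) := by
  rw [AddEquiv.symm_apply_eq, backM_map, AddEquiv.apply_symm_apply]

variable (S)
variable {Y} {Z : Type u} [AddCommGroup Z] [Module R Z] [Module Q Z] [IsScalarTower R Q Z]

theorem backM_lTensor (k : Y →ₗ[Q] Z) (w : (Q ⊗[R] S) ⊗[Q] Y) :
    backM Q Z S (k.lTensor (Q ⊗[R] S) w) = (k.restrictScalars R).lTensor S (backM Q Y S w) := by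
  induction w using TensorProduct.induction_on with
  | zero => simp
  | add x y hx hy => simp only [map_add, hx, hy]
  | tmul w y =>
    induction w using TensorProduct.induction_on with
    | zero => simp
    | add x y hx hy => simp only [TensorProduct.add_tmul, map_add, hx, hy]
    | tmul q s => simp [backM_tmul]

end Back

section QM

variable (P : Type u) [CommSemiring P] [Algebra Q P] [Algebra R P] [IsScalarTower R Q P]

noncomputable def qM : P ⊗[R] Y →ₗ[P] P ⊗[Q] Y :=
  TensorProduct.mapOfCompatibleSMul Q R P P Y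

theorem qM_tmul (p : P) (y : Y) : qM Q Y P (p ⊗ₜ[R] y) = p ⊗ₜ[Q] y := rfl

noncomputable def multQ : Q ⊗[R] P →ₐ[Q] P :=
  Algebra.TensorProduct.lift (Algebra.ofId Q P) (AlgHom.id R P) (fun _ _ => Commute.all _ _)

theorem multQ_tmul (q : Q) (p : P) : multQ (R := R) Q P (q ⊗ₜ[R] p) = algebraMap Q P q * p := by
  simp [multQ, Algebra.ofId_apply]

theorem multQ_rTensor (z : (Q ⊗[R] P) ⊗[Q] Y) :
    (multQ (R := R) Q P).toLinearMap.rTensor Y z = qM Q Y P (backM Q Y P z) := by
  induction z using TensorProduct.induction_on with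
  | zero => simp
  | add x y hx hy => simp only [map_add, hx, hy]
  | tmul w y =>
    induction w using TensorProduct.induction_on with
    | zero => simp
    | add x y hx hy => simp only [TensorProduct.add_tmul, map_add, hx, hy]
    | tmul q p =>
      rw [LinearMap.rTensor_tmul, AlgHom.toLinearMap_apply, multQ_tmul, backM_tmul, qM_tmul,
        ← Algebra.smul_def, TensorProduct.smul_tmul]

theorem multQ_rTensor_symm (w : P ⊗[R] Y) :
    (multQ (R := R) Q P).toLinearMap.rTensor Y ((backM Q Y P).symm w) = qM Q Y P w := by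
  rw [multQ_rTensor, AddEquiv.apply_symm_apply]

theorem backM_qM_incl (S : Type u) [CommSemiring S] [Algebra R S] (w : S ⊗[R] Y) :
    backM Q Y S (qM Q Y (Q ⊗[R] S)
      ((Algebra.TensorProduct.includeRight : S →ₐ[R] Q ⊗[R] S).toLinearMap.rTensor Y w)) = w := by
  induction w using TensorProduct.induction_on with
  | zero => simp
  | add x y hx hy => simp only [map_add, hx, hy]
  | tmul s y =>
    rw [LinearMap.rTensor_tmul, AlgHom.toLinearMap_apply, qM_tmul,
      Algebra.TensorProduct.includeRight_apply, backM_tmul, one_smul]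

variable {P}
variable {P' : Type u} [CommSemiring P'] [Algebra Q P'] [Algebra R P'] [IsScalarTower R Q P']

theorem qM_map (φ : P →ₐ[Q] P') (w : P ⊗[R] Y) :
    qM Q Y P' ((φ.restrictScalars R).toLinearMap.rTensor Y w) =
      φ.toLinearMap.rTensor Y (qM Q Y P w) := by
  induction w using TensorProduct.induction_on with
  | zero => simp
  | add x y hx hy => simp only [map_add, hx, hy]
  | tmul p y => rfl

variable (P)
variable {Y} {Z : Type u} [AddCommGroup Z] [Module R Z] [Module Q Z] [IsScalarTower R Q Z]

theorem qM_lTensor (k : Y →ₗ[Q] Z) (w : P ⊗[R] Y) :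
    qM Q Z P ((k.restrictScalars R).lTensor P w) = k.lTensor P (qM Q Y P w) := by
  induction w using TensorProduct.induction_on with
  | zero => simp
  | add x y hx hy => simp only [map_add, hx, hy]
  | tmul p y => rfl

end QM

section BcAlong

variable {Y}
variable {X : Type u} [AddCommGroup X] [Module R X]
  (P : Type u) [CommRing P] [Algebra Q P] [Algebra R P] [IsScalarTower R Q P]

theorem bcAlong_eq (g : X →ₗ[R] Y) (w : P ⊗[R] X) :
    PolLaw.bcAlong (Q := Q) g P w = qM Q Y P (g.lTensor P w) := by
  induction w using TensorProduct.induction_on with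
  | zero => simp
  | add x y hx hy => simp only [map_add, hx, hy]
  | tmul p x =>
    rw [Groth.Agent.Lib.Helper27.BcAlong.bcAlong_tmul, LinearMap.lTensor_tmul, qM_tmul]

end BcAlong

end Groth.Agent.Lib.Helper32.NormModBack
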