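import Groth.Agent.Lib.Helper32.NormModRes
import Groth.Agent.Lib.Helper47.NormBC

set_option autoImplicit false
universe u
open scoped TensorProduct

namespace Groth.Agent.Lib.Helper32.NormModNormic

open Groth.Agent.Lib.Helper32.NormModBack Groth.Agent.Lib.Helper32.NormModRes
  Groth.Agent.Lib.Helper32.PolLawBC Groth.Agent.Lib.Helper27.BcAlong

variable {R : Type u} [CommRing R] {R' : Type u} [CommRing R'] [Algebra R R']
  {Q : Type u} [CommRing Q] [Algebra R Q] {Q' : Type u} [CommRing Q'] [Algebra R Q']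
  [Algebra Q Q'] [Algebra R' Q'] [IsScalarTower R Q Q'] [IsScalarTower R R' Q']
  {M' : Type u} [AddCommGroup M'] [Module R M'] [Module R' M'] [IsScalarTower R R' M']
  {M'' : Type u} [AddCommGroup M''] [Module R M''] [Module R' M''] [Module Q M''] [Module Q' M'']
  [IsScalarTower R R' M''] [IsScalarTower R Q M''] [IsScalarTower R' Q' M'']
  [IsScalarTower Q Q' M'']
  (f : M' →ₗ[R'] M'')
  {E : Type u} [AddCommGroup E] [Module R E] [Module Q E] [IsScalarTower R Q E]

section Theta

variable (Q Q') (P : Type u) [CommRing P] [Algebra R P]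

noncomputable def theta : P ⊗[R] R' →+* (Q ⊗[R] P) ⊗[Q] Q' :=
  ((bcAlgHom (Q := Q) (Q' := Q') (Q ⊗[R] P)).toRingHom).comp
    (Algebra.TensorProduct.map (Algebra.TensorProduct.includeRight : P →ₐ[R] Q ⊗[R] P)
      (AlgHom.id R R')).toRingHom

theorem theta_apply (x : P ⊗[R] R') :
    theta Q Q' P x = bcAlgHom (Q := Q) (Q' := Q') (Q ⊗[R] P)
      (Algebra.TensorProduct.map (Algebra.TensorProduct.includeRight : P →ₐ[R] Q ⊗[R] P)
        (AlgHom.id R R') x) := rfl

theorem theta_tmul (p : P) (r' : R') :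
    theta Q Q' P (p ⊗ₜ[R] r') = ((1 : Q) ⊗ₜ[R] p) ⊗ₜ[Q] algebraMap R' Q' r' := by
  rw [theta_apply, Algebra.TensorProduct.map_tmul, bcAlgHom_apply, bcAlong_tmul]
  rfl

theorem norm_theta [Algebra.IsPushout R Q R' Q'] [Module.Free R R'] [Module.Finite R R']
    (x : P ⊗[R] R') :
    Algebra.norm (Q ⊗[R] P) (theta Q Q' P x) = (1 : Q) ⊗ₜ[R] Algebra.norm P x := by
  classical
  rw [theta_apply, bcAlgHom_apply, norm_bcAlong,
    Groth.Agent.Lib.Helper47.NormBC.norm_map (Module.Free.chooseBasis R R')]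
  rfl

end Theta

section Act

theorem act_res (P : Type u) [CommRing P] [Algebra R P] (x : P ⊗[R] R') (m : P ⊗[R] M') :
    (backM Q M'' P).symm ((f.restrictScalars R).lTensor P (PolLaw.actEnd M' P x m)) =
      PolLaw.actEnd M'' (Q ⊗[R] P) (theta Q Q' P x)
        ((backM Q M'' P).symm ((f.restrictScalars R).lTensor P m)) := by
  induction x using TensorProduct.induction_on with
  | zero => simp
  | add x y hx hy => simp only [map_add, LinearMap.add_apply, hx, hy]
  | tmul p r' =>
    induction m using TensorProduct.induction_on with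
    | zero => simp
    | add x y hx hy => simp only [map_add, hx, hy]
    | tmul p₁ m₁ =>
      rw [PolLaw.actEnd_tmul_tmul, LinearMap.lTensor_tmul, LinearMap.lTensor_tmul,
        backM_symm_tmul, backM_symm_tmul, theta_tmul, PolLaw.actEnd_tmul_tmul,
        Algebra.TensorProduct.tmul_mul_tmul, one_mul, algebraMap_smul]
      congr 1
      exact map_smul f r' m₁

theorem act_ext (P : Type u) [CommRing P] [Algebra Q P] [Algebra R P] [IsScalarTower R Q P]
    (x : P ⊗[R] R') (w : P ⊗[R] M') :
    qM Q M'' P ((f.restrictScalars R).lTensor P (PolLaw.actEnd M' P x w)) =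
      PolLaw.actEnd M'' P (bcAlgHom (Q := Q) (Q' := Q') P x)
        (qM Q M'' P ((f.restrictScalars R).lTensor P w)) := by
  induction x using TensorProduct.induction_on with
  | zero => simp
  | add x y hx hy => simp only [map_add, LinearMap.add_apply, hx, hy]
  | tmul p r' =>
    induction w using TensorProduct.induction_on with
    | zero => simp
    | add x y hx hy => simp only [map_add, hx, hy]
    | tmul p₁ m₁ =>
      rw [PolLaw.actEnd_tmul_tmul, LinearMap.lTensor_tmul, LinearMap.lTensor_tmul, qM_tmul,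
        qM_tmul, bcAlgHom_apply, bcAlong_tmul, PolLaw.actEnd_tmul_tmul]
      congr 1
      show f (r' • m₁) = (algebraMap R' Q' r') • f m₁
      rw [algebraMap_smul, map_smul]

end Act

section Normic

variable [Algebra.IsPushout R Q R' Q'] [Module.Free R R'] [Module.Finite R R']

theorem isNormic_res (lam : M'' →ₚₗ[Q] E) (h : PolLaw.IsNormic Q' lam) :
    PolLaw.IsNormic R' (resLaw Q (f.restrictScalars R) lam) := by
  intro P _ _ x m
  rw [resLaw_toFun', resLaw_toFun', act_res (Q := Q) (Q' := Q'), h, norm_theta, backM_smul]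

theorem isNormic_ext (hg : IsBaseChange Q (f.restrictScalars R)) (lam : M' →ₚₗ[R] E)
    (h : PolLaw.IsNormic R' lam) : PolLaw.IsNormic Q' (extLaw hg lam) := by
  intro P _ _ x'' z
  let _ := algA (A := R) Q P
  have := towerA (A := R) Q P
  obtain ⟨x, rfl⟩ : ∃ x : P ⊗[R] R', bcAlgHom (Q := Q) (Q' := Q') P x = x'' := by
    obtain ⟨x, hx⟩ := (bcAlong_bijective (R := R) (R' := R') (Q := Q) (Q' := Q') P).2 x''
    exact ⟨x, by rw [bcAlgHom_apply, hx]⟩
  have hz : PolLaw.actEnd M'' P (bcAlgHom (Q := Q) (Q' := Q') P x) z =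
      qM Q M'' P ((f.restrictScalars R).lTensor P (PolLaw.actEnd M' P x (cP hg P z))) := by
    rw [act_ext (Q := Q) (Q' := Q'), qM_cP]
  rw [extLaw_toFun', extLaw_toFun', hz, cP_qM, h, map_smul, bcAlgHom_apply, norm_bcAlong]

end Normic

end Groth.Agent.Lib.Helper32.NormModNormic
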