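import Groth.Agent.Lib.Helper32.NormModBack

set_option autoImplicit false
universe u
open scoped TensorProduct

namespace Groth.Agent.Lib.Helper32.NormModRes

open Groth.Agent.Lib.Helper32.NormModBack Groth.Agent.Lib.Helper32.PolLawBC

variable {R : Type u} [CommRing R] (Q : Type u) [CommRing Q] [Algebra R Q]
  {X : Type u} [AddCommGroup X] [Module R X]
  {Y : Type u} [AddCommGroup Y] [Module R Y] [Module Q Y] [IsScalarTower R Q Y]
  {E : Type u} [AddCommGroup E] [Module R E] [Module Q E] [IsScalarTower R Q E]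
  (g : X →ₗ[R] Y)

section Res

variable (lam : Y →ₚₗ[Q] E)

noncomputable def resFun (S : Type u) [CommSemiring S] [Algebra R S] : S ⊗[R] X → S ⊗[R] E :=
  fun m => backM Q E S (lam.toFun' (Q ⊗[R] S) ((backM Q Y S).symm (g.lTensor S m)))

noncomputable def resLaw : X →ₚₗ[R] E where
  toFun' S _ _ := resFun Q g lam S
  isCompat' {S} _ _ {S'} _ _ φ := by
    funext m
    simp only [Function.comp_apply, resFun]
    rw [← backM_map, PolynomialLaw.isCompat_apply', ← backM_symm_map]
    congr 3
    rw [← LinearMap.comp_apply, ← LinearMap.comp_apply, LinearMap.rTensor_comp_lTensor,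
      LinearMap.lTensor_comp_rTensor]

theorem resLaw_toFun' (S : Type u) [CommSemiring S] [Algebra R S] (m : S ⊗[R] X) :
    (resLaw Q g lam).toFun' S m =
      backM Q E S (lam.toFun' (Q ⊗[R] S) ((backM Q Y S).symm (g.lTensor S m))) := rfl

end Res

section CP

variable {Q g}
variable (hg : IsBaseChange Q g)
  (P : Type u) [CommSemiring P] [Algebra Q P] [Algebra R P] [IsScalarTower R Q P]

noncomputable def cP : P ⊗[Q] Y ≃ₗ[Q] P ⊗[R] X :=
  (LinearEquiv.lTensor P hg.equiv.symm) ≪≫ₗ
    (TensorProduct.AlgebraTensorModule.cancelBaseChange R Q Q P X)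

theorem cP_symm_apply (w : P ⊗[R] X) : (cP hg P).symm w = qM Q Y P (g.lTensor P w) := by
  induction w using TensorProduct.induction_on with
  | zero => simp
  | add x y hx hy => simp only [map_add, hx, hy]
  | tmul p x =>
    rw [LinearMap.lTensor_tmul, qM_tmul, cP, LinearEquiv.trans_symm, LinearEquiv.trans_apply,
      TensorProduct.AlgebraTensorModule.cancelBaseChange_symm_tmul]
    show p ⊗ₜ[Q] (hg.equiv.symm.symm ((1 : Q) ⊗ₜ[R] x)) = _
    rw [LinearEquiv.symm_symm, IsBaseChange.equiv_tmul, one_smul]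

theorem cP_qM (w : P ⊗[R] X) : cP hg P (qM Q Y P (g.lTensor P w)) = w := by
  rw [← cP_symm_apply hg, LinearEquiv.apply_symm_apply]

theorem qM_cP (z : P ⊗[Q] Y) : qM Q Y P (g.lTensor P (cP hg P z)) = z := by
  rw [← cP_symm_apply hg, LinearEquiv.symm_apply_apply]

variable {P}
variable {P' : Type u} [CommSemiring P'] [Algebra Q P'] [Algebra R P'] [IsScalarTower R Q P']

theorem cP_map (φ : P →ₐ[Q] P') (z : P ⊗[Q] Y) :
    cP hg P' (φ.toLinearMap.rTensor Y z) =
      (φ.restrictScalars R).toLinearMap.rTensor X (cP hg P z) := by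
  obtain ⟨w, rfl⟩ := (cP hg P).symm.surjective z
  rw [LinearEquiv.apply_symm_apply, cP_symm_apply, ← qM_map, ← LinearMap.comp_apply]
  rw [show (φ.restrictScalars R).toLinearMap.rTensor Y ∘ₗ g.lTensor P =
    g.lTensor P' ∘ₗ (φ.restrictScalars R).toLinearMap.rTensor X by
      rw [LinearMap.rTensor_comp_lTensor, LinearMap.lTensor_comp_rTensor]]
  rw [LinearMap.comp_apply, cP_qM]

end CP

section Ext

variable {Q g}
variable (hg : IsBaseChange Q g) (lam : X →ₚₗ[R] E)

noncomputable def extFun (P : Type u) [CommSemiring P] [Algebra Q P] : P ⊗[Q] Y → P ⊗[Q] E :=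
  letI := algA (A := R) Q P
  haveI := towerA (A := R) Q P
  fun z => qM Q E P (lam.toFun' P (cP hg P z))

theorem extFun_eq (P : Type u) [CommSemiring P] [Algebra Q P] [inst : Algebra R P]
    [tower : IsScalarTower R Q P] (z : P ⊗[Q] Y) :
    extFun hg lam P z = qM Q E P (lam.toFun' P (cP hg P z)) := by
  have h : inst = algA (A := R) Q P :=
    Algebra.algebra_ext _ _ (fun a => IsScalarTower.algebraMap_apply R Q P a)
  subst h
  rfl

noncomputable def extLaw : Y →ₚₗ[Q] E where
  toFun' P _ _ := extFun hg lam P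
  isCompat' {P} _ _ {P'} _ _ φ := by
    let _ := algA (A := R) Q P
    have := towerA (A := R) Q P
    let _ := algA (A := R) Q P'
    have := towerA (A := R) Q P'
    funext z
    simp only [Function.comp_apply]
    rw [extFun_eq, extFun_eq, cP_map, ← PolynomialLaw.isCompat_apply', qM_map]

theorem extLaw_toFun' (P : Type u) [CommSemiring P] [Algebra Q P] [Algebra R P]
    [IsScalarTower R Q P] (z : P ⊗[Q] Y) :
    (extLaw hg lam).toFun' P z = qM Q E P (lam.toFun' P (cP hg P z)) :=
  extFun_eq hg lam P z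

end Ext

section Inverse

variable {Q g}
variable (hg : IsBaseChange Q g)

theorem backM_symm_lTensor (S : Type u) [CommSemiring S] [Algebra R S] (m : S ⊗[R] X) :
    (backM Q Y S).symm (g.lTensor S m) = qM Q Y (Q ⊗[R] S) (g.lTensor (Q ⊗[R] S)
      ((Algebra.TensorProduct.includeRight : S →ₐ[R] Q ⊗[R] S).toLinearMap.rTensor X m)) := by
  induction m using TensorProduct.induction_on with
  | zero => simp
  | add x y hx hy => simp only [map_add, hx, hy]
  | tmul s x =>
    rw [LinearMap.lTensor_tmul, backM_symm_tmul, LinearMap.rTensor_tmul, LinearMap.lTensor_tmul,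
      qM_tmul]
    rfl

theorem res_ext (lam : X →ₚₗ[R] E) : resLaw Q g (extLaw hg lam) = lam := by
  apply PolynomialLaw.ext
  funext S _ _ m
  rw [resLaw_toFun', extLaw_toFun', backM_symm_lTensor, cP_qM, ← PolynomialLaw.isCompat_apply',
    backM_qM_incl]

theorem ext_res (lam : Y →ₚₗ[Q] E) : extLaw hg (resLaw Q g lam) = lam := by
  apply PolynomialLaw.ext
  funext P _ _ z
  let _ := algA (A := R) Q P
  have := towerA (A := R) Q P
  rw [extLaw_toFun', resLaw_toFun', ← multQ_rTensor, PolynomialLaw.isCompat_apply',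
    multQ_rTensor_symm, qM_cP]

variable (Q g) in
theorem res_postcomp {E' : Type u} [AddCommGroup E'] [Module R E'] [Module Q E']
    [IsScalarTower R Q E'] (k : E →ₗ[Q] E') (lam : Y →ₚₗ[Q] E) :
    resLaw Q g (PolLaw.postcomp k lam) = PolLaw.postcomp (k.restrictScalars R) (resLaw Q g lam) := by
  apply PolynomialLaw.ext
  funext S _ _ m
  show backM Q E' S (k.lTensor (Q ⊗[R] S) (lam.toFun' (Q ⊗[R] S) _)) =
    (k.restrictScalars R).lTensor S (backM Q E S (lam.toFun' (Q ⊗[R] S) _))
  rw [backM_lTensor]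

end Inverse

end Groth.Agent.Lib.Helper32.NormModRes
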