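import Groth.Agent.Lib.Helper96.LeftSlice
import Mathlib.RingTheory.Jacobson.Ring
import Mathlib.FieldTheory.IsAlgClosed.Basic

set_option autoImplicit false
universe u
open TensorProduct

namespace Groth.Agent.Lib.Helper32.OrbitSpan

open Groth.Agent.Lib.Helper96

theorem exists_point_ne_zero (k : Type u) [Field k] [IsAlgClosed k] (A : Type u) [CommRing A]
    [Algebra k A] [Algebra.FiniteType k A] [IsReduced A] (a : A) (ha : a ≠ 0) :
    ∃ g : A →ₐ[k] k, g a ≠ 0 := by
  have hJ : IsJacobsonRing A := isJacobsonRing_of_finiteType (A := k) (B := A)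
  have hj : Ideal.jacobson (⊥ : Ideal A) = ⊥ := hJ.out Ideal.isRadical_bot
  have hna : a ∉ Ideal.jacobson (⊥ : Ideal A) := by
    rw [hj]
    simpa using ha
  rw [Ideal.jacobson, Ideal.mem_sInf] at hna
  push Not at hna
  obtain ⟨m, ⟨-, hm⟩, ham⟩ := hna
  have := hm
  let _ : Field (A ⧸ m) := Ideal.Quotient.field m
  have : Module.Finite k (A ⧸ m) := finite_of_finite_type_of_isJacobsonRing k (A ⧸ m)
  have : Algebra.IsIntegral k (A ⧸ m) := Algebra.IsIntegral.of_finite k (A ⧸ m)
  have hbij : Function.Bijective (algebraMap k (A ⧸ m)) :=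
    IsAlgClosed.algebraMap_bijective_of_isIntegral
  let e : k ≃ₐ[k] (A ⧸ m) := AlgEquiv.ofBijective (Algebra.ofId k (A ⧸ m)) hbij
  refine ⟨(e.symm : (A ⧸ m) →ₐ[k] k).comp (Ideal.Quotient.mkₐ k m), ?_⟩
  intro h
  apply ham
  rw [AlgHom.comp_apply] at h
  have h2 : (Ideal.Quotient.mkₐ k m) a = 0 := by
    have := congrArg e h
    simpa using this
  exact Ideal.Quotient.eq_zero_iff_mem.mp h2

theorem apply_lslM {k : Type u} [Field k] {A : Type u} [AddCommGroup A] [Module k A]
    {U : Type u} [AddCommGroup U] [Module k U] (φ : U →ₗ[k] k) (g : A →ₗ[k] k) (z : U ⊗[k] A) :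
    g (lslM φ z) = φ (slice U g z) := by
  induction z using TensorProduct.induction_on with
  | zero => simp
  | add x y hx hy => simp only [map_add, hx, hy]
  | tmul x b => simp [lslM_tmul, mul_comm]

theorem eq_zero_of_point_slices (k : Type u) [Field k] [IsAlgClosed k] (A : Type u) [CommRing A]
    [Algebra k A] [Algebra.FiniteType k A] [IsReduced A] {U : Type u} [AddCommGroup U]
    [Module k U] (z : U ⊗[k] A) (h : ∀ g : A →ₐ[k] k, slice U g.toLinearMap z = 0) : z = 0 := by
  apply eq_zero_of_lslM_eq_zero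
  intro φ
  by_contra hne
  obtain ⟨g, hg⟩ := exists_point_ne_zero k A _ hne
  apply hg
  have := apply_lslM φ g.toLinearMap z
  rw [h g, map_zero] at this
  exact this

theorem main (k : Type u) [Field k] [IsAlgClosed k] (A : Type u) [CommRing A] [HopfAlgebra k A]
    [Algebra.FiniteType k A] [IsReduced A] (V : Type u) [AddCommGroup V] [Module k V]
    [c : HopfRep.Comod k A V] (v : V) :
    Submodule.span k (Set.range fun g : A →ₐ[k] k => HopfRep.Comod.act k A V g v) =
      orbit c v := by
  have hact : ∀ (g : A →ₐ[k] k) (w : V),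
      HopfRep.Comod.act k A V g w = slice V g.toLinearMap (c.coact w) := fun _ _ => rfl
  set E : Submodule k V :=
    Submodule.span k (Set.range fun g : A →ₐ[k] k => HopfRep.Comod.act k A V g v) with hE
  apply le_antisymm
  · rw [hE, Submodule.span_le]
    rintro _ ⟨g, rfl⟩
    exact ⟨g.toLinearMap, (hact g v).symm⟩
  · have hz : E.mkQ.rTensor A (c.coact v) = 0 := by
      apply eq_zero_of_point_slices k A
      intro g
      rw [slice_rTensor, ← hact, Submodule.mkQ_apply, Submodule.Quotient.mk_eq_zero]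
      exact Submodule.subset_span ⟨g, rfl⟩
    have hex : Function.Exact (E.subtype.rTensor A) (E.mkQ.rTensor A) :=
      rTensor_exact A (LinearMap.exact_subtype_mkQ E) (Submodule.mkQ_surjective E)
    have hmem : c.coact v ∈ LinearMap.range (E.subtype.rTensor A) := (hex _).mp hz
    rintro _ ⟨f, rfl⟩
    exact (mem_range_rTensor_subtype_iff E _).mp hmem f

end Groth.Agent.Lib.Helper32.OrbitSpan
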