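import Mathlib.Topology.Category.FinTopCat
import Mathlib.Topology.Algebra.Group.Basic
import Mathlib.CategoryTheory.Action.Continuous
import Mathlib.CategoryTheory.Galois.Topology
import Mathlib.CategoryTheory.Action.Concrete
import Mathlib.Topology.Algebra.Group.Quotient
import Mathlib.GroupTheory.QuotientGroup.Basic
import Mathlib.Topology.DenseEmbedding

set_option autoImplicit false
set_option linter.unusedSectionVars false
set_option linter.style.haveILetI false
universe u

namespace Groth.Agent.Lib.Helper32.Pi1Aut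

open scoped FintypeCatDiscrete
open CategoryTheory PreGaloisCategory

variable (G : Type u) [Group G] [TopologicalSpace G] [IsTopologicalGroup G]

noncomputable def iotaFun (g : G) : Aut (forget₂ (ContAction FintypeCat.{u} G) FintypeCat.{u}) :=
  NatIso.ofComponents (fun X => X.obj.ρAut g) (by
    intro X Y f
    have := f.hom.comm g
    exact this.symm)

theorem iotaFun_app (g : G) (X : ContAction FintypeCat.{u} G) (x : X.obj.V) :
    (iotaFun G g).hom.app X x = (X.obj.ρ g).hom x := rfl

noncomputable def iota : G →* Aut (forget₂ (ContAction FintypeCat.{u} G) FintypeCat.{u}) where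
  toFun := iotaFun G
  map_one' := by
    apply Aut.ext
    ext X x
    show (X.obj.ρ 1).hom x = x
    rw [map_one]
    rfl
  map_mul' g h := by
    apply Aut.ext
    ext X x
    show (X.obj.ρ (g * h)).hom x = (X.obj.ρ g).hom ((X.obj.ρ h).hom x)
    rw [map_mul]
    rfl

theorem iota_app (g : G) (X : ContAction FintypeCat.{u} G) (x : X.obj.V) :
    (iota G g).hom.app X x = (X.obj.ρ g).hom x := rfl

theorem smul_def' (X : ContAction FintypeCat.{u} G) (g : G) (x : X.obj.V) :
    g • x = (X.obj.ρ g).hom x := rfl

theorem isOpen_stab (X : ContAction FintypeCat.{u} G) (x y : X.obj.V) :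
    IsOpen {g : G | g • x = y} := by
  have hX := X.property
  rw [Action.isContinuous_def] at hX
  have hc : Continuous (fun g : G => (X.obj.ρ g).hom x) :=
    hX.comp (Continuous.prodMk continuous_id (continuous_const (y := x)))
  exact (isOpen_discrete {y}).preimage hc

theorem continuous_iota : Continuous (iota G) := by
  rw [continuous_induced_rng]
  apply continuous_pi
  intro X
  rw [continuous_discrete_rng]
  intro σ
  have hset : ((fun a => (⇑(autEmbedding (forget₂ (ContAction FintypeCat G) FintypeCat)) ∘
      ⇑(iota G)) a X) ⁻¹' {σ}) = ⋂ x : X.obj.V, {g : G | g • x = σ.hom x} := by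
    ext g
    simp only [Set.mem_preimage, Set.mem_singleton_iff, Set.mem_iInter, Set.mem_ofPred_eq]
    constructor
    · intro h x
      rw [← h]
      rfl
    · intro h
      apply Aut.ext
      ext x
      exact h x
  rw [hset]
  apply isOpen_iInter_of_finite
  intro x
  exact isOpen_stab G X x (σ.hom x)

section Q

variable (Q : Type u) [Group Q] [Finite Q] [TopologicalSpace Q] [DiscreteTopology Q]
  (π : G →* Q) (hπ : Continuous π)

noncomputable def actQ : Action FintypeCat.{u} G :=
  letI : MulAction G Q := MulAction.compHom Q π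
  letI : MulAction G (FintypeCat.of Q) := inferInstanceAs (MulAction G Q)
  Action.FintypeCat.ofMulAction G (FintypeCat.of Q)

def toQ (x : (actQ G Q π).V) : Q := x
def ofQ (q : Q) : (actQ G Q π).V := q

theorem toQ_ofQ (q : Q) : toQ G Q π (ofQ G Q π q) = q := rfl
theorem ofQ_toQ (x : (actQ G Q π).V) : ofQ G Q π (toQ G Q π x) = x := rfl

theorem actQ_ρ (g : G) (q : Q) :
    toQ G Q π (((actQ G Q π).ρ g).hom (ofQ G Q π q)) = π g * q := rfl

include hπ in
theorem actQ_cont : (actQ G Q π).IsContinuous := by
  rw [Action.isContinuous_def]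
  haveI : DiscreteTopology ↑((forget₂ (Action FintypeCat G) TopCat).obj (actQ G Q π)) := ⟨rfl⟩
  rw [continuous_prod_of_discrete_right]
  intro q
  have h1 : Continuous (fun g : G => (π g * toQ G Q π q : Q)) :=
    (continuous_mul_const (toQ G Q π q)).comp hπ
  have h2 : Continuous (fun a : Q =>
      (ofQ G Q π a : (forget₂ (Action FintypeCat G) TopCat).obj (actQ G Q π))) :=
    continuous_of_discreteTopology
  exact h2.comp h1

noncomputable def objQ : ContAction FintypeCat.{u} G := ⟨actQ G Q π, actQ_cont G Q π hπ⟩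

noncomputable def rmul (q : Q) : objQ G Q π hπ ⟶ objQ G Q π hπ :=
  ObjectProperty.homMk
    { hom := FintypeCat.homMk (fun a => ofQ G Q π (toQ G Q π a * q))
      comm := by
        intro g
        ext a
        show ofQ G Q π ((π g * toQ G Q π a) * q) = ofQ G Q π (π g * (toQ G Q π a * q))
        rw [mul_assoc] }

theorem key (t : Aut (forget₂ (ContAction FintypeCat.{u} G) FintypeCat.{u})) (q : Q) :
    toQ G Q π (t.hom.app (objQ G Q π hπ) (ofQ G Q π q))
      = toQ G Q π (t.hom.app (objQ G Q π hπ) (ofQ G Q π 1)) * q := by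
  have h := t.hom.naturality (rmul G Q π hπ q)
  have h2 := ConcreteCategory.congr_hom h (ofQ G Q π 1)
  have h3 : ((forget₂ (ContAction FintypeCat.{u} G) FintypeCat.{u}).map (rmul G Q π hπ q))
      (ofQ G Q π 1) = ofQ G Q π q := by
    show ofQ G Q π (1 * q : Q) = ofQ G Q π q
    rw [one_mul]
  rw [ConcreteCategory.comp_apply, ConcreteCategory.comp_apply, h3] at h2
  rw [h2]
  rfl

noncomputable def psi : Aut (forget₂ (ContAction FintypeCat.{u} G) FintypeCat.{u}) →* Q where
  toFun t := toQ G Q π (t.hom.app (objQ G Q π hπ) (ofQ G Q π 1))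
  map_one' := rfl
  map_mul' t s := by
    show toQ G Q π (t.hom.app (objQ G Q π hπ) (s.hom.app (objQ G Q π hπ) (ofQ G Q π 1))) = _
    have h := key G Q π hπ t (toQ G Q π (s.hom.app (objQ G Q π hπ) (ofQ G Q π 1)))
    rw [ofQ_toQ] at h
    exact h

theorem psi_iota (g : G) : psi G Q π hπ (iota G g) = π g := by
  show toQ G Q π (((actQ G Q π).ρ g).hom (ofQ G Q π 1)) = π g
  rw [actQ_ρ, mul_one]

theorem continuous_psi : Continuous (psi G Q π hπ) := by
  have h1 : Continuous (fun t : Aut (forget₂ (ContAction FintypeCat.{u} G) FintypeCat.{u}) =>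
      autEmbedding _ t (objQ G Q π hπ)) :=
    (continuous_apply (objQ G Q π hπ)).comp continuous_induced_dom
  have h2 : Continuous (fun σ : Aut ((forget₂ (ContAction FintypeCat.{u} G) FintypeCat.{u}).obj
      (objQ G Q π hπ)) => toQ G Q π (σ.hom (ofQ G Q π 1))) :=
    continuous_of_discreteTopology
  exact h2.comp h1

end Q

noncomputable def bigHom (I : Finset (ContAction FintypeCat.{u} G)) :
    G →* ((X : ↥I) → Equiv.Perm X.1.obj.V) :=
  MonoidHom.pi (fun X : ↥I => MulAction.toPermHom G X.1.obj.V)

theorem mem_ker_bigHom (I : Finset (ContAction FintypeCat.{u} G)) (g : G) :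
    g ∈ (bigHom G I).ker ↔ ∀ X ∈ I, ∀ x : X.obj.V, g • x = x := by
  rw [MonoidHom.mem_ker]
  constructor
  · intro h X hX x
    have h1 := congrFun h ⟨X, hX⟩
    have h2 := congrArg (fun σ : Equiv.Perm X.obj.V => σ x) h1
    exact h2
  · intro h
    funext X
    apply Equiv.ext
    intro x
    exact h X.1 X.2 x

theorem isOpen_ker_bigHom (I : Finset (ContAction FintypeCat.{u} G)) :
    IsOpen ((bigHom G I).ker : Set G) := by
  have : ((bigHom G I).ker : Set G) = ⋂ X ∈ I, ⋂ x : X.obj.V, {g : G | g • x = x} := by
    ext g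
    simp only [SetLike.mem_coe, mem_ker_bigHom, Set.mem_iInter, Set.mem_ofPred_eq]
  rw [this]
  apply isOpen_biInter_finset
  intro X _
  apply isOpen_iInter_of_finite
  intro x
  exact isOpen_stab G X x x

instance finite_quot (I : Finset (ContAction FintypeCat.{u} G)) :
    Finite (G ⧸ (bigHom G I).ker) :=
  Finite.of_injective (QuotientGroup.kerLift (bigHom G I)) (QuotientGroup.kerLift_injective _)

end Groth.Agent.Lib.Helper32.Pi1Aut
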