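import Mathlib.Topology.Algebra.Category.ProfiniteGrp.Completion
import Mathlib.CategoryTheory.Galois.Topology
import Mathlib.CategoryTheory.Galois.Examples
import Mathlib.Topology.Algebra.ContinuousMonoidHom
import Mathlib.CategoryTheory.Action.Concrete
import Groth.Agent.Lib.Helper32.Pi1Aut

set_option autoImplicit false
set_option linter.unusedSectionVars false
set_option linter.style.haveILetI false
universe u

namespace Groth.Agent.Lib.Helper32.Pi1Comp

open CategoryTheory PreGaloisCategory
open Groth.Agent.Lib.Helper32.Pi1Aut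

variable (G : Type u) [Group G]

noncomputable def iotaFunA (g : G) : Aut (Action.forget FintypeCat.{u} G) :=
  NatIso.ofComponents (fun X => X.ρAut g) (by
    intro X Y f
    exact (f.comm g).symm)

theorem iotaFunA_app (g : G) (X : Action FintypeCat.{u} G) (x : X.V) :
    (iotaFunA G g).hom.app X x = (X.ρ g).hom x := rfl

section Q
variable (Q : Type u) [Group Q] [Finite Q] (π : G →* Q)

noncomputable def rmulA (q : Q) : actQ G Q π ⟶ actQ G Q π :=
    { hom := FintypeCat.homMk (fun a => ofQ G Q π (toQ G Q π a * q))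
      comm := by
        intro g
        ext a
        show ofQ G Q π ((π g * toQ G Q π a) * q) = ofQ G Q π (π g * (toQ G Q π a * q))
        rw [mul_assoc] }

theorem keyA (t : Aut (Action.forget FintypeCat.{u} G)) (q : Q) :
    toQ G Q π (t.hom.app (actQ G Q π) (ofQ G Q π q))
      = toQ G Q π (t.hom.app (actQ G Q π) (ofQ G Q π 1)) * q := by
  have h := t.hom.naturality (rmulA G Q π q)
  have h2 := ConcreteCategory.congr_hom h (ofQ G Q π 1)
  have h3 : ((Action.forget FintypeCat.{u} G).map (rmulA G Q π q))
      (ofQ G Q π 1) = ofQ G Q π q := by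
    show ofQ G Q π (1 * q : Q) = ofQ G Q π q
    rw [one_mul]
  rw [ConcreteCategory.comp_apply, ConcreteCategory.comp_apply, h3] at h2
  rw [h2]
  rfl

noncomputable def psiA : Aut (Action.forget FintypeCat.{u} G) →* Q where
  toFun t := toQ G Q π (t.hom.app (actQ G Q π) (ofQ G Q π 1))
  map_one' := rfl
  map_mul' t s := by
    show toQ G Q π (t.hom.app (actQ G Q π) (s.hom.app (actQ G Q π) (ofQ G Q π 1))) = _
    have h := keyA G Q π t (toQ G Q π (s.hom.app (actQ G Q π) (ofQ G Q π 1)))
    exact h

theorem actQ_ρA (g : G) (q : Q) :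
    toQ G Q π (((actQ G Q π).ρ g).hom (ofQ G Q π q)) = π g * q := rfl

theorem psiA_iota (g : G) : psiA G Q π (iotaFunA G g) = π g := by
  show toQ G Q π (((actQ G Q π).ρ g).hom (ofQ G Q π 1)) = π g
  rw [actQ_ρA, mul_one]

theorem continuous_psiA [TopologicalSpace Q] : Continuous (psiA G Q π) := by
  have h1 : Continuous (fun t : Aut (Action.forget FintypeCat.{u} G) =>
      autEmbedding _ t (actQ G Q π)) :=
    (continuous_apply (actQ G Q π)).comp continuous_induced_dom
  have h2 : Continuous (fun σ : Aut ((Action.forget FintypeCat.{u} G).obj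
      (actQ G Q π)) => toQ G Q π (σ.hom (ofQ G Q π 1))) :=
    continuous_of_discreteTopology
  exact h2.comp h1

end Q

open ProfiniteGrp ProfiniteCompletion

noncomputable def psiH (H : FiniteIndexNormalSubgroup G) :
    Aut (Action.forget FintypeCat.{u} G) →* G ⧸ H.toSubgroup :=
  psiA G (G ⧸ H.toSubgroup) (QuotientGroup.mk' H.toSubgroup)

noncomputable def projA (H K : FiniteIndexNormalSubgroup G) (hle : H ≤ K) :
    actQ G (G ⧸ H.toSubgroup) (QuotientGroup.mk' H.toSubgroup) ⟶
      actQ G (G ⧸ K.toSubgroup) (QuotientGroup.mk' K.toSubgroup) :=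
    { hom := FintypeCat.homMk (fun a => ofQ G (G ⧸ K.toSubgroup) (QuotientGroup.mk' K.toSubgroup)
        (QuotientGroup.map H.toSubgroup K.toSubgroup (MonoidHom.id G) hle
          (toQ G (G ⧸ H.toSubgroup) (QuotientGroup.mk' H.toSubgroup) a)))
      comm := by
        intro g
        ext a
        show ofQ G (G ⧸ K.toSubgroup) (QuotientGroup.mk' K.toSubgroup)
            (QuotientGroup.map H.toSubgroup K.toSubgroup (MonoidHom.id G) hle
              (QuotientGroup.mk' H.toSubgroup g * toQ G (G ⧸ H.toSubgroup) (QuotientGroup.mk' H.toSubgroup) a))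
          = ofQ G (G ⧸ K.toSubgroup) (QuotientGroup.mk' K.toSubgroup)
            (QuotientGroup.mk' K.toSubgroup g *
              (QuotientGroup.map H.toSubgroup K.toSubgroup (MonoidHom.id G) hle
              (toQ G (G ⧸ H.toSubgroup) (QuotientGroup.mk' H.toSubgroup) a)))
        rw [map_mul]
        rfl }

theorem psiH_compat (t : Aut (Action.forget FintypeCat.{u} G)) (H K : FiniteIndexNormalSubgroup G)
    (hle : H ≤ K) :
    QuotientGroup.map H.toSubgroup K.toSubgroup (MonoidHom.id G) hle (psiH G H t) = psiH G K t := by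
  have h := t.hom.naturality (projA G H K hle)
  have h2 := ConcreteCategory.congr_hom h (ofQ G (G ⧸ H.toSubgroup) (QuotientGroup.mk' H.toSubgroup) 1)
  rw [ConcreteCategory.comp_apply, ConcreteCategory.comp_apply] at h2
  have h3 : ((Action.forget FintypeCat.{u} G).map (projA G H K hle))
      (ofQ G (G ⧸ H.toSubgroup) (QuotientGroup.mk' H.toSubgroup) 1)
      = ofQ G (G ⧸ K.toSubgroup) (QuotientGroup.mk' K.toSubgroup) 1 := by
    show ofQ G (G ⧸ K.toSubgroup) (QuotientGroup.mk' K.toSubgroup)
      (QuotientGroup.map H.toSubgroup K.toSubgroup (MonoidHom.id G) hle 1) = _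
    rw [map_one]
  rw [h3] at h2
  exact (congrArg (toQ G (G ⧸ K.toSubgroup) (QuotientGroup.mk' K.toSubgroup)) h2).symm

noncomputable def PsiFun (t : Aut (Action.forget FintypeCat.{u} G)) :
    completion (GrpCat.of G) :=
  ⟨fun H => psiH G H t, by
    intro H K f
    exact psiH_compat G t H K f.le⟩

theorem PsiFun_val (t : Aut (Action.forget FintypeCat.{u} G)) (H : FiniteIndexNormalSubgroup G) :
    (PsiFun G t).1 H = psiH G H t := rfl

noncomputable def Psi : Aut (Action.forget FintypeCat.{u} G) →* completion (GrpCat.of G) where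
  toFun := PsiFun G
  map_one' := by
    apply Subtype.ext
    funext H
    exact map_one (psiH G H)
  map_mul' t s := by
    apply Subtype.ext
    funext H
    exact map_mul (psiH G H) t s

theorem Psi_iota (g : G) : Psi G (iotaFunA G g) = etaFn (GrpCat.of G) g := by
  apply Subtype.ext
  funext H
  exact psiA_iota G (G ⧸ H.toSubgroup) (QuotientGroup.mk' H.toSubgroup) g

theorem continuous_of_factors (Y : Action FintypeCat.{u} G) {T : Type*} [TopologicalSpace T]
    (e : Aut ((Action.forget FintypeCat.{u} G).obj Y) → T) :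
    Continuous (fun t : Aut (Action.forget FintypeCat.{u} G) => e (autEmbedding _ t Y)) := by
  have h1 : Continuous (fun t : Aut (Action.forget FintypeCat.{u} G) => autEmbedding _ t Y) :=
    (continuous_apply Y).comp continuous_induced_dom
  have h2 : Continuous e := continuous_of_discreteTopology
  exact h2.comp h1

theorem continuous_Psi : Continuous (Psi G) := by
  apply Continuous.subtype_mk
  refine @continuous_pi _ _ (fun H : FiniteIndexNormalSubgroup (GrpCat.of G) =>
    ((ProfiniteCompletion.diagram (GrpCat.of G)).obj H)) _ _ _ ?_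
  intro H
  exact continuous_of_factors G (actQ G (G ⧸ H.toSubgroup) (QuotientGroup.mk' H.toSubgroup))
    (T := ↑((ProfiniteCompletion.diagram (GrpCat.of G)).obj H))
    (fun σ => toQ G (G ⧸ H.toSubgroup) (QuotientGroup.mk' H.toSubgroup)
      (σ.hom (ofQ G (G ⧸ H.toSubgroup) (QuotientGroup.mk' H.toSubgroup) 1)))

section Ev
variable (X : Action FintypeCat.{u} G) (H : FiniteIndexNormalSubgroup G)
  (hH : ∀ g ∈ H.toSubgroup, ∀ x : X.V, (X.ρ g).hom x = x)

include hH in
theorem ρ_eq_of_rel (a b : G) (hab : a⁻¹ * b ∈ H.toSubgroup) (x : X.V) :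
    (X.ρ a).hom x = (X.ρ b).hom x := by
  have h1 := hH _ hab x
  have h2 : b = a * (a⁻¹ * b) := (mul_inv_cancel_left a b).symm
  conv_rhs => rw [h2, map_mul]
  show _ = (X.ρ a).hom ((X.ρ (a⁻¹ * b)).hom x)
  rw [h1]

noncomputable def evFunA (x : X.V) (q : G ⧸ H.toSubgroup) : X.V :=
  Quotient.liftOn' q (fun g => (X.ρ g).hom x) (by
    intro a b hab
    rw [QuotientGroup.leftRel_apply] at hab
    exact ρ_eq_of_rel G X H hH a b hab x)

theorem evFunA_mk (x : X.V) (g : G) :
    evFunA G X H hH x (QuotientGroup.mk' H.toSubgroup g) = (X.ρ g).hom x := rfl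

noncomputable def evHomA (x : X.V) :
    actQ G (G ⧸ H.toSubgroup) (QuotientGroup.mk' H.toSubgroup) ⟶ X :=
    { hom := FintypeCat.homMk (fun a => evFunA G X H hH x
        (toQ G (G ⧸ H.toSubgroup) (QuotientGroup.mk' H.toSubgroup) a))
      comm := by
        intro g
        ext a
        show evFunA G X H hH x (toQ G (G ⧸ H.toSubgroup) (QuotientGroup.mk' H.toSubgroup)
            (((actQ G (G ⧸ H.toSubgroup) (QuotientGroup.mk' H.toSubgroup)).ρ g).hom a))
          = (X.ρ g).hom (evFunA G X H hH x
            (toQ G (G ⧸ H.toSubgroup) (QuotientGroup.mk' H.toSubgroup) a))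
        obtain ⟨h, hh⟩ := QuotientGroup.mk'_surjective H.toSubgroup
          (toQ G (G ⧸ H.toSubgroup) (QuotientGroup.mk' H.toSubgroup) a)
        have h1 : toQ G (G ⧸ H.toSubgroup) (QuotientGroup.mk' H.toSubgroup)
            (((actQ G (G ⧸ H.toSubgroup) (QuotientGroup.mk' H.toSubgroup)).ρ g).hom a)
            = QuotientGroup.mk' H.toSubgroup g *
              toQ G (G ⧸ H.toSubgroup) (QuotientGroup.mk' H.toSubgroup) a := rfl
        rw [h1, ← hh, ← map_mul, evFunA_mk, evFunA_mk, map_mul]
        rfl }

theorem app_eq_evFunA (t : Aut (Action.forget FintypeCat.{u} G)) (x : X.V) :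
    t.hom.app X x = evFunA G X H hH x (psiH G H t) := by
  have h := t.hom.naturality (evHomA G X H hH x)
  have h2 := ConcreteCategory.congr_hom h
    (ofQ G (G ⧸ H.toSubgroup) (QuotientGroup.mk' H.toSubgroup) 1)
  rw [ConcreteCategory.comp_apply, ConcreteCategory.comp_apply] at h2
  have h3 : ((Action.forget FintypeCat.{u} G).map (evHomA G X H hH x))
      (ofQ G (G ⧸ H.toSubgroup) (QuotientGroup.mk' H.toSubgroup) 1) = x := by
    show evFunA G X H hH x (QuotientGroup.mk' H.toSubgroup 1) = x
    rw [evFunA_mk, map_one]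
    rfl
  rw [h3] at h2
  rw [h2]
  rfl

end Ev

noncomputable def kerSub (X : Action FintypeCat.{u} G) : FiniteIndexNormalSubgroup G where
  toSubgroup := (MulAction.toPermHom G X.V).ker
  isNormal' := inferInstance
  isFiniteIndex' := by
    haveI : Finite (G ⧸ (MulAction.toPermHom G X.V).ker) :=
      Finite.of_injective (QuotientGroup.kerLift (MulAction.toPermHom G X.V))
        (QuotientGroup.kerLift_injective _)
    exact Subgroup.finiteIndex_of_finite_quotient

theorem kerSub_spec (X : Action FintypeCat.{u} G) :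
    ∀ g ∈ (kerSub G X).toSubgroup, ∀ x : X.V, (X.ρ g).hom x = x := by
  intro g hg x
  have h1 : MulAction.toPermHom G X.V g = 1 := hg
  have h2 := congrArg (fun σ : Equiv.Perm X.V => σ x) h1
  exact h2

theorem Psi_injective : Function.Injective (Psi G) := by
  intro t s hts
  apply Aut.ext
  ext X x
  rw [app_eq_evFunA G X (kerSub G X) (kerSub_spec G X) t x,
    app_eq_evFunA G X (kerSub G X) (kerSub_spec G X) s x]
  have h : (Psi G t).1 (kerSub G X) = (Psi G s).1 (kerSub G X) := by rw [hts]
  have h' : psiH G (kerSub G X) t = psiH G (kerSub G X) s := h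
  rw [h']

noncomputable def iotaA : G →* Aut (Action.forget FintypeCat.{u} G) where
  toFun := iotaFunA G
  map_one' := by
    apply Aut.ext
    ext X x
    show (X.ρ 1).hom x = x
    rw [map_one]
    rfl
  map_mul' g h := by
    apply Aut.ext
    ext X x
    show (X.ρ (g * h)).hom x = (X.ρ g).hom ((X.ρ h).hom x)
    rw [map_mul]
    rfl

theorem Psi_surjective : Function.Surjective (Psi G) := by
  have hc : IsCompact (Set.range (Psi G)) := isCompact_range (continuous_Psi G)
  have hcl : IsClosed (Set.range (Psi G)) := hc.isClosed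
  have hd : DenseRange (etaFn (GrpCat.of G)) := ProfiniteCompletion.denseRange (GrpCat.of G)
  have hsub : Set.range (etaFn (GrpCat.of G)) ⊆ Set.range (Psi G) := by
    rintro _ ⟨g, rfl⟩
    exact ⟨iotaFunA G g, Psi_iota G g⟩
  intro y
  have := hcl.closure_subset_iff.mpr hsub (hd y)
  exact this

noncomputable def PsiEquiv : Aut (Action.forget FintypeCat.{u} G) ≃* completion (GrpCat.of G) :=
  MulEquiv.ofBijective (Psi G) ⟨Psi_injective G, Psi_surjective G⟩

noncomputable def PsiHomeo : Aut (Action.forget FintypeCat.{u} G) ≃ₜ completion (GrpCat.of G) :=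
  (continuous_Psi G).homeoOfEquivCompactToT2 (f := (PsiEquiv G).toEquiv)

noncomputable def PsiCME : Aut (Action.forget FintypeCat.{u} G) ≃ₜ* completion (GrpCat.of G) :=
  { PsiEquiv G with
    continuous_toFun := continuous_Psi G
    continuous_invFun := (PsiHomeo G).symm.continuous }

theorem PsiCME_apply (t : Aut (Action.forget FintypeCat.{u} G)) : PsiCME G t = Psi G t := rfl

theorem main : ∃ φ : (ProfiniteGrp.ProfiniteCompletion.completion (GrpCat.of G)) ≃ₜ* Aut (Action.forget FintypeCat.{u} G),
      ∀ (g : G) (X : Action FintypeCat.{u} G) (x : X.V),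
        (φ (ProfiniteGrp.ProfiniteCompletion.etaFn (GrpCat.of G) g)).hom.app X x = (X.ρ g).hom x := by
  refine ⟨(PsiCME G).symm, ?_⟩
  intro g X x
  have h : (PsiCME G).symm (etaFn (GrpCat.of G) g) = iotaFunA G g := by
    rw [ContinuousMulEquiv.symm_apply_eq, PsiCME_apply, Psi_iota]
  rw [h]
  rfl

end Groth.Agent.Lib.Helper32.Pi1Comp
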