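import Groth.Agent.Lib.Helper32.Pi1Aut

set_option autoImplicit false
set_option linter.unusedSectionVars false
set_option linter.style.haveILetI false
universe u

namespace Groth.Agent.Lib.Helper32.Pi1Aut

open scoped FintypeCatDiscrete
open CategoryTheory PreGaloisCategory

variable (G : Type u) [Group G] [TopologicalSpace G] [IsTopologicalGroup G]
variable (I : Finset (ContAction FintypeCat.{u} G))

instance discrete_quot : DiscreteTopology (G ⧸ (bigHom G I).ker) :=
  QuotientGroup.discreteTopology (isOpen_ker_bigHom G I)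

theorem continuous_mk' : Continuous (QuotientGroup.mk' (bigHom G I).ker) :=
  QuotientGroup.continuous_mk

noncomputable def evFun (X : ContAction FintypeCat.{u} G) (hX : X ∈ I) (x : X.obj.V)
    (q : G ⧸ (bigHom G I).ker) : X.obj.V :=
  Quotient.liftOn' q (fun g => g • x) (by
    intro a b hab
    rw [QuotientGroup.leftRel_apply] at hab
    have h1 := (mem_ker_bigHom G I _).mp hab X hX x
    show a • x = b • x
    have h2 : b = a * (a⁻¹ * b) := (mul_inv_cancel_left a b).symm
    conv_rhs => rw [h2, mul_smul, h1])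

theorem evFun_mk (X : ContAction FintypeCat.{u} G) (hX : X ∈ I) (x : X.obj.V) (g : G) :
    evFun G I X hX x (QuotientGroup.mk' (bigHom G I).ker g) = g • x := rfl

noncomputable def evHom (X : ContAction FintypeCat.{u} G) (hX : X ∈ I) (x : X.obj.V) :
    objQ G (G ⧸ (bigHom G I).ker) (QuotientGroup.mk' (bigHom G I).ker) (continuous_mk' G I) ⟶ X :=
  ObjectProperty.homMk
    { hom := FintypeCat.homMk (fun a => evFun G I X hX x (toQ G (G ⧸ (bigHom G I).ker) (QuotientGroup.mk' (bigHom G I).ker) a))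
      comm := by
        intro g
        ext a
        show evFun G I X hX x (toQ G (G ⧸ (bigHom G I).ker) (QuotientGroup.mk' (bigHom G I).ker) (((actQ G (G ⧸ (bigHom G I).ker) (QuotientGroup.mk' (bigHom G I).ker)).ρ g).hom a))
          = (X.obj.ρ g).hom (evFun G I X hX x (toQ G (G ⧸ (bigHom G I).ker) (QuotientGroup.mk' (bigHom G I).ker) a))
        obtain ⟨h, hh⟩ := QuotientGroup.mk'_surjective (bigHom G I).ker (toQ G (G ⧸ (bigHom G I).ker) (QuotientGroup.mk' (bigHom G I).ker) a)
        have h1 : toQ G (G ⧸ (bigHom G I).ker) (QuotientGroup.mk' (bigHom G I).ker) (((actQ G (G ⧸ (bigHom G I).ker) (QuotientGroup.mk' (bigHom G I).ker)).ρ g).hom a)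
            = QuotientGroup.mk' (bigHom G I).ker g * toQ G (G ⧸ (bigHom G I).ker) (QuotientGroup.mk' (bigHom G I).ker) a := rfl
        rw [h1, ← hh, ← map_mul, evFun_mk, evFun_mk, mul_smul]
        rfl }

theorem exists_g (t : Aut (forget₂ (ContAction FintypeCat.{u} G) FintypeCat.{u})) :
    ∃ g₀ : G, ∀ X ∈ I, ∀ x : X.obj.V, g₀ • x = t.hom.app X x := by
  obtain ⟨g₀, hg₀⟩ := QuotientGroup.mk'_surjective (bigHom G I).ker
    (toQ G (G ⧸ (bigHom G I).ker) (QuotientGroup.mk' (bigHom G I).ker) (t.hom.app (objQ G (G ⧸ (bigHom G I).ker) (QuotientGroup.mk' (bigHom G I).ker)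
      (continuous_mk' G I)) (ofQ G (G ⧸ (bigHom G I).ker) (QuotientGroup.mk' (bigHom G I).ker) 1)))
  refine ⟨g₀, fun X hX x => ?_⟩
  have h := t.hom.naturality (evHom G I X hX x)
  have h2 := ConcreteCategory.congr_hom h (ofQ G (G ⧸ (bigHom G I).ker) (QuotientGroup.mk' (bigHom G I).ker) 1)
  rw [ConcreteCategory.comp_apply, ConcreteCategory.comp_apply] at h2
  have h3 : ((forget₂ (ContAction FintypeCat.{u} G) FintypeCat.{u}).map (evHom G I X hX x))
      (ofQ G (G ⧸ (bigHom G I).ker) (QuotientGroup.mk' (bigHom G I).ker) 1) = x := by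
    show evFun G I X hX x (QuotientGroup.mk' (bigHom G I).ker 1) = x
    rw [evFun_mk, one_smul]
  have h4 : ((forget₂ (ContAction FintypeCat.{u} G) FintypeCat.{u}).map (evHom G I X hX x))
      (t.hom.app (objQ G (G ⧸ (bigHom G I).ker) (QuotientGroup.mk' (bigHom G I).ker)
      (continuous_mk' G I)) (ofQ G (G ⧸ (bigHom G I).ker) (QuotientGroup.mk' (bigHom G I).ker) 1)) = g₀ • x := by
    show evFun G I X hX x (toQ G (G ⧸ (bigHom G I).ker) (QuotientGroup.mk' (bigHom G I).ker) _) = g₀ • x
    rw [← hg₀, evFun_mk]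
  rw [h3, h4] at h2
  exact h2.symm

theorem denseRange_iota : DenseRange (iota G) := by
  intro t
  rw [mem_closure_iff]
  intro o ho hto
  obtain ⟨o', ho', rfl⟩ := isOpen_induced_iff.mp ho
  rw [isOpen_pi_iff] at ho'
  obtain ⟨I, u, hu, hsub⟩ := ho' (autEmbedding _ t) hto
  obtain ⟨g, hg⟩ := exists_g G I t
  refine ⟨iota G g, ?_, ⟨g, rfl⟩⟩
  apply hsub
  intro X hX
  have : autEmbedding _ (iota G g) X = autEmbedding _ t X := by
    apply Aut.ext
    ext x
    exact hg X hX x
  rw [this]
  exact (hu X hX).2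

end Groth.Agent.Lib.Helper32.Pi1Aut
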