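import Groth.Agent.Lib.Helper32.PolLawCH
import Groth.Agent.Lib.Helper32.PolLawProd

set_option autoImplicit false
universe u
open scoped TensorProduct

namespace Groth.Agent.Lib.Helper32.PolLawBC

open Groth.Agent.Lib.Helper32.PolLawBasic

variable {A : Type u} [CommRing A] {B : Type u} [CommRing B] [Algebra A B]
  (A' : Type u) [CommRing A'] [Algebra A A']

section Def

variable (R : Type u) [CommSemiring R] [Algebra A' R]

@[reducible] def algA : Algebra A R := Algebra.compHom R (algebraMap A A')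

theorem towerA : @IsScalarTower A A' R _ _ (algA (A := A) A' R).toSMul :=
  letI := algA (A := A) A' R
  IsScalarTower.of_algebraMap_eq (fun _ => rfl)

variable (F : B →ₚₗ[A] A)

noncomputable def bcFun : R ⊗[A'] (A' ⊗[A] B) → R ⊗[A'] A' :=
  letI := algA (A := A) A' R
  haveI := towerA (A := A) A' R
  fun x => (Algebra.TensorProduct.rid A' R R).symm
    (Algebra.TensorProduct.rid A R R
      (F.toFun' R (Algebra.TensorProduct.cancelBaseChange A A' A' R B x)))

end Def

section Compat

variable {R R' : Type u} [CommSemiring R] [Algebra A' R] [CommSemiring R'] [Algebra A' R']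
  [Algebra A R] [IsScalarTower A A' R] [Algebra A R'] [IsScalarTower A A' R']

theorem cancel_map (φ : R →ₐ[A'] R') (x : R ⊗[A'] (A' ⊗[A] B)) :
    Algebra.TensorProduct.cancelBaseChange A A' A' R' B
      (Algebra.TensorProduct.map φ (AlgHom.id A' (A' ⊗[A] B)) x) =
    Algebra.TensorProduct.map (φ.restrictScalars A) (AlgHom.id A B)
      (Algebra.TensorProduct.cancelBaseChange A A' A' R B x) := by
  induction x using TensorProduct.induction_on with
  | zero => simp
  | add x y hx hy => simp only [map_add, hx, hy]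
  | tmul r y =>
    induction y using TensorProduct.induction_on with
    | zero => simp
    | add x y hx hy => simp only [TensorProduct.tmul_add, map_add, hx, hy]
    | tmul a' b => simp

theorem rid_map_A (φ : R →ₐ[A'] R') (z : R ⊗[A] A) :
    Algebra.TensorProduct.rid A R' R'
      (Algebra.TensorProduct.map (φ.restrictScalars A) (AlgHom.id A A) z) =
    φ (Algebra.TensorProduct.rid A R R z) := by
  induction z using TensorProduct.induction_on with
  | zero => simp
  | add x y hx hy => simp only [map_add, hx, hy]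
  | tmul r a =>
    simp only [Algebra.TensorProduct.map_tmul, AlgHom.id_apply, Algebra.TensorProduct.rid_tmul,
      AlgHom.coe_restrictScalars']
    rw [← algebraMap_smul A' a (φ r), ← algebraMap_smul A' a r, map_smul]

theorem rid_symm_map (φ : R →ₐ[A'] R') (s : R) :
    (Algebra.TensorProduct.rid A' R' R').symm (φ s) =
      Algebra.TensorProduct.map φ (AlgHom.id A' A') ((Algebra.TensorProduct.rid A' R R).symm s) := by
  simp

end Compat

section Law

variable (F : B →ₚₗ[A] A)

theorem bcFun_eq (R : Type u) [CommSemiring R] [Algebra A' R] [inst : Algebra A R]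
    [tower : IsScalarTower A A' R] (x : R ⊗[A'] (A' ⊗[A] B)) :
    bcFun A' R F x = (Algebra.TensorProduct.rid A' R R).symm
      (Algebra.TensorProduct.rid A R R
        (F.toFun' R (Algebra.TensorProduct.cancelBaseChange A A' A' R B x))) := by
  have h : inst = algA (A := A) A' R :=
    Algebra.algebra_ext _ _ (fun a => IsScalarTower.algebraMap_apply A A' R a)
  subst h
  rfl

noncomputable def bcLaw : (A' ⊗[A] B) →ₚₗ[A'] A' where
  toFun' R _ _ := bcFun A' R F
  isCompat' {R} _ _ {R'} _ _ φ := by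
    let _ := algA (A := A) A' R
    have := towerA (A := A) A' R
    let _ := algA (A := A) A' R'
    have := towerA (A := A) A' R'
    funext x
    simp only [Function.comp_apply]
    rw [rTensor_eq_map, rTensor_eq_map, bcFun_eq, bcFun_eq, cancel_map,
      compat F (φ.restrictScalars A), rid_map_A, rid_symm_map]

theorem bcLaw_toFun' (R : Type u) [CommSemiring R] [Algebra A' R] [Algebra A R]
    [IsScalarTower A A' R] (x : R ⊗[A'] (A' ⊗[A] B)) :
    (bcLaw A' F).toFun' R x = (Algebra.TensorProduct.rid A' R R).symm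
      (Algebra.TensorProduct.rid A R R
        (F.toFun' R (Algebra.TensorProduct.cancelBaseChange A A' A' R B x))) :=
  bcFun_eq A' F R x

end Law

section Mul

open Groth.Agent.Lib.Helper32.PolLawProd

variable {d : ℕ} (F : PolLaw.MulLaw A B A d)

theorem cancel_smul (R : Type u) [CommSemiring R] [Algebra A' R] [Algebra A R]
    [IsScalarTower A A' R] (s : R) (x : R ⊗[A'] (A' ⊗[A] B)) :
    Algebra.TensorProduct.cancelBaseChange A A' A' R B (s • x) =
      s • Algebra.TensorProduct.cancelBaseChange A A' A' R B x := by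
  rw [smul_eq_tmul_mul, smul_eq_tmul_mul, map_mul]
  congr 1
  rw [Algebra.TensorProduct.one_def]
  simp

noncomputable def bc : PolLaw.MulLaw A' (A' ⊗[A] B) A' d where
  law := bcLaw A' F.law
  homog R _ _ s x := by
    let _ := algA (A := A) A' R
    have := towerA (A := A) A' R
    rw [bcLaw_toFun', bcLaw_toFun', cancel_smul, F.homog, map_smul, map_smul]
  mult R _ _ := by
    let _ := algA (A := A) A' R
    have := towerA (A := A) A' R
    refine ⟨?_, fun x y => ?_⟩
    · rw [bcLaw_toFun', map_one, (F.mult R).1, map_one, map_one]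
    · rw [bcLaw_toFun', bcLaw_toFun', bcLaw_toFun', map_mul, (F.mult R).2, map_mul, map_mul]

theorem bc_toFun' (R : Type u) [CommSemiring R] [Algebra A' R] [Algebra A R]
    [IsScalarTower A A' R] (x : R ⊗[A'] (A' ⊗[A] B)) :
    (bc A' F).law.toFun' R x = (Algebra.TensorProduct.rid A' R R).symm
      (Algebra.TensorProduct.rid A R R
        (F.law.toFun' R (Algebra.TensorProduct.cancelBaseChange A A' A' R B x))) :=
  bcFun_eq A' F.law R x

theorem cancel_one_tmul (R : Type u) [CommSemiring R] [Algebra A' R] [Algebra A R]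
    [IsScalarTower A A' R] (b' : A' ⊗[A] B) :
    Algebra.TensorProduct.cancelBaseChange A A' A' R B ((1 : R) ⊗ₜ[A'] b') =
      Algebra.TensorProduct.map (IsScalarTower.toAlgHom A A' R) (AlgHom.id A B) b' := by
  induction b' using TensorProduct.induction_on with
  | zero => simp
  | add x y hx hy => simp only [TensorProduct.tmul_add, map_add, hx, hy]
  | tmul a' b => simp [Algebra.smul_def]

theorem ker_bc : PolLaw.ker (bc A' F).law = PolLaw.kerBC F.law A' := by
  apply le_antisymm
  · intro b' hb' R _ _ _ _ x w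
    have h := hb' R ((Algebra.TensorProduct.cancelBaseChange A A' A' R B).symm x)
      ((Algebra.TensorProduct.cancelBaseChange A A' A' R B).symm w)
    rw [bc_toFun', bc_toFun'] at h
    have h2 := (Algebra.TensorProduct.rid A R R).injective
      ((Algebra.TensorProduct.rid A' R R).symm.injective h)
    rw [map_add, map_mul, AlgEquiv.apply_symm_apply, AlgEquiv.apply_symm_apply,
      cancel_one_tmul] at h2
    exact h2
  · intro b' hb' R _ _ x w
    let _ := algA (A := A) A' R
    have := towerA (A := A) A' R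
    rw [bc_toFun', bc_toFun', map_add, map_mul, cancel_one_tmul, hb' R]

end Mul

section Chi

open Polynomial Groth.Agent.Lib.Helper32.PolLawCH

variable {d : ℕ} (F : PolLaw.MulLaw A B A d)

theorem rid_map_gen {S S' : Type u} [CommSemiring S] [Algebra A S] [CommSemiring S'] [Algebra A S']
    (Φ : S →ₐ[A] S') (z : S ⊗[A] A) :
    Algebra.TensorProduct.rid A S' S' (Algebra.TensorProduct.map Φ (AlgHom.id A A) z) =
      Φ (Algebra.TensorProduct.rid A S S z) := by
  induction z using TensorProduct.induction_on with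
  | zero => simp
  | add x y hx hy => simp only [map_add, hx, hy]
  | tmul r a => simp

theorem map_map_id {S S' S'' : Type u} [CommSemiring S] [Algebra A S] [CommSemiring S']
    [Algebra A S'] [CommSemiring S''] [Algebra A S''] (φ : S →ₐ[A] S') (φ' : S' →ₐ[A] S'')
    (x : S ⊗[A] B) :
    Algebra.TensorProduct.map φ' (AlgHom.id A B) (Algebra.TensorProduct.map φ (AlgHom.id A B) x) =
      Algebra.TensorProduct.map (φ'.comp φ) (AlgHom.id A B) x := by
  induction x using TensorProduct.induction_on with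
  | zero => simp
  | tmul a b => simp
  | add a b ha hb => simp [ha, hb]

theorem chi_bc (b' : A' ⊗[A] B) :
    chi (bc A' F) b' = Algebra.TensorProduct.rid A A'[X] A'[X]
      (F.law.toFun' A'[X] (Algebra.TensorProduct.map (IsScalarTower.toAlgHom A A' A'[X])
        (AlgHom.id A B) b' - X ⊗ₜ[A] 1)) := by
  rw [chi, bc_toFun', map_sub, cancel_one_tmul]
  have h1 : Algebra.TensorProduct.cancelBaseChange A A' A' A'[X] B
      ((X : A'[X]) ⊗ₜ[A'] (1 : A' ⊗[A] B)) = X ⊗ₜ[A] 1 := by
    rw [Algebra.TensorProduct.one_def]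
    simp
  rw [h1]
  simp

theorem chi_bc_map {R₀ : Type u} [CommRing R₀] [Algebra A R₀] (ψ : R₀ →ₐ[A] A')
    (β : R₀ ⊗[A] B) :
    chi (bc A' F) (Algebra.TensorProduct.map ψ (AlgHom.id A B) β) =
      (chi (bc R₀ F) β).map (ψ : R₀ →+* A') := by
  rw [chi_bc, chi_bc]
  let Φ : R₀[X] →ₐ[A] A'[X] := Polynomial.mapAlgHom ψ
  have hΦ : ∀ p : R₀[X], p.map (ψ : R₀ →+* A') = Φ p := fun p => rfl
  have hcomp : (IsScalarTower.toAlgHom A A' A'[X]).comp ψ =
      Φ.comp (IsScalarTower.toAlgHom A R₀ R₀[X]) := by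
    apply AlgHom.ext
    intro r
    simp [Φ]
  have hX : Φ X = X := by simp [Φ]
  rw [hΦ, ← rid_map_gen, ← compat, map_sub, map_map_id, map_map_id,
    Algebra.TensorProduct.map_tmul, hcomp, hX, AlgHom.id_apply]

theorem map_aeval {R₀ : Type u} [CommRing R₀] [Algebra A R₀] (ψ : R₀ →ₐ[A] A')
    (β : R₀ ⊗[A] B) (p : R₀[X]) :
    Algebra.TensorProduct.map ψ (AlgHom.id A B) (Polynomial.aeval β p) =
      Polynomial.aeval (Algebra.TensorProduct.map ψ (AlgHom.id A B) β)
        (p.map (ψ : R₀ →+* A')) := by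
  rw [aeval_def, aeval_def, eval₂_map]
  have := Polynomial.hom_eval₂ p (algebraMap R₀ (R₀ ⊗[A] B))
    ((Algebra.TensorProduct.map ψ (AlgHom.id A B) : R₀ ⊗[A] B →ₐ[A] A' ⊗[A] B) :
      R₀ ⊗[A] B →+* A' ⊗[A] B) β
  rw [RingHom.coe_coe] at this
  rw [this]
  congr 1

theorem exists_fin_repr (b' : A' ⊗[A] B) :
    ∃ (n : ℕ) (a' : Fin n → A') (b : Fin n → B), b' = ∑ i, a' i ⊗ₜ[A] b i := by
  induction b' using TensorProduct.induction_on with
  | zero => exact ⟨0, Fin.elim0, Fin.elim0, by simp⟩
  | tmul x y => exact ⟨1, fun _ => x, fun _ => y, by simp⟩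
  | add x y hx hy =>
    obtain ⟨n, a₁, b₁, rfl⟩ := hx
    obtain ⟨m, a₂, b₂, rfl⟩ := hy
    refine ⟨n + m, Fin.append a₁ a₂, Fin.append b₁ b₂, ?_⟩
    rw [Fin.sum_univ_add]
    simp

theorem pow_mem_of_mem_kerBC
    (hpoly : ∀ n : ℕ, PolLaw.kerBC F.law (MvPolynomial (Fin n) A) ≤
      (PolLaw.ker F.law).map
        (Algebra.TensorProduct.includeRight : B →ₐ[A] MvPolynomial (Fin n) A ⊗[A] B))
    (b' : A' ⊗[A] B) (hb' : b' ∈ PolLaw.kerBC F.law A') :
    b' ^ d ∈ (PolLaw.ker F.law).map
      (Algebra.TensorProduct.includeRight : B →ₐ[A] A' ⊗[A] B) := by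
  obtain ⟨n, a', b, hb⟩ := exists_fin_repr A' b'
  let R₀ := MvPolynomial (Fin n) A
  let ψ : R₀ →ₐ[A] A' := MvPolynomial.aeval a'
  let β : R₀ ⊗[A] B := ∑ i, (MvPolynomial.X i : R₀) ⊗ₜ[A] b i
  have hβ : Algebra.TensorProduct.map ψ (AlgHom.id A B) β = b' := by
    rw [hb, map_sum]
    refine Finset.sum_congr rfl fun i _ => ?_
    rw [Algebra.TensorProduct.map_tmul, MvPolynomial.aeval_X, AlgHom.id_apply]
  have hc : Polynomial.aeval β (chi (bc R₀ F) β) ∈ PolLaw.kerBC F.law R₀ := by
    rw [← ker_bc]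
    exact aeval_chi_mem_ker (bc R₀ F) β
  have hc2 := hpoly n hc
  have hle : Ideal.map (Algebra.TensorProduct.map ψ (AlgHom.id A B))
      (Ideal.map (Algebra.TensorProduct.includeRight : B →ₐ[A] R₀ ⊗[A] B) (PolLaw.ker F.law)) ≤
      Ideal.map (Algebra.TensorProduct.includeRight : B →ₐ[A] A' ⊗[A] B) (PolLaw.ker F.law) := by
    rw [Ideal.map_le_iff_le_comap, Ideal.map_le_iff_le_comap]
    intro k hk
    rw [Ideal.mem_comap, Ideal.mem_comap]
    have : Algebra.TensorProduct.map ψ (AlgHom.id A B)
        ((Algebra.TensorProduct.includeRight : B →ₐ[A] R₀ ⊗[A] B) k) =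
        (Algebra.TensorProduct.includeRight : B →ₐ[A] A' ⊗[A] B) k := by simp
    rw [this]
    exact Ideal.mem_map_of_mem _ hk
  have hc3 := hle (Ideal.mem_map_of_mem (Algebra.TensorProduct.map ψ (AlgHom.id A B)) hc2)
  have hb'' : b' ∈ PolLaw.ker (bc A' F).law := by rw [ker_bc]; exact hb'
  rw [map_aeval, ← chi_bc_map, hβ, chi_of_mem_ker (bc A' F) b' hb''] at hc3
  simp only [map_pow, map_neg, aeval_X] at hc3
  have : b' ^ d = (-1) ^ d * (-b') ^ d := by
    rw [← mul_pow]
    simp
  rw [this]
  exact Ideal.mul_mem_left _ _ hc3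

end Chi

end Groth.Agent.Lib.Helper32.PolLawBC
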