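import Groth.Agent.Lib.Helper32.PolLawBC

set_option autoImplicit false
universe u
open scoped TensorProduct

namespace Groth.Agent.Lib.Helper32.PolLawBCC

open Groth.Agent.Lib.Helper32.PolLawBasic Groth.Agent.Lib.Helper32.PolLawBC

variable {A : Type u} [CommRing A] {B : Type u} [CommRing B] [Algebra A B]
  {C : Type u} [CommRing C] [Algebra A C]
  (A' : Type u) [CommRing A'] [Algebra A A'] (ρ : C →ₐ[A] A')

section Mu

variable (R : Type u) [CommSemiring R] [Algebra A' R] [Algebra A R] [IsScalarTower A A' R]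

noncomputable def mu : R ⊗[A] C →ₐ[R] R :=
  Algebra.TensorProduct.lift (AlgHom.id R R) ((IsScalarTower.toAlgHom A A' R).comp ρ)
    (fun _ _ => Commute.all _ _)

@[simp] theorem mu_tmul (r : R) (c : C) :
    mu A' ρ R (r ⊗ₜ[A] c) = r * algebraMap A' R (ρ c) := by
  simp [mu]

variable {R}
variable {R' : Type u} [CommSemiring R'] [Algebra A' R'] [Algebra A R'] [IsScalarTower A A' R']

theorem mu_map (φ : R →ₐ[A'] R') (z : R ⊗[A] C) :
    mu A' ρ R' (Algebra.TensorProduct.map (φ.restrictScalars A) (AlgHom.id A C) z) =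
      φ (mu A' ρ R z) := by
  induction z using TensorProduct.induction_on with
  | zero => simp
  | add x y hx hy => simp only [map_add, hx, hy]
  | tmul r c => simp

end Mu

section Def

variable (R : Type u) [CommSemiring R] [Algebra A' R] (F : B →ₚₗ[A] C)

noncomputable def bcFunC : R ⊗[A'] (A' ⊗[A] B) → R ⊗[A'] A' :=
  letI := algA (A := A) A' R
  haveI := towerA (A := A) A' R
  fun x => (Algebra.TensorProduct.rid A' R R).symm
    (mu A' ρ R (F.toFun' R (Algebra.TensorProduct.cancelBaseChange A A' A' R B x)))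

theorem bcFunC_eq (R : Type u) [CommSemiring R] [Algebra A' R] [inst : Algebra A R]
    [tower : IsScalarTower A A' R] (x : R ⊗[A'] (A' ⊗[A] B)) :
    bcFunC A' ρ R F x = (Algebra.TensorProduct.rid A' R R).symm
      (mu A' ρ R (F.toFun' R (Algebra.TensorProduct.cancelBaseChange A A' A' R B x))) := by
  have h : inst = algA (A := A) A' R :=
    Algebra.algebra_ext _ _ (fun a => IsScalarTower.algebraMap_apply A A' R a)
  subst h
  rfl

noncomputable def bcLawC : (A' ⊗[A] B) →ₚₗ[A'] A' where
  toFun' R _ _ := bcFunC A' ρ R F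
  isCompat' {R} _ _ {R'} _ _ φ := by
    let _ := algA (A := A) A' R
    have := towerA (A := A) A' R
    let _ := algA (A := A) A' R'
    have := towerA (A := A) A' R'
    funext x
    simp only [Function.comp_apply]
    rw [rTensor_eq_map, rTensor_eq_map, bcFunC_eq, bcFunC_eq, cancel_map,
      compat F (φ.restrictScalars A), mu_map, rid_symm_map]

theorem bcLawC_toFun' (R : Type u) [CommSemiring R] [Algebra A' R] [Algebra A R]
    [IsScalarTower A A' R] (x : R ⊗[A'] (A' ⊗[A] B)) :
    (bcLawC A' ρ F).toFun' R x = (Algebra.TensorProduct.rid A' R R).symm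
      (mu A' ρ R (F.toFun' R (Algebra.TensorProduct.cancelBaseChange A A' A' R B x))) :=
  bcFunC_eq A' ρ F R x

end Def

section Mul

variable {d : ℕ} (F : PolLaw.MulLaw A B C d)

noncomputable def bcC : PolLaw.MulLaw A' (A' ⊗[A] B) A' d where
  law := bcLawC A' ρ F.law
  homog R _ _ s x := by
    let _ := algA (A := A) A' R
    have := towerA (A := A) A' R
    rw [bcLawC_toFun', bcLawC_toFun', cancel_smul, F.homog, map_smul, map_smul]
  mult R _ _ := by
    let _ := algA (A := A) A' R
    have := towerA (A := A) A' R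
    refine ⟨?_, fun x y => ?_⟩
    · rw [bcLawC_toFun', map_one, (F.mult R).1, map_one, map_one]
    · rw [bcLawC_toFun', bcLawC_toFun', bcLawC_toFun', map_mul, (F.mult R).2, map_mul, map_mul]

theorem bcC_toFun' (R : Type u) [CommSemiring R] [Algebra A' R] [Algebra A R]
    [IsScalarTower A A' R] (x : R ⊗[A'] (A' ⊗[A] B)) :
    (bcC A' ρ F).law.toFun' R x = (Algebra.TensorProduct.rid A' R R).symm
      (mu A' ρ R (F.law.toFun' R (Algebra.TensorProduct.cancelBaseChange A A' A' R B x))) :=
  bcFunC_eq A' ρ F.law R x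

end Mul

end Groth.Agent.Lib.Helper32.PolLawBCC
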