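import Groth.Prelude.Def_PolLaw
import Mathlib.RingTheory.TensorProduct.Maps
import Mathlib.RingTheory.TensorProduct.Pi

set_option autoImplicit false
universe u
open scoped TensorProduct

namespace Groth.Agent.Lib.Helper32.PolLawBasic

variable {A : Type u} [CommRing A] {B : Type u} [CommRing B] [Algebra A B]
  {C : Type u} [CommRing C] [Algebra A C] {B' : Type u} [CommRing B'] [Algebra A B']

theorem precomp_toFun' (F : B →ₚₗ[A] C) (f : B' →ₐ[A] B) (S : Type u) [CommSemiring S]
    [Algebra A S] (x : S ⊗[A] B') :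
    (PolLaw.precomp F f.toLinearMap).toFun' S x =
      F.toFun' S (Algebra.TensorProduct.map (AlgHom.id S S) f x) := by
  show F.toFun' S (f.toLinearMap.lTensor S x) = _
  rw [PolLaw.lTensor_algHom_apply]

theorem mulLaw_precomp_toFun' {d : ℕ} (F : PolLaw.MulLaw A B C d) (f : B' →ₐ[A] B) (S : Type u)
    [CommSemiring S] [Algebra A S] (x : S ⊗[A] B') :
    (F.precomp f).law.toFun' S x =
      F.law.toFun' S (Algebra.TensorProduct.map (AlgHom.id S S) f x) :=
  precomp_toFun' F.law f S x

theorem comap_ker_le (F : B →ₚₗ[A] C) (f : B' →ₐ[A] B) :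
    (PolLaw.ker F).comap f ≤ PolLaw.ker (PolLaw.precomp F f.toLinearMap) := by
  intro b hb S _ _ x w
  rw [precomp_toFun', precomp_toFun', map_add, map_mul, Algebra.TensorProduct.map_tmul, map_one]
  exact hb S _ _

theorem rTensor_eq_map {M : Type u} [CommRing M] [Algebra A M] {S S' : Type u} [CommSemiring S]
    [Algebra A S] [CommSemiring S'] [Algebra A S'] (φ : S →ₐ[A] S') (x : S ⊗[A] M) :
    φ.toLinearMap.rTensor M x = Algebra.TensorProduct.map φ (AlgHom.id A M) x := by
  induction x using TensorProduct.induction_on with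
  | zero => simp
  | tmul a b => rfl
  | add a b ha hb => simp [ha, hb]

theorem compat (F : B →ₚₗ[A] C) {S S' : Type u} [CommSemiring S] [Algebra A S]
    [CommSemiring S'] [Algebra A S'] (φ : S →ₐ[A] S') (x : S ⊗[A] B) :
    F.toFun' S' (Algebra.TensorProduct.map φ (AlgHom.id A B) x) =
      Algebra.TensorProduct.map φ (AlgHom.id A C) (F.toFun' S x) := by
  rw [← rTensor_eq_map, ← rTensor_eq_map]
  exact (PolynomialLaw.isCompat_apply' φ x).symm

theorem exists_lift₂ {S : Type u} [CommSemiring S] [Algebra A S] (x w : S ⊗[A] B) :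
    ∃ (n : ℕ) (ψ : MvPolynomial (Fin n) A →ₐ[A] S) (x' w' : MvPolynomial (Fin n) A ⊗[A] B),
      Algebra.TensorProduct.map ψ (AlgHom.id A B) x' = x ∧
        Algebra.TensorProduct.map ψ (AlgHom.id A B) w' = w := by
  let t : S ⊗[A] (B × B) := (TensorProduct.prodRight A S S B B).symm (x, w)
  obtain ⟨n, ψ, p, hp⟩ := PolynomialLaw.exists_lift (R := A) (M := B × B) t
  have hfst : ∀ (T : Type u) [CommSemiring T] [Algebra A T] (z : T ⊗[A] (B × B)),
      (TensorProduct.prodRight A T T B B z).1 = (LinearMap.fst A B B).lTensor T z := by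
    intro T _ _ z
    induction z using TensorProduct.induction_on with
    | zero => simp
    | add x y hx hy => simp only [map_add, Prod.fst_add, hx, hy]
    | tmul s b => rfl
  have hsnd : ∀ (T : Type u) [CommSemiring T] [Algebra A T] (z : T ⊗[A] (B × B)),
      (TensorProduct.prodRight A T T B B z).2 = (LinearMap.snd A B B).lTensor T z := by
    intro T _ _ z
    induction z using TensorProduct.induction_on with
    | zero => simp
    | add x y hx hy => simp only [map_add, Prod.snd_add, hx, hy]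
    | tmul s b => rfl
  refine ⟨n, ψ, (LinearMap.fst A B B).lTensor _ p, (LinearMap.snd A B B).lTensor _ p, ?_, ?_⟩
  · rw [← rTensor_eq_map, ← LinearMap.comp_apply, LinearMap.rTensor_comp_lTensor,
      ← LinearMap.lTensor_comp_rTensor, LinearMap.comp_apply, hp, ← hfst]
    simp [t]
  · rw [← rTensor_eq_map, ← LinearMap.comp_apply, LinearMap.rTensor_comp_lTensor,
      ← LinearMap.lTensor_comp_rTensor, LinearMap.comp_apply, hp, ← hsnd]
    simp [t]

theorem mem_ker_of_mvPolynomial (F : B →ₚₗ[A] C) (b : B)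
    (h : ∀ (n : ℕ) (x w : MvPolynomial (Fin n) A ⊗[A] B),
      F.toFun' (MvPolynomial (Fin n) A) (x + w * (1 ⊗ₜ[A] b)) =
        F.toFun' (MvPolynomial (Fin n) A) x) : b ∈ PolLaw.ker F := by
  intro S _ _ x w
  obtain ⟨n, ψ, x', w', rfl, rfl⟩ := exists_lift₂ x w
  have e : Algebra.TensorProduct.map ψ (AlgHom.id A B) x' +
      Algebra.TensorProduct.map ψ (AlgHom.id A B) w' * (1 ⊗ₜ[A] b) =
      Algebra.TensorProduct.map ψ (AlgHom.id A B) (x' + w' * (1 ⊗ₜ[A] b)) := by
    simp
  rw [e, compat, compat, h]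

end Groth.Agent.Lib.Helper32.PolLawBasic
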