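import Groth.Agent.Lib.Helper32.PolLawBasic
import Mathlib

set_option autoImplicit false
universe u
open scoped TensorProduct

namespace Groth.Agent.Lib.Helper32.PolLawCoeff

open MvPolynomial

variable {A : Type u} [CommRing A] {ι : Type} {S : Type u} [CommRing S] [Algebra A S]

section Module

variable {M : Type u} [AddCommGroup M] [Module A M]

noncomputable def cf (ν : ι →₀ ℕ) : MvPolynomial ι S ⊗[A] M →ₗ[A] S ⊗[A] M :=
  ((MvPolynomial.lcoeff S ν).restrictScalars A).rTensor M

noncomputable def mn (ν : ι →₀ ℕ) : S ⊗[A] M →ₗ[A] MvPolynomial ι S ⊗[A] M :=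
  ((MvPolynomial.monomial ν : S →ₗ[S] MvPolynomial ι S).restrictScalars A).rTensor M

@[simp] theorem cf_tmul (ν : ι →₀ ℕ) (p : MvPolynomial ι S) (m : M) :
    cf (A := A) ν (p ⊗ₜ[A] m) = coeff ν p ⊗ₜ[A] m := rfl

@[simp] theorem mn_tmul (ν : ι →₀ ℕ) (s : S) (m : M) :
    mn (A := A) (ι := ι) ν (s ⊗ₜ[A] m) = monomial ν s ⊗ₜ[A] m := rfl

theorem cf_mn [DecidableEq ι] (ν ν' : ι →₀ ℕ) (y : S ⊗[A] M) :
    cf (A := A) ν (mn ν' y) = if ν' = ν then y else 0 := by
  induction y using TensorProduct.induction_on with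
  | zero => simp
  | add x y hx hy => rw [map_add, map_add, hx, hy]; split_ifs <;> simp
  | tmul s m =>
    rw [mn_tmul, cf_tmul, coeff_monomial]
    split_ifs <;> simp

theorem cf_sum_mn [DecidableEq ι] (ν : ι →₀ ℕ) (N' : Finset (ι →₀ ℕ)) (g : (ι →₀ ℕ) → S ⊗[A] M)
    (hν : ν ∈ N') : cf (A := A) ν (∑ ν' ∈ N', mn ν' (g ν')) = g ν := by
  rw [map_sum]
  simp only [cf_mn]
  rw [Finset.sum_ite_eq' N' ν g, if_pos hν]

theorem exists_expand (Φ : MvPolynomial ι S ⊗[A] M) :
    ∃ N : Finset (ι →₀ ℕ), ∀ N' : Finset (ι →₀ ℕ), N ⊆ N' →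
      Φ = ∑ ν ∈ N', mn ν (cf (A := A) ν Φ) := by
  classical
  induction Φ using TensorProduct.induction_on with
  | zero => exact ⟨∅, fun N' _ => by simp⟩
  | tmul p m =>
    refine ⟨p.support, fun N' hN' => ?_⟩
    simp only [cf_tmul, mn_tmul]
    rw [← TensorProduct.sum_tmul]
    congr 1
    conv_lhs => rw [p.as_sum]
    refine Finset.sum_subset hN' fun ν _ hν => ?_
    rw [notMem_support_iff.mp hν, monomial_zero]
  | add Φ₁ Φ₂ h₁ h₂ =>
    obtain ⟨N₁, hN₁⟩ := h₁
    obtain ⟨N₂, hN₂⟩ := h₂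
    refine ⟨N₁ ∪ N₂, fun N' hN' => ?_⟩
    simp only [map_add, Finset.sum_add_distrib]
    rw [← hN₁ N' (Finset.union_subset_left hN'), ← hN₂ N' (Finset.union_subset_right hN')]

theorem lTensor_cf {M' : Type u} [AddCommGroup M'] [Module A M'] (g : M →ₗ[A] M')
    (ν : ι →₀ ℕ) (Φ : MvPolynomial ι S ⊗[A] M) :
    g.lTensor S (cf (A := A) ν Φ) = cf ν (g.lTensor (MvPolynomial ι S) Φ) := by
  induction Φ using TensorProduct.induction_on with
  | zero => simp
  | add x y hx hy => simp only [map_add, hx, hy]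
  | tmul p m => simp

end Module

section Algebra

variable {Q : Type u} [CommRing Q] [Algebra A Q]

noncomputable def ιC : S ⊗[A] Q →ₐ[A] MvPolynomial ι S ⊗[A] Q :=
  Algebra.TensorProduct.map (IsScalarTower.toAlgHom A S (MvPolynomial ι S)) (AlgHom.id A Q)

@[simp] theorem ιC_tmul (s : S) (q : Q) :
    ιC (A := A) (ι := ι) (s ⊗ₜ[A] q) = (C s : MvPolynomial ι S) ⊗ₜ[A] q := rfl

theorem cf_mul_ιC (ν : ι →₀ ℕ) (Φ : MvPolynomial ι S ⊗[A] Q) (y : S ⊗[A] Q) :
    cf (A := A) ν (Φ * ιC y) = cf ν Φ * y := by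
  induction Φ using TensorProduct.induction_on with
  | zero => simp
  | add x x' hx hx' => simp only [add_mul, map_add, hx, hx']
  | tmul p q =>
    induction y using TensorProduct.induction_on with
    | zero => simp
    | add y y' hy hy' => simp only [map_add, mul_add, hy, hy']
    | tmul s q' =>
      simp [Algebra.TensorProduct.tmul_mul_tmul, mul_comm p (C s), coeff_C_mul, mul_comm s]

theorem mn_mul_ιC (ν : ι →₀ ℕ) (u y : S ⊗[A] Q) :
    mn (A := A) (ι := ι) ν u * ιC y = mn ν (u * y) := by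
  induction u using TensorProduct.induction_on with
  | zero => simp
  | add x x' hx hx' => simp only [add_mul, map_add, hx, hx']
  | tmul s q =>
    induction y using TensorProduct.induction_on with
    | zero => simp
    | add y y' hy hy' => simp only [map_add, mul_add, hy, hy']
    | tmul s' q' =>
      simp [Algebra.TensorProduct.tmul_mul_tmul, mul_comm _ (C s'), C_mul_monomial, mul_comm s']

noncomputable def sub (e : ι → S ⊗[A] Q) : MvPolynomial ι S ⊗[A] Q →ₐ[A] S ⊗[A] Q :=
  Algebra.TensorProduct.productMap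
    ((aeval e : MvPolynomial ι S →ₐ[S] S ⊗[A] Q).restrictScalars A)
    (Algebra.TensorProduct.includeRight : Q →ₐ[A] S ⊗[A] Q)

theorem sub_tmul (e : ι → S ⊗[A] Q) (p : MvPolynomial ι S) (q : Q) :
    sub e (p ⊗ₜ[A] q) = aeval e p * (1 ⊗ₜ[A] q) := by
  simp [sub]

theorem sub_mn (e : ι → S ⊗[A] Q) (ν : ι →₀ ℕ) (y : S ⊗[A] Q) :
    sub e (mn ν y) = (ν.prod fun i k => e i ^ k) * y := by
  induction y using TensorProduct.induction_on with
  | zero => simp
  | add x x' hx hx' => simp only [map_add, mul_add, hx, hx']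
  | tmul s q =>
    rw [mn_tmul, sub_tmul, aeval_monomial, Algebra.TensorProduct.algebraMap_apply,
      Algebra.algebraMap_self, RingHom.id_apply,
      mul_comm (s ⊗ₜ[A] (1 : Q)), mul_assoc, Algebra.TensorProduct.tmul_mul_tmul, mul_one, one_mul]

theorem sub_ιC (e : ι → S ⊗[A] Q) (y : S ⊗[A] Q) : sub e (ιC y) = y := by
  induction y using TensorProduct.induction_on with
  | zero => simp
  | add x x' hx hx' => simp only [map_add, hx, hx']
  | tmul s q =>
    rw [ιC_tmul, sub_tmul, aeval_C, Algebra.TensorProduct.algebraMap_apply,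
      Algebra.algebraMap_self, RingHom.id_apply,
      Algebra.TensorProduct.tmul_mul_tmul, mul_one, one_mul]

noncomputable def eva (a : ι → A) : MvPolynomial ι S →ₐ[A] S :=
  (aeval (fun i => algebraMap A S (a i)) : MvPolynomial ι S →ₐ[S] S).restrictScalars A

theorem map_eva_mn (a : ι → A) (ν : ι →₀ ℕ) (y : S ⊗[A] Q) :
    Algebra.TensorProduct.map (eva (S := S) a) (AlgHom.id A Q) (mn ν y) =
      (ν.prod fun i k => a i ^ k) • y := by
  induction y using TensorProduct.induction_on with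
  | zero => simp
  | add x x' hx hx' => simp only [map_add, smul_add, hx, hx']
  | tmul s q =>
    rw [mn_tmul, Algebra.TensorProduct.map_tmul, eva, AlgHom.coe_restrictScalars', aeval_monomial,
      AlgHom.id_apply, TensorProduct.smul_tmul', Algebra.algebraMap_self, RingHom.id_apply]
    congr 1
    rw [Algebra.smul_def, mul_comm, map_finsuppProd]
    simp only [map_pow]

theorem map_eva_ιC (a : ι → A) (y : S ⊗[A] Q) :
    Algebra.TensorProduct.map (eva (S := S) a) (AlgHom.id A Q) (ιC y) = y := by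
  induction y using TensorProduct.induction_on with
  | zero => simp
  | add x x' hx hx' => simp only [map_add, hx, hx']
  | tmul s q => simp [eva]

end Algebra

end Groth.Agent.Lib.Helper32.PolLawCoeff
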