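import Groth.Agent.Lib.Helper32.PolLawFactor
import Groth.Agent.Lib.Helper32.PolLawCoeff

set_option autoImplicit false
universe u
open scoped TensorProduct

namespace Groth.Agent.Lib.Helper32.PolLawCH

open Groth.Agent.Lib.Helper32.PolLawBasic Groth.Agent.Lib.Helper32.PolLawFactor
  Groth.Agent.Lib.Helper32.PolLawCoeff MvPolynomial

variable {A : Type u} [CommRing A] {τ : Type u} {d : ℕ}

section Tools

variable {ι : Type} {S : Type u} [CommRing S] [Algebra A S]

theorem lTensor_mn {M M' : Type u} [AddCommGroup M] [Module A M] [AddCommGroup M'] [Module A M']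
    (g : M →ₗ[A] M') (ν : ι →₀ ℕ) (y : S ⊗[A] M) :
    g.lTensor (MvPolynomial ι S) (mn (A := A) ν y) = mn ν (g.lTensor S y) := by
  induction y using TensorProduct.induction_on with
  | zero => simp
  | add x y hx hy => simp only [map_add, hx, hy]
  | tmul p m => simp

theorem Gam_mul (T : Type u) [CommSemiring T] [Algebra A T] (f g : T ⊗[A] MvPolynomial τ A) :
    Gam d T (f * g) = Gam d T f * Gam d T g := by
  rw [Gam, Gam, Gam, ← Finset.prod_mul_distrib]
  exact Finset.prod_congr rfl fun j _ => map_mul _ _ _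

theorem Gam_one (T : Type u) [CommSemiring T] [Algebra A T] :
    Gam d T (1 : T ⊗[A] MvPolynomial τ A) = 1 := by
  rw [Gam]
  exact Finset.prod_eq_one fun j _ => map_one _

theorem Gam_ιC (f : S ⊗[A] MvPolynomial τ A) :
    Gam d (MvPolynomial ι S) (ιC f) = ιC (Gam d S f) :=
  Gam_map _ f

theorem tmul_one_mul_eq_smul (a : A) (z : S ⊗[A] A) : ((1 : S) ⊗ₜ[A] a) * z = a • z := by
  induction z using TensorProduct.induction_on with
  | zero => simp
  | add x y hx hy => simp only [mul_add, smul_add, hx, hy]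
  | tmul s a' =>
    rw [Algebra.TensorProduct.tmul_mul_tmul, one_mul, TensorProduct.smul_tmul', TensorProduct.smul_tmul,
      smul_eq_mul]

end Tools

section Main

variable (G : PolLaw.MulLaw A (MvPolynomial τ A) A d) (t₀ : τ)

noncomputable def HS (S : Type u) [CommSemiring S] [Algebra A S] :
    S ⊗[A] MvPolynomial (Fin d × τ) A →ₗ[A] S ⊗[A] A :=
  (hLin G.law d).lTensor S

theorem G_eq (S : Type u) [CommSemiring S] [Algebra A S] (f : S ⊗[A] MvPolynomial τ A) :
    G.law.toFun' S f = HS G S (Gam d S f) :=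
  factor G.law G.homog S f

variable (A) in
noncomputable def xi (S : Type u) [CommRing S] [Algebra A S] :
    MvPolynomial Unit S ⊗[A] MvPolynomial τ A :=
  1 ⊗ₜ[A] X t₀ - X () ⊗ₜ[A] 1

variable (A d) in
noncomputable def EE : MvPolynomial Unit A ⊗[A] MvPolynomial (Fin d × τ) A :=
  Gam d (MvPolynomial Unit A) (xi A t₀ A)

variable (A d) in
noncomputable def eps (ν : Unit →₀ ℕ) : MvPolynomial (Fin d × τ) A :=
  TensorProduct.lid A _ (cf (A := A) ν (EE A d t₀))

noncomputable def aν (ν : Unit →₀ ℕ) : A := hLin G.law d (eps A d t₀ ν)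

variable (A d) in
noncomputable def N₀ : Finset (Unit →₀ ℕ) := (exists_expand (EE A d t₀)).choose

theorem cf_EE (ν : Unit →₀ ℕ) : cf (A := A) ν (EE A d t₀) = 1 ⊗ₜ[A] eps A d t₀ ν := by
  rw [eps]
  generalize cf (A := A) ν (EE A d t₀) = z
  induction z using TensorProduct.induction_on with
  | zero => simp
  | add x y hx hy => rw [map_add, TensorProduct.tmul_add, ← hx, ← hy]
  | tmul a q => rw [TensorProduct.lid_tmul, TensorProduct.tmul_smul, TensorProduct.smul_tmul',
      smul_eq_mul, mul_one]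

theorem EE_eq (N' : Finset (Unit →₀ ℕ)) (hN' : N₀ A d t₀ ⊆ N') :
    EE A d t₀ = ∑ ν ∈ N', mn ν ((1 : A) ⊗ₜ[A] eps A d t₀ ν) := by
  have := (exists_expand (EE A d t₀)).choose_spec N' hN'
  simp only [cf_EE] at this
  exact this

variable (A) in
noncomputable def bcA (S : Type u) [CommRing S] [Algebra A S] :
    MvPolynomial Unit A →ₐ[A] MvPolynomial Unit S :=
  MvPolynomial.mapAlgHom (Algebra.ofId A S)

theorem map_bcA_xi (S : Type u) [CommRing S] [Algebra A S] :
    Algebra.TensorProduct.map (bcA A S) (AlgHom.id A _) (xi A t₀ A) = xi A t₀ S := by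
  simp [xi, bcA]

theorem map_bcA_mn (S : Type u) [CommRing S] [Algebra A S] {M : Type u} [CommRing M] [Algebra A M]
    (ν : Unit →₀ ℕ) (m : M) :
    Algebra.TensorProduct.map (bcA A S) (AlgHom.id A M) (mn ν ((1 : A) ⊗ₜ[A] m)) =
      mn ν ((1 : S) ⊗ₜ[A] m) := by
  simp [bcA]

theorem Gam_xi (S : Type u) [CommRing S] [Algebra A S] (N' : Finset (Unit →₀ ℕ))
    (hN' : N₀ A d t₀ ⊆ N') :
    Gam d (MvPolynomial Unit S) (xi A t₀ S) = ∑ ν ∈ N', mn ν ((1 : S) ⊗ₜ[A] eps A d t₀ ν) := by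
  rw [← map_bcA_xi, Gam_map, ← EE, EE_eq t₀ N' hN', map_sum]
  exact Finset.sum_congr rfl fun ν _ => map_bcA_mn S ν _

theorem G_xi (S : Type u) [CommRing S] [Algebra A S] (N' : Finset (Unit →₀ ℕ))
    (hN' : N₀ A d t₀ ⊆ N') :
    G.law.toFun' (MvPolynomial Unit S) (xi A t₀ S) =
      ∑ ν ∈ N', mn ν ((1 : S) ⊗ₜ[A] aν G t₀ ν) := by
  rw [G_eq, Gam_xi t₀ S N' hN', map_sum]
  refine Finset.sum_congr rfl fun ν _ => ?_
  rw [HS, lTensor_mn, LinearMap.lTensor_tmul]
  rfl

end Main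

section Mult

variable (G : PolLaw.MulLaw A (MvPolynomial τ A) A d) (t₀ : τ)

def Mult (u : MvPolynomial (Fin d × τ) A) (α : A) : Prop :=
  ∀ (S : Type u) [CommRing S] [Algebra A S] (f : S ⊗[A] MvPolynomial τ A),
    HS G S (((1 : S) ⊗ₜ[A] u) * Gam d S f) = α • G.law.toFun' S f

theorem mult_one : Mult G 1 1 := by
  intro S _ _ f
  rw [← Algebra.TensorProduct.one_def, one_mul, one_smul, G_eq]

theorem G_ιC {ι : Type} (S : Type u) [CommRing S] [Algebra A S] (f : S ⊗[A] MvPolynomial τ A) :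
    G.law.toFun' (MvPolynomial ι S) (ιC f) = ιC (G.law.toFun' S f) :=
  compat G.law _ f

theorem mult_step {u : MvPolynomial (Fin d × τ) A} {α : A} (hM : Mult G u α) (ν : Unit →₀ ℕ) :
    Mult G (u * eps A d t₀ ν) (α * aν G t₀ ν) := by
  classical
  intro S _ _ f
  have hN' : N₀ A d t₀ ⊆ N₀ A d t₀ ∪ {ν} := Finset.subset_union_left
  have hν : ν ∈ N₀ A d t₀ ∪ {ν} := Finset.mem_union_right _ (Finset.mem_singleton_self ν)
  have h1 := hM (MvPolynomial Unit S) (xi A t₀ S * ιC f)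
  rw [Gam_mul, Gam_ιC, (G.mult _).2, G_ιC, Gam_xi t₀ S _ hN', G_xi G t₀ S _ hN'] at h1
  have h2 := congrArg (cf (A := A) ν) h1
  rw [HS, ← lTensor_cf] at h2
  have e1 : ((1 : MvPolynomial Unit S) ⊗ₜ[A] u) *
      ((∑ ν' ∈ N₀ A d t₀ ∪ {ν}, mn ν' ((1 : S) ⊗ₜ[A] eps A d t₀ ν')) * ιC (Gam d S f)) =
      ∑ ν' ∈ N₀ A d t₀ ∪ {ν}, mn ν' (((1 : S) ⊗ₜ[A] eps A d t₀ ν') * (((1 : S) ⊗ₜ[A] u) * Gam d S f)) := by
    have : ((1 : MvPolynomial Unit S) ⊗ₜ[A] u) = ιC ((1 : S) ⊗ₜ[A] u) := by simp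
    rw [this, mul_left_comm, ← map_mul, Finset.sum_mul]
    exact Finset.sum_congr rfl fun ν' _ => mn_mul_ιC _ _ _
  have e2 : (∑ ν' ∈ N₀ A d t₀ ∪ {ν}, mn ν' ((1 : S) ⊗ₜ[A] aν G t₀ ν')) * ιC (G.law.toFun' S f) =
      ∑ ν' ∈ N₀ A d t₀ ∪ {ν}, mn ν' (((1 : S) ⊗ₜ[A] aν G t₀ ν') * G.law.toFun' S f) := by
    rw [Finset.sum_mul]
    exact Finset.sum_congr rfl fun ν' _ => mn_mul_ιC _ _ _
  rw [e1, e2, map_smul, cf_sum_mn ν _ _ hν, cf_sum_mn ν _ _ hν] at h2
  rw [tmul_one_mul_eq_smul, smul_smul] at h2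
  rw [← h2, HS]
  congr 1
  rw [← mul_assoc, Algebra.TensorProduct.tmul_mul_tmul, one_mul, mul_comm u]


theorem mult_pow {u : MvPolynomial (Fin d × τ) A} {α : A} (hM : Mult G u α) (ν : Unit →₀ ℕ)
    (k : ℕ) : Mult G (u * eps A d t₀ ν ^ k) (α * aν G t₀ ν ^ k) := by
  induction k with
  | zero => simpa using hM
  | succ k ih =>
    rw [pow_succ, pow_succ, ← mul_assoc, ← mul_assoc]
    exact mult_step G t₀ ih ν

theorem mult_prod (κ : (Unit →₀ ℕ) →₀ ℕ) :
    Mult G (κ.prod fun ν k => eps A d t₀ ν ^ k) (κ.prod fun ν k => aν G t₀ ν ^ k) := by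
  classical
  induction κ using Finsupp.induction with
  | zero =>
    rw [Finsupp.prod_zero_index, Finsupp.prod_zero_index]
    exact mult_one G
  | single_add ν k κ' hν hk ih =>
    rw [Finsupp.prod_add_index' (fun _ => pow_zero _) (fun _ _ _ => pow_add _ _ _),
      Finsupp.prod_add_index' (fun _ => pow_zero _) (fun _ _ _ => pow_add _ _ _),
      Finsupp.prod_single_index (h := fun ν k => eps A d t₀ ν ^ k) (pow_zero _),
      Finsupp.prod_single_index (h := fun ν k => aν G t₀ ν ^ k) (pow_zero _),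
      mul_comm (eps A d t₀ ν ^ k), mul_comm (aν G t₀ ν ^ k)]
    exact mult_pow G t₀ ih ν k

end Mult

section CH

variable (G : PolLaw.MulLaw A (MvPolynomial τ A) A d) (t₀ : τ)

theorem prod_unit {R : Type*} [CommMonoid R] (ν : Unit →₀ ℕ) (y : R) :
    (ν.prod fun _ k => y ^ k) = y ^ (ν ()) := by
  rw [Finsupp.prod_fintype _ _ (fun _ => pow_zero y)]
  simp

theorem map_rename_xi (j : Fin d) :
    Algebra.TensorProduct.map (AlgHom.id (MvPolynomial Unit A) (MvPolynomial Unit A))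
      (rename (Prod.mk j) : MvPolynomial τ A →ₐ[A] MvPolynomial (Fin d × τ) A) (xi A t₀ A) =
      1 ⊗ₜ[A] X (j, t₀) - X () ⊗ₜ[A] 1 := by
  simp [xi]

theorem chat_eq_zero (j : Fin d) :
    ∑ ν ∈ N₀ A d t₀, eps A d t₀ ν * (X (j, t₀)) ^ (ν ()) = 0 := by
  let e : Unit → A ⊗[A] MvPolynomial (Fin d × τ) A := fun _ => 1 ⊗ₜ[A] X (j, t₀)
  have h1 : sub e (EE A d t₀) = 0 := by
    rw [EE, Gam, map_prod]
    apply Finset.prod_eq_zero (Finset.mem_univ j)
    rw [map_rename_xi, map_sub, sub_tmul, sub_tmul]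
    rw [map_one, aeval_X, one_mul, ← Algebra.TensorProduct.one_def, mul_one]
    exact sub_self _
  have h2 : sub e (EE A d t₀) =
      1 ⊗ₜ[A] (∑ ν ∈ N₀ A d t₀, eps A d t₀ ν * (X (j, t₀)) ^ (ν ())) := by
    rw [EE_eq t₀ _ (Finset.Subset.refl _), map_sum, TensorProduct.tmul_sum]
    refine Finset.sum_congr rfl fun ν _ => ?_
    rw [sub_mn, prod_unit]
    rw [Algebra.TensorProduct.tmul_pow, one_pow, Algebra.TensorProduct.tmul_mul_tmul, one_mul,
      mul_comm]
  rw [h1] at h2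
  have := congrArg (TensorProduct.lid A _) h2
  simpa using this.symm

noncomputable def cc : MvPolynomial τ A := ∑ ν ∈ N₀ A d t₀, aν G t₀ ν • (X t₀) ^ (ν ())

theorem map_ιC {ι : Type} {S : Type u} [CommRing S] [Algebra A S] (j : Fin d)
    (y : S ⊗[A] MvPolynomial τ A) :
    Algebra.TensorProduct.map (AlgHom.id (MvPolynomial ι S) (MvPolynomial ι S))
      (rename (Prod.mk j) : MvPolynomial τ A →ₐ[A] MvPolynomial (Fin d × τ) A) (ιC y) =
    ιC (Algebra.TensorProduct.map (AlgHom.id S S)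
      (rename (Prod.mk j) : MvPolynomial τ A →ₐ[A] MvPolynomial (Fin d × τ) A) y) := by
  induction y using TensorProduct.induction_on with
  | zero => simp
  | add x y hx hy => simp only [map_add, hx, hy]
  | tmul s p => simp

theorem main (S : Type u) [CommRing S] [Algebra A S] (x w : S ⊗[A] MvPolynomial τ A) :
    G.law.toFun' S (x + w * (1 ⊗ₜ[A] cc G t₀)) = G.law.toFun' S x := by
  classical
  let av : (Unit →₀ ℕ) → A := aν G t₀
  let eε : (Unit →₀ ℕ) → S ⊗[A] MvPolynomial (Fin d × τ) A := fun ν => 1 ⊗ₜ[A] eps A d t₀ ν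
  let fz : MvPolynomial (Unit →₀ ℕ) S ⊗[A] MvPolynomial τ A :=
    ιC x + ιC w * ∑ ν ∈ N₀ A d t₀, (X ν : MvPolynomial (Unit →₀ ℕ) S) ⊗ₜ[A] ((X t₀) ^ (ν ()))
  have ha : Algebra.TensorProduct.map (eva (S := S) av) (AlgHom.id A _) fz =
      x + w * (1 ⊗ₜ[A] cc G t₀) := by
    simp only [fz, map_add, map_mul, map_eva_ιC, map_sum, Algebra.TensorProduct.map_tmul,
      AlgHom.id_apply]
    congr 2
    rw [cc, TensorProduct.tmul_sum]
    refine Finset.sum_congr rfl fun ν _ => ?_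
    rw [eva, AlgHom.coe_restrictScalars', aeval_X,
      Algebra.algebraMap_eq_smul_one, TensorProduct.smul_tmul]
  set Φ := Gam d (MvPolynomial (Unit →₀ ℕ) S) fz with hΦdef
  obtain ⟨N, hN⟩ := exists_expand (A := A) Φ
  have hΦ := hN N (Finset.Subset.refl _)
  have hb : G.law.toFun' S (x + w * (1 ⊗ₜ[A] cc G t₀)) =
      HS G S (Algebra.TensorProduct.map (eva (S := S) av) (AlgHom.id A _) Φ) := by
    rw [← ha, compat, G_eq, HS, HS, lTensor_map]
  have hc : Algebra.TensorProduct.map (eva (S := S) av) (AlgHom.id A _) Φ =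
      ∑ κ ∈ N, (κ.prod fun ν k => av ν ^ k) • cf (A := A) κ Φ := by
    conv_lhs => rw [hΦ]
    rw [map_sum]
    exact Finset.sum_congr rfl fun κ _ => map_eva_mn av κ _
  have hd : sub eε Φ = ∑ κ ∈ N, (κ.prod fun ν k => eε ν ^ k) * cf (A := A) κ Φ := by
    conv_lhs => rw [hΦ]
    rw [map_sum]
    exact Finset.sum_congr rfl fun κ _ => sub_mn eε κ _
  have he : ∀ κ : (Unit →₀ ℕ) →₀ ℕ, HS G S ((κ.prod fun ν k => eε ν ^ k) * cf (A := A) κ Φ) =
      (κ.prod fun ν k => av ν ^ k) • HS G S (cf (A := A) κ Φ) := by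
    intro κ
    have h1 := mult_prod G t₀ κ (MvPolynomial (Unit →₀ ℕ) S) fz
    rw [G_eq, ← hΦdef] at h1
    have h2 := congrArg (cf (A := A) κ) h1
    rw [HS, ← lTensor_cf, map_smul, ← lTensor_cf] at h2
    have h3 : ((1 : MvPolynomial (Unit →₀ ℕ) S) ⊗ₜ[A] (κ.prod fun ν k => eps A d t₀ ν ^ k)) =
        ιC ((1 : S) ⊗ₜ[A] (κ.prod fun ν k => eps A d t₀ ν ^ k)) := by simp
    rw [h3, mul_comm, cf_mul_ιC, mul_comm] at h2
    have h4 : (κ.prod fun ν k => eε ν ^ k) =
        (1 : S) ⊗ₜ[A] (κ.prod fun ν k => eps A d t₀ ν ^ k) := by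
      have := map_finsuppProd (Algebra.TensorProduct.includeRight :
        MvPolynomial (Fin d × τ) A →ₐ[A] S ⊗[A] MvPolynomial (Fin d × τ) A) κ
        (fun ν k => eps A d t₀ ν ^ k)
      simp only [map_pow, Algebra.TensorProduct.includeRight_apply] at this
      exact this.symm
    rw [h4]
    exact h2
  have hf : HS G S (Algebra.TensorProduct.map (eva (S := S) av) (AlgHom.id A _) Φ) =
      HS G S (sub eε Φ) := by
    rw [hc, hd, map_sum, map_sum]
    refine Finset.sum_congr rfl fun κ _ => ?_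
    rw [he κ, map_smul]
  have hg : sub eε Φ = Gam d S x := by
    rw [hΦdef, Gam, Gam, map_prod]
    refine Finset.prod_congr rfl fun j _ => ?_
    simp only [fz, map_add, map_mul, map_ιC, sub_ιC, map_sum, Algebra.TensorProduct.map_tmul,
      AlgHom.id_apply, sub_tmul, aeval_X, map_pow, rename_X]
    have : ∑ ν ∈ N₀ A d t₀, eε ν * ((1 : S) ⊗ₜ[A] ((X (j, t₀) : MvPolynomial (Fin d × τ) A) ^ (ν ()))) = 0 := by
      simp only [eε, Algebra.TensorProduct.tmul_mul_tmul, one_mul]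
      rw [← TensorProduct.tmul_sum, chat_eq_zero, TensorProduct.tmul_zero]
    rw [this, mul_zero, add_zero]
  rw [hb, hf, hg, ← G_eq]


end CH

section Glue

variable (G : PolLaw.MulLaw A (MvPolynomial τ A) A d) (t₀ : τ)

theorem cc_mem_ker : cc G t₀ ∈ PolLaw.ker G.law :=
  mem_ker_of_mvPolynomial G.law _ fun n x w => main G t₀ (MvPolynomial (Fin n) A) x w

noncomputable def chiT : MvPolynomial Unit A :=
  TensorProduct.rid A _ (G.law.toFun' (MvPolynomial Unit A) (xi A t₀ A))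

theorem chiT_eq : chiT G t₀ = ∑ ν ∈ N₀ A d t₀, monomial ν (aν G t₀ ν) := by
  rw [chiT, G_xi G t₀ A _ (Finset.Subset.refl _), map_sum]
  refine Finset.sum_congr rfl fun ν _ => ?_
  rw [mn_tmul, TensorProduct.rid_tmul, smul_monomial, smul_eq_mul, mul_one]

theorem aeval_chiT : aeval (fun _ : Unit => (X t₀ : MvPolynomial τ A)) (chiT G t₀) = cc G t₀ := by
  rw [chiT_eq, map_sum, cc]
  refine Finset.sum_congr rfl fun ν _ => ?_
  rw [aeval_monomial, prod_unit, Algebra.smul_def]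

noncomputable def chiP : Polynomial A :=
  TensorProduct.rid A _ (G.law.toFun' (Polynomial A)
    ((1 : Polynomial A) ⊗ₜ[A] (X t₀ : MvPolynomial τ A) - Polynomial.X ⊗ₜ[A] 1))

theorem chiP_eq : chiP G t₀ = MvPolynomial.uniqueAlgEquiv A Unit (chiT G t₀) := by
  have h := compat G.law ((MvPolynomial.uniqueAlgEquiv A Unit : MvPolynomial Unit A ≃ₐ[A] Polynomial A) :
    MvPolynomial Unit A →ₐ[A] Polynomial A) (xi A t₀ A)
  have h1 : Algebra.TensorProduct.map ((MvPolynomial.uniqueAlgEquiv A Unit :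
      MvPolynomial Unit A ≃ₐ[A] Polynomial A) : MvPolynomial Unit A →ₐ[A] Polynomial A)
      (AlgHom.id A (MvPolynomial τ A)) (xi A t₀ A) =
      (1 : Polynomial A) ⊗ₜ[A] (X t₀ : MvPolynomial τ A) - Polynomial.X ⊗ₜ[A] 1 := by
    simp [xi]
  rw [h1] at h
  rw [chiP, h, rid_map, chiT]
  rfl

theorem aeval_chiP : Polynomial.aeval (X t₀ : MvPolynomial τ A) (chiP G t₀) = cc G t₀ := by
  rw [chiP_eq, ← aeval_chiT]
  have : (Polynomial.aeval (X t₀ : MvPolynomial τ A)).comp
      ((MvPolynomial.uniqueAlgEquiv A Unit : MvPolynomial Unit A ≃ₐ[A] Polynomial A) :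
        MvPolynomial Unit A →ₐ[A] Polynomial A) =
      aeval (fun _ : Unit => (X t₀ : MvPolynomial τ A)) := by
    apply MvPolynomial.algHom_ext
    intro i
    simp
  exact DFunLike.congr_fun this _

theorem aeval_chiP_mem_ker :
    Polynomial.aeval (X t₀ : MvPolynomial τ A) (chiP G t₀) ∈ PolLaw.ker G.law := by
  rw [aeval_chiP]
  exact cc_mem_ker G t₀

end Glue

section General

variable {B : Type u} [CommRing B] [Algebra A B]

theorem map_mem_ker_of_surjective (F : PolLaw.MulLaw A B A d) {B' : Type u} [CommRing B']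
    [Algebra A B'] (φ : B' →ₐ[A] B) (hφ : Function.Surjective φ) (p : B')
    (hp : p ∈ PolLaw.ker (F.precomp φ).law) : φ p ∈ PolLaw.ker F.law := by
  intro S _ _ x w
  have hsurj : Function.Surjective (Algebra.TensorProduct.map (AlgHom.id S S) φ) := by
    have := LinearMap.lTensor_surjective S (g := φ.toLinearMap) hφ
    intro y
    obtain ⟨z, hz⟩ := this y
    exact ⟨z, by rw [← hz, PolLaw.lTensor_algHom_apply]⟩
  obtain ⟨x', rfl⟩ := hsurj x
  obtain ⟨w', rfl⟩ := hsurj w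
  have := hp S x' w'
  rw [mulLaw_precomp_toFun', mulLaw_precomp_toFun', map_add, map_mul,
    Algebra.TensorProduct.map_tmul, map_one] at this
  exact this

theorem cayley_hamilton (F : PolLaw.MulLaw A B A d) (b : B) :
    Polynomial.aeval b (TensorProduct.rid A (Polynomial A)
      (F.law.toFun' (Polynomial A) ((1 : Polynomial A) ⊗ₜ[A] b - Polynomial.X ⊗ₜ[A] (1 : B)))) ∈
      PolLaw.ker F.law := by
  let φ : MvPolynomial B A →ₐ[A] B := aeval id
  have hφ : Function.Surjective φ := fun y => ⟨X y, by simp [φ]⟩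
  have h1 := aeval_chiP_mem_ker (F.precomp φ) b
  have h2 := map_mem_ker_of_surjective F φ hφ _ h1
  rw [← Polynomial.aeval_algHom_apply] at h2
  have h3 : φ (X b) = b := by simp [φ]
  rw [h3] at h2
  have h4 : chiP (F.precomp φ) b = TensorProduct.rid A (Polynomial A)
      (F.law.toFun' (Polynomial A) ((1 : Polynomial A) ⊗ₜ[A] b - Polynomial.X ⊗ₜ[A] (1 : B))) := by
    rw [chiP, mulLaw_precomp_toFun']
    congr 2
    simp [h3]
  rw [h4] at h2
  exact h2

end General


section Consequences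

variable {B : Type u} [CommRing B] [Algebra A B]

noncomputable def chi (F : PolLaw.MulLaw A B A d) (b : B) : Polynomial A :=
  TensorProduct.rid A (Polynomial A)
    (F.law.toFun' (Polynomial A) ((1 : Polynomial A) ⊗ₜ[A] b - Polynomial.X ⊗ₜ[A] (1 : B)))

theorem aeval_chi_mem_ker (F : PolLaw.MulLaw A B A d) (b : B) :
    Polynomial.aeval b (chi F b) ∈ PolLaw.ker F.law := cayley_hamilton F b

theorem chi_of_mem_ker (F : PolLaw.MulLaw A B A d) (b : B) (hb : b ∈ PolLaw.ker F.law) :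
    chi F b = (-Polynomial.X) ^ d := by
  have h1 := hb (Polynomial A) (-(Polynomial.X ⊗ₜ[A] (1 : B))) 1
  rw [one_mul, neg_add_eq_sub] at h1
  rw [chi, h1]
  have h2 : -((Polynomial.X : Polynomial A) ⊗ₜ[A] (1 : B)) =
      (-(Polynomial.X : Polynomial A)) • (1 : Polynomial A ⊗[A] B) := by
    rw [Algebra.TensorProduct.one_def, TensorProduct.smul_tmul', smul_eq_mul, mul_one,
      TensorProduct.neg_tmul]
  rw [h2, F.homog, (F.mult _).1, rid_smul]
  simp [Algebra.TensorProduct.one_def]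

theorem pow_mem_ker_of_mem_ker_precomp (F : PolLaw.MulLaw A B A d) {B' : Type u} [CommRing B']
    [Algebra A B'] (φ : B' →ₐ[A] B) (b' : B') (hb' : b' ∈ PolLaw.ker (F.precomp φ).law) :
    φ b' ^ d ∈ PolLaw.ker F.law := by
  have h1 := chi_of_mem_ker (F.precomp φ) b' hb'
  have h2 : chi (F.precomp φ) b' = chi F (φ b') := by
    rw [chi, chi, mulLaw_precomp_toFun']
    congr 2
    simp
  rw [h2] at h1
  have h3 := aeval_chi_mem_ker F (φ b')
  rw [h1, map_pow, map_neg, Polynomial.aeval_X, neg_pow] at h3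
  have h4 : φ b' ^ d = (-1) ^ d * ((-1) ^ d * φ b' ^ d) := by
    rw [← mul_assoc, ← mul_pow]
    simp
  rw [h4]
  exact Ideal.mul_mem_left _ _ h3

end Consequences


section Monic

variable (G : PolLaw.MulLaw A (MvPolynomial τ A) A d) (t₀ : τ)

theorem hLin_one : hLin G.law d 1 = 1 := by
  have h := G_eq G A (1 : A ⊗[A] MvPolynomial τ A)
  rw [(G.mult A).1, Gam_one, HS, Algebra.TensorProduct.one_def, Algebra.TensorProduct.one_def,
    LinearMap.lTensor_tmul] at h
  have := congrArg (TensorProduct.lid A A) h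
  simpa using this.symm

theorem chiP_expand : chiP G t₀ = ∑ K ∈ (Finset.univ : Finset (Fin d)).powerset,
    hLin G.law d (∏ j ∈ K, X (j, t₀)) • (-Polynomial.X) ^ (d - K.card) := by
  classical
  rw [chiP, G_eq, Gam]
  have h1 : ∀ j : Fin d, Algebra.TensorProduct.map (AlgHom.id (Polynomial A) (Polynomial A))
      (rename (Prod.mk j) : MvPolynomial τ A →ₐ[A] MvPolynomial (Fin d × τ) A)
      ((1 : Polynomial A) ⊗ₜ[A] (X t₀ : MvPolynomial τ A) - Polynomial.X ⊗ₜ[A] 1) =
      (1 : Polynomial A) ⊗ₜ[A] (X (j, t₀) : MvPolynomial (Fin d × τ) A) +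
        (-Polynomial.X) ⊗ₜ[A] 1 := by
    intro j
    simp [sub_eq_add_neg, TensorProduct.neg_tmul]
  simp only [h1]
  rw [Finset.prod_add, map_sum, map_sum]
  refine Finset.sum_congr rfl fun K _ => ?_
  rw [prod_tmul, prod_tmul, Algebra.TensorProduct.tmul_mul_tmul, Finset.prod_const_one, one_mul,
    Finset.prod_const_one, mul_one, Finset.prod_const, HS, LinearMap.lTensor_tmul,
    TensorProduct.rid_tmul]
  congr 2
  rw [Finset.card_sdiff_of_subset (Finset.subset_univ K)]
  simp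

end Monic

section Monic2

variable (G : PolLaw.MulLaw A (MvPolynomial τ A) A d) (t₀ : τ)

theorem neg_X_pow (k : ℕ) : (-Polynomial.X : Polynomial A) ^ k =
    Polynomial.C ((-1) ^ k) * Polynomial.X ^ k := by
  rw [neg_pow, map_pow, map_neg, map_one]

theorem chiP_monic : ((-1 : A) ^ d • chiP G t₀).Monic := by
  classical
  apply Polynomial.monic_of_natDegree_le_of_coeff_eq_one d
  · refine (Polynomial.natDegree_smul_le _ _).trans ?_
    rw [chiP_expand]
    refine Polynomial.natDegree_sum_le_of_forall_le _ _ fun K _ => ?_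
    refine (Polynomial.natDegree_smul_le _ _).trans ?_
    rw [neg_X_pow]
    refine (Polynomial.natDegree_C_mul_le _ _).trans ?_
    refine (Polynomial.natDegree_X_pow_le _).trans ?_
    omega
  · rw [Polynomial.coeff_smul, chiP_expand, Polynomial.finsetSum_coeff]
    rw [Finset.sum_eq_single (∅ : Finset (Fin d))]
    · rw [Finset.prod_empty, hLin_one, Polynomial.coeff_smul, Finset.card_empty, Nat.sub_zero,
        neg_X_pow, Polynomial.coeff_C_mul, Polynomial.coeff_X_pow, if_pos rfl]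
      simp only [smul_eq_mul, mul_one, one_mul]
      rw [← mul_pow]
      simp
    · intro K _ hK
      rw [Polynomial.coeff_smul, neg_X_pow, Polynomial.coeff_C_mul, Polynomial.coeff_X_pow]
      have hc : 0 < K.card := Finset.card_pos.mpr (Finset.nonempty_iff_ne_empty.mpr hK)
      have hle : K.card ≤ d := by
        have := Finset.card_le_univ K
        simpa using this
      rw [if_neg (by omega)]
      simp
    · intro h
      exact absurd (Finset.empty_mem_powerset _) h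

end Monic2

section Integral

variable {B : Type u} [CommRing B] [Algebra A B]

theorem chi_eq_chiP (F : PolLaw.MulLaw A B A d) (b : B) :
    chi F b = chiP (F.precomp (aeval id : MvPolynomial B A →ₐ[A] B)) b := by
  rw [chi, chiP, mulLaw_precomp_toFun']
  congr 2
  simp

theorem chi_monic (F : PolLaw.MulLaw A B A d) (b : B) : ((-1 : A) ^ d • chi F b).Monic := by
  rw [chi_eq_chiP]
  exact chiP_monic _ b

theorem isIntegral_mk (F : PolLaw.MulLaw A B A d) (b : B) :
    IsIntegral A (Ideal.Quotient.mk (PolLaw.ker F.law) b) := by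
  refine ⟨(-1 : A) ^ d • chi F b, chi_monic F b, ?_⟩
  have h1 : Polynomial.aeval (Ideal.Quotient.mkₐ A (PolLaw.ker F.law) b)
      ((-1 : A) ^ d • chi F b) =
      Ideal.Quotient.mkₐ A (PolLaw.ker F.law) (Polynomial.aeval b ((-1 : A) ^ d • chi F b)) :=
    Polynomial.aeval_algHom_apply _ _ _
  have h2 : Polynomial.aeval b ((-1 : A) ^ d • chi F b) ∈ PolLaw.ker F.law := by
    rw [map_smul, Algebra.smul_def]
    exact Ideal.mul_mem_left _ _ (aeval_chi_mem_ker F b)
  rw [Ideal.Quotient.mkₐ_eq_mk, Ideal.Quotient.eq_zero_iff_mem.mpr h2] at h1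
  exact h1

theorem isIntegral_image (F : PolLaw.MulLaw A B A d) :
    Algebra.IsIntegral A (PolLaw.image F.law) := by
  refine ⟨fun x => ?_⟩
  obtain ⟨b, rfl⟩ := Ideal.Quotient.mk_surjective x
  exact isIntegral_mk F b

end Integral

end Groth.Agent.Lib.Helper32.PolLawCH
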