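import Groth.Agent.Lib.Helper32.PolLawGeomRed

set_option autoImplicit false
universe u
open scoped TensorProduct

namespace Groth.Agent.Lib.Helper32.PolLawTdSucc

open Groth.Agent.Lib.Helper32.PolLawTd Groth.Agent.Lib.Helper32.PolLawGeomRed

variable {A : Type u} [CommRing A] {B : Type u} [CommRing B] [Algebra A B]

section PA

variable {d : ℕ} {W : Type u} [CommRing W] [Algebra A W] (g : Fin d → (B →ₐ[A] W))

noncomputable def PA : (⨂[A] _ : Fin d, B) →ₐ[A] W :=
  PiTensorProduct.liftAlgHom
    ((MultilinearMap.mkPiAlgebra A (Fin d) W).compLinearMap (fun j => (g j).toLinearMap))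
    (by simp)
    (by intro x y; simp [Finset.prod_mul_distrib])

theorem PA_sgl (j : Fin d) (b : B) : PA g (sgl A B d j b) = g j b := by
  classical
  rw [sgl, PiTensorProduct.singleAlgHom_apply, PA, PiTensorProduct.liftAlgHom_apply,
    PiTensorProduct.lift.tprod]
  simp only [MultilinearMap.compLinearMap_apply, MultilinearMap.mkPiAlgebra_apply,
    AlgHom.toLinearMap_apply, MonoidHom.mulSingle_apply]
  rw [Finset.prod_eq_single j]
  · rw [Pi.mulSingle_eq_same]
  · intro k _ hk
    rw [Pi.mulSingle_eq_of_ne hk, map_one]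
  · intro h
    exact absurd (Finset.mem_univ j) h

end PA

section Succ

variable (A B) (n : ℕ)

noncomputable def gS (j : Fin (n + 1)) : B →ₐ[A] (⨂[A] _ : Fin n, B) ⊗[A] B :=
  Fin.lastCases (motive := fun _ => B →ₐ[A] (⨂[A] _ : Fin n, B) ⊗[A] B)
    Algebra.TensorProduct.includeRight
    (fun i => (Algebra.TensorProduct.includeLeft : (⨂[A] _ : Fin n, B) →ₐ[A] _).comp
      (sgl A B n i)) j

noncomputable def FS : (⨂[A] _ : Fin (n + 1), B) →ₐ[A] (⨂[A] _ : Fin n, B) ⊗[A] B :=
  PA (gS A B n)

noncomputable def f₀ : (⨂[A] _ : Fin n, B) →ₐ[A] (⨂[A] _ : Fin (n + 1), B) :=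
  PA (fun i => sgl A B (n + 1) i.castSucc)

noncomputable def GS : (⨂[A] _ : Fin n, B) ⊗[A] B →ₐ[A] (⨂[A] _ : Fin (n + 1), B) :=
  Algebra.TensorProduct.productMap (f₀ A B n) (sgl A B (n + 1) (Fin.last n))

theorem GS_FS : (GS A B n).comp (FS A B n) = AlgHom.id A _ := by
  apply PiTensorProduct.algHom_ext
  intro j
  ext b
  show GS A B n (FS A B n (sgl A B (n + 1) j b)) = sgl A B (n + 1) j b
  rw [FS, PA_sgl]
  induction j using Fin.lastCases with
  | last =>
    rw [gS, Fin.lastCases_last, GS, Algebra.TensorProduct.includeRight_apply,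
      Algebra.TensorProduct.productMap_apply_tmul, map_one, one_mul]
  | cast i =>
    rw [gS, Fin.lastCases_castSucc, GS, AlgHom.comp_apply,
      Algebra.TensorProduct.includeLeft_apply, Algebra.TensorProduct.productMap_apply_tmul,
      map_one, mul_one, f₀, PA_sgl]

theorem FS_injective : Function.Injective (FS A B n) := by
  intro x y h
  have := congrArg (GS A B n) h
  rw [← AlgHom.comp_apply, ← AlgHom.comp_apply, GS_FS] at this
  exact this

end Succ

section Red

theorem isReduced_of_surjective_of_field {K R : Type u} [Field K] [CommRing R] (f : K →+* R)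
    (hf : Function.Surjective f) : IsReduced R := by
  constructor
  intro x hx
  obtain ⟨k, rfl⟩ := hf x
  by_cases hk : k = 0
  · rw [hk, map_zero]
  · obtain ⟨m, hm⟩ := hx
    have hu : IsUnit (f k ^ m) := ((isUnit_iff_ne_zero.mpr hk).map f).pow m
    rw [hm] at hu
    haveI : Subsingleton R := subsingleton_of_zero_eq_one (isUnit_zero_iff.mp hu)
    exact Subsingleton.elim _ _

theorem includeLeft_surjective_zero (K : Type u) [Field K] [Algebra A K] :
    Function.Surjective (Algebra.TensorProduct.includeLeft :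
      K →ₐ[A] K ⊗[A] (⨂[A] _ : Fin 0, B)) := by
  intro w
  induction w using TensorProduct.induction_on with
  | zero => exact ⟨0, map_zero _⟩
  | add x y hx hy =>
    obtain ⟨a, rfl⟩ := hx
    obtain ⟨b, rfl⟩ := hy
    exact ⟨a + b, map_add _ _ _⟩
  | tmul k t =>
    induction t using PiTensorProduct.induction_on with
    | smul_tprod a b =>
      refine ⟨a • k, ?_⟩
      rw [Algebra.TensorProduct.includeLeft_apply, TensorProduct.tmul_smul,
        TensorProduct.smul_tmul']
      congr 1
      rw [PiTensorProduct.one_def]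
      congr 1
      funext i
      exact i.elim0
    | add x y hx hy =>
      obtain ⟨a, ha⟩ := hx
      obtain ⟨b, hb⟩ := hy
      exact ⟨a + b, by rw [map_add, ha, hb, TensorProduct.tmul_add]⟩

theorem isReduced_Td (hred : ∀ (L : Type u) [Field L] [Algebra A L], IsReduced (L ⊗[A] B))
    (K : Type u) [Field K] [Algebra A K] (n : ℕ) :
    IsReduced (K ⊗[A] (⨂[A] _ : Fin n, B)) := by
  induction n with
  | zero =>
    exact isReduced_of_surjective_of_field
      (Algebra.TensorProduct.includeLeft : K →ₐ[A] K ⊗[A] (⨂[A] _ : Fin 0, B)).toRingHom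
      (includeLeft_surjective_zero K)
  | succ n ih =>
    haveI := ih
    haveI : IsReduced ((K ⊗[A] (⨂[A] _ : Fin n, B)) ⊗[A] B) :=
      isReduced_tensor_of_field (K := K) hred (K ⊗[A] (⨂[A] _ : Fin n, B))
    let ψ : K ⊗[A] (⨂[A] _ : Fin (n + 1), B) →ₐ[A] (K ⊗[A] (⨂[A] _ : Fin n, B)) ⊗[A] B :=
      ((Algebra.TensorProduct.assoc A A A K (⨂[A] _ : Fin n, B) B).symm : _ →ₐ[A] _).comp
        (Algebra.TensorProduct.map (AlgHom.id A K) (FS A B n))
    have hψ : Function.Injective ψ := by
      intro x y h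
      have h1 : Algebra.TensorProduct.map (AlgHom.id A K) (FS A B n) x =
          Algebra.TensorProduct.map (AlgHom.id A K) (FS A B n) y :=
        (Algebra.TensorProduct.assoc A A A K (⨂[A] _ : Fin n, B) B).symm.injective h
      have h2 := congrArg (Algebra.TensorProduct.map (AlgHom.id A K) (GS A B n)) h1
      rw [← AlgHom.comp_apply, ← AlgHom.comp_apply, ← Algebra.TensorProduct.map_comp, GS_FS,
        AlgHom.comp_id, Algebra.TensorProduct.map_id] at h2
      exact h2
    exact isReduced_of_injective ψ.toRingHom hψ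

end Red

end Groth.Agent.Lib.Helper32.PolLawTdSucc
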