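import Groth.Agent.Lib.Helper32.PolLawElemSym
import Groth.Agent.Lib.Helper32.PolLawTdSucc

set_option autoImplicit false
universe u
open scoped TensorProduct

namespace Groth.Agent.Lib.Helper32.PolLawChow

open Groth.Agent.Lib.Helper32.PolLawBasic Groth.Agent.Lib.Helper32.PolLawFactor
  Groth.Agent.Lib.Helper32.PolLawFactorC Groth.Agent.Lib.Helper32.PolLawSym
  Groth.Agent.Lib.Helper32.PolLawTd Groth.Agent.Lib.Helper32.PolLawTSFlat
  Groth.Agent.Lib.Helper32.PolLawTSFlat2 Groth.Agent.Lib.Helper32.PolLawTdSucc MvPolynomial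

variable {A : Type u} [CommRing A] {B : Type u} [CommRing B] [Algebra A B] {d : ℕ}

variable (A B d) in
noncomputable def mdAlg : (⨂[A] _ : Fin d, B) →ₐ[A] B := PA (fun _ => AlgHom.id A B)

theorem mdAlg_apply (t : ⨂[A] _ : Fin d, B) :
    mdAlg A B d t = PiTensorProduct.lift (MultilinearMap.mkPiAlgebra A (Fin d) B) t := by
  rw [mdAlg, PA, PiTensorProduct.liftAlgHom_apply]
  congr 2

theorem mdAlg_sgl (k : Fin d) (b : B) : mdAlg A B d (sgl A B d k b) = b := by
  rw [mdAlg, PA_sgl]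
  rfl

theorem map_TP {W : Type u} [CommRing W] [Algebra A W] (ρ : (⨂[A] _ : Fin d, B) →ₐ[A] W)
    (χ : B →ₐ[A] W) (hρ : ∀ k b, ρ (sgl A B d k b) = χ b)
    (S : Type u) [CommRing S] [Algebra A S] (z : S ⊗[A] B) :
    Algebra.TensorProduct.map (AlgHom.id S S) ρ (TP (d := d) S z) =
      (Algebra.TensorProduct.map (AlgHom.id S S) χ z) ^ d := by
  have h : ∀ k : Fin d, Algebra.TensorProduct.map (AlgHom.id S S) ρ
      (Algebra.TensorProduct.map (AlgHom.id S S) (sgl A B d k) z) =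
      Algebra.TensorProduct.map (AlgHom.id S S) χ z := by
    intro k
    induction z using TensorProduct.induction_on with
    | zero => simp
    | add x y hx hy => simp only [map_add, hx, hy]
    | tmul s b =>
      simp only [Algebra.TensorProduct.map_tmul, AlgHom.id_apply, hρ]
  rw [TP, map_prod]
  simp only [h]
  rw [Finset.prod_const, Finset.card_univ, Fintype.card_fin]

theorem kap_os_eq (J : Finset (B →₀ ℕ)) (ν : (B →₀ ℕ) →₀ ℕ) :
    kap A B d (os J ν) = cfC ν (TP (d := d) (Rg A B)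
      (Algebra.TensorProduct.map (AlgHom.id (Rg A B) (Rg A B)) (aeval id) (gen J))) := by
  rw [← cfC_Gam_gen, ← AlgHom.toLinearMap_apply,
    ← Groth.Agent.Lib.Helper32.PolLawPolar.cfC_lTensor, PolLaw.lTensor_algHom_apply]
  show cfC ν (kapS A B d (Rg A B) (Gam d (Rg A B) (gen J))) = _
  rw [kapS_Gam]

theorem pow_mem_range_map {k L : Type u} [Field k] [Field L] [Algebra A k] [Algebra A L]
    (j : k →ₐ[A] L) (q n : ℕ) [ExpChar L q] (hpow : ∀ l : L, l ^ (q ^ n) ∈ j.range)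
    (S : Type u) [CommRing S] [Algebra A S] {ι : Type u} (J : Finset ι) (s : ι → S)
    (l : ι → L) :
    (∑ μ ∈ J, s μ ⊗ₜ[A] l μ) ^ (q ^ n) ∈
      (Algebra.TensorProduct.map (AlgHom.id S S) j).range := by
  rcases subsingleton_or_nontrivial (S ⊗[A] L) with hsub | hnt
  · exact ⟨0, Subsingleton.elim _ _⟩
  · haveI : ExpChar (S ⊗[A] L) q :=
      expChar_of_injective_ringHom (f := (Algebra.TensorProduct.includeRight :
        L →ₐ[A] S ⊗[A] L).toRingHom) (RingHom.injective _) q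
    rw [sum_pow_char_pow]
    choose kk hkk using hpow
    have hkk' : ∀ l : L, j (kk l) = l ^ (q ^ n) := hkk
    refine ⟨∑ μ ∈ J, (s μ ^ (q ^ n)) ⊗ₜ[A] kk (l μ), ?_⟩
    show Algebra.TensorProduct.map (AlgHom.id S S) j (∑ μ ∈ J, (s μ ^ (q ^ n)) ⊗ₜ[A] kk (l μ)) = _
    rw [map_sum]
    refine Finset.sum_congr rfl fun μ _ => ?_
    rw [Algebra.TensorProduct.map_tmul, AlgHom.id_apply, hkk', Algebra.TensorProduct.tmul_pow]

theorem chi_md_mem_range [Module.Flat A B] {k L : Type u} [Field k] [Field L] [Algebra A k]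
    [Algebra A L] (j : k →ₐ[A] L) (q n : ℕ) [ExpChar L q] (hqd : q ^ n ∣ d)
    (hpow : ∀ l : L, l ^ (q ^ n) ∈ j.range) (χ : B →ₐ[A] L)
    (x : ⨂[A] _ : Fin d, B) (hx : x ∈ SymTen.TS A B d) :
    χ (mdAlg A B d x) ∈ j.range := by
  classical
  obtain ⟨y, hyinv, hykap⟩ := hi_of_flat (⟨x, hx⟩ : SymTen.TS A B d)
  obtain ⟨J, hJ⟩ := exists_support A ((1 : A) ⊗ₜ[A] y)
  have h := expand_os y hyinv J (hJ J (Finset.Subset.refl J))
  have hx' : x = kap A B d y := hykap.symm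
  rw [hx', h, map_sum, map_sum, map_sum]
  refine Subalgebra.sum_mem _ fun ν _ => ?_
  rw [map_smul, map_smul, map_smul]
  refine Subalgebra.smul_mem _ ?_ _
  rw [kap_os_eq]
  have e1 : χ (mdAlg A B d (cfC ν (TP (d := d) (Rg A B)
      (Algebra.TensorProduct.map (AlgHom.id (Rg A B) (Rg A B)) (aeval id) (gen J))))) =
      cfC ν ((Algebra.TensorProduct.map (AlgHom.id (Rg A B) (Rg A B)) χ
        (Algebra.TensorProduct.map (AlgHom.id (Rg A B) (Rg A B)) (aeval id) (gen J))) ^ d) := by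
    have h1 := Groth.Agent.Lib.Helper32.PolLawPolar.cfC_lTensor
      (χ.comp (mdAlg A B d)).toLinearMap ν (TP (d := d) (Rg A B)
        (Algebra.TensorProduct.map (AlgHom.id (Rg A B) (Rg A B)) (aeval id) (gen J)))
    rw [PolLaw.lTensor_algHom_apply,
      map_TP (χ.comp (mdAlg A B d)) χ (fun k b => by rw [AlgHom.comp_apply, mdAlg_sgl])] at h1
    exact h1.symm
  rw [e1]
  have e2 : Algebra.TensorProduct.map (AlgHom.id (Rg A B) (Rg A B)) χ
      (Algebra.TensorProduct.map (AlgHom.id (Rg A B) (Rg A B)) (aeval id) (gen J)) =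
      ∑ μ ∈ J, (X μ : Rg A B) ⊗ₜ[A] χ (aeval id (monomial μ (1 : A))) := by
    rw [gen, map_sum, map_sum]
    rfl
  rw [e2]
  obtain ⟨c, hc⟩ := hqd
  rw [hc, pow_mul]
  obtain ⟨W, hW⟩ := pow_mem_range_map j q n hpow (Rg A B) J (fun μ => (X μ : Rg A B))
    (fun μ => χ (aeval id (monomial μ (1 : A))))
  rw [← hW]
  show cfC ν ((Algebra.TensorProduct.map (AlgHom.id (Rg A B) (Rg A B)) j W) ^ c) ∈ _
  rw [← map_pow, ← PolLaw.lTensor_algHom_apply,
    Groth.Agent.Lib.Helper32.PolLawPolar.cfC_lTensor]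
  exact ⟨_, rfl⟩

end Groth.Agent.Lib.Helper32.PolLawChow
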