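import Groth.Agent.Lib.Helper32.PolLawBC

set_option autoImplicit false
universe u
open scoped TensorProduct

namespace Groth.Agent.Lib.Helper32.PolLawColim

open Groth.Agent.Lib.Helper32.PolLawBasic Groth.Agent.Lib.Helper32.PolLawBC

variable {A : Type u} [CommRing A] {B : Type u} [CommRing B] [Algebra A B]

theorem map_mem_kerBC (F : B →ₚₗ[A] A) {A₁ A₂ : Type u} [CommRing A₁] [Algebra A A₁] [CommRing A₂]
    [Algebra A A₂] (ψ : A₁ →ₐ[A] A₂) (b : A₁ ⊗[A] B) (hb : b ∈ PolLaw.kerBC F A₁) :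
    Algebra.TensorProduct.map ψ (AlgHom.id A B) b ∈ PolLaw.kerBC F A₂ := by
  intro R _ _ _ _ x w
  let _ : Algebra A₁ R := ((algebraMap A₂ R).comp (ψ : A₁ →+* A₂)).toAlgebra
  have : IsScalarTower A A₁ R := IsScalarTower.of_algebraMap_eq (fun a => by
    rw [RingHom.algebraMap_toAlgebra, RingHom.comp_apply, RingHom.coe_coe, AlgHom.commutes,
      ← IsScalarTower.algebraMap_apply])
  have h := hb R x w
  have e : Algebra.TensorProduct.map (IsScalarTower.toAlgHom A A₂ R) (AlgHom.id A B)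
      (Algebra.TensorProduct.map ψ (AlgHom.id A B) b) =
      Algebra.TensorProduct.map (IsScalarTower.toAlgHom A A₁ R) (AlgHom.id A B) b := by
    rw [map_map_id]
    congr 1
  rw [e]
  exact h

section Univ

variable (A₁ : Type u) [CommRing A₁] [Algebra A A₁] {n : ℕ} (e : Fin n → B)

noncomputable def uX : MvPolynomial (Fin n ⊕ Fin n) A₁ ⊗[A] B :=
  ∑ k, (MvPolynomial.X (Sum.inl k) : MvPolynomial (Fin n ⊕ Fin n) A₁) ⊗ₜ[A] e k

noncomputable def uW : MvPolynomial (Fin n ⊕ Fin n) A₁ ⊗[A] B :=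
  ∑ k, (MvPolynomial.X (Sum.inr k) : MvPolynomial (Fin n ⊕ Fin n) A₁) ⊗ₜ[A] e k

noncomputable def defect (F : B →ₚₗ[A] A) (b : A₁ ⊗[A] B) : MvPolynomial (Fin n ⊕ Fin n) A₁ :=
  Algebra.TensorProduct.rid A (MvPolynomial (Fin n ⊕ Fin n) A₁) (MvPolynomial (Fin n ⊕ Fin n) A₁)
    (F.toFun' (MvPolynomial (Fin n ⊕ Fin n) A₁) (uX A₁ e + uW A₁ e *
      Algebra.TensorProduct.map (IsScalarTower.toAlgHom A A₁ (MvPolynomial (Fin n ⊕ Fin n) A₁))
        (AlgHom.id A B) b)) -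
  Algebra.TensorProduct.rid A (MvPolynomial (Fin n ⊕ Fin n) A₁) (MvPolynomial (Fin n ⊕ Fin n) A₁)
    (F.toFun' (MvPolynomial (Fin n ⊕ Fin n) A₁) (uX A₁ e))

theorem defect_eq_zero_of_mem_kerBC (F : B →ₚₗ[A] A) (b : A₁ ⊗[A] B)
    (hb : b ∈ PolLaw.kerBC F A₁) : defect A₁ e F b = 0 := by
  rw [defect, hb (MvPolynomial (Fin n ⊕ Fin n) A₁), sub_self]

theorem exists_repr_span {S : Type u} [CommSemiring S] [Algebra A S]
    (he : ⊤ ≤ Submodule.span A (Set.range e)) (x : S ⊗[A] B) :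
    ∃ s : Fin n → S, x = ∑ k, s k ⊗ₜ[A] e k := by
  induction x using TensorProduct.induction_on with
  | zero => exact ⟨0, by simp⟩
  | tmul a c =>
    obtain ⟨f, hf⟩ := (Submodule.mem_span_range_iff_exists_fun A).1 (he (Submodule.mem_top : c ∈ ⊤))
    refine ⟨fun k => f k • a, ?_⟩
    rw [← hf, TensorProduct.tmul_sum]
    refine Finset.sum_congr rfl fun k _ => ?_
    rw [TensorProduct.smul_tmul]
  | add y z hy hz =>
    obtain ⟨b₁, rfl⟩ := hy
    obtain ⟨b₂, rfl⟩ := hz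
    exact ⟨b₁ + b₂, by simp [TensorProduct.add_tmul, Finset.sum_add_distrib]⟩

theorem mem_kerBC_of_defect_eq_zero (he : ⊤ ≤ Submodule.span A (Set.range e)) (F : B →ₚₗ[A] A)
    (b : A₁ ⊗[A] B) (h : defect A₁ e F b = 0) : b ∈ PolLaw.kerBC F A₁ := by
  intro R _ _ _ _ x w
  obtain ⟨s, rfl⟩ := exists_repr_span e he x
  obtain ⟨t, rfl⟩ := exists_repr_span e he w
  let φ' : MvPolynomial (Fin n ⊕ Fin n) A₁ →ₐ[A₁] R := MvPolynomial.aeval (Sum.elim s t)
  let φ : MvPolynomial (Fin n ⊕ Fin n) A₁ →ₐ[A] R := φ'.restrictScalars A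
  have hX : Algebra.TensorProduct.map φ (AlgHom.id A B) (uX A₁ e) = ∑ k, s k ⊗ₜ[A] e k := by
    simp [uX, φ, φ']
  have hW : Algebra.TensorProduct.map φ (AlgHom.id A B) (uW A₁ e) = ∑ k, t k ⊗ₜ[A] e k := by
    simp [uW, φ, φ']
  have hcomp : φ.comp (IsScalarTower.toAlgHom A A₁ (MvPolynomial (Fin n ⊕ Fin n) A₁)) =
      IsScalarTower.toAlgHom A A₁ R := by
    apply AlgHom.ext
    intro a
    simp [φ, φ']
  have h0 : F.toFun' (MvPolynomial (Fin n ⊕ Fin n) A₁) (uX A₁ e + uW A₁ e *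
      Algebra.TensorProduct.map (IsScalarTower.toAlgHom A A₁ (MvPolynomial (Fin n ⊕ Fin n) A₁))
        (AlgHom.id A B) b) = F.toFun' (MvPolynomial (Fin n ⊕ Fin n) A₁) (uX A₁ e) := by
    apply (Algebra.TensorProduct.rid A (MvPolynomial (Fin n ⊕ Fin n) A₁)
      (MvPolynomial (Fin n ⊕ Fin n) A₁)).injective
    exact sub_eq_zero.mp h
  have h1 := congrArg (Algebra.TensorProduct.map φ (AlgHom.id A A)) h0
  rw [← compat, ← compat, map_add, map_mul, map_map_id, hcomp, hX, hW] at h1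
  exact h1

theorem defect_map (F : B →ₚₗ[A] A) {A₂ : Type u} [CommRing A₂] [Algebra A A₂] (ψ : A₁ →ₐ[A] A₂)
    (b : A₁ ⊗[A] B) :
    MvPolynomial.map (ψ : A₁ →+* A₂) (defect A₁ e F b) =
      defect A₂ e F (Algebra.TensorProduct.map ψ (AlgHom.id A B) b) := by
  let Φ : MvPolynomial (Fin n ⊕ Fin n) A₁ →ₐ[A] MvPolynomial (Fin n ⊕ Fin n) A₂ :=
    MvPolynomial.mapAlgHom ψ
  have hΦ : ∀ p, MvPolynomial.map (ψ : A₁ →+* A₂) p = Φ p := fun p => rfl
  have hX : Algebra.TensorProduct.map Φ (AlgHom.id A B) (uX A₁ e) = uX A₂ e := by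
    simp [uX, Φ]
  have hW : Algebra.TensorProduct.map Φ (AlgHom.id A B) (uW A₁ e) = uW A₂ e := by
    simp [uW, Φ]
  have hcomp : Φ.comp (IsScalarTower.toAlgHom A A₁ (MvPolynomial (Fin n ⊕ Fin n) A₁)) =
      (IsScalarTower.toAlgHom A A₂ (MvPolynomial (Fin n ⊕ Fin n) A₂)).comp ψ := by
    apply AlgHom.ext
    intro a
    simp [Φ]
  rw [defect, defect, hΦ, map_sub, ← rid_map_gen, ← rid_map_gen, ← compat, ← compat, map_add,
    map_mul, map_map_id, map_map_id, hcomp, hX, hW]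

end Univ

section Colim

variable {A' : Type u} [CommRing A'] [Algebra A A'] {ι : Type u} [Preorder ι]
  [IsDirected ι (fun i j => i ≤ j)] [Nonempty ι]
  (Ai : ι → Type u) [∀ i, CommRing (Ai i)] [∀ i, Algebra A (Ai i)]
  (t : ∀ i j : ι, i ≤ j → (Ai i →ₐ[A] Ai j)) (φ : ∀ i : ι, Ai i →ₐ[A] A')
  (hcomp : ∀ (i j : ι) (h : i ≤ j), (φ j).comp (t i j h) = φ i)
  (hsurj : ∀ a : A', ∃ (i : ι) (x : Ai i), φ i x = a)
  (hzero : ∀ (i : ι) (x : Ai i), φ i x = 0 → ∃ (j : ι) (h : i ≤ j), t i j h x = 0)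
  (htrans : ∀ (i j k : ι) (hij : i ≤ j) (hjk : j ≤ k),
    (t j k hjk).comp (t i j hij) = t i k (hij.trans hjk))

include hcomp hsurj in
theorem exists_lift (x : A' ⊗[A] B) :
    ∃ (i : ι) (y : Ai i ⊗[A] B), Algebra.TensorProduct.map (φ i) (AlgHom.id A B) y = x := by
  induction x using TensorProduct.induction_on with
  | zero =>
    obtain ⟨i⟩ := (inferInstance : Nonempty ι)
    exact ⟨i, 0, map_zero _⟩
  | tmul a b =>
    obtain ⟨i, x, rfl⟩ := hsurj a
    exact ⟨i, x ⊗ₜ[A] b, by simp⟩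
  | add x y hx hy =>
    obtain ⟨i, y₁, rfl⟩ := hx
    obtain ⟨j, y₂, rfl⟩ := hy
    obtain ⟨k, hik, hjk⟩ := exists_ge_ge i j
    refine ⟨k, Algebra.TensorProduct.map (t i k hik) (AlgHom.id A B) y₁ +
      Algebra.TensorProduct.map (t j k hjk) (AlgHom.id A B) y₂, ?_⟩
    rw [map_add, map_map_id, map_map_id, hcomp, hcomp]

include hzero htrans in
theorem exists_map_eq_zero {σ : Type} (i : ι) (p : MvPolynomial σ (Ai i))
    (hp : MvPolynomial.map (φ i : Ai i →+* A') p = 0) :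
    ∃ (j : ι) (h : i ≤ j), MvPolynomial.map (t i j h : Ai i →+* Ai j) p = 0 := by
  classical
  have h1 : ∀ m : σ →₀ ℕ, ∃ (j : ι) (h : i ≤ j), t i j h (MvPolynomial.coeff m p) = 0 := by
    intro m
    apply hzero
    have := congrArg (MvPolynomial.coeff m) hp
    rwa [MvPolynomial.coeff_map, MvPolynomial.coeff_zero] at this
  choose jm hjm hm using h1
  obtain ⟨J, hJ⟩ := Finset.exists_le (insert i (p.support.image jm))
  have hiJ : i ≤ J := hJ i (Finset.mem_insert_self _ _)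
  refine ⟨J, hiJ, ?_⟩
  ext m
  rw [MvPolynomial.coeff_map, MvPolynomial.coeff_zero]
  by_cases hmem : m ∈ p.support
  · have hmJ : jm m ≤ J := hJ _ (Finset.mem_insert_of_mem (Finset.mem_image_of_mem jm hmem))
    have := htrans i (jm m) J (hjm m) hmJ
    have h2 : t i J hiJ (MvPolynomial.coeff m p) =
        t (jm m) J hmJ (t i (jm m) (hjm m) (MvPolynomial.coeff m p)) := by
      rw [← this]
      rfl
    show t i J hiJ (MvPolynomial.coeff m p) = 0
    rw [h2, hm, map_zero]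
  · rw [MvPolynomial.notMem_support_iff.mp hmem, map_zero]

include hcomp hsurj hzero htrans in
theorem kerBC_le_iSup [Module.Finite A B] (F : B →ₚₗ[A] A) :
    PolLaw.kerBC F A' ≤
      ⨆ i : ι, (PolLaw.kerBC F (Ai i)).map (Algebra.TensorProduct.map (φ i) (AlgHom.id A B)) := by
  obtain ⟨n, e, he⟩ := Module.Finite.exists_fin (R := A) (M := B)
  have he' : ⊤ ≤ Submodule.span A (Set.range e) := le_of_eq he.symm
  intro b' hb'
  obtain ⟨i₀, y₀, rfl⟩ := exists_lift Ai t φ hcomp hsurj b'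
  have hD := defect_eq_zero_of_mem_kerBC A' e F _ hb'
  rw [← defect_map] at hD
  obtain ⟨j, hj, hDj⟩ := exists_map_eq_zero Ai t φ hzero htrans i₀ _ hD
  rw [show (MvPolynomial.map (t i₀ j hj : Ai i₀ →+* Ai j) (defect (Ai i₀) e F y₀)) =
    defect (Ai j) e F (Algebra.TensorProduct.map (t i₀ j hj) (AlgHom.id A B) y₀) from
    defect_map (Ai i₀) e F (t i₀ j hj) y₀] at hDj
  have hmem := mem_kerBC_of_defect_eq_zero (Ai j) e he' F _ hDj
  have heq : Algebra.TensorProduct.map (φ i₀) (AlgHom.id A B) y₀ =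
      Algebra.TensorProduct.map (φ j) (AlgHom.id A B)
        (Algebra.TensorProduct.map (t i₀ j hj) (AlgHom.id A B) y₀) := by
    rw [map_map_id, hcomp]
  rw [heq]
  exact (le_iSup (fun i => (PolLaw.kerBC F (Ai i)).map
    (Algebra.TensorProduct.map (φ i) (AlgHom.id A B))) j) (Ideal.mem_map_of_mem _ hmem)

omit [IsDirected ι (fun i j => i ≤ j)] [Nonempty ι] in
theorem iSup_le_kerBC (F : B →ₚₗ[A] A) :
    (⨆ i : ι, (PolLaw.kerBC F (Ai i)).map (Algebra.TensorProduct.map (φ i) (AlgHom.id A B))) ≤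
      PolLaw.kerBC F A' := by
  refine iSup_le fun i => ?_
  rw [Ideal.map_le_iff_le_comap]
  intro b hb
  exact map_mem_kerBC F (φ i) b hb

end Colim

end Groth.Agent.Lib.Helper32.PolLawColim
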