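import Groth.Agent.Lib.Helper32.PolLawTSFlat3

set_option autoImplicit false
universe u
open scoped TensorProduct

namespace Groth.Agent.Lib.Helper32.PolLawElemSym

open Groth.Agent.Lib.Helper32.PolLawTd MvPolynomial

variable {A : Type u} [CommRing A] {B : Type u} [CommRing B] [Algebra A B] {d : ℕ}

section Sig

variable (A d) in
noncomputable def sig (j : ℕ) (b : B) : ⨂[A] _ : Fin d, B :=
  ∑ I ∈ (Finset.univ : Finset (Fin d)).powersetCard j,
    PiTensorProduct.tprod A (fun i : Fin d => if i ∈ I then b else (1 : B))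

variable (A B d) in
noncomputable def C0 : Subalgebra A (⨂[A] _ : Fin d, B) :=
  Algebra.adjoin A {t : ⨂[A] _ : Fin d, B | ∃ (a : B) (j : ℕ),
    t = ∑ I ∈ (Finset.univ : Finset (Fin d)).powersetCard j,
      PiTensorProduct.tprod A (fun i : Fin d => if i ∈ I then a else (1 : B))}

theorem sig_mem_C0 (j : ℕ) (b : B) : sig A d j b ∈ C0 A B d :=
  Algebra.subset_adjoin ⟨b, j, rfl⟩

theorem prod_sgl_finset (I : Finset (Fin d)) (b : B) :
    ∏ k ∈ I, sgl A B d k b = PiTensorProduct.tprod A (fun i : Fin d => if i ∈ I then b else 1) := by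
  classical
  simp only [sgl, PiTensorProduct.singleAlgHom_apply]
  rw [← PiTensorProduct.tprod_prod]
  congr 1
  funext i
  rw [Finset.prod_apply]
  simp only [MonoidHom.mulSingle_apply, Pi.mulSingle_apply]
  rw [Finset.prod_ite_eq]

end Sig

section R0

variable (A B d) in
noncomputable def R0 (S : Type u) [CommRing S] [Algebra A S] :
    Subalgebra S (S ⊗[A] (⨂[A] _ : Fin d, B)) :=
  (Algebra.TensorProduct.map (AlgHom.id S S) (C0 A B d).val).range

variable (S : Type u) [CommRing S] [Algebra A S]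

theorem TP_one : TP (d := d) S (1 : S ⊗[A] B) = 1 := by
  rw [TP]
  simp only [map_one, Finset.prod_const_one]

theorem TP_mul (x y : S ⊗[A] B) : TP (d := d) S (x * y) = TP S x * TP S y := by
  rw [TP, TP, TP]
  simp only [map_mul]
  rw [Finset.prod_mul_distrib]

theorem TP_special (s : S) (b : B) :
    TP (d := d) S (1 + s ⊗ₜ[A] b) = ∑ j ∈ Finset.range (d + 1), (s ^ j) ⊗ₜ[A] sig A d j b := by
  classical
  rw [TP]
  simp only [map_add, map_one, Algebra.TensorProduct.map_tmul, AlgHom.id_apply]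
  rw [Finset.prod_one_add, Finset.sum_powerset]
  rw [Finset.card_univ, Fintype.card_fin]
  refine Finset.sum_congr rfl fun j _ => ?_
  rw [sig, TensorProduct.tmul_sum]
  refine Finset.sum_congr rfl fun I hI => ?_
  rw [Finset.mem_powersetCard] at hI
  rw [Groth.Agent.Lib.Helper32.PolLawFactor.prod_tmul, Finset.prod_const, hI.2, prod_sgl_finset]

variable (A B d) in
noncomputable def HH (S : Type u) [CommRing S] [Algebra A S] : Submonoid (S ⊗[A] B) where
  carrier := {u | TP (d := d) S u ∈ R0 A B d S}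
  one_mem' := by
    show TP (d := d) S 1 ∈ R0 A B d S
    rw [TP_one]
    exact one_mem _
  mul_mem' := by
    intro x y hx hy
    show TP (d := d) S (x * y) ∈ R0 A B d S
    rw [TP_mul]
    exact mul_mem hx hy

theorem mem_HH (u : S ⊗[A] B) : u ∈ HH A B d S ↔ TP (d := d) S u ∈ R0 A B d S := Iff.rfl

theorem special_mem_HH (s : S) (b : B) : 1 + s ⊗ₜ[A] b ∈ HH A B d S := by
  rw [mem_HH, TP_special]
  refine Subalgebra.sum_mem _ fun j _ => ?_
  exact ⟨(s ^ j) ⊗ₜ[A] (⟨sig A d j b, sig_mem_C0 j b⟩ : C0 A B d), rfl⟩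

variable (t : S)

theorem exists_prod_special (k : ℕ) (y : S ⊗[A] B) :
    ∃ p ∈ HH A B d S, ∃ w : S ⊗[A] B,
      p = 1 + (t ⊗ₜ[A] (1 : B)) ^ (k + 1) * y + (t ⊗ₜ[A] (1 : B)) ^ (k + 2) * w := by
  induction y using TensorProduct.induction_on with
  | zero => exact ⟨1, one_mem _, 0, by simp⟩
  | tmul s b =>
    refine ⟨1 + (t ^ (k + 1) * s) ⊗ₜ[A] b, special_mem_HH S _ b, 0, ?_⟩
    rw [Algebra.TensorProduct.tmul_pow, one_pow, Algebra.TensorProduct.tmul_mul_tmul, one_mul,
      mul_zero, add_zero]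
  | add y₁ y₂ h₁ h₂ =>
    obtain ⟨p₁, hp₁, w₁, e₁⟩ := h₁
    obtain ⟨p₂, hp₂, w₂, e₂⟩ := h₂
    refine ⟨p₁ * p₂, mul_mem hp₁ hp₂,
      w₁ + w₂ + (t ⊗ₜ[A] (1 : B)) ^ k * (y₁ * y₂) +
        (t ⊗ₜ[A] (1 : B)) ^ (k + 1) * (y₁ * w₂ + w₁ * y₂) +
        (t ⊗ₜ[A] (1 : B)) ^ (k + 2) * (w₁ * w₂), ?_⟩
    rw [e₁, e₂]
    ring

theorem one_add_mem_HH (ht : t ^ (d + 1) = 0) :
    ∀ (j k : ℕ), d ≤ k + j → ∀ y : S ⊗[A] B,
      1 + (t ⊗ₜ[A] (1 : B)) ^ (k + 1) * y ∈ HH A B d S := by
  have hτ : ∀ m, d + 1 ≤ m → (t ⊗ₜ[A] (1 : B)) ^ m = 0 := by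
    intro m hm
    rw [Algebra.TensorProduct.tmul_pow, one_pow, ← Nat.sub_add_cancel hm, pow_add, ht, mul_zero,
      TensorProduct.zero_tmul]
  intro j
  induction j with
  | zero =>
    intro k hk y
    rw [hτ (k + 1) (by omega), zero_mul, add_zero]
    exact one_mem _
  | succ j ih =>
    intro k hk y
    obtain ⟨p, hp, w, e⟩ := exists_prod_special (d := d) S t k y
    set τ := (t ⊗ₜ[A] (1 : B)) with hτdef
    set z := τ ^ k * y + τ ^ (k + 1) * w with hz
    have hpz : p = 1 - (-(τ * z)) := by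
      rw [e, hz]
      ring
    set q := ∑ i ∈ Finset.range (d + 1), (-(τ * z)) ^ i with hq
    have hpq : p * q = 1 := by
      rw [hpz, hq, mul_neg_geom_sum, neg_pow, mul_pow, hτ (d + 1) le_rfl, zero_mul, mul_zero,
        sub_zero]
    have huq : (1 + τ ^ (k + 1) * y) * q = 1 + τ ^ (k + 1 + 1) * (-(w * q)) := by
      have h1 : 1 + τ ^ (k + 1) * y = p - τ ^ (k + 2) * w := by
        rw [e]
        ring
      rw [h1, sub_mul, hpq]
      ring
    have h2 : (1 + τ ^ (k + 1) * y) * q ∈ HH A B d S := by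
      rw [huq]
      exact ih (k + 1) (by omega) _
    have h3 : 1 + τ ^ (k + 1) * y = ((1 + τ ^ (k + 1) * y) * q) * p := by
      rw [mul_assoc, mul_comm q p, hpq, mul_one]
    rw [h3]
    exact mul_mem h2 hp

theorem one_add_tau_mem_HH (ht : t ^ (d + 1) = 0) (y : S ⊗[A] B) :
    1 + (t ⊗ₜ[A] (1 : B)) * y ∈ HH A B d S := by
  have h := one_add_mem_HH (d := d) S t ht d 0 (by omega) y
  rwa [zero_add, pow_one] at h

end R0

section Trunc

open Polynomial in
theorem exists_trunc (S : Type u) [CommRing S] (n : ℕ) :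
    ∃ (S' : Type u) (_ : CommRing S') (_ : Algebra S S') (t : S') (c : S' →ₗ[S] S),
      t ^ (n + 1) = 0 ∧
        ∀ j, j ≤ n → ∀ s : S, c (t ^ j * algebraMap S S' s) = if j = n then s else 0 := by
  have hg : (Polynomial.X ^ (n + 1) : S[X]).Monic := monic_X_pow (n + 1)
  have ht : (AdjoinRoot.root (Polynomial.X ^ (n + 1) : S[X])) ^ (n + 1) = 0 := by
    rw [← AdjoinRoot.mk_X, ← map_pow, AdjoinRoot.mk_self]
  rcases subsingleton_or_nontrivial S with hS | hS
  · exact ⟨AdjoinRoot (Polynomial.X ^ (n + 1) : S[X]), inferInstance, inferInstance,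
      AdjoinRoot.root _, 0, ht, fun j _ s => Subsingleton.elim _ _⟩
  · have hdim : (AdjoinRoot.powerBasis' hg).dim = n + 1 := by
      rw [AdjoinRoot.powerBasis'_dim, natDegree_X_pow]
    refine ⟨AdjoinRoot (Polynomial.X ^ (n + 1) : S[X]), inferInstance, inferInstance,
      AdjoinRoot.root _,
      (AdjoinRoot.powerBasis' hg).basis.coord ⟨n, by rw [hdim]; omega⟩, ht, fun j hj s => ?_⟩
    have h1 : (AdjoinRoot.root (Polynomial.X ^ (n + 1) : S[X])) ^ j =
        (AdjoinRoot.powerBasis' hg).basis ⟨j, by rw [hdim]; omega⟩ := by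
      rw [(AdjoinRoot.powerBasis' hg).basis_eq_pow, AdjoinRoot.powerBasis'_gen]
    rw [h1, mul_comm, ← Algebra.smul_def, map_smul, Module.Basis.coord_apply,
      Module.Basis.repr_self, Finsupp.single_apply, smul_eq_mul]
    by_cases hjn : j = n
    · subst hjn
      simp
    · have : (⟨j, by rw [hdim]; omega⟩ : Fin (AdjoinRoot.powerBasis' hg).dim) ≠
          ⟨n, by rw [hdim]; omega⟩ := by
        intro h
        exact hjn (Fin.mk.inj_iff.mp h)
      rw [if_neg this, if_neg hjn, mul_zero]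

variable (S : Type u) [CommRing S] [Algebra A S] (S' : Type u) [CommRing S'] [Algebra A S']
  [Algebra S S'] [IsScalarTower A S S'] (t : S') (c : S' →ₗ[S] S)

variable (A) in
noncomputable def iot (Q : Type u) [CommRing Q] [Algebra A Q] : S ⊗[A] Q →ₐ[A] S' ⊗[A] Q :=
  Algebra.TensorProduct.map (IsScalarTower.toAlgHom A S S') (AlgHom.id A Q)

variable (A) in
noncomputable def cT (Q : Type u) [CommRing Q] [Algebra A Q] : S' ⊗[A] Q →ₗ[A] S ⊗[A] Q :=
  (c.restrictScalars A).rTensor Q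

variable {S S'} {t c} (hc : ∀ j, j ≤ d → ∀ s : S, c (t ^ j * algebraMap S S' s) = if j = d then s else 0)

include hc in
theorem cT_tau_pow (Q : Type u) [CommRing Q] [Algebra A Q] (j : ℕ) (hj : j ≤ d) (w : S ⊗[A] Q) :
    cT A S S' c Q ((t ⊗ₜ[A] (1 : Q)) ^ j * iot A S S' Q w) = if j = d then w else 0 := by
  induction w using TensorProduct.induction_on with
  | zero => simp
  | add x y hx hy =>
    rw [map_add, mul_add, map_add, hx, hy]
    split_ifs <;> simp
  | tmul s θ =>
    rw [iot, Algebra.TensorProduct.map_tmul, Algebra.TensorProduct.tmul_pow, one_pow,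
      Algebra.TensorProduct.tmul_mul_tmul, one_mul, cT, LinearMap.rTensor_tmul]
    show c (t ^ j * algebraMap S S' s) ⊗ₜ[A] θ = _
    rw [hc j hj]
    split_ifs
    · rfl
    · rw [TensorProduct.zero_tmul]

theorem map_sgl_iot (k : Fin d) (x : S ⊗[A] B) :
    Algebra.TensorProduct.map (AlgHom.id S' S') (sgl A B d k) (iot A S S' B x) =
      iot A S S' _ (Algebra.TensorProduct.map (AlgHom.id S S) (sgl A B d k) x) := by
  induction x using TensorProduct.induction_on with
  | zero => simp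
  | add x y hx hy => simp only [map_add, hx, hy]
  | tmul s b => rfl

theorem TP_one_add_tau (x : S ⊗[A] B) :
    TP (d := d) S' (1 + (t ⊗ₜ[A] (1 : B)) * iot A S S' B x) =
      ∑ I ∈ (Finset.univ : Finset (Fin d)).powerset,
        (t ⊗ₜ[A] (1 : ⨂[A] _ : Fin d, B)) ^ I.card *
          iot A S S' _ (∏ k ∈ I, Algebra.TensorProduct.map (AlgHom.id S S) (sgl A B d k) x) := by
  rw [TP]
  simp only [map_add, map_one, map_mul, Algebra.TensorProduct.map_tmul, AlgHom.id_apply,
    map_sgl_iot]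
  rw [Finset.prod_one_add]
  refine Finset.sum_congr rfl fun I _ => ?_
  rw [Finset.prod_mul_distrib, Finset.prod_const, map_prod]

include hc in
theorem cT_TP (x : S ⊗[A] B) :
    cT A S S' c _ (TP (d := d) S' (1 + (t ⊗ₜ[A] (1 : B)) * iot A S S' B x)) = TP S x := by
  classical
  rw [TP_one_add_tau, map_sum, TP]
  rw [Finset.sum_eq_single (Finset.univ : Finset (Fin d))]
  · rw [cT_tau_pow hc _ _ (by rw [Finset.card_univ, Fintype.card_fin]), if_pos
      (by rw [Finset.card_univ, Fintype.card_fin])]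
  · intro I _ hI
    have hcard : I.card ≤ d := by
      have := Finset.card_le_univ I
      rwa [Fintype.card_fin] at this
    rw [cT_tau_pow hc _ _ hcard, if_neg]
    intro h
    apply hI
    rw [← Finset.card_eq_iff_eq_univ, Fintype.card_fin, h]
  · intro h
    exact absurd (Finset.mem_powerset.mpr (Finset.Subset.refl _)) h

theorem cT_R0 (r : S' ⊗[A] (⨂[A] _ : Fin d, B)) (hr : r ∈ R0 A B d S') :
    cT A S S' c _ r ∈ R0 A B d S := by
  obtain ⟨w, rfl⟩ := hr
  refine ⟨(c.restrictScalars A).rTensor _ w, ?_⟩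
  induction w using TensorProduct.induction_on with
  | zero => simp
  | add x y hx hy =>
    simp only [map_add, AlgHom.toRingHom_eq_coe, RingHom.coe_coe] at hx hy ⊢
    rw [hx, hy]
  | tmul s' c₀ => rfl

end Trunc

theorem TP_mem_R0 (S : Type u) [CommRing S] [Algebra A S] (x : S ⊗[A] B) :
    TP (d := d) S x ∈ R0 A B d S := by
  obtain ⟨S', _, _, t, c, ht, hc⟩ := exists_trunc S d
  letI : Algebra A S' := ((algebraMap S S').comp (algebraMap A S)).toAlgebra
  haveI : IsScalarTower A S S' := IsScalarTower.of_algebraMap_eq (fun _ => rfl)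
  have h := one_add_tau_mem_HH (A := A) (B := B) (d := d) S' t ht (iot A S S' B x)
  rw [mem_HH] at h
  rw [← cT_TP hc x]
  exact cT_R0 _ h

section Final

open Groth.Agent.Lib.Helper32.PolLawBasic Groth.Agent.Lib.Helper32.PolLawFactor
  Groth.Agent.Lib.Helper32.PolLawFactorC Groth.Agent.Lib.Helper32.PolLawSym
  Groth.Agent.Lib.Helper32.PolLawTSFlat Groth.Agent.Lib.Helper32.PolLawTSFlat2

theorem kap_os_mem_C0 (J : Finset (B →₀ ℕ)) (ν : (B →₀ ℕ) →₀ ℕ) :
    kap A B d (os J ν) ∈ C0 A B d := by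
  rw [← cfC_Gam_gen, ← AlgHom.toLinearMap_apply,
    ← Groth.Agent.Lib.Helper32.PolLawPolar.cfC_lTensor, PolLaw.lTensor_algHom_apply]
  show cfC ν (kapS A B d (Rg A B) (Gam d (Rg A B) (gen J))) ∈ _
  rw [kapS_Gam]
  obtain ⟨w, hw⟩ := TP_mem_R0 (A := A) (B := B) (d := d) (Rg A B)
    (Algebra.TensorProduct.map (AlgHom.id (Rg A B) (Rg A B)) (aeval id) (gen J))
  rw [← hw]
  show cfC ν (Algebra.TensorProduct.map (AlgHom.id (Rg A B) (Rg A B)) (C0 A B d).val w) ∈ _
  rw [← PolLaw.lTensor_algHom_apply, Groth.Agent.Lib.Helper32.PolLawPolar.cfC_lTensor]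
  exact (cfC ν w).2

theorem TS_le_C0 [Module.Flat A B] : SymTen.TS A B d ≤ C0 A B d := by
  classical
  intro t ht
  obtain ⟨y, hyinv, hykap⟩ := hi_of_flat (⟨t, ht⟩ : SymTen.TS A B d)
  obtain ⟨J, hJ⟩ := exists_support A ((1 : A) ⊗ₜ[A] y)
  have h := expand_os y hyinv J (hJ J (Finset.Subset.refl J))
  have ht' : t = kap A B d y := hykap.symm
  rw [ht', h, map_sum]
  refine Subalgebra.sum_mem _ fun ν _ => ?_
  rw [map_smul]
  exact Subalgebra.smul_mem _ (kap_os_mem_C0 J ν) _

theorem sig_mem_TS (a : B) (j : ℕ) :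
    (∑ I ∈ (Finset.univ : Finset (Fin d)).powersetCard j,
      PiTensorProduct.tprod A (fun i : Fin d => if i ∈ I then a else (1 : B))) ∈
      SymTen.TS A B d := by
  classical
  intro σ
  rw [map_sum]
  simp only [PiTensorProduct.reindex_tprod]
  refine Finset.sum_nbij' (fun I => I.map σ.toEmbedding) (fun I => I.map σ.symm.toEmbedding)
    ?_ ?_ ?_ ?_ ?_
  · intro I hI
    rw [Finset.mem_powersetCard] at hI ⊢
    exact ⟨Finset.subset_univ _, by rw [Finset.card_map, hI.2]⟩
  · intro I hI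
    rw [Finset.mem_powersetCard] at hI ⊢
    exact ⟨Finset.subset_univ _, by rw [Finset.card_map, hI.2]⟩
  · intro I _
    ext i
    simp
  · intro I _
    ext i
    simp
  · intro I _
    congr 1
    funext i
    simp only [Finset.mem_map_equiv]

theorem C0_le_TS : C0 A B d ≤ SymTen.TS A B d := by
  apply Algebra.adjoin_le
  rintro _ ⟨a, j, rfl⟩
  exact sig_mem_TS a j

theorem TS_eq_C0 [Module.Flat A B] : SymTen.TS A B d = C0 A B d :=
  le_antisymm TS_le_C0 C0_le_TS

end Final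

end Groth.Agent.Lib.Helper32.PolLawElemSym
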