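import Groth.Agent.Lib.Helper22.PolLaw

set_option autoImplicit false
universe u
open scoped TensorProduct

namespace Groth.Agent.Lib.Helper32.PolLawKron

open Groth.Agent.Lib.Helper22.PolLawLib

theorem digits_inj (L : ℕ) (hL : 0 < L) : ∀ (n : ℕ) (m m' : Fin n → ℕ), (∀ i, m i < L) →
    (∀ i, m' i < L) → ∑ i, m i * L ^ (i : ℕ) = ∑ i, m' i * L ^ (i : ℕ) → m = m' := by
  intro n
  induction n with
  | zero => intro m m' _ _ _; funext i; exact i.elim0
  | succ n ih =>
    intro m m' hm hm' h
    rw [Fin.sum_univ_succ, Fin.sum_univ_succ] at h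
    simp only [Fin.val_zero, pow_zero, mul_one, Fin.val_succ, pow_succ] at h
    have h1 : ∀ f : Fin (n + 1) → ℕ, ∑ i : Fin n, f i.succ * (L ^ (i : ℕ) * L) =
        L * ∑ i : Fin n, f i.succ * L ^ (i : ℕ) := by
      intro f
      rw [Finset.mul_sum]
      refine Finset.sum_congr rfl fun i _ => ?_
      ring
    rw [h1 m, h1 m'] at h
    have h0 : m 0 = m' 0 := by
      have := congrArg (· % L) h
      simp only [Nat.add_mul_mod_self_left] at this
      rwa [Nat.mod_eq_of_lt (hm 0), Nat.mod_eq_of_lt (hm' 0)] at this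
    rw [h0] at h
    have h2 := Nat.eq_of_mul_eq_mul_left hL (Nat.add_left_cancel h)
    have h3 := ih (fun i => m i.succ) (fun i => m' i.succ) (fun i => hm _) (fun i => hm' _) h2
    funext i
    refine Fin.cases h0 (fun j => ?_) i
    exact congrFun h3 j

variable {A : Type u} [CommRing A] {B : Type u} [CommRing B] [Algebra A B]

theorem exists_mv_repr {σ : Type} (c : MvPolynomial σ A ⊗[A] B) :
    ∃ (M : Finset (σ →₀ ℕ)) (cm : (σ →₀ ℕ) → B),
      c = ∑ m ∈ M, (MvPolynomial.monomial m (1 : A)) ⊗ₜ[A] cm m := by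
  classical
  induction c using TensorProduct.induction_on with
  | zero => exact ⟨∅, 0, by simp⟩
  | tmul p b =>
    refine ⟨p.support, fun m => p.coeff m • b, ?_⟩
    conv_lhs => rw [p.as_sum]
    rw [TensorProduct.sum_tmul]
    refine Finset.sum_congr rfl fun m _ => ?_
    rw [← TensorProduct.smul_tmul, MvPolynomial.smul_monomial, smul_eq_mul, mul_one]
  | add x y hx hy =>
    obtain ⟨M₁, c₁, rfl⟩ := hx
    obtain ⟨M₂, c₂, rfl⟩ := hy
    refine ⟨M₁ ∪ M₂, fun m => (if m ∈ M₁ then c₁ m else 0) + (if m ∈ M₂ then c₂ m else 0), ?_⟩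
    simp only [TensorProduct.tmul_add, Finset.sum_add_distrib]
    congr 1
    · rw [← Finset.sum_subset (Finset.subset_union_left (s₂ := M₂))]
      · exact Finset.sum_congr rfl fun m hm => by rw [if_pos hm]
      · intro m _ hm
        rw [if_neg hm, TensorProduct.tmul_zero]
    · rw [← Finset.sum_subset (Finset.subset_union_right (s₁ := M₁))]
      · exact Finset.sum_congr rfl fun m hm => by rw [if_pos hm]
      · intro m _ hm
        rw [if_neg hm, TensorProduct.tmul_zero]

theorem kerBC_mvPolynomial_le (F : B →ₚₗ[A] A) (n : ℕ) :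
    PolLaw.kerBC F (MvPolynomial (Fin n) A) ≤ (PolLaw.ker F).map
      (Algebra.TensorProduct.includeRight : B →ₐ[A] MvPolynomial (Fin n) A ⊗[A] B) := by
  classical
  intro c hc
  obtain ⟨M, cm, rfl⟩ := exists_mv_repr c
  let L : ℕ := 1 + M.sup (fun m => Finset.univ.sup (fun i => m i))
  have hL : 0 < L := by omega
  have hdig : ∀ m ∈ M, ∀ i, m i < L := by
    intro m hm i
    have h1 : m i ≤ Finset.univ.sup (fun i => m i) :=
      Finset.le_sup (f := fun i => m i) (Finset.mem_univ i)
    have h2 : Finset.univ.sup (fun i => m i) ≤ M.sup (fun m => Finset.univ.sup (fun i => m i)) :=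
      Finset.le_sup (f := fun m : Fin n →₀ ℕ => Finset.univ.sup (fun i => m i)) hm
    omega
  let e : (Fin n →₀ ℕ) → ℕ := fun m => ∑ i, m i * L ^ (i : ℕ)
  have he_inj : ∀ m ∈ M, ∀ m' ∈ M, e m = e m' → m = m' := by
    intro m hm m' hm' h
    exact DFunLike.coe_injective (digits_inj L hL n m m' (hdig m hm) (hdig m' hm') h)
  let K : ℕ := 1 + M.sup e
  have heK : ∀ m ∈ M, e m < K := by
    intro m hm
    have : e m ≤ M.sup e := Finset.le_sup hm
    omega
  let bk : ℕ → B := fun k => ∑ m ∈ M.filter (fun m => e m = k), cm m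
  have hbk : ∀ k : Fin K, bk k ∈ PolLaw.ker F := by
    intro k
    apply mem_ker_of_ring
    intro S _ _ x w
    apply isolate F (fun k : Fin K => bk k) ?_ k S x w
    intro R _ _ ρ x w
    let _ : Algebra (MvPolynomial (Fin n) A) R :=
      (MvPolynomial.aeval (fun i : Fin n => ρ ^ (L ^ (i : ℕ))) :
        MvPolynomial (Fin n) A →ₐ[A] R).toRingHom.toAlgebra
    have : IsScalarTower A (MvPolynomial (Fin n) A) R :=
      IsScalarTower.of_algebraMap_eq (fun a => by simp [RingHom.algebraMap_toAlgebra])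
    have h := hc R x w
    have e1 : Algebra.TensorProduct.map (IsScalarTower.toAlgHom A (MvPolynomial (Fin n) A) R)
        (AlgHom.id A B) (∑ m ∈ M, (MvPolynomial.monomial m (1 : A)) ⊗ₜ[A] cm m) =
        ∑ m ∈ M, (ρ ^ e m) ⊗ₜ[A] cm m := by
      rw [map_sum]
      refine Finset.sum_congr rfl fun m _ => ?_
      rw [Algebra.TensorProduct.map_tmul, AlgHom.id_apply]
      congr 1
      show algebraMap (MvPolynomial (Fin n) A) R (MvPolynomial.monomial m (1 : A)) = ρ ^ e m
      rw [RingHom.algebraMap_toAlgebra]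
      show MvPolynomial.aeval (fun i : Fin n => ρ ^ (L ^ (i : ℕ))) (MvPolynomial.monomial m (1 : A)) = _
      rw [MvPolynomial.aeval_monomial, map_one, one_mul, Finsupp.prod_fintype _ _ (fun i => pow_zero _)]
      simp only [← pow_mul]
      rw [Finset.prod_pow_eq_pow_sum]
      congr 1
      refine Finset.sum_congr rfl fun i _ => ?_
      rw [mul_comm]
    have e2 : ∑ k : Fin K, (ρ ^ (k : ℕ)) ⊗ₜ[A] bk k = ∑ m ∈ M, (ρ ^ e m) ⊗ₜ[A] cm m := by
      rw [Fin.sum_univ_eq_sum_range (fun k => (ρ ^ k) ⊗ₜ[A] bk k) K]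
      simp only [bk, TensorProduct.tmul_sum]
      rw [← Finset.sum_fiberwise_of_maps_to (s := M) (t := Finset.range K) (g := e)
        (fun m hm => Finset.mem_range.mpr (heK m hm))]
      refine Finset.sum_congr rfl fun k _ => ?_
      refine Finset.sum_congr rfl fun m hm => ?_
      rw [(Finset.mem_filter.mp hm).2]
    rw [e2, ← e1]
    exact h
  have hcm : ∀ m ∈ M, cm m ∈ PolLaw.ker F := by
    intro m hm
    have h1 := hbk ⟨e m, heK m hm⟩
    have h2 : bk (e m) = cm m := by
      show ∑ m' ∈ M.filter (fun m' => e m' = e m), cm m' = cm m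
      have : M.filter (fun m' => e m' = e m) = {m} := by
        ext m'
        simp only [Finset.mem_filter, Finset.mem_singleton]
        constructor
        · rintro ⟨hm', h⟩
          exact he_inj m' hm' m hm h
        · rintro rfl
          exact ⟨hm, rfl⟩
      rw [this, Finset.sum_singleton]
    rw [← h2]
    exact h1
  refine Ideal.sum_mem _ fun m hm => ?_
  have : (MvPolynomial.monomial m (1 : A)) ⊗ₜ[A] cm m =
      ((MvPolynomial.monomial m (1 : A)) ⊗ₜ[A] (1 : B)) *
        (Algebra.TensorProduct.includeRight : B →ₐ[A] MvPolynomial (Fin n) A ⊗[A] B) (cm m) := by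
    simp
  rw [this]
  exact Ideal.mul_mem_left _ _ (Ideal.mem_map_of_mem _ (hcm m hm))

end Groth.Agent.Lib.Helper32.PolLawKron
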