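import Groth.Agent.Lib.Helper32.PolLawSplit
import Groth.Agent.S13697

set_option autoImplicit false
universe u
open scoped TensorProduct
open Polynomial

namespace Groth.Agent.Lib.Helper32.PolLawEtale

open Groth.Agent.Lib.Helper32.PolLawBasic Groth.Agent.Lib.Helper32.PolLawProd
  Groth.Agent.Lib.Helper32.PolLawIdem Groth.Agent.Lib.Helper32.PolLawBC
  Groth.Agent.Lib.Helper32.PolLawSplit

variable {A : Type u} [CommRing A] {B : Type u} [CommRing B] [Algebra A B] {d : ℕ}

section M

variable (F N : PolLaw.MulLaw A B A d)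

theorem ker_bc_le (R : Type u) [CommRing R] [Algebra A R]
    (hker : PolLaw.ker F.law ≤ nilradical B) :
    PolLaw.ker (bc R F).law ≤ nilradical (R ⊗[A] B) := by
  rw [ker_bc]
  intro b' hb'
  have h1 : b' ∈ (PolLaw.kerBC F.law R).radical := Ideal.le_radical hb'
  rw [Groth.Agent.S13697.result F R] at h1
  have h2 : ((PolLaw.ker F.law).map
      (Algebra.TensorProduct.includeRight : B →ₐ[A] R ⊗[A] B)).radical ≤
      nilradical (R ⊗[A] B) := by
    have h3 : (PolLaw.ker F.law).map
        (Algebra.TensorProduct.includeRight : B →ₐ[A] R ⊗[A] B) ≤ nilradical (R ⊗[A] B) := by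
      rw [Ideal.map_le_iff_le_comap]
      intro x hx
      rw [Ideal.mem_comap, mem_nilradical]
      exact (mem_nilradical.mp (hker hx)).map _
    calc _ ≤ (nilradical (R ⊗[A] B)).radical := Ideal.radical_mono h3
      _ = nilradical (R ⊗[A] B) := by rw [nilradical, Ideal.radical_idem]
  exact h2 h1

theorem map_toAlgHom_self (R : Type u) [CommRing R] [Algebra A R] (z : R ⊗[A] B) :
    Algebra.TensorProduct.map (IsScalarTower.toAlgHom A R R) (AlgHom.id A B) z = z := by
  induction z using TensorProduct.induction_on with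
  | zero => simp
  | add x y hx hy => rw [map_add, hx, hy]
  | tmul r b => simp

theorem F_eq_of_split (R : Type u) [CommRing R] [Algebra A R] [IsLocalRing R] {n : ℕ}
    (E : R ⊗[A] B ≃ₐ[R] (Fin n → R)) (hn : n = d)
    (hker : PolLaw.ker F.law ≤ nilradical B) (z : R ⊗[A] B) :
    F.law.toFun' R z = (∏ i, E z i) ⊗ₜ[A] (1 : A) := by
  have h := G_one_tmul (bc R F) E (fun a ha => idem_local a ha) (ker_bc_le F R hker) hn z
  rw [bc_toFun', cancel_one_tmul, map_toAlgHom_self] at h
  have h2 := congrArg (Algebra.TensorProduct.rid R R R) h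
  rw [AlgEquiv.apply_symm_apply] at h2
  have h3 : Algebra.TensorProduct.rid R R R ((∏ i, E z i) • (1 : R ⊗[R] R)) = ∏ i, E z i := by
    rw [Algebra.TensorProduct.one_def, TensorProduct.smul_tmul', Algebra.TensorProduct.rid_tmul]
    simp
  rw [h3] at h2
  apply (Algebra.TensorProduct.rid A R R).injective
  rw [h2, Algebra.TensorProduct.rid_tmul, one_smul]

variable (hN : ∀ (S : Type u) [CommRing S] [Algebra A S] (x : S ⊗[A] B),
      N.law.toFun' S x = Algebra.norm S x ⊗ₜ[A] (1 : A))

include hN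

theorem N_eq_of_split (R : Type u) [CommRing R] [Algebra A R] {n : ℕ}
    (E : R ⊗[A] B ≃ₐ[R] (Fin n → R)) (z : R ⊗[A] B) :
    N.law.toFun' R z = (∏ i, E z i) ⊗ₜ[A] (1 : A) := by
  rw [hN R z, ← Algebra.norm_eq_of_algEquiv E, norm_pi]

end M

section Descent

theorem exists_fin_repr' (S : Type u) [CommSemiring S] [Algebra A S] (x : S ⊗[A] B) :
    ∃ (n : ℕ) (s : Fin n → S) (b : Fin n → B), x = ∑ i, s i ⊗ₜ[A] b i := by
  induction x using TensorProduct.induction_on with
  | zero => exact ⟨0, Fin.elim0, Fin.elim0, by simp⟩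
  | tmul x y => exact ⟨1, fun _ => x, fun _ => y, by simp⟩
  | add x y hx hy =>
    obtain ⟨n, a₁, b₁, rfl⟩ := hx
    obtain ⟨m, a₂, b₂, rfl⟩ := hy
    refine ⟨n + m, Fin.append a₁ a₂, Fin.append b₁ b₂, ?_⟩
    rw [Fin.sum_univ_add]
    simp

theorem law_ext_mv (F N : PolLaw.MulLaw A B A d)
    (h : ∀ (m : ℕ) (x : MvPolynomial (Fin m) A ⊗[A] B),
      F.law.toFun' (MvPolynomial (Fin m) A) x = N.law.toFun' (MvPolynomial (Fin m) A) x) :
    F = N := by
  apply PolLaw.MulLaw.ext
  apply PolynomialLaw.ext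
  funext S _ _ x
  obtain ⟨m, s, b, rfl⟩ := exists_fin_repr' S x
  have e : (∑ i, s i ⊗ₜ[A] b i) =
      Algebra.TensorProduct.map (MvPolynomial.aeval s) (AlgHom.id A B)
        (∑ i, (MvPolynomial.X i : MvPolynomial (Fin m) A) ⊗ₜ[A] b i) := by
    simp [map_sum]
  rw [e, compat, compat, h]

theorem eq_of_forall_local (T : Type u) [CommRing T] [Algebra A T] [Module.FaithfullyFlat A T]
    (S : Type u) [CommRing S] [Algebra A S] (u v : S)
    (h : ∀ (R : Type u) [CommRing R] [IsLocalRing R] [Algebra A R] [Algebra T R]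
      [IsScalarTower A T R] (φ : S →ₐ[A] R), φ u = φ v) : u = v := by
  have hinj : Function.Injective (Algebra.TensorProduct.includeRight : S →ₐ[A] T ⊗[A] S) :=
    Module.FaithfullyFlat.tensorProduct_mk_injective (A := A) (B := T) S
  apply hinj
  rw [← sub_eq_zero]
  apply eq_zero_of_localization
  intro J hJ
  have := h (Localization.AtPrime J)
    ((IsScalarTower.toAlgHom A (T ⊗[A] S) (Localization.AtPrime J)).comp
      Algebra.TensorProduct.includeRight)
  rw [map_sub, sub_eq_zero]
  exact this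

end Descent

section SplitIso

theorem exists_split_iso (T : Type u) [CommRing T] [Algebra A T]
    [Algebra.IsFiniteSplit T (T ⊗[A] B)] [Module.Free A B] [Module.Finite A B]
    (hd : Module.finrank A B = d)
    (R : Type u) [CommRing R] [Nontrivial R] [Algebra A R] [Algebra T R] [IsScalarTower A T R] :
    Nonempty (R ⊗[A] B ≃ₐ[R] (Fin d → R)) := by
  obtain ⟨n, ⟨e0⟩⟩ := Algebra.IsFiniteSplit.nonempty_algEquiv_fun R (R ⊗[T] (T ⊗[A] B))
  let E : R ⊗[A] B ≃ₐ[R] (Fin n → R) :=
    (Algebra.TensorProduct.cancelBaseChange A T R R B).symm.trans e0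
  haveI : Nontrivial A := (algebraMap A R).domain_nontrivial
  have h1 := E.toLinearEquiv.finrank_eq
  rw [Module.finrank_baseChange, Module.finrank_fin_fun, hd] at h1
  subst h1
  exact ⟨E⟩

end SplitIso

section Final

variable (F N : PolLaw.MulLaw A B A d)
  (hN : ∀ (S : Type u) [CommRing S] [Algebra A S] (x : S ⊗[A] B),
      N.law.toFun' S x = Algebra.norm S x ⊗ₜ[A] (1 : A))
  [Module.Free A B] [Module.Finite A B] (hd : Module.finrank A B = d)

include hN hd

theorem unique_of_split (T : Type u) [CommRing T] [Algebra A T] [Module.FaithfullyFlat A T]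
    [Algebra.IsFiniteSplit T (T ⊗[A] B)] (hker : PolLaw.ker F.law ≤ nilradical B) : F = N := by
  apply law_ext_mv
  intro m x
  apply (TensorProduct.rid A (MvPolynomial (Fin m) A)).injective
  apply eq_of_forall_local (A := A) T (MvPolynomial (Fin m) A)
  intro R _ _ _ _ _ φ
  obtain ⟨E⟩ := exists_split_iso (B := B) T hd R
  rw [← Groth.Agent.Lib.Helper32.PolLawFactor.rid_map,
    ← Groth.Agent.Lib.Helper32.PolLawFactor.rid_map, ← compat, ← compat,
    F_eq_of_split F R E rfl hker, N_eq_of_split N hN R E]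

omit hd in
theorem ker_eq_bot_of_split (T : Type u) [CommRing T] [Algebra A T] [Module.FaithfullyFlat A T]
    [Algebra.IsFiniteSplit T (T ⊗[A] B)] : PolLaw.ker N.law = ⊥ := by
  rw [eq_bot_iff]
  intro b hb
  rw [Ideal.mem_bot]
  have hinj : Function.Injective (TensorProduct.mk A T B 1) :=
    Module.FaithfullyFlat.tensorProduct_mk_injective (A := A) (B := T) B
  apply hinj
  rw [map_zero, TensorProduct.mk_apply]
  obtain ⟨n, ⟨E⟩⟩ := Algebra.IsFiniteSplit.nonempty_algEquiv_fun T (T ⊗[A] B)
  apply E.injective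
  rw [map_zero]
  funext j
  classical
  have h := hb T (E.symm (1 - Pi.single j 1)) (E.symm (Pi.single j 1))
  rw [N_eq_of_split N hN T E, N_eq_of_split N hN T E] at h
  have h2 := congrArg (TensorProduct.rid A T) h
  rw [TensorProduct.rid_tmul, TensorProduct.rid_tmul, one_smul, one_smul, map_add, map_mul,
    AlgEquiv.apply_symm_apply, AlgEquiv.apply_symm_apply] at h2
  rw [Finset.prod_eq_single j, Finset.prod_eq_zero (Finset.mem_univ j)] at h2
  · simpa using h2
  · simp
  · intro i _ hij
    simp [hij]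
  · intro hj
    exact absurd (Finset.mem_univ j) hj

end Final

end Groth.Agent.Lib.Helper32.PolLawEtale
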