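import Groth.Agent.Lib.Helper32.PolLawBasic
import Mathlib

set_option autoImplicit false
universe u
open scoped TensorProduct

namespace Groth.Agent.Lib.Helper32.PolLawFactor

open Groth.Agent.Lib.Helper32.PolLawBasic MvPolynomial

variable {A : Type u} [CommRing A] {τ : Type u}


theorem prod_tmul {S M : Type*} [CommSemiring S] [Algebra A S] [CommSemiring M] [Algebra A M]
    {α : Type*} (s : Finset α) (a : α → S) (b : α → M) :
    ∏ i ∈ s, (a i ⊗ₜ[A] b i) = (∏ i ∈ s, a i) ⊗ₜ[A] (∏ i ∈ s, b i) := by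
  classical
  induction s using Finset.induction_on with
  | empty => simp [Algebra.TensorProduct.one_def]
  | insert i s hi ih =>
    rw [Finset.prod_insert hi, Finset.prod_insert hi, Finset.prod_insert hi, ih,
      Algebra.TensorProduct.tmul_mul_tmul]

abbrev Rg (A : Type u) [CommRing A] (τ : Type u) : Type u := MvPolynomial (τ →₀ ℕ) A

noncomputable def gen (J : Finset (τ →₀ ℕ)) : Rg A τ ⊗[A] MvPolynomial τ A :=
  ∑ μ ∈ J, (X μ : Rg A τ) ⊗ₜ[A] (monomial μ (1 : A))

theorem exists_repr (S : Type u) [CommSemiring S] [Algebra A S] (f : S ⊗[A] MvPolynomial τ A) :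
    ∃ (J : Finset (τ →₀ ℕ)) (s : (τ →₀ ℕ) → S),
      f = ∑ μ ∈ J, s μ ⊗ₜ[A] (monomial μ (1 : A)) := by
  classical
  induction f using TensorProduct.induction_on with
  | zero => exact ⟨∅, fun _ => 0, by simp⟩
  | tmul s p =>
    refine ⟨p.support, fun μ => coeff μ p • s, ?_⟩
    conv_lhs => rw [p.as_sum]
    rw [TensorProduct.tmul_sum]
    refine Finset.sum_congr rfl fun μ _ => ?_
    rw [TensorProduct.smul_tmul, smul_monomial, smul_eq_mul, mul_one]
  | add f g hf hg =>
    obtain ⟨J₁, s₁, rfl⟩ := hf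
    obtain ⟨J₂, s₂, rfl⟩ := hg
    refine ⟨J₁ ∪ J₂, fun μ => (if μ ∈ J₁ then s₁ μ else 0) + (if μ ∈ J₂ then s₂ μ else 0), ?_⟩
    simp only [TensorProduct.add_tmul, Finset.sum_add_distrib]
    congr 1
    · rw [← Finset.sum_subset (Finset.subset_union_left (s₂ := J₂))]
      · exact Finset.sum_congr rfl fun μ hμ => by rw [if_pos hμ]
      · intro μ _ hμ
        rw [if_neg hμ, TensorProduct.zero_tmul]
    · rw [← Finset.sum_subset (Finset.subset_union_right (s₁ := J₁))]
      · exact Finset.sum_congr rfl fun μ hμ => by rw [if_pos hμ]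
      · intro μ _ hμ
        rw [if_neg hμ, TensorProduct.zero_tmul]




theorem map_gen (S : Type u) [CommSemiring S] [Algebra A S] (J : Finset (τ →₀ ℕ))
    (s : (τ →₀ ℕ) → S) :
    Algebra.TensorProduct.map (aeval s : Rg A τ →ₐ[A] S) (AlgHom.id A (MvPolynomial τ A)) (gen J) =
      ∑ μ ∈ J, s μ ⊗ₜ[A] (monomial μ (1 : A)) := by
  simp [gen]

section Kill

variable {σ : Type*} [DecidableEq σ]

noncomputable def kill (J : Finset σ) : MvPolynomial σ A →ₐ[A] MvPolynomial σ A :=
  aeval (fun μ => if μ ∈ J then X μ else 0)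

theorem kill_monomial (J : Finset σ) (ν : σ →₀ ℕ) (a : A) :
    kill J (monomial ν a) = if ν.support ⊆ J then monomial ν a else 0 := by
  rw [kill, aeval_monomial]
  split_ifs with h
  · rw [monomial_eq, Finsupp.prod, Finsupp.prod]
    congr 1
    refine Finset.prod_congr rfl fun μ hμ => ?_
    rw [if_pos (h hμ)]
  · obtain ⟨μ, hμ, hμJ⟩ := Finset.not_subset.mp h
    rw [Finsupp.prod, Finset.prod_eq_zero hμ, mul_zero]
    rw [if_neg hμJ, zero_pow (Finsupp.mem_support_iff.mp hμ)]

theorem coeff_kill (J : Finset σ) (p : MvPolynomial σ A) (ν : σ →₀ ℕ) :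
    coeff ν (kill J p) = if ν.support ⊆ J then coeff ν p else 0 := by
  induction p using MvPolynomial.induction_on' with
  | monomial ν' a =>
    rw [kill_monomial]
    by_cases h : ν' = ν
    · subst h
      split_ifs <;> simp
    · split_ifs <;> simp [coeff_monomial, h]
  | add p q hp hq =>
    rw [map_add, coeff_add, hp, hq, coeff_add]
    split_ifs <;> simp

end Kill



theorem rid_map {S S' : Type u} [CommSemiring S] [Algebra A S] [CommSemiring S']
    [Algebra A S'] (φ : S →ₐ[A] S') (z : S ⊗[A] A) :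
    TensorProduct.rid A S' (Algebra.TensorProduct.map φ (AlgHom.id A A) z) =
      φ (TensorProduct.rid A S z) := by
  induction z using TensorProduct.induction_on with
  | zero => simp
  | tmul s a => simp
  | add a b ha hb => simp [ha, hb]

theorem rid_smul {S : Type u} [CommSemiring S] [Algebra A S] (s : S) (z : S ⊗[A] A) :
    TensorProduct.rid A S (s • z) = s * TensorProduct.rid A S z := by
  induction z using TensorProduct.induction_on with
  | zero => simp
  | tmul s' a => simp [TensorProduct.smul_tmul']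
  | add a b ha hb => simp [ha, hb, mul_add]

section Hom

variable {σ : Type*}

noncomputable def psi : MvPolynomial σ A →ₐ[A] Polynomial (MvPolynomial σ A) :=
  aeval (fun μ => (Polynomial.X : Polynomial (MvPolynomial σ A)) * Polynomial.C (X μ))

theorem psi_monomial (ν : σ →₀ ℕ) (a : A) :
    psi (monomial ν a) = Polynomial.X ^ ν.degree * Polynomial.C (monomial ν a) := by
  rw [psi, aeval_monomial]
  simp only [mul_pow, Finsupp.prod_mul]
  rw [Finsupp.prod, Finsupp.prod, Finset.prod_pow_eq_pow_sum, ← Finsupp.degree_apply]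
  rw [monomial_eq, Finsupp.prod]
  simp only [← Polynomial.C_pow, ← map_prod, Polynomial.C_mul]
  rw [Polynomial.algebraMap_apply, MvPolynomial.algebraMap_eq]
  ring

theorem coeff_psi (p : MvPolynomial σ A) (k : ℕ) (ν : σ →₀ ℕ) :
    coeff ν ((psi p).coeff k) = if ν.degree = k then coeff ν p else 0 := by
  classical
  induction p using MvPolynomial.induction_on' with
  | monomial ν' a =>
    rw [psi_monomial, Polynomial.coeff_X_pow_mul', Polynomial.coeff_C]
    by_cases h : ν' = ν
    · subst h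
      by_cases hk : ν'.degree = k
      · subst hk
        simp
      · rw [if_neg hk]
        split_ifs with h1 h2
        · omega
        · simp
        · simp
    · simp only [coeff_monomial, h, if_false]
      split_ifs <;> simp [coeff_monomial, h]
  | add p q hp hq =>
    rw [map_add, Polynomial.coeff_add, coeff_add, hp, hq, coeff_add]
    split_ifs <;> simp

end Hom


section Coeffs

open scoped Classical

variable (G : MvPolynomial τ A →ₚₗ[A] A)

noncomputable def cJ (J : Finset (τ →₀ ℕ)) : Rg A τ :=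
  TensorProduct.rid A (Rg A τ) (G.toFun' (Rg A τ) (gen J))

noncomputable def nCoeff (ν : (τ →₀ ℕ) →₀ ℕ) : A := coeff ν (cJ G ν.support)

theorem cJ_kill {J J' : Finset (τ →₀ ℕ)} (h : J ⊆ J') :
    cJ G J = kill J (cJ G J') := by
  have h1 : Algebra.TensorProduct.map (kill (A := A) J) (AlgHom.id A (MvPolynomial τ A)) (gen J') =
      gen J := by
    rw [kill, map_gen, gen]
    rw [← Finset.sum_subset h]
    · exact Finset.sum_congr rfl fun μ hμ => by rw [if_pos hμ]
    · intro μ _ hμ
      rw [if_neg hμ, TensorProduct.zero_tmul]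
  rw [cJ, cJ, ← h1, compat, rid_map]

theorem coeff_cJ (J : Finset (τ →₀ ℕ)) (ν : (τ →₀ ℕ) →₀ ℕ) :
    coeff ν (cJ G J) = if ν.support ⊆ J then nCoeff G ν else 0 := by
  split_ifs with h
  · rw [nCoeff, cJ_kill G h, coeff_kill, if_pos (Finset.Subset.refl _)]
  · rw [cJ_kill G (Finset.Subset.refl J), coeff_kill, if_neg h]

theorem psi_cJ {d : ℕ} (hG : PolLaw.IsHomog G d) (J : Finset (τ →₀ ℕ)) :
    psi (cJ G J) = Polynomial.X ^ d * Polynomial.C (cJ G J) := by
  let ιC : Rg A τ →ₐ[A] Polynomial (Rg A τ) := IsScalarTower.toAlgHom A _ _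
  have h1 : Algebra.TensorProduct.map (psi (A := A) (σ := τ →₀ ℕ))
      (AlgHom.id A (MvPolynomial τ A)) (gen J) =
      (Polynomial.X : Polynomial (Rg A τ)) •
        Algebra.TensorProduct.map ιC (AlgHom.id A (MvPolynomial τ A)) (gen J) := by
    rw [psi, map_gen, gen, map_sum, Finset.smul_sum]
    refine Finset.sum_congr rfl fun μ _ => ?_
    rw [Algebra.TensorProduct.map_tmul, TensorProduct.smul_tmul', smul_eq_mul]
    rfl
  have h2 := compat G (psi (A := A) (σ := τ →₀ ℕ)) (gen J)
  rw [h1, hG, compat] at h2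
  have h3 := congrArg (TensorProduct.rid A (Polynomial (Rg A τ))) h2
  rw [rid_smul, rid_map, rid_map] at h3
  exact h3.symm

theorem nCoeff_eq_zero {d : ℕ} (hG : PolLaw.IsHomog G d) (ν : (τ →₀ ℕ) →₀ ℕ)
    (hν : ν.degree ≠ d) : nCoeff G ν = 0 := by
  have h1 := coeff_psi (cJ G ν.support) ν.degree ν
  rw [if_pos rfl, psi_cJ G hG, Polynomial.coeff_X_pow_mul', Polynomial.coeff_C] at h1
  rw [nCoeff, ← h1]
  split_ifs with h2 h3
  · omega
  · simp
  · simp

theorem cJ_eq {d : ℕ} (hG : PolLaw.IsHomog G d) (J : Finset (τ →₀ ℕ)) :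
    cJ G J = ∑ ν ∈ Finset.finsuppAntidiag J d, monomial ν (nCoeff G ν) := by
  ext ν
  rw [coeff_cJ, coeff_sum]
  simp only [coeff_monomial]
  rw [Finset.sum_ite_eq' ]
  by_cases h : ν.support ⊆ J
  · rw [if_pos h]
    by_cases hd : ν.degree = d
    · rw [if_pos]
      rw [Finset.mem_finsuppAntidiag']
      exact ⟨by rw [← hd, Finsupp.degree_apply]; rfl, h⟩
    · rw [nCoeff_eq_zero G hG ν hd]
      split_ifs <;> rfl
  · rw [if_neg h, if_neg]
    rw [Finset.mem_finsuppAntidiag']
    exact fun h' => h h'.2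

end Coeffs


section Tuples

variable {d : ℕ}

noncomputable def thetaOf (p : Fin d → (τ →₀ ℕ)) : Fin d × τ →₀ ℕ :=
  ∑ j, (p j).mapDomain (Prod.mk j)

noncomputable def nuOf (p : Fin d → (τ →₀ ℕ)) : (τ →₀ ℕ) →₀ ℕ :=
  ∑ j, Finsupp.single (p j) 1

noncomputable def tupleOf (θ : Fin d × τ →₀ ℕ) : Fin d → (τ →₀ ℕ) :=
  fun j => θ.comapDomain (Prod.mk j) (Prod.mk_right_injective j).injOn

theorem tupleOf_thetaOf (p : Fin d → (τ →₀ ℕ)) : tupleOf (thetaOf p) = p := by
  classical
  funext j
  ext i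
  rw [tupleOf, Finsupp.comapDomain_apply, thetaOf, Finsupp.finsetSum_apply]
  rw [Finset.sum_eq_single j]
  · exact Finsupp.mapDomain_apply (Prod.mk_right_injective j) _ _
  · intro j' _ hj'
    apply Finsupp.mapDomain_of_notMem_range
    rintro ⟨i', hi'⟩
    exact hj' (Prod.ext_iff.mp hi').1
  · intro h
    exact absurd (Finset.mem_univ j) h

theorem degree_nuOf (p : Fin d → (τ →₀ ℕ)) : (nuOf p).degree = d := by
  rw [nuOf, map_sum]
  simp

theorem support_nuOf (p : Fin d → (τ →₀ ℕ)) (J : Finset (τ →₀ ℕ)) (hp : ∀ j, p j ∈ J) :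
    (nuOf p).support ⊆ J := by
  classical
  intro μ hμ
  rw [nuOf] at hμ
  have := Finsupp.support_finsetSum hμ
  rw [Finset.mem_biUnion] at this
  obtain ⟨j, -, hj⟩ := this
  rw [Finsupp.support_single _ one_ne_zero, Finset.mem_singleton] at hj
  rw [hj]
  exact hp j

theorem mem_support_nuOf (p : Fin d → (τ →₀ ℕ)) (j : Fin d) : p j ∈ (nuOf p).support := by
  classical
  rw [Finsupp.mem_support_iff, nuOf, Finsupp.finsetSum_apply]
  apply ne_of_gt
  calc 0 < (Finsupp.single (p j) 1 : (τ →₀ ℕ) →₀ ℕ) (p j) := by simp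
    _ ≤ _ := Finset.single_le_sum (f := fun j' => (Finsupp.single (p j') 1 : (τ →₀ ℕ) →₀ ℕ) (p j))
        (fun _ _ => Nat.zero_le _) (Finset.mem_univ j)

theorem exists_rep : ∀ (d : ℕ) (ν : (τ →₀ ℕ) →₀ ℕ), ν.degree = d →
    ∃ p : Fin d → (τ →₀ ℕ), nuOf p = ν := by
  classical
  intro d
  induction d with
  | zero =>
    intro ν hν
    refine ⟨Fin.elim0, ?_⟩
    rw [nuOf, Finset.univ_eq_empty, Finset.sum_empty]
    exact ((Finsupp.degree_eq_zero_iff ν).mp hν).symm
  | succ d ih =>
    intro ν hν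
    have hne : ν ≠ 0 := by
      rintro rfl
      simp at hν
    obtain ⟨μ₀, hμ₀⟩ := Finsupp.support_nonempty_iff.mpr hne
    have hle : Finsupp.single μ₀ 1 ≤ ν := by
      rw [Finsupp.single_le_iff]
      exact Nat.one_le_iff_ne_zero.mpr (Finsupp.mem_support_iff.mp hμ₀)
    have hdeg : (ν - Finsupp.single μ₀ 1).degree = d := by
      have h1 : ν = (ν - Finsupp.single μ₀ 1) + Finsupp.single μ₀ 1 := (tsub_add_cancel_of_le hle).symm
      have h2 := congrArg Finsupp.degree h1
      rw [map_add, hν, Finsupp.degree_single] at h2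
      omega
    obtain ⟨p', hp'⟩ := ih _ hdeg
    refine ⟨Fin.cons μ₀ p', ?_⟩
    rw [nuOf, Fin.sum_univ_succ]
    simp only [Fin.cons_zero, Fin.cons_succ]
    rw [nuOf] at hp'
    rw [hp', add_comm]
    exact tsub_add_cancel_of_le hle

end Tuples


section Factor

open scoped Classical

variable {d : ℕ}

noncomputable def repOf (d : ℕ) (ν : (τ →₀ ℕ) →₀ ℕ) : Fin d → (τ →₀ ℕ) :=
  if h : ν.degree = d then (exists_rep d ν h).choose else fun _ => 0

theorem nuOf_repOf (ν : (τ →₀ ℕ) →₀ ℕ) (h : ν.degree = d) : nuOf (repOf d ν) = ν := by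
  rw [repOf, dif_pos h]
  exact (exists_rep d ν h).choose_spec

variable (G : MvPolynomial τ A →ₚₗ[A] A)

noncomputable def hval (d : ℕ) (θ : Fin d × τ →₀ ℕ) : A :=
  if tupleOf θ = repOf d (nuOf (tupleOf θ)) then nCoeff G (nuOf (tupleOf θ)) else 0

noncomputable def hLin (d : ℕ) : MvPolynomial (Fin d × τ) A →ₗ[A] A :=
  (MvPolynomial.basisMonomials (Fin d × τ) A).constr A (hval G d)

theorem hLin_monomial (θ : Fin d × τ →₀ ℕ) (a : A) :
    hLin G d (monomial θ a) = a * hval G d θ := by
  have : monomial θ a = a • (MvPolynomial.basisMonomials (Fin d × τ) A θ) := by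
    rw [MvPolynomial.coe_basisMonomials, smul_monomial, smul_eq_mul, mul_one]
  rw [this, map_smul, hLin, Module.Basis.constr_basis, smul_eq_mul]

noncomputable def Gam (d : ℕ) (S : Type u) [CommSemiring S] [Algebra A S]
    (f : S ⊗[A] MvPolynomial τ A) : S ⊗[A] MvPolynomial (Fin d × τ) A :=
  ∏ j : Fin d, Algebra.TensorProduct.map (AlgHom.id S S)
    (rename (Prod.mk j) : MvPolynomial τ A →ₐ[A] MvPolynomial (Fin d × τ) A) f

theorem Gam_gen (J : Finset (τ →₀ ℕ)) :
    Gam d (Rg A τ) (gen J) = ∑ p ∈ Fintype.piFinset (fun _ : Fin d => J),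
      (monomial (nuOf p) (1 : A) : Rg A τ) ⊗ₜ[A] (monomial (thetaOf p) (1 : A)) := by
  rw [Gam]
  simp only [gen, map_sum, Algebra.TensorProduct.map_tmul, AlgHom.id_apply, rename_monomial]
  rw [Finset.prod_univ_sum]
  refine Finset.sum_congr rfl fun p _ => ?_
  rw [prod_tmul, nuOf, thetaOf, monomial_sum_one, monomial_sum_one]
  rfl

theorem rid_hLin_Gam_gen (J : Finset (τ →₀ ℕ)) :
    TensorProduct.rid A (Rg A τ) ((hLin G d).lTensor (Rg A τ) (Gam d (Rg A τ) (gen J))) =
      ∑ p ∈ Fintype.piFinset (fun _ : Fin d => J),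
        (if p = repOf d (nuOf p) then monomial (nuOf p) (nCoeff G (nuOf p)) else 0) := by
  rw [Gam_gen, map_sum, map_sum]
  refine Finset.sum_congr rfl fun p _ => ?_
  rw [LinearMap.lTensor_tmul, TensorProduct.rid_tmul, hLin_monomial, one_mul, hval,
    tupleOf_thetaOf]
  split_ifs
  · rw [smul_monomial, smul_eq_mul, mul_one]
  · rw [zero_smul]

theorem rid_hLin_Gam_gen' (hG : PolLaw.IsHomog G d) (J : Finset (τ →₀ ℕ)) :
    TensorProduct.rid A (Rg A τ) ((hLin G d).lTensor (Rg A τ) (Gam d (Rg A τ) (gen J))) =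
      cJ G J := by
  rw [rid_hLin_Gam_gen, cJ_eq G hG, ← Finset.sum_filter]
  refine Finset.sum_bij' (fun p _ => nuOf p) (fun ν _ => repOf d ν) ?_ ?_ ?_ ?_ ?_
  · intro p hp
    rw [Finset.mem_filter, Fintype.mem_piFinset] at hp
    rw [Finset.mem_finsuppAntidiag']
    refine ⟨?_, support_nuOf p J hp.1⟩
    have := degree_nuOf p
    rw [Finsupp.degree_apply] at this
    exact this
  · intro ν hν
    rw [Finset.mem_finsuppAntidiag'] at hν
    have hdeg : ν.degree = d := by
      rw [Finsupp.degree_apply]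
      exact hν.1
    rw [Finset.mem_filter, Fintype.mem_piFinset]
    refine ⟨fun j => hν.2 ?_, ?_⟩
    · have := mem_support_nuOf (repOf d ν) j
      rwa [nuOf_repOf ν hdeg] at this
    · rw [nuOf_repOf ν hdeg]
  · intro p hp
    rw [Finset.mem_filter] at hp
    exact hp.2.symm
  · intro ν hν
    rw [Finset.mem_finsuppAntidiag'] at hν
    have hdeg : ν.degree = d := by
      rw [Finsupp.degree_apply]
      exact hν.1
    exact nuOf_repOf ν hdeg
  · intro p _
    rfl


theorem Gam_map {S S' : Type u} [CommSemiring S] [Algebra A S] [CommSemiring S'] [Algebra A S']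
    (φ : S →ₐ[A] S') (f : S ⊗[A] MvPolynomial τ A) :
    Gam d S' (Algebra.TensorProduct.map φ (AlgHom.id A _) f) =
      Algebra.TensorProduct.map φ (AlgHom.id A _) (Gam d S f) := by
  rw [Gam, Gam, map_prod]
  refine Finset.prod_congr rfl fun j _ => ?_
  induction f using TensorProduct.induction_on with
  | zero => simp
  | add x y hx hy => simp only [map_add, hx, hy]
  | tmul s p => simp

theorem lTensor_map {M N : Type u} [CommRing M] [Algebra A M] [CommRing N] [Algebra A N]
    (g : M →ₗ[A] N) {S S' : Type u} [CommSemiring S] [Algebra A S] [CommSemiring S']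
    [Algebra A S'] (φ : S →ₐ[A] S') (y : S ⊗[A] M) :
    g.lTensor S' (Algebra.TensorProduct.map φ (AlgHom.id A M) y) =
      Algebra.TensorProduct.map φ (AlgHom.id A N) (g.lTensor S y) := by
  induction y using TensorProduct.induction_on with
  | zero => simp
  | add x y hx hy => simp only [map_add, hx, hy]
  | tmul s p => simp

theorem factor (hG : PolLaw.IsHomog G d) (S : Type u) [CommSemiring S] [Algebra A S]
    (f : S ⊗[A] MvPolynomial τ A) :
    G.toFun' S f = (hLin G d).lTensor S (Gam d S f) := by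
  obtain ⟨J, s, rfl⟩ := exists_repr S f
  rw [← map_gen S J s, compat, Gam_map, lTensor_map]
  congr 1
  apply (TensorProduct.rid A _).injective
  rw [rid_hLin_Gam_gen' G hG]
  rfl

end Factor

end Groth.Agent.Lib.Helper32.PolLawFactor
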