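import Groth.Agent.Lib.Helper32.PolLawFactor

set_option autoImplicit false
universe u
open scoped TensorProduct

namespace Groth.Agent.Lib.Helper32.PolLawFactorC

open Groth.Agent.Lib.Helper32.PolLawBasic Groth.Agent.Lib.Helper32.PolLawFactor MvPolynomial

variable {A : Type u} [CommRing A] {C : Type u} [CommRing C] [Algebra A C]

section Coef

variable {ι : Type*}

noncomputable def cfC (ν : ι →₀ ℕ) : MvPolynomial ι A ⊗[A] C →ₗ[A] C :=
  (TensorProduct.lid A C).toLinearMap ∘ₗ (MvPolynomial.lcoeff A ν).rTensor C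

noncomputable def mnC (ν : ι →₀ ℕ) : C →ₗ[A] MvPolynomial ι A ⊗[A] C :=
  TensorProduct.mk A (MvPolynomial ι A) C (monomial ν 1)

@[simp] theorem cfC_tmul (ν : ι →₀ ℕ) (p : MvPolynomial ι A) (c : C) :
    cfC ν (p ⊗ₜ[A] c) = coeff ν p • c := by
  simp [cfC]

@[simp] theorem mnC_apply (ν : ι →₀ ℕ) (c : C) :
    mnC (A := A) (ι := ι) ν c = monomial ν 1 ⊗ₜ[A] c := rfl

theorem cfC_mnC [DecidableEq ι] (ν ν' : ι →₀ ℕ) (c : C) :
    cfC (A := A) ν (mnC ν' c) = if ν' = ν then c else 0 := by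
  rw [mnC_apply, cfC_tmul, coeff_monomial]
  split_ifs <;> simp

theorem exists_expand (Φ : MvPolynomial ι A ⊗[A] C) :
    ∃ N : Finset (ι →₀ ℕ), ∀ N' : Finset (ι →₀ ℕ), N ⊆ N' →
      Φ = ∑ ν ∈ N', mnC ν (cfC (A := A) ν Φ) := by
  classical
  induction Φ using TensorProduct.induction_on with
  | zero => exact ⟨∅, fun N' _ => by simp⟩
  | tmul p c =>
    refine ⟨p.support, fun N' hN' => ?_⟩
    simp only [cfC_tmul, mnC_apply]
    simp only [← TensorProduct.smul_tmul, ← TensorProduct.sum_tmul]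
    congr 1
    conv_lhs => rw [p.as_sum]
    rw [← Finset.sum_subset hN' (f := fun ν => coeff ν p • monomial ν (1 : A))]
    · refine Finset.sum_congr rfl fun ν _ => ?_
      rw [smul_monomial, smul_eq_mul, mul_one]
    · intro ν _ hν
      rw [notMem_support_iff.mp hν, zero_smul]
  | add Φ₁ Φ₂ h₁ h₂ =>
    obtain ⟨N₁, hN₁⟩ := h₁
    obtain ⟨N₂, hN₂⟩ := h₂
    refine ⟨N₁ ∪ N₂, fun N' hN' => ?_⟩
    simp only [map_add, Finset.sum_add_distrib]
    rw [← hN₁ N' (Finset.union_subset_left hN'), ← hN₂ N' (Finset.union_subset_right hN')]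

theorem ext_cfC {Φ Φ' : MvPolynomial ι A ⊗[A] C} (h : ∀ ν, cfC (A := A) ν Φ = cfC ν Φ') :
    Φ = Φ' := by
  classical
  obtain ⟨N₁, hN₁⟩ := exists_expand Φ
  obtain ⟨N₂, hN₂⟩ := exists_expand Φ'
  rw [hN₁ (N₁ ∪ N₂) Finset.subset_union_left, hN₂ (N₁ ∪ N₂) Finset.subset_union_right]
  exact Finset.sum_congr rfl fun ν _ => by rw [h]

theorem cfC_map_kill [DecidableEq ι] (J : Finset ι) (ν : ι →₀ ℕ) (Φ : MvPolynomial ι A ⊗[A] C) :
    cfC ν (Algebra.TensorProduct.map (kill (A := A) J) (AlgHom.id A C) Φ) =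
      if ν.support ⊆ J then cfC ν Φ else 0 := by
  induction Φ using TensorProduct.induction_on with
  | zero => simp
  | add x y hx hy => rw [map_add, map_add, hx, hy, map_add]; split_ifs <;> simp
  | tmul p c =>
    rw [Algebra.TensorProduct.map_tmul, cfC_tmul, cfC_tmul, coeff_kill, AlgHom.id_apply]
    split_ifs <;> simp

noncomputable def cf2 (k : ℕ) (ν : ι →₀ ℕ) :
    Polynomial (MvPolynomial ι A) ⊗[A] C →ₗ[A] C :=
  (TensorProduct.lid A C).toLinearMap ∘ₗ
    ((MvPolynomial.lcoeff A ν) ∘ₗ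
      ((Polynomial.lcoeff (MvPolynomial ι A) k).restrictScalars A)).rTensor C

@[simp] theorem cf2_tmul (k : ℕ) (ν : ι →₀ ℕ) (p : Polynomial (MvPolynomial ι A)) (c : C) :
    cf2 k ν (p ⊗ₜ[A] c) = coeff ν (p.coeff k) • c := by
  simp [cf2]

theorem cf2_psi (k : ℕ) (ν : ι →₀ ℕ) (Φ : MvPolynomial ι A ⊗[A] C) :
    cf2 k ν (Algebra.TensorProduct.map (psi (A := A) (σ := ι)) (AlgHom.id A C) Φ) =
      if ν.degree = k then cfC ν Φ else 0 := by
  induction Φ using TensorProduct.induction_on with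
  | zero => simp
  | add x y hx hy => rw [map_add, map_add, hx, hy, map_add]; split_ifs <;> simp
  | tmul p c =>
    rw [Algebra.TensorProduct.map_tmul, cf2_tmul, cfC_tmul, coeff_psi, AlgHom.id_apply]
    split_ifs <;> simp

theorem cf2_X_pow_smul (d k : ℕ) (ν : ι →₀ ℕ) (Φ : MvPolynomial ι A ⊗[A] C) :
    cf2 k ν ((Polynomial.X ^ d : Polynomial (MvPolynomial ι A)) •
      Algebra.TensorProduct.map
        (IsScalarTower.toAlgHom A (MvPolynomial ι A) (Polynomial (MvPolynomial ι A)))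
        (AlgHom.id A C) Φ) = if k = d then cfC ν Φ else 0 := by
  induction Φ using TensorProduct.induction_on with
  | zero => simp
  | add x y hx hy =>
    rw [map_add, smul_add, map_add, hx, hy, map_add]; split_ifs <;> simp
  | tmul p c =>
    rw [Algebra.TensorProduct.map_tmul, TensorProduct.smul_tmul', cf2_tmul, cfC_tmul,
      smul_eq_mul, Polynomial.coeff_X_pow_mul', AlgHom.id_apply, IsScalarTower.coe_toAlgHom',
      Polynomial.algebraMap_apply, Algebra.algebraMap_self, RingHom.id_apply, Polynomial.coeff_C]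
    by_cases hk : k = d
    · subst hk
      simp
    · rw [if_neg hk]
      split_ifs with h1 h2
      · omega
      · simp
      · simp

end Coef

section Coeffs

open scoped Classical

variable {τ : Type u} (G : MvPolynomial τ A →ₚₗ[A] C)

noncomputable def cJC (J : Finset (τ →₀ ℕ)) : Rg A τ ⊗[A] C := G.toFun' (Rg A τ) (gen J)

noncomputable def nCoeffC (ν : (τ →₀ ℕ) →₀ ℕ) : C := cfC ν (cJC G ν.support)

theorem cJC_kill {J J' : Finset (τ →₀ ℕ)} (h : J ⊆ J') :
    cJC G J = Algebra.TensorProduct.map (kill (A := A) J) (AlgHom.id A C) (cJC G J') := by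
  have h1 : Algebra.TensorProduct.map (kill (A := A) J) (AlgHom.id A (MvPolynomial τ A)) (gen J') =
      gen J := by
    rw [kill, map_gen, gen]
    rw [← Finset.sum_subset h]
    · exact Finset.sum_congr rfl fun μ hμ => by rw [if_pos hμ]
    · intro μ _ hμ
      rw [if_neg hμ, TensorProduct.zero_tmul]
  rw [cJC, cJC, ← h1, compat]

theorem cfC_cJC (J : Finset (τ →₀ ℕ)) (ν : (τ →₀ ℕ) →₀ ℕ) :
    cfC ν (cJC G J) = if ν.support ⊆ J then nCoeffC G ν else 0 := by
  split_ifs with h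
  · rw [nCoeffC, cJC_kill G h, cfC_map_kill, if_pos (Finset.Subset.refl _)]
  · rw [cJC_kill G (Finset.Subset.refl J), cfC_map_kill, if_neg h]

theorem psi_cJC {d : ℕ} (hG : PolLaw.IsHomog G d) (J : Finset (τ →₀ ℕ)) :
    Algebra.TensorProduct.map (psi (A := A) (σ := τ →₀ ℕ)) (AlgHom.id A C) (cJC G J) =
      (Polynomial.X ^ d : Polynomial (Rg A τ)) •
        Algebra.TensorProduct.map (IsScalarTower.toAlgHom A (Rg A τ) (Polynomial (Rg A τ)))
          (AlgHom.id A C) (cJC G J) := by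
  let ιC : Rg A τ →ₐ[A] Polynomial (Rg A τ) := IsScalarTower.toAlgHom A _ _
  have h1 : Algebra.TensorProduct.map (psi (A := A) (σ := τ →₀ ℕ))
      (AlgHom.id A (MvPolynomial τ A)) (gen J) =
      (Polynomial.X : Polynomial (Rg A τ)) •
        Algebra.TensorProduct.map ιC (AlgHom.id A (MvPolynomial τ A)) (gen J) := by
    rw [psi, map_gen, gen, map_sum, Finset.smul_sum]
    refine Finset.sum_congr rfl fun μ _ => ?_
    rw [Algebra.TensorProduct.map_tmul, TensorProduct.smul_tmul', smul_eq_mul]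
    rfl
  have h2 := compat G (psi (A := A) (σ := τ →₀ ℕ)) (gen J)
  rw [h1, hG, compat] at h2
  exact h2.symm

theorem nCoeffC_eq_zero {d : ℕ} (hG : PolLaw.IsHomog G d) (ν : (τ →₀ ℕ) →₀ ℕ)
    (hν : ν.degree ≠ d) : nCoeffC G ν = 0 := by
  have h1 := cf2_psi (C := C) ν.degree ν (cJC G ν.support)
  rw [if_pos rfl, psi_cJC G hG, cf2_X_pow_smul, if_neg hν] at h1
  rw [nCoeffC, ← h1]

theorem cJC_eq {d : ℕ} (hG : PolLaw.IsHomog G d) (J : Finset (τ →₀ ℕ)) :
    cJC G J = ∑ ν ∈ Finset.finsuppAntidiag J d, mnC ν (nCoeffC G ν) := by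
  apply ext_cfC
  intro ν
  rw [cfC_cJC, map_sum]
  simp only [cfC_mnC]
  rw [Finset.sum_ite_eq']
  by_cases h : ν.support ⊆ J
  · rw [if_pos h]
    by_cases hd : ν.degree = d
    · rw [if_pos]
      rw [Finset.mem_finsuppAntidiag']
      exact ⟨by rw [← hd, Finsupp.degree_apply]; rfl, h⟩
    · rw [nCoeffC_eq_zero G hG ν hd]
      split_ifs <;> rfl
  · rw [if_neg h, if_neg]
    rw [Finset.mem_finsuppAntidiag']
    exact fun h' => h h'.2

end Coeffs

section Factor

open scoped Classical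

variable {τ : Type u} {d : ℕ} (G : MvPolynomial τ A →ₚₗ[A] C)

noncomputable def hvalC (d : ℕ) (θ : Fin d × τ →₀ ℕ) : C :=
  if tupleOf θ = repOf d (nuOf (tupleOf θ)) then nCoeffC G (nuOf (tupleOf θ)) else 0

noncomputable def hLinC (d : ℕ) : MvPolynomial (Fin d × τ) A →ₗ[A] C :=
  (MvPolynomial.basisMonomials (Fin d × τ) A).constr A (hvalC G d)

theorem hLinC_monomial (θ : Fin d × τ →₀ ℕ) (a : A) :
    hLinC G d (monomial θ a) = a • hvalC G d θ := by
  have : monomial θ a = a • (MvPolynomial.basisMonomials (Fin d × τ) A θ) := by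
    rw [MvPolynomial.coe_basisMonomials, smul_monomial, smul_eq_mul, mul_one]
  rw [this, map_smul, hLinC, Module.Basis.constr_basis]

theorem hLinC_Gam_gen (J : Finset (τ →₀ ℕ)) :
    (hLinC G d).lTensor (Rg A τ) (Gam d (Rg A τ) (gen J)) =
      ∑ p ∈ Fintype.piFinset (fun _ : Fin d => J),
        (if p = repOf d (nuOf p) then mnC (nuOf p) (nCoeffC G (nuOf p)) else 0) := by
  rw [Gam_gen, map_sum]
  refine Finset.sum_congr rfl fun p _ => ?_
  rw [LinearMap.lTensor_tmul, hLinC_monomial, one_smul, hvalC, tupleOf_thetaOf]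
  split_ifs
  · rfl
  · rw [TensorProduct.tmul_zero]

theorem hLinC_Gam_gen' (hG : PolLaw.IsHomog G d) (J : Finset (τ →₀ ℕ)) :
    (hLinC G d).lTensor (Rg A τ) (Gam d (Rg A τ) (gen J)) = cJC G J := by
  rw [hLinC_Gam_gen, cJC_eq G hG, ← Finset.sum_filter]
  refine Finset.sum_bij' (fun p _ => nuOf p) (fun ν _ => repOf d ν) ?_ ?_ ?_ ?_ ?_
  · intro p hp
    rw [Finset.mem_filter, Fintype.mem_piFinset] at hp
    rw [Finset.mem_finsuppAntidiag']
    refine ⟨?_, support_nuOf p J hp.1⟩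
    have := degree_nuOf p
    rw [Finsupp.degree_apply] at this
    exact this
  · intro ν hν
    rw [Finset.mem_finsuppAntidiag'] at hν
    have hdeg : ν.degree = d := by
      rw [Finsupp.degree_apply]
      exact hν.1
    rw [Finset.mem_filter, Fintype.mem_piFinset]
    refine ⟨fun j => hν.2 ?_, ?_⟩
    · have := mem_support_nuOf (repOf d ν) j
      rwa [nuOf_repOf ν hdeg] at this
    · rw [nuOf_repOf ν hdeg]
  · intro p hp
    rw [Finset.mem_filter] at hp
    exact hp.2.symm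
  · intro ν hν
    rw [Finset.mem_finsuppAntidiag'] at hν
    have hdeg : ν.degree = d := by
      rw [Finsupp.degree_apply]
      exact hν.1
    exact nuOf_repOf ν hdeg
  · intro p _
    rfl

theorem lTensor_map' {M : Type u} [CommRing M] [Algebra A M]
    (g : M →ₗ[A] C) {S S' : Type u} [CommSemiring S] [Algebra A S] [CommSemiring S']
    [Algebra A S'] (φ : S →ₐ[A] S') (y : S ⊗[A] M) :
    g.lTensor S' (Algebra.TensorProduct.map φ (AlgHom.id A M) y) =
      Algebra.TensorProduct.map φ (AlgHom.id A C) (g.lTensor S y) := by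
  induction y using TensorProduct.induction_on with
  | zero => simp
  | add x y hx hy => simp only [map_add, hx, hy]
  | tmul s p => simp

theorem factorC (hG : PolLaw.IsHomog G d) (S : Type u) [CommSemiring S] [Algebra A S]
    (f : S ⊗[A] MvPolynomial τ A) :
    G.toFun' S f = (hLinC G d).lTensor S (Gam d S f) := by
  obtain ⟨J, s, rfl⟩ := exists_repr S f
  rw [← map_gen S J s, compat, Gam_map, lTensor_map']
  congr 1
  rw [hLinC_Gam_gen' G hG]
  rfl

end Factor

end Groth.Agent.Lib.Helper32.PolLawFactorC
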