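import Groth.Agent.Lib.Helper32.PolLawBC
import Groth.Agent.Lib.Helper32.PolLawKron
import Groth.Agent.Lib.Helper32.PolLawQuot
import Mathlib.RingTheory.Ideal.GoingUp
import Mathlib.RingTheory.IntegralClosure.Algebra.Basic
import Mathlib.RingTheory.Polynomial.Basic

set_option autoImplicit false
universe u
open scoped TensorProduct
open Polynomial

namespace Groth.Agent.Lib.Helper32.PolLawFibre

open Groth.Agent.Lib.Helper32.PolLawBasic Groth.Agent.Lib.Helper32.PolLawCH
  Groth.Agent.Lib.Helper32.PolLawBC Groth.Agent.Lib.Helper32.PolLawQuot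
  Groth.Agent.Lib.Helper32.PolLawKron

theorem finite_card_le_of_no_inj {X : Type u} (d : ℕ)
    (h : ∀ f : Fin (d + 1) → X, ¬ Function.Injective f) : Finite X ∧ Nat.card X ≤ d := by
  have hfin : Finite X := by
    by_contra hinf
    rw [not_finite_iff_infinite] at hinf
    exact h (fun i => Infinite.natEmbedding X i.val)
      (fun i j hij => Fin.val_injective ((Infinite.natEmbedding X).injective hij))
  refine ⟨hfin, ?_⟩
  by_contra hcard
  push Not at hcard
  have := Fintype.ofFinite X
  rw [Nat.card_eq_fintype_card] at hcard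
  have hle : Fintype.card (Fin (d + 1)) ≤ Fintype.card X := by
    rw [Fintype.card_fin]
    omega
  obtain ⟨g⟩ := Function.Embedding.nonempty_of_card_le hle
  exact h g g.injective

variable {A : Type u} [CommRing A] {B : Type u} [CommRing B] [Algebra A B] {d : ℕ}

theorem chi_natDegree_le (F : PolLaw.MulLaw A B A d) (b : B) : (chi F b).natDegree ≤ d := by
  classical
  rw [chi_eq_chiP, chiP_expand]
  refine Polynomial.natDegree_sum_le_of_forall_le _ _ fun K _ => ?_
  refine (Polynomial.natDegree_smul_le _ _).trans ?_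
  rw [neg_X_pow]
  refine (Polynomial.natDegree_C_mul_le _ _).trans ?_
  refine (Polynomial.natDegree_X_pow_le _).trans ?_
  omega

theorem eval_chi_eq_zero {C : Type u} [CommRing C] [Algebra A C] (G : PolLaw.MulLaw A C A d)
    (hG : PolLaw.ker G.law = ⊥) (K : Type u) [Field K] [Algebra A K]
    (Y : K[X] ⊗[A] C) (D : Type u) [CommRing D] [IsDomain D] [Algebra A D] (φ : K →ₐ[A] D)
    (g : C →ₐ[A] D[X]) (r : K[X])
    (hπ : Algebra.TensorProduct.productMap (Polynomial.mapAlgHom φ) g Y = r.map (φ : K →+* D)) :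
    (chi (bc K[X] G) Y).eval r = 0 := by
  have hCH : aeval Y (chi (bc K[X] G) Y) ∈ PolLaw.ker (bc K[X] G).law :=
    aeval_chi_mem_ker (bc K[X] G) Y
  have hnil : IsNilpotent (aeval Y (chi (bc K[X] G) Y)) := by
    rw [ker_bc] at hCH
    have := pow_mem_of_mem_kerBC K[X] G (fun n => kerBC_mvPolynomial_le G.law n) _ hCH
    rw [hG, Ideal.map_bot, Ideal.mem_bot] at this
    exact ⟨d, this⟩
  let π : K[X] ⊗[A] C →ₐ[A] D[X] := Algebra.TensorProduct.productMap (Polynomial.mapAlgHom φ) g
  have h0 : π (aeval Y (chi (bc K[X] G) Y)) = 0 := (hnil.map π).eq_zero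
  rw [aeval_def] at h0
  have h1 := Polynomial.hom_eval₂ (chi (bc K[X] G) Y) (algebraMap K[X] (K[X] ⊗[A] C))
    (π : K[X] ⊗[A] C →+* D[X]) Y
  rw [RingHom.coe_coe] at h1
  rw [h1] at h0
  have h2 : (π : K[X] ⊗[A] C →+* D[X]).comp (algebraMap K[X] (K[X] ⊗[A] C)) =
      Polynomial.mapRingHom (φ : K →+* D) := by
    ext p
    · simp [π, Algebra.TensorProduct.algebraMap_apply]
    · simp [π, Algebra.TensorProduct.algebraMap_apply]
  have h3 : π Y = Polynomial.mapRingHom (φ : K →+* D) r := hπ
  rw [h2, h3] at h0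
  have h4 := Polynomial.hom_eval₂ (chi (bc K[X] G) Y) (RingHom.id K[X])
    (Polynomial.mapRingHom (φ : K →+* D)) r
  rw [RingHom.comp_id, Polynomial.eval₂_id] at h4
  rw [← h4] at h0
  have hinj : Function.Injective (Polynomial.mapRingHom (φ : K →+* D)) :=
    Polynomial.map_injective _ (φ : K →+* D).injective
  exact hinj (h0.trans (map_zero _).symm)

theorem eval_chi_X_pow_eq_zero {Q : Type u} [CommRing Q] [Algebra A Q]
    (G : PolLaw.MulLaw A Q A d) (hG : PolLaw.ker G.law = ⊥) (K : Type u) [Field K] [Algebra A K]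
    (T : Type u) [CommRing T] [Algebra A T] (e : K ⊗[A] Q →ₐ[A] T) (I : Ideal T) [I.IsPrime]
    {n : ℕ} (y : Fin n → K ⊗[A] Q) (j : Fin n)
    (hy : ∀ i, Ideal.Quotient.mk I (e (y i)) = if i = j then 1 else 0) :
    (chi (bc K[X] G) (∑ i : Fin n, (((X : K[X]) ^ (i : ℕ)) ⊗ₜ[A] 1) *
      (Algebra.TensorProduct.map (IsScalarTower.toAlgHom A K K[X]) (AlgHom.id A Q) (y i)))).eval
        ((X : K[X]) ^ (j : ℕ)) = 0 := by
  classical
  let φ : K →ₐ[A] T ⧸ I :=
    (Ideal.Quotient.mkₐ A I).comp (e.comp Algebra.TensorProduct.includeLeft)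
  let g : Q →ₐ[A] (T ⧸ I)[X] :=
    (IsScalarTower.toAlgHom A (T ⧸ I) (T ⧸ I)[X]).comp
      ((Ideal.Quotient.mkₐ A I).comp (e.comp Algebra.TensorProduct.includeRight))
  apply eval_chi_eq_zero G hG K _ (T ⧸ I) φ g
  have hι : ∀ t : K ⊗[A] Q,
      Algebra.TensorProduct.productMap (Polynomial.mapAlgHom φ) g
        (Algebra.TensorProduct.map (IsScalarTower.toAlgHom A K K[X]) (AlgHom.id A Q) t) =
        Polynomial.C (Ideal.Quotient.mk I (e t)) := by
    intro t
    induction t using TensorProduct.induction_on with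
    | zero => simp
    | add a b ha hb => simp only [map_add, ha, hb]
    | tmul k c =>
      simp only [φ, g, Algebra.TensorProduct.map_tmul, Algebra.TensorProduct.productMap_apply_tmul,
        IsScalarTower.coe_toAlgHom', AlgHom.id_apply, AlgHom.coe_comp, Function.comp_apply,
        Polynomial.algebraMap_eq, Polynomial.coe_mapAlgHom, Polynomial.map_C,
        Ideal.Quotient.mkₐ_eq_mk, Algebra.TensorProduct.includeLeft_apply,
        Algebra.TensorProduct.includeRight_apply, AlgHom.coe_toRingHom]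
      rw [← C_mul, ← map_mul, ← map_mul, Algebra.TensorProduct.tmul_mul_tmul, mul_one, one_mul]
  simp only [map_sum, map_mul, hι, hy]
  rw [Finset.sum_eq_single j]
  · simp [Algebra.TensorProduct.productMap_apply_tmul]
  · intro i _ hij
    rw [if_neg hij]
    simp
  · intro h
    exact absurd (Finset.mem_univ j) h

theorem fibre_not_injective (F : PolLaw.MulLaw A B A d) (K : Type u) [Field K] [Algebra A K]
    (f : Fin (d + 1) → PrimeSpectrum (K ⊗[A] PolLaw.image F.law)) : ¬ Function.Injective f := by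
  classical
  intro hf
  let G : PolLaw.MulLaw A (PolLaw.image F.law) A d := quot F (le_refl (PolLaw.ker F.law))
  have hG : PolLaw.ker G.law = ⊥ := ker_quot F
  have hintC : Algebra.IsIntegral A (PolLaw.image F.law) := isIntegral_image F
  have hintT : Algebra.IsIntegral K (K ⊗[A] PolLaw.image F.law) := inferInstance
  have hmax : ∀ j, (f j).asIdeal.IsMaximal := by
    intro j
    have hp := (f j).isPrime
    apply Ideal.isMaximal_of_isIntegral_of_isMaximal_comap (R := K) (f j).asIdeal
    have hp' : ((f j).asIdeal.comap (algebraMap K (K ⊗[A] PolLaw.image F.law))).IsPrime :=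
      Ideal.comap_isPrime _ _
    rw [Ideal.eq_bot_of_prime ((f j).asIdeal.comap (algebraMap K (K ⊗[A] PolLaw.image F.law)))]
    exact Ideal.bot_isMaximal
  have hcop : Pairwise (Function.onFun IsCoprime fun j => (f j).asIdeal) := by
    intro i j hij
    rw [Function.onFun, Ideal.isCoprime_iff_sup_eq]
    exact Ideal.IsMaximal.coprime_of_ne (hmax i) (hmax j)
      (fun h => hij (hf (PrimeSpectrum.ext h)))
  have hy : ∀ j : Fin (d + 1), ∃ y : K ⊗[A] PolLaw.image F.law, ∀ i,
      (Ideal.Quotient.mk (f i).asIdeal y) = if i = j then 1 else 0 := fun j =>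
    Ideal.pi_quotient_surjective hcop (fun i => if i = j then 1 else 0)
  choose y hy using hy
  have hroot : ∀ j : Fin (d + 1), (chi (bc K[X] G)
      (∑ i : Fin (d + 1), (((X : K[X]) ^ (i : ℕ)) ⊗ₜ[A] 1) *
        (Algebra.TensorProduct.map (IsScalarTower.toAlgHom A K K[X])
          (AlgHom.id A (PolLaw.image F.law)) (y i)))).eval ((X : K[X]) ^ (j : ℕ)) = 0 := by
    intro j
    have hp := (f j).isPrime
    exact eval_chi_X_pow_eq_zero G hG K (K ⊗[A] PolLaw.image F.law) (AlgHom.id A _)
      (f j).asIdeal y j (fun i => by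
        rw [AlgHom.id_apply, hy i j]
        exact if_congr eq_comm rfl rfl)
  set Y : K[X] ⊗[A] PolLaw.image F.law := ∑ i : Fin (d + 1), (((X : K[X]) ^ (i : ℕ)) ⊗ₜ[A] 1) *
        (Algebra.TensorProduct.map (IsScalarTower.toAlgHom A K K[X])
          (AlgHom.id A (PolLaw.image F.law)) (y i)) with hY
  have hmonic : ((-1 : K[X]) ^ d • chi (bc K[X] G) Y).Monic := chi_monic (bc K[X] G) Y
  have hdeg : ((-1 : K[X]) ^ d • chi (bc K[X] G) Y).natDegree ≤ d :=
    (Polynomial.natDegree_smul_le _ _).trans (chi_natDegree_le (bc K[X] G) Y)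
  let Z : Finset K[X] := Finset.image (fun j : Fin (d + 1) => (X : K[X]) ^ (j : ℕ)) Finset.univ
  have hZcard : Z.card = d + 1 := by
    rw [Finset.card_image_of_injective, Finset.card_univ, Fintype.card_fin]
    intro i j hij
    have := congrArg Polynomial.natDegree hij
    simp only [natDegree_X_pow] at this
    exact Fin.ext this
  have hZroots : Z.val ⊆ ((-1 : K[X]) ^ d • chi (bc K[X] G) Y).roots := by
    intro z hz
    rw [Finset.mem_val, Finset.mem_image] at hz
    obtain ⟨j, -, rfl⟩ := hz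
    rw [Polynomial.mem_roots hmonic.ne_zero, Polynomial.IsRoot, Polynomial.eval_smul, hroot j,
      smul_zero]
  have := Polynomial.card_le_degree_of_subset_roots hZroots
  omega

end Groth.Agent.Lib.Helper32.PolLawFibre
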