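import Groth.Agent.Lib.Helper32.PolLawFibre
import Mathlib.FieldTheory.SeparableDegree
import Mathlib.RingTheory.LocalRing.ResidueField.Ideal

set_option autoImplicit false
universe u
open scoped TensorProduct

namespace Groth.Agent.Lib.Helper32.PolLawField

open Groth.Agent.Lib.Helper32.PolLawCH Groth.Agent.Lib.Helper32.PolLawFibre

variable {k : Type u} [Field k] {B : Type u} [CommRing B] [Algebra k B] {d : ℕ}

theorem spec_image_not_injective (F : PolLaw.MulLaw k B k d)
    (f : Fin (d + 1) → PrimeSpectrum (PolLaw.image F.law)) : ¬ Function.Injective f := by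
  intro hf
  let e : k ⊗[k] PolLaw.image F.law →+* PolLaw.image F.law :=
    (Algebra.TensorProduct.lid k (PolLaw.image F.law) : k ⊗[k] PolLaw.image F.law →+* PolLaw.image F.law)
  have he : Function.Surjective e := (Algebra.TensorProduct.lid k (PolLaw.image F.law)).surjective
  exact fibre_not_injective F k (fun i => PrimeSpectrum.comap e (f i))
    (fun i j hij => hf (PrimeSpectrum.comap_injective_of_surjective e he hij))

theorem isMaximal_of_prime (F : PolLaw.MulLaw k B k d) (P : PrimeSpectrum (PolLaw.image F.law)) :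
    P.asIdeal.IsMaximal := by
  have hint : Algebra.IsIntegral k (PolLaw.image F.law) := isIntegral_image F
  have hp := P.isPrime
  apply Ideal.isMaximal_of_isIntegral_of_isMaximal_comap (R := k) P.asIdeal
  have hp' : (P.asIdeal.comap (algebraMap k (PolLaw.image F.law))).IsPrime :=
    Ideal.comap_isPrime _ _
  rw [Ideal.eq_bot_of_prime (P.asIdeal.comap (algebraMap k (PolLaw.image F.law)))]
  exact Ideal.bot_isMaximal

theorem finite_emb (F : PolLaw.MulLaw k B k d) (P : PrimeSpectrum (PolLaw.image F.law)) :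
    Finite (Field.Emb k P.asIdeal.ResidueField) := by
  have hp := P.isPrime
  refine (finite_card_le_of_no_inj d ?_).1
  intro f hf
  let Ω := AlgebraicClosure P.asIdeal.ResidueField
  let ρ : (P.asIdeal.ResidueField →ₐ[k] Ω) → (Ω ⊗[k] PolLaw.image F.law →ₐ[k] Ω) := fun σ =>
    Algebra.TensorProduct.productMap (AlgHom.id k Ω)
      (σ.comp (IsScalarTower.toAlgHom k (PolLaw.image F.law) P.asIdeal.ResidueField))
  let Ψ : (P.asIdeal.ResidueField →ₐ[k] Ω) → PrimeSpectrum (Ω ⊗[k] PolLaw.image F.law) :=
    fun σ => ⟨RingHom.ker (ρ σ), RingHom.ker_isPrime (ρ σ)⟩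
  have hΨ : Function.Injective Ψ := by
    intro σ τ h
    have hker : RingHom.ker (ρ σ) = RingHom.ker (ρ τ) := congrArg PrimeSpectrum.asIdeal h
    apply Ideal.ResidueField.algHom_ext
    apply AlgHom.ext
    intro c
    have hz : (1 : Ω) ⊗ₜ[k] c - (σ (algebraMap (PolLaw.image F.law) P.asIdeal.ResidueField c)) ⊗ₜ[k]
        (1 : PolLaw.image F.law) ∈ RingHom.ker (ρ σ) := by
      rw [RingHom.mem_ker, map_sub]
      simp [ρ]
    rw [hker, RingHom.mem_ker, map_sub] at hz
    simp only [ρ, Algebra.TensorProduct.productMap_apply_tmul, AlgHom.id_apply, map_one, one_mul,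
      mul_one, AlgHom.comp_apply, IsScalarTower.coe_toAlgHom', sub_eq_zero] at hz
    simp only [AlgHom.comp_apply, IsScalarTower.coe_toAlgHom']
    exact hz.symm
  exact fibre_not_injective F Ω (fun i => Ψ (f i)) (fun i j hij => hf (hΨ hij))

end Groth.Agent.Lib.Helper32.PolLawField
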