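import Groth.Agent.Lib.Helper32.PolLawGammaGen

set_option autoImplicit false
universe u
open scoped TensorProduct

namespace Groth.Agent.Lib.Helper32.PolLawGammaApp

open Groth.Agent.Lib.Helper32.PolLawBasic Groth.Agent.Lib.Helper32.PolLawFactorC
  Groth.Agent.Lib.Helper32.PolLawGammaGen MvPolynomial

variable {A : Type u} [CommRing A]

theorem cfC_lTensor {ι : Type u} {C C' : Type u} [CommRing C] [Algebra A C] [CommRing C']
    [Algebra A C'] (g : C →ₗ[A] C') (ν : ι →₀ ℕ) (Φ : MvPolynomial ι A ⊗[A] C) :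
    cfC ν (g.lTensor (MvPolynomial ι A) Φ) = g (cfC ν Φ) := by
  induction Φ using TensorProduct.induction_on with
  | zero => simp
  | add x y hx hy => simp only [map_add, hx, hy]
  | tmul p c => simp

variable {B : Type u} [CommRing B] [Algebra A B] {B' : Type u} [CommRing B'] [Algebra A B']
  {C : Type u} [CommRing C] [Algebra A C] {C' : Type u} [CommRing C'] [Algebra A C'] {d : ℕ}

theorem surjective_of_isGammaD (γ : PolLaw.MulLaw A B C d) (γ' : PolLaw.MulLaw A B' C' d)
    (hγ' : PolLaw.IsGammaD γ') (π : B →ₐ[A] B') (hπ : Function.Surjective π) (φ : C →ₐ[A] C')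
    (hφ : PolLaw.postcomp φ.toLinearMap γ.law = (γ'.precomp π).law) :
    Function.Surjective φ := by
  rw [← AlgHom.range_eq_top, eq_top_iff, ← Mgen_eq_top γ' hγ', Mgen]
  apply Algebra.adjoin_le
  rintro c' ⟨σ, y', ν, rfl⟩
  have hsurj : Function.Surjective (Algebra.TensorProduct.map
      (AlgHom.id (MvPolynomial σ A) (MvPolynomial σ A)) π) := by
    have := LinearMap.lTensor_surjective (R := A) (MvPolynomial σ A) (g := π.toLinearMap) hπ
    intro y
    obtain ⟨z, hz⟩ := this y
    exact ⟨z, by rw [← hz, PolLaw.lTensor_algHom_apply]⟩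
  obtain ⟨y, rfl⟩ := hsurj y'
  rw [← mulLaw_precomp_toFun', ← hφ]
  show cfC ν (φ.toLinearMap.lTensor _ (γ.law.toFun' _ y)) ∈ _
  rw [cfC_lTensor]
  exact ⟨_, rfl⟩

end Groth.Agent.Lib.Helper32.PolLawGammaApp
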