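import Groth.Agent.Lib.Helper32.PolLawGammaApp
import Groth.Agent.Lib.Helper32.PolLawCoeff
import Groth.Agent.Lib.Helper32.PolLawColim

set_option autoImplicit false
universe u
open scoped TensorProduct

namespace Groth.Agent.Lib.Helper32.PolLawGammaFin

open Groth.Agent.Lib.Helper32.PolLawBasic Groth.Agent.Lib.Helper32.PolLawFactorC
  Groth.Agent.Lib.Helper32.PolLawGammaGen Groth.Agent.Lib.Helper32.PolLawCoeff MvPolynomial

variable {A : Type u} [CommRing A] {B : Type u} [CommRing B] [Algebra A B]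
  {C : Type u} [CommRing C] [Algebra A C] {d : ℕ}

theorem cfC_one_tmul_mul {ι : Type*} (ν : ι →₀ ℕ) (c : C) (Φ : MvPolynomial ι A ⊗[A] C) :
    cfC ν (((1 : MvPolynomial ι A) ⊗ₜ[A] c) * Φ) = c * cfC ν Φ := by
  induction Φ using TensorProduct.induction_on with
  | zero => simp
  | add x y hx hy => simp only [mul_add, map_add, hx, hy]
  | tmul p c' =>
    rw [Algebra.TensorProduct.tmul_mul_tmul, one_mul, cfC_tmul, cfC_tmul, mul_smul_comm]

section N

variable (γ : PolLaw.MulLaw A B C d) {m : ℕ} (e : Fin m → B)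

noncomputable def genE : MvPolynomial (Fin m) A ⊗[A] B :=
  ∑ j, (X j : MvPolynomial (Fin m) A) ⊗ₜ[A] e j

noncomputable def U : MvPolynomial (Fin m) A ⊗[A] C :=
  γ.law.toFun' (MvPolynomial (Fin m) A) (genE e)

noncomputable def Nspan : Submodule A C :=
  Submodule.span A (Set.range fun μ : Fin m →₀ ℕ => cfC μ (U γ e))

theorem Nspan_fg : (Nspan γ e).FG := by
  classical
  obtain ⟨N₀, hN₀⟩ := PolLawFactorC.exists_expand (U γ e)
  have hzero : ∀ μ, μ ∉ N₀ → cfC μ (U γ e) = 0 := by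
    intro μ hμ
    have h1 := hN₀ N₀ (Finset.Subset.refl _)
    have h2 := congrArg (cfC (A := A) μ) h1
    rw [map_sum] at h2
    simp only [cfC_mnC] at h2
    rw [h2]
    exact Finset.sum_eq_zero fun ν hν => by
      rw [if_neg]
      rintro rfl
      exact hμ hν
  have : Nspan γ e = Submodule.span A (↑(N₀.image fun μ => cfC μ (U γ e)) : Set C) := by
    apply le_antisymm
    · rw [Nspan, Submodule.span_le]
      rintro _ ⟨μ, rfl⟩
      by_cases hμ : μ ∈ N₀
      · exact Submodule.subset_span (Finset.mem_coe.mpr (Finset.mem_image_of_mem _ hμ))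
      · simp only [hzero μ hμ]
        exact Submodule.zero_mem _
    · rw [Submodule.span_le]
      intro c hc
      rw [Finset.mem_coe, Finset.mem_image] at hc
      obtain ⟨μ, -, rfl⟩ := hc
      exact Submodule.subset_span ⟨μ, rfl⟩
  rw [this]
  exact Submodule.fg_span (Finset.finite_toSet _)

noncomputable def SN (S : Type u) [CommSemiring S] [Algebra A S] : Submodule A (S ⊗[A] C) :=
  LinearMap.range ((Nspan γ e).subtype.lTensor S)

theorem tmul_mem_SN (S : Type u) [CommSemiring S] [Algebra A S] (s : S) (c : C)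
    (hc : c ∈ Nspan γ e) : s ⊗ₜ[A] c ∈ SN γ e S :=
  ⟨s ⊗ₜ[A] ⟨c, hc⟩, rfl⟩

theorem law_mem_SN (he : ⊤ ≤ Submodule.span A (Set.range e)) (S : Type u) [CommRing S]
    [Algebra A S] (x : S ⊗[A] B) : γ.law.toFun' S x ∈ SN γ e S := by
  classical
  obtain ⟨s, rfl⟩ := PolLawColim.exists_repr_span e he x
  have h1 : Algebra.TensorProduct.map (aeval s : MvPolynomial (Fin m) A →ₐ[A] S) (AlgHom.id A B)
      (genE e) = ∑ k, s k ⊗ₜ[A] e k := by
    simp [genE]
  rw [← h1, compat]
  obtain ⟨N₀, hN₀⟩ := PolLawFactorC.exists_expand (U γ e)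
  change Algebra.TensorProduct.map _ _ (U γ e) ∈ _
  rw [hN₀ N₀ (Finset.Subset.refl _), map_sum]
  refine Submodule.sum_mem _ fun μ _ => ?_
  rw [mnC_apply, Algebra.TensorProduct.map_tmul, AlgHom.id_apply]
  exact tmul_mem_SN γ e S _ _ (Submodule.subset_span ⟨μ, rfl⟩)

theorem lin_mem_of_mem_SN (S : Type u) [CommSemiring S] [Algebra A S] (ℓ : S →ₗ[A] A)
    (Φ : S ⊗[A] C) (hΦ : Φ ∈ SN γ e S) :
    TensorProduct.lid A C (ℓ.rTensor C Φ) ∈ Nspan γ e := by
  obtain ⟨w, rfl⟩ := hΦ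
  induction w using TensorProduct.induction_on with
  | zero => simp
  | add x y hx hy =>
    rw [map_add, map_add, map_add]
    exact Submodule.add_mem _ hx hy
  | tmul p n =>
    rw [LinearMap.lTensor_tmul, LinearMap.rTensor_tmul, TensorProduct.lid_tmul]
    exact Submodule.smul_mem _ _ n.2

theorem cfC_mem_of_mem_SN {ι : Type u} (ν : ι →₀ ℕ) (Φ : MvPolynomial ι A ⊗[A] C)
    (hΦ : Φ ∈ SN γ e (MvPolynomial ι A)) : cfC ν Φ ∈ Nspan γ e :=
  lin_mem_of_mem_SN γ e (MvPolynomial ι A) (MvPolynomial.lcoeff A ν) Φ hΦ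

theorem one_mem_Nspan (he : ⊤ ≤ Submodule.span A (Set.range e)) : (1 : C) ∈ Nspan γ e := by
  have h1 := law_mem_SN γ e he A (1 : A ⊗[A] B)
  rw [(γ.mult A).1] at h1
  have h2 := lin_mem_of_mem_SN γ e A LinearMap.id 1 h1
  rw [Algebra.TensorProduct.one_def, LinearMap.rTensor_tmul, TensorProduct.lid_tmul,
    LinearMap.id_apply, one_smul] at h2
  exact h2

end N

section Jn

noncomputable def jn {σ : Type*} (μ μ' : σ →₀ ℕ) : σ ⊕ σ →₀ ℕ :=
  μ.mapDomain Sum.inl + μ'.mapDomain Sum.inr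

theorem jn_inl {σ : Type*} (μ μ' : σ →₀ ℕ) (j : σ) : jn μ μ' (Sum.inl j) = μ j := by
  rw [jn, Finsupp.add_apply, Finsupp.mapDomain_apply Sum.inl_injective,
    Finsupp.mapDomain_of_notMem_range _ _ (by simp), add_zero]

theorem jn_inr {σ : Type*} (μ μ' : σ →₀ ℕ) (j : σ) : jn μ μ' (Sum.inr j) = μ' j := by
  rw [jn, Finsupp.add_apply, Finsupp.mapDomain_apply Sum.inr_injective,
    Finsupp.mapDomain_of_notMem_range _ _ (by simp), zero_add]

theorem jn_inj {σ : Type*} {μ μ' ν ν' : σ →₀ ℕ} : jn ν ν' = jn μ μ' ↔ ν = μ ∧ ν' = μ' := by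
  constructor
  · intro h
    constructor
    · ext j
      have := DFunLike.congr_fun h (Sum.inl j)
      rwa [jn_inl, jn_inl] at this
    · ext j
      have := DFunLike.congr_fun h (Sum.inr j)
      rwa [jn_inr, jn_inr] at this
  · rintro ⟨rfl, rfl⟩
    rfl

theorem coeff_rename_mul {σ : Type*} (μ μ' : σ →₀ ℕ) (p q : MvPolynomial σ A) :
    coeff (jn μ μ') (rename Sum.inl p * rename Sum.inr q) = coeff μ p * coeff μ' q := by
  classical
  induction p using MvPolynomial.induction_on' with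
  | add p₁ p₂ h₁ h₂ => rw [map_add, add_mul, coeff_add, h₁, h₂, coeff_add, add_mul]
  | monomial ν a =>
    induction q using MvPolynomial.induction_on' with
    | add q₁ q₂ h₁ h₂ => rw [map_add, mul_add, coeff_add, h₁, h₂, coeff_add, mul_add]
    | monomial ν' b =>
      rw [rename_monomial, rename_monomial, monomial_mul, coeff_monomial, coeff_monomial,
        coeff_monomial]
      change (if jn ν ν' = jn μ μ' then _ else _) = _
      by_cases h : ν = μ
      · by_cases h' : ν' = μ'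
        · rw [if_pos (jn_inj.mpr ⟨h, h'⟩), if_pos h, if_pos h']
        · rw [if_neg (fun hh => h' (jn_inj.mp hh).2), if_neg h', mul_zero]
      · rw [if_neg (fun hh => h (jn_inj.mp hh).1), if_neg h, zero_mul]

theorem cfC_rename_mul {σ : Type*} (μ μ' : σ →₀ ℕ) (Φ Ψ : MvPolynomial σ A ⊗[A] C) :
    cfC (jn μ μ') (Algebra.TensorProduct.map (rename Sum.inl) (AlgHom.id A C) Φ *
      Algebra.TensorProduct.map (rename Sum.inr) (AlgHom.id A C) Ψ) = cfC μ Φ * cfC μ' Ψ := by
  induction Φ using TensorProduct.induction_on with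
  | zero => simp
  | add x y hx hy => rw [map_add, add_mul, map_add, hx, hy, map_add, add_mul]
  | tmul p c =>
    induction Ψ using TensorProduct.induction_on with
    | zero => simp
    | add x y hx hy => rw [map_add, mul_add, map_add, hx, hy, map_add, mul_add]
    | tmul q c' =>
      rw [Algebra.TensorProduct.map_tmul, Algebra.TensorProduct.map_tmul,
        Algebra.TensorProduct.tmul_mul_tmul, cfC_tmul, cfC_tmul, cfC_tmul, coeff_rename_mul,
        AlgHom.id_apply, AlgHom.id_apply, smul_mul_smul_comm]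

end Jn

section N2

variable (γ : PolLaw.MulLaw A B C d) {m : ℕ} (e : Fin m → B)

theorem mul_mem_Nspan_gen (he : ⊤ ≤ Submodule.span A (Set.range e)) (μ μ' : Fin m →₀ ℕ) :
    cfC μ (U γ e) * cfC μ' (U γ e) ∈ Nspan γ e := by
  have h1 := law_mem_SN γ e he (MvPolynomial (Fin m ⊕ Fin m) A)
    (Algebra.TensorProduct.map (rename Sum.inl) (AlgHom.id A B) (genE e) *
      Algebra.TensorProduct.map (rename Sum.inr) (AlgHom.id A B) (genE e))
  rw [(γ.mult _).2, compat, compat] at h1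
  have h2 := lin_mem_of_mem_SN γ e (MvPolynomial (Fin m ⊕ Fin m) A)
    (MvPolynomial.lcoeff A (jn μ μ')) _ h1
  change cfC (jn μ μ') _ ∈ _ at h2
  rw [cfC_rename_mul] at h2
  exact h2

theorem mul_mem_Nspan (he : ⊤ ≤ Submodule.span A (Set.range e)) {x y : C}
    (hx : x ∈ Nspan γ e) (hy : y ∈ Nspan γ e) : x * y ∈ Nspan γ e := by
  have : Nspan γ e * Nspan γ e ≤ Nspan γ e := by
    rw [Nspan, Submodule.span_mul_span, Submodule.span_le]
    rintro _ ⟨_, ⟨μ, rfl⟩, _, ⟨μ', rfl⟩, rfl⟩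
    exact mul_mem_Nspan_gen γ e he μ μ'
  exact this (Submodule.mul_mem_mul hx hy)

noncomputable def Nalg (he : ⊤ ≤ Submodule.span A (Set.range e)) : Subalgebra A C :=
  Submodule.toSubalgebra (Nspan γ e) (one_mem_Nspan γ e he)
    (fun _ _ hx hy => mul_mem_Nspan γ e he hx hy)

theorem coefSet_subset (he : ⊤ ≤ Submodule.span A (Set.range e)) :
    CoefSet γ.law ⊆ Nspan γ e := by
  rintro c ⟨σ, y, ν, rfl⟩
  exact cfC_mem_of_mem_SN γ e ν _ (law_mem_SN γ e he _ y)

end N2

theorem exists_fg_subalgebra (γ : PolLaw.MulLaw A B C d) [Module.Finite A B] :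
    ∃ N : Subalgebra A C, N.toSubmodule.FG ∧ CoefSet γ.law ⊆ N := by
  obtain ⟨m, e, he⟩ := Module.Finite.exists_fin (R := A) (M := B)
  refine ⟨Nalg γ e he.ge, ?_, ?_⟩
  · have : (Nalg γ e he.ge).toSubmodule = Nspan γ e := rfl
    rw [this]
    exact Nspan_fg γ e
  · exact coefSet_subset γ e he.ge

theorem finite_of_isGammaD (γ : PolLaw.MulLaw A B C d) (hγ : PolLaw.IsGammaD γ)
    [Module.Finite A B] : Module.Finite A C := by
  obtain ⟨N, hN, hsub⟩ := exists_fg_subalgebra γ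
  have h1 : Mgen γ.law ≤ N := Algebra.adjoin_le hsub
  rw [Mgen_eq_top γ hγ] at h1
  have h2 : N = ⊤ := top_le_iff.mp h1
  rw [Module.finite_def, ← Algebra.top_toSubmodule, ← h2]
  exact hN

section Integral

variable (γ : PolLaw.MulLaw A B C d)

theorem exists_fg_lift (S : Type u) [CommSemiring S] [Algebra A S] (y : S ⊗[A] B) :
    ∃ (s : Finset B) (y₁ : S ⊗[A] (Algebra.adjoin A (s : Set B))),
      (Algebra.adjoin A (s : Set B)).val.toLinearMap.lTensor S y₁ = y := by
  classical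
  induction y using TensorProduct.induction_on with
  | zero => exact ⟨∅, 0, map_zero _⟩
  | tmul p b =>
    exact ⟨{b}, p ⊗ₜ[A] ⟨b, Algebra.subset_adjoin (by simp)⟩, rfl⟩
  | add x y hx hy =>
    obtain ⟨s₁, x₁, rfl⟩ := hx
    obtain ⟨s₂, y₂, rfl⟩ := hy
    have i₁ : Algebra.adjoin A (s₁ : Set B) ≤ Algebra.adjoin A ((s₁ ∪ s₂ : Finset B) : Set B) :=
      Algebra.adjoin_mono (by simp)
    have i₂ : Algebra.adjoin A (s₂ : Set B) ≤ Algebra.adjoin A ((s₁ ∪ s₂ : Finset B) : Set B) :=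
      Algebra.adjoin_mono (by simp)
    refine ⟨s₁ ∪ s₂, (Subalgebra.inclusion i₁).toLinearMap.lTensor S x₁ +
      (Subalgebra.inclusion i₂).toLinearMap.lTensor S y₂, ?_⟩
    have e₁ : (Algebra.adjoin A ((s₁ ∪ s₂ : Finset B) : Set B)).val.toLinearMap ∘ₗ
        (Subalgebra.inclusion i₁).toLinearMap = (Algebra.adjoin A (s₁ : Set B)).val.toLinearMap := by
      rw [← AlgHom.comp_toLinearMap, Subalgebra.val_comp_inclusion]
    have e₂ : (Algebra.adjoin A ((s₁ ∪ s₂ : Finset B) : Set B)).val.toLinearMap ∘ₗ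
        (Subalgebra.inclusion i₂).toLinearMap = (Algebra.adjoin A (s₂ : Set B)).val.toLinearMap := by
      rw [← AlgHom.comp_toLinearMap, Subalgebra.val_comp_inclusion]
    rw [map_add, ← LinearMap.comp_apply, ← LinearMap.comp_apply, ← LinearMap.lTensor_comp,
      ← LinearMap.lTensor_comp, e₁, e₂]

theorem precomp_toFun' {B' : Type u} [CommRing B'] [Algebra A B'] (f : B' →ₐ[A] B)
    (S : Type u) [CommSemiring S] [Algebra A S] (y : S ⊗[A] B') :
    (γ.precomp f).law.toFun' S y = γ.law.toFun' S (f.toLinearMap.lTensor S y) := rfl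

theorem isIntegral_of_mem_coefSet [Algebra.IsIntegral A B] {c : C} (hc : c ∈ CoefSet γ.law) :
    IsIntegral A c := by
  obtain ⟨σ, y, ν, rfl⟩ := hc
  obtain ⟨s, y₁, rfl⟩ := exists_fg_lift (MvPolynomial σ A) y
  have hfg : (Algebra.adjoin A (s : Set B)).toSubmodule.FG :=
    fg_adjoin_of_finite s.finite_toSet fun x _ => Algebra.IsIntegral.isIntegral x
  have hfin : Module.Finite A (Algebra.adjoin A (s : Set B)) :=
    Module.Finite.iff_fg.mpr hfg
  obtain ⟨N, hN, hsub⟩ := exists_fg_subalgebra (γ.precomp (Algebra.adjoin A (s : Set B)).val)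
  refine IsIntegral.of_mem_of_fg N hN _ (hsub ⟨σ, y₁, ν, ?_⟩)
  rw [precomp_toFun']

theorem isIntegral_of_isGammaD (hγ : PolLaw.IsGammaD γ) [Algebra.IsIntegral A B] :
    Algebra.IsIntegral A C := by
  have h1 : Mgen γ.law ≤ integralClosure A C :=
    Algebra.adjoin_le fun c hc => isIntegral_of_mem_coefSet γ hc
  rw [Mgen_eq_top γ hγ] at h1
  exact ⟨fun x => h1 (Algebra.mem_top)⟩

end Integral

end Groth.Agent.Lib.Helper32.PolLawGammaFin
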