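import Groth.Agent.Lib.Helper32.PolLawBCC
import Groth.Agent.Lib.Helper32.PolLawGammaFin
import Groth.Agent.Lib.Helper32.PolLawFibre

set_option autoImplicit false
universe u
open scoped TensorProduct

namespace Groth.Agent.Lib.Helper32.PolLawGammaFT

open Groth.Agent.Lib.Helper32.PolLawBasic Groth.Agent.Lib.Helper32.PolLawBC
  Groth.Agent.Lib.Helper32.PolLawBCC Groth.Agent.Lib.Helper32.PolLawCH
  Groth.Agent.Lib.Helper32.PolLawFactorC Groth.Agent.Lib.Helper32.PolLawGammaGen

variable {A : Type u} [CommRing A] {B : Type u} [CommRing B] [Algebra A B]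
  {C : Type u} [CommRing C] [Algebra A C] {d : ℕ} (γ : PolLaw.MulLaw A B C d)

noncomputable abbrev Gam : PolLaw.MulLaw C (C ⊗[A] B) C d := bcC C (AlgHom.id A C) γ

section Ev

variable (R : Type u) [CommRing R] [Algebra C R] [Algebra A R] [IsScalarTower A C R]

noncomputable def ev (z : R ⊗[A] B) : R := mu C (AlgHom.id A C) R (γ.law.toFun' R z)

noncomputable def kmap : C ⊗[A] B →ₐ[A] R ⊗[A] B :=
  Algebra.TensorProduct.map (IsScalarTower.toAlgHom A C R) (AlgHom.id A B)

theorem Gam_toFun' (x : R ⊗[C] (C ⊗[A] B)) :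
    (Gam γ).law.toFun' R x = (Algebra.TensorProduct.rid C R R).symm
      (ev γ R (Algebra.TensorProduct.cancelBaseChange A C C R B x)) :=
  bcC_toFun' C (AlgHom.id A C) γ R x

theorem ev_add_mul_kmap (k : C ⊗[A] B) (hk : k ∈ PolLaw.ker (Gam γ).law) (z w : R ⊗[A] B) :
    ev γ R (z + w * kmap R k) = ev γ R z := by
  have h := hk R ((Algebra.TensorProduct.cancelBaseChange A C C R B).symm z)
    ((Algebra.TensorProduct.cancelBaseChange A C C R B).symm w)
  rw [Gam_toFun', Gam_toFun'] at h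
  have h2 := (Algebra.TensorProduct.rid C R R).symm.injective h
  rw [map_add, map_mul, AlgEquiv.apply_symm_apply, AlgEquiv.apply_symm_apply,
    cancel_one_tmul] at h2
  exact h2

theorem ev_add_of_mem_span {n : ℕ} (κ : Fin n → C ⊗[A] B)
    (hκ : ∀ j, κ j ∈ PolLaw.ker (Gam γ).law) (z i : R ⊗[A] B)
    (hi : i ∈ Ideal.span (Set.range fun j => kmap R (κ j))) : ev γ R (z + i) = ev γ R z := by
  classical
  obtain ⟨c, rfl⟩ := (Ideal.mem_span_range_iff_exists_fun).mp hi
  have : ∀ s : Finset (Fin n), ev γ R (z + ∑ j ∈ s, c j * kmap R (κ j)) = ev γ R z := by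
    intro s
    induction s using Finset.induction_on with
    | empty => simp
    | insert a s ha ih =>
      rw [Finset.sum_insert ha, add_comm (c a * _), ← add_assoc, ev_add_mul_kmap γ R _ (hκ a), ih]
  exact this Finset.univ

variable {R}
variable {R' : Type u} [CommRing R'] [Algebra C R'] [Algebra A R'] [IsScalarTower A C R']

theorem ev_map (φ : R →ₐ[C] R') (z : R ⊗[A] B) :
    ev γ R' (Algebra.TensorProduct.map (φ.restrictScalars A) (AlgHom.id A B) z) =
      φ (ev γ R z) := by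
  rw [ev, compat, mu_map, ev]

theorem map_kmap (φ : R →ₐ[C] R') (t : C ⊗[A] B) :
    Algebra.TensorProduct.map (φ.restrictScalars A) (AlgHom.id A B) (kmap R t) = kmap R' t := by
  have h : (φ.restrictScalars A).comp (IsScalarTower.toAlgHom A C R) =
      IsScalarTower.toAlgHom A C R' := by
    apply AlgHom.ext
    intro c
    simp
  rw [kmap, kmap, map_map_id, h]

end Ev

section Coef

open MvPolynomial

variable (σ : Type u)

noncomputable def iσ : MvPolynomial σ A →ₐ[A] MvPolynomial σ C :=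
  MvPolynomial.aeval (fun i => MvPolynomial.X i)

theorem iσ_eq_map (p : MvPolynomial σ A) :
    iσ (C := C) σ p = MvPolynomial.map (algebraMap A C) p := by
  induction p using MvPolynomial.induction_on with
  | C a => simp [iσ]
  | add p q hp hq => rw [map_add, map_add, hp, hq]
  | mul_X p i hp => rw [map_mul, map_mul, hp]; simp [iσ]

variable {σ}

theorem coeff_mu_map (ν : σ →₀ ℕ) (Φ : MvPolynomial σ A ⊗[A] C) :
    MvPolynomial.coeff ν (mu C (AlgHom.id A C) (MvPolynomial σ C)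
      (Algebra.TensorProduct.map (iσ σ) (AlgHom.id A C) Φ)) = cfC ν Φ := by
  induction Φ using TensorProduct.induction_on with
  | zero => simp
  | add x y hx hy => simp only [map_add, MvPolynomial.coeff_add, hx, hy]
  | tmul p c =>
    rw [Algebra.TensorProduct.map_tmul, mu_tmul, AlgHom.id_apply, AlgHom.id_apply,
      MvPolynomial.algebraMap_eq, mul_comm, MvPolynomial.coeff_C_mul, iσ_eq_map,
      MvPolynomial.coeff_map, cfC_tmul, Algebra.smul_def, mul_comm]

theorem cfC_eq_coeff_ev (y : MvPolynomial σ A ⊗[A] B) (ν : σ →₀ ℕ) :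
    cfC ν (γ.law.toFun' (MvPolynomial σ A) y) =
      MvPolynomial.coeff ν (ev γ (MvPolynomial σ C)
        (Algebra.TensorProduct.map (iσ σ) (AlgHom.id A B) y)) := by
  rw [ev, compat, coeff_mu_map]

end Coef

section Generic

open MvPolynomial Groth.Agent.Lib.Helper32.PolLawProd

variable {m : ℕ} (t : Fin m → C ⊗[A] B)

noncomputable def Egen : MvPolynomial (Fin m) C ⊗[A] B :=
  ∑ k, (X k : MvPolynomial (Fin m) C) • kmap (MvPolynomial (Fin m) C) (t k)

noncomputable def Ugen : MvPolynomial (Fin m) C := ev γ (MvPolynomial (Fin m) C) (Egen t)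

theorem map_smul' {R R' : Type u} [CommRing R] [Algebra A R] [CommRing R'] [Algebra A R']
    (φ : R →ₐ[A] R') (s : R) (z : R ⊗[A] B) :
    Algebra.TensorProduct.map φ (AlgHom.id A B) (s • z) =
      φ s • Algebra.TensorProduct.map φ (AlgHom.id A B) z := by
  rw [smul_eq_tmul_mul, smul_eq_tmul_mul, map_mul, Algebra.TensorProduct.map_tmul, map_one]

theorem ev_sum_smul (R : Type u) [CommRing R] [Algebra C R] [Algebra A R] [IsScalarTower A C R]
    (r : Fin m → R) :
    ev γ R (∑ k, r k • kmap R (t k)) = MvPolynomial.aeval r (Ugen γ t) := by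
  have h := ev_map γ (MvPolynomial.aeval r : MvPolynomial (Fin m) C →ₐ[C] R) (Egen t)
  rw [← Ugen] at h
  rw [← h]
  congr 1
  rw [Egen, map_sum]
  refine Finset.sum_congr rfl fun k _ => ?_
  rw [map_smul', map_kmap, AlgHom.coe_restrictScalars', MvPolynomial.aeval_X]

variable (C₀ : Subalgebra A C)

noncomputable def Nmod : Submodule C₀ C :=
  Submodule.span C₀ (Set.range fun μ : Fin m →₀ ℕ => MvPolynomial.coeff μ (Ugen γ t))

theorem Nmod_fg : (Nmod γ t C₀).FG := by
  classical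
  have : Nmod γ t C₀ = Submodule.span C₀
      (↑((Ugen γ t).support.image fun μ => MvPolynomial.coeff μ (Ugen γ t)) : Set C) := by
    apply le_antisymm
    · rw [Nmod, Submodule.span_le]
      rintro _ ⟨μ, rfl⟩
      by_cases hμ : μ ∈ (Ugen γ t).support
      · exact Submodule.subset_span (Finset.mem_coe.mpr (Finset.mem_image_of_mem _ hμ))
      · simp only [MvPolynomial.notMem_support_iff.mp hμ]
        exact Submodule.zero_mem _
    · rw [Submodule.span_le]
      intro c hc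
      rw [Finset.mem_coe, Finset.mem_image] at hc
      obtain ⟨μ, -, rfl⟩ := hc
      exact Submodule.subset_span ⟨μ, rfl⟩
  rw [this]
  exact Submodule.fg_span (Finset.finite_toSet _)

theorem coeff_aeval_mem {σ : Type u} (r₀ : Fin m → MvPolynomial σ C₀) (ν : σ →₀ ℕ) :
    MvPolynomial.coeff ν (MvPolynomial.aeval
      (fun k => MvPolynomial.map (algebraMap C₀ C) (r₀ k)) (Ugen γ t)) ∈ Nmod γ t C₀ := by
  classical
  rw [MvPolynomial.aeval_def, MvPolynomial.eval₂_eq, MvPolynomial.coeff_sum]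
  refine Submodule.sum_mem _ fun μ _ => ?_
  have h1 : ∏ i ∈ μ.support, (MvPolynomial.map (algebraMap C₀ C) (r₀ i)) ^ μ i =
      MvPolynomial.map (algebraMap C₀ C) (∏ i ∈ μ.support, r₀ i ^ μ i) := by
    rw [map_prod]
    exact Finset.prod_congr rfl fun i _ => (map_pow _ _ _).symm
  rw [h1, MvPolynomial.algebraMap_eq, MvPolynomial.coeff_C_mul, MvPolynomial.coeff_map, mul_comm]
  have h2 : (algebraMap C₀ C) (MvPolynomial.coeff ν (∏ i ∈ μ.support, r₀ i ^ μ i)) *
      MvPolynomial.coeff μ (Ugen γ t) =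
      (MvPolynomial.coeff ν (∏ i ∈ μ.support, r₀ i ^ μ i)) • MvPolynomial.coeff μ (Ugen γ t) := by
    rw [Algebra.smul_def]
  rw [h2]
  exact Submodule.smul_mem _ _ (Submodule.subset_span ⟨μ, rfl⟩)

end Generic

section Reduce

open MvPolynomial Groth.Agent.Lib.Helper32.PolLawProd

variable {m n : ℕ} (t : Fin m → C ⊗[A] B) (κ : Fin n → C ⊗[A] B) (C₀ : Subalgebra A C)

theorem kmap_smul (R : Type u) [CommRing R] [Algebra C R] [Algebra A R] [IsScalarTower A C R]
    (c : C) (z : C ⊗[A] B) : kmap R (c • z) = algebraMap C R c • kmap R z := by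
  rw [kmap, map_smul', IsScalarTower.coe_toAlgHom']

theorem kmap_mem_span (R : Type u) [CommRing R] [Algebra C R] [Algebra A R] [IsScalarTower A C R]
    (i : C ⊗[A] B) (hi : i ∈ Ideal.span (Set.range κ)) :
    kmap R i ∈ Ideal.span (Set.range fun j => kmap R (κ j)) := by
  have h1 := Ideal.mem_map_of_mem (kmap R (A := A) (B := B) (C := C)) hi
  rw [Ideal.map_span] at h1
  have h2 : (kmap R (A := A) (B := B) (C := C)) '' Set.range κ =
      Set.range fun j => kmap R (κ j) := by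
    ext z
    simp
  rw [← h2]
  exact h1

theorem exists_reduce
    (H : ∀ b : B, ∃ c : Fin m → C₀, (1 : C) ⊗ₜ[A] b - ∑ k, (c k : C) • t k ∈
      Ideal.span (Set.range κ))
    {σ : Type u} (y : MvPolynomial σ A ⊗[A] B) :
    ∃ r₀ : Fin m → MvPolynomial σ C₀,
      Algebra.TensorProduct.map (iσ (C := C) σ) (AlgHom.id A B) y -
        ∑ k, MvPolynomial.map (algebraMap C₀ C) (r₀ k) • kmap (MvPolynomial σ C) (t k) ∈
      Ideal.span (Set.range fun j => kmap (MvPolynomial σ C) (κ j)) := by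
  induction y using TensorProduct.induction_on with
  | zero => exact ⟨fun _ => 0, by simp⟩
  | add x y hx hy =>
    obtain ⟨r₁, h₁⟩ := hx
    obtain ⟨r₂, h₂⟩ := hy
    refine ⟨fun k => r₁ k + r₂ k, ?_⟩
    have := Ideal.add_mem _ h₁ h₂
    convert this using 1
    simp only [map_add, add_smul, Finset.sum_add_distrib]
    abel
  | tmul p b =>
    obtain ⟨c, hc⟩ := H b
    refine ⟨fun k => MvPolynomial.map (algebraMap A C₀) p * MvPolynomial.C (c k), ?_⟩
    have h1 := kmap_mem_span κ (MvPolynomial σ C) _ hc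
    have h2 := Ideal.mul_mem_left _
      ((iσ (C := C) σ p) ⊗ₜ[A] (1 : B) : MvPolynomial σ C ⊗[A] B) h1
    convert h2 using 1
    rw [map_sub, map_sum, mul_sub, Finset.mul_sum, Algebra.TensorProduct.map_tmul, AlgHom.id_apply]
    congr 1
    · rw [kmap, Algebra.TensorProduct.map_tmul, map_one, AlgHom.id_apply,
        Algebra.TensorProduct.tmul_mul_tmul, mul_one, one_mul]
    · refine Finset.sum_congr rfl fun k _ => ?_
      rw [kmap_smul, ← smul_eq_tmul_mul, smul_smul, map_mul, MvPolynomial.map_map,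
        ← IsScalarTower.algebraMap_eq, iσ_eq_map, MvPolynomial.map_C,
        MvPolynomial.algebraMap_eq]
      rfl

theorem coefSet_subset_Nmod (hκ : ∀ j, κ j ∈ PolLaw.ker (Gam γ).law)
    (H : ∀ b : B, ∃ c : Fin m → C₀, (1 : C) ⊗ₜ[A] b - ∑ k, (c k : C) • t k ∈
      Ideal.span (Set.range κ)) :
    CoefSet γ.law ⊆ Nmod γ t C₀ := by
  rintro _ ⟨σ, y, ν, rfl⟩
  obtain ⟨r₀, hr₀⟩ := exists_reduce t κ C₀ H y
  rw [cfC_eq_coeff_ev]
  have h1 := ev_add_of_mem_span γ (MvPolynomial σ C) κ hκ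
    (∑ k, MvPolynomial.map (algebraMap C₀ C) (r₀ k) • kmap (MvPolynomial σ C) (t k)) _ hr₀
  rw [add_sub_cancel, ev_sum_smul] at h1
  rw [h1]
  exact coeff_aeval_mem γ t C₀ r₀ ν

end Reduce

section Span

open MvPolynomial

noncomputable def jn2 {σ σ' : Type*} (μ : σ →₀ ℕ) (μ' : σ' →₀ ℕ) : σ ⊕ σ' →₀ ℕ :=
  μ.mapDomain Sum.inl + μ'.mapDomain Sum.inr

theorem jn2_inl {σ σ' : Type*} (μ : σ →₀ ℕ) (μ' : σ' →₀ ℕ) (j : σ) :
    jn2 μ μ' (Sum.inl j) = μ j := by
  rw [jn2, Finsupp.add_apply, Finsupp.mapDomain_apply Sum.inl_injective,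
    Finsupp.mapDomain_of_notMem_range _ _ (by simp), add_zero]

theorem jn2_inr {σ σ' : Type*} (μ : σ →₀ ℕ) (μ' : σ' →₀ ℕ) (j : σ') :
    jn2 μ μ' (Sum.inr j) = μ' j := by
  rw [jn2, Finsupp.add_apply, Finsupp.mapDomain_apply Sum.inr_injective,
    Finsupp.mapDomain_of_notMem_range _ _ (by simp), zero_add]

theorem jn2_inj {σ σ' : Type*} {μ ν : σ →₀ ℕ} {μ' ν' : σ' →₀ ℕ} :
    jn2 ν ν' = jn2 μ μ' ↔ ν = μ ∧ ν' = μ' := by
  constructor
  · intro h
    constructor
    · ext j
      have := DFunLike.congr_fun h (Sum.inl j)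
      rwa [jn2_inl, jn2_inl] at this
    · ext j
      have := DFunLike.congr_fun h (Sum.inr j)
      rwa [jn2_inr, jn2_inr] at this
  · rintro ⟨rfl, rfl⟩
    rfl

theorem coeff_rename_mul2 {σ σ' : Type*} (μ : σ →₀ ℕ) (μ' : σ' →₀ ℕ) (p : MvPolynomial σ A)
    (q : MvPolynomial σ' A) :
    coeff (jn2 μ μ') (rename Sum.inl p * rename Sum.inr q) = coeff μ p * coeff μ' q := by
  classical
  induction p using MvPolynomial.induction_on' with
  | add p₁ p₂ h₁ h₂ => rw [map_add, add_mul, coeff_add, h₁, h₂, coeff_add, add_mul]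
  | monomial ν a =>
    induction q using MvPolynomial.induction_on' with
    | add q₁ q₂ h₁ h₂ => rw [map_add, mul_add, coeff_add, h₁, h₂, coeff_add, mul_add]
    | monomial ν' b =>
      rw [rename_monomial, rename_monomial, monomial_mul, coeff_monomial, coeff_monomial,
        coeff_monomial]
      change (if jn2 ν ν' = jn2 μ μ' then _ else _) = _
      by_cases h : ν = μ
      · by_cases h' : ν' = μ'
        · rw [if_pos (jn2_inj.mpr ⟨h, h'⟩), if_pos h, if_pos h']
        · rw [if_neg (fun hh => h' (jn2_inj.mp hh).2), if_neg h', mul_zero]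
      · rw [if_neg (fun hh => h (jn2_inj.mp hh).1), if_neg h, zero_mul]

theorem cfC_rename_mul2 {σ σ' : Type*} (μ : σ →₀ ℕ) (μ' : σ' →₀ ℕ)
    (Φ : MvPolynomial σ A ⊗[A] C) (Ψ : MvPolynomial σ' A ⊗[A] C) :
    cfC (jn2 μ μ') (Algebra.TensorProduct.map (rename Sum.inl) (AlgHom.id A C) Φ *
      Algebra.TensorProduct.map (rename Sum.inr) (AlgHom.id A C) Ψ) = cfC μ Φ * cfC μ' Ψ := by
  induction Φ using TensorProduct.induction_on with
  | zero => simp
  | add x y hx hy => rw [map_add, add_mul, map_add, hx, hy, map_add, add_mul]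
  | tmul p c =>
    induction Ψ using TensorProduct.induction_on with
    | zero => simp
    | add x y hx hy => rw [map_add, mul_add, map_add, hx, hy, map_add, mul_add]
    | tmul q c' =>
      rw [Algebra.TensorProduct.map_tmul, Algebra.TensorProduct.map_tmul,
        Algebra.TensorProduct.tmul_mul_tmul, cfC_tmul, cfC_tmul, cfC_tmul, coeff_rename_mul2,
        AlgHom.id_apply, AlgHom.id_apply, smul_mul_smul_comm]

theorem one_mem_coefSet : (1 : C) ∈ CoefSet γ.law := by
  refine ⟨PEmpty, 1, 0, ?_⟩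
  rw [(γ.mult _).1, Algebra.TensorProduct.one_def, cfC_tmul, MvPolynomial.coeff_zero_one, one_smul]

theorem mul_mem_coefSet {c c' : C} (hc : c ∈ CoefSet γ.law) (hc' : c' ∈ CoefSet γ.law) :
    c * c' ∈ CoefSet γ.law := by
  obtain ⟨σ, y, ν, rfl⟩ := hc
  obtain ⟨σ', y', ν', rfl⟩ := hc'
  refine ⟨σ ⊕ σ', Algebra.TensorProduct.map (rename Sum.inl) (AlgHom.id A B) y *
    Algebra.TensorProduct.map (rename Sum.inr) (AlgHom.id A B) y', jn2 ν ν', ?_⟩
  rw [(γ.mult _).2, compat, compat, cfC_rename_mul2]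

theorem span_coefSet_eq_top (hγ : PolLaw.IsGammaD γ) :
    Submodule.span A (CoefSet γ.law) = ⊤ := by
  have hmul : ∀ x y : C, x ∈ Submodule.span A (CoefSet γ.law) →
      y ∈ Submodule.span A (CoefSet γ.law) → x * y ∈ Submodule.span A (CoefSet γ.law) := by
    intro x y hx hy
    have h : Submodule.span A (CoefSet γ.law) * Submodule.span A (CoefSet γ.law) ≤
        Submodule.span A (CoefSet γ.law) := by
      rw [Submodule.span_mul_span, Submodule.span_le]
      rintro _ ⟨c, hc, c', hc', rfl⟩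
      exact Submodule.subset_span (mul_mem_coefSet γ hc hc')
    exact h (Submodule.mul_mem_mul hx hy)
  let S : Subalgebra A C := Submodule.toSubalgebra (Submodule.span A (CoefSet γ.law))
    (Submodule.subset_span (one_mem_coefSet γ)) hmul
  have h1 : Mgen γ.law ≤ S := Algebra.adjoin_le fun c hc => Submodule.subset_span hc
  rw [Mgen_eq_top γ hγ] at h1
  rw [eq_top_iff]
  intro c _
  exact h1 Algebra.mem_top

end Span

section Final

open Polynomial

theorem finite_of_H (hγ : PolLaw.IsGammaD γ) (C₀ : Subalgebra A C) {m n : ℕ}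
    (t : Fin m → C ⊗[A] B) (κ : Fin n → C ⊗[A] B)
    (hκ : ∀ j, κ j ∈ PolLaw.ker (Gam γ).law)
    (H : ∀ b : B, ∃ c : Fin m → C₀, (1 : C) ⊗ₜ[A] b - ∑ k, (c k : C) • t k ∈
      Ideal.span (Set.range κ)) : Module.Finite C₀ C := by
  have hsub := coefSet_subset_Nmod γ t κ C₀ hκ H
  have htop : Nmod γ t C₀ = ⊤ := by
    rw [eq_top_iff]
    intro c _
    have hc : c ∈ Submodule.span A (CoefSet γ.law) := by
      rw [span_coefSet_eq_top γ hγ]
      exact Submodule.mem_top
    have hle : Submodule.span A (CoefSet γ.law) ≤ (Nmod γ t C₀).restrictScalars A :=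
      Submodule.span_le.mpr hsub
    exact hle hc
  rw [Module.finite_def, ← htop]
  exact Nmod_fg γ t C₀

theorem fin_quot {R₀ T : Type u} [CommRing R₀] [CommRing T] [Algebra R₀ T] {n : ℕ}
    (x : Fin n → T) (hx : Algebra.adjoin R₀ (Set.range x) = ⊤) (P : Fin n → Polynomial R₀)
    (hP : ∀ j, (P j).Monic) :
    ∃ (m : ℕ) (e : Fin m → T), ∀ z : T, ∃ c : Fin m → R₀,
      z - ∑ k, c k • e k ∈ Ideal.span (Set.range fun j => aeval (x j) (P j)) := by
  classical
  let I₀ : Ideal T := Ideal.span (Set.range fun j => aeval (x j) (P j))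
  let g : Fin n → T ⧸ I₀ := fun j => Ideal.Quotient.mk I₀ (x j)
  have hgint : ∀ j, IsIntegral R₀ (g j) := by
    intro j
    refine ⟨P j, hP j, ?_⟩
    rw [← Polynomial.aeval_def]
    have h2 : aeval (g j) (P j) = Ideal.Quotient.mkₐ R₀ I₀ (aeval (x j) (P j)) :=
      Polynomial.aeval_algHom_apply (Ideal.Quotient.mkₐ R₀ I₀) _ _
    rw [h2, Ideal.Quotient.mkₐ_eq_mk]
    exact Ideal.Quotient.eq_zero_iff_mem.mpr (Ideal.subset_span ⟨j, rfl⟩)
  have hadj : Algebra.adjoin R₀ (Set.range g) = ⊤ := by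
    have h2 := congrArg (Subalgebra.map (Ideal.Quotient.mkₐ R₀ I₀)) hx
    rw [AlgHom.map_adjoin, Algebra.map_top,
      (AlgHom.range_eq_top _).mpr (Ideal.Quotient.mkₐ_surjective R₀ I₀)] at h2
    rw [← h2]
    congr 1
    ext z
    simp [g]
  have hfin : Module.Finite R₀ (T ⧸ I₀) := by
    have h3 := fg_adjoin_of_finite (Set.finite_range g) (fun x hx => by
      obtain ⟨j, rfl⟩ := hx
      exact hgint j)
    rw [hadj, Algebra.top_toSubmodule] at h3
    exact Module.finite_def.mpr h3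
  obtain ⟨m, ebar, hebar⟩ := Module.Finite.exists_fin (R := R₀) (M := T ⧸ I₀)
  have hlift' : ∀ k, ∃ e : T, Ideal.Quotient.mk I₀ e = ebar k :=
    fun k => Ideal.Quotient.mk_surjective (ebar k)
  choose e he using hlift'
  refine ⟨m, e, fun z => ?_⟩
  have hz : Ideal.Quotient.mk I₀ z ∈ Submodule.span R₀ (Set.range ebar) := by
    rw [hebar]
    exact Submodule.mem_top
  obtain ⟨c, hc⟩ := (Submodule.mem_span_range_iff_exists_fun R₀).mp hz
  refine ⟨c, ?_⟩
  change z - ∑ k, c k • e k ∈ I₀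
  rw [← Ideal.Quotient.eq_zero_iff_mem, map_sub, ← hc, map_sum, sub_eq_zero]
  refine Finset.sum_congr rfl fun k _ => ?_
  rw [← he k]
  rfl

theorem exists_H {n : ℕ} (b : Fin n → B) (hb : Algebra.adjoin A (Set.range b) = ⊤)
    (C₀ : Subalgebra A C)
    (hcoef : ∀ j i, (chi (Gam γ) ((1 : C) ⊗ₜ[A] b j)).coeff i ∈ C₀) :
    ∃ (m : ℕ) (t : Fin m → C ⊗[A] B), ∀ z : B, ∃ c : Fin m → C₀,
      (1 : C) ⊗ₜ[A] z - ∑ k, (c k : C) • t k ∈
        Ideal.span (Set.range fun j => aeval ((1 : C) ⊗ₜ[A] b j)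
          (chi (Gam γ) ((1 : C) ⊗ₜ[A] b j))) := by
  classical
  have hlift : ∀ j, ∃ q : Polynomial C₀, q.map (algebraMap C₀ C) =
      chi (Gam γ) ((1 : C) ⊗ₜ[A] b j) := by
    intro j
    have : chi (Gam γ) ((1 : C) ⊗ₜ[A] b j) ∈ Polynomial.lifts (algebraMap C₀ C) := by
      rw [Polynomial.lifts_iff_coeff_lifts]
      intro i
      exact ⟨⟨_, hcoef j i⟩, rfl⟩
    exact (Polynomial.mem_lifts _).mp this
  choose χ' hχ' using hlift
  let κ' : Fin n → C₀ ⊗[A] B := fun j => aeval ((1 : C₀) ⊗ₜ[A] b j) ((-1 : C₀) ^ d • χ' j)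
  let ι₀ : C₀ ⊗[A] B →ₐ[A] C ⊗[A] B := Algebra.TensorProduct.map C₀.val (AlgHom.id A B)
  have hικ : ∀ j, ι₀ (κ' j) = (-1 : C) ^ d •
      aeval ((1 : C) ⊗ₜ[A] b j) (chi (Gam γ) ((1 : C) ⊗ₜ[A] b j)) := by
    intro j
    have h1 := map_aeval (A := A) (B := B) C C₀.val ((1 : C₀) ⊗ₜ[A] b j)
      ((-1 : C₀) ^ d • χ' j)
    rw [Algebra.TensorProduct.map_tmul, map_one, AlgHom.id_apply] at h1
    rw [← hχ' j, ← map_smul]
    convert h1 using 2
    rw [Polynomial.map_smul]
    simp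
    rfl
  have hmonic : ∀ j, ((-1 : C₀) ^ d • χ' j).Monic := by
    intro j
    apply Polynomial.monic_of_injective (f := algebraMap C₀ C) Subtype.val_injective
    rw [Polynomial.map_smul, hχ' j, map_pow, map_neg, map_one]
    exact chi_monic (Gam γ) _
  have hadj : Algebra.adjoin C₀ (Set.range fun j => (1 : C₀) ⊗ₜ[A] b j) = ⊤ := by
    have h1 := Algebra.TensorProduct.adjoin_one_tmul_image_eq_top (A := C₀) (Set.range b) hb
    rw [← h1]
    congr 1
    ext z
    simp
  obtain ⟨m, e, he⟩ := fin_quot (fun j => (1 : C₀) ⊗ₜ[A] b j) hadj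
    (fun j => (-1 : C₀) ^ d • χ' j) hmonic
  refine ⟨m, fun k => ι₀ (e k), fun z => ?_⟩
  obtain ⟨c, hc⟩ := he ((1 : C₀) ⊗ₜ[A] z)
  refine ⟨c, ?_⟩
  have h4 := Ideal.mem_map_of_mem ι₀ hc
  rw [Ideal.map_span] at h4
  have h5 : Ideal.span (ι₀ '' Set.range fun j => aeval ((1 : C₀) ⊗ₜ[A] b j)
      ((-1 : C₀) ^ d • χ' j)) ≤
      Ideal.span (Set.range fun j => aeval ((1 : C) ⊗ₜ[A] b j)
        (chi (Gam γ) ((1 : C) ⊗ₜ[A] b j))) := by
    rw [Ideal.span_le]
    rintro _ ⟨_, ⟨j, rfl⟩, rfl⟩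
    have := hικ j
    change ι₀ (κ' j) ∈ _
    rw [this, Algebra.smul_def]
    exact Ideal.mul_mem_left _ _ (Ideal.subset_span ⟨j, rfl⟩)
  have h6 := h5 h4
  rw [map_sub, map_sum] at h6
  convert h6 using 2
  · simp [ι₀]
  · refine Finset.sum_congr rfl fun k _ => ?_
    rw [map_smul' (A := A) (B := B) C₀.val (c k) (e k)]
    rfl

theorem finiteType_of_isGammaD (hγ : PolLaw.IsGammaD γ) [Algebra.FiniteType A B] :
    Algebra.FiniteType A C := by
  classical
  obtain ⟨s, hs⟩ := (Algebra.FiniteType.out : (⊤ : Subalgebra A B).FG)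
  let b : Fin s.card → B := fun j => (s.equivFin.symm j : B)
  have hrange : Set.range b = (s : Set B) := by
    ext z
    constructor
    · rintro ⟨j, rfl⟩
      exact (s.equivFin.symm j).2
    · intro hz
      exact ⟨s.equivFin ⟨z, hz⟩, by simp [b]⟩
  have hb : Algebra.adjoin A (Set.range b) = ⊤ := by rw [hrange, hs]
  let G₀ : Set C := Set.range fun ji : Fin s.card × Fin (d + 1) =>
    (chi (Gam γ) ((1 : C) ⊗ₜ[A] b ji.1)).coeff ji.2
  have hcoef : ∀ j i, (chi (Gam γ) ((1 : C) ⊗ₜ[A] b j)).coeff i ∈ Algebra.adjoin A G₀ := by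
    intro j i
    by_cases hi : i < d + 1
    · exact Algebra.subset_adjoin ⟨(j, ⟨i, hi⟩), rfl⟩
    · rw [Polynomial.coeff_eq_zero_of_natDegree_lt]
      · exact zero_mem _
      · have := PolLawFibre.chi_natDegree_le (Gam γ) ((1 : C) ⊗ₜ[A] b j)
        omega
  obtain ⟨m, t, H⟩ := exists_H γ b hb (Algebra.adjoin A G₀) hcoef
  have hfin : Module.Finite (Algebra.adjoin A G₀) C :=
    finite_of_H γ hγ (Algebra.adjoin A G₀) t _ (fun j => aeval_chi_mem_ker (Gam γ) _) H
  have hft₀ : Algebra.FiniteType A (Algebra.adjoin A G₀) :=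
    (Subalgebra.fg_iff_finiteType _).mp (Subalgebra.fg_def.mpr ⟨G₀, Set.finite_range _, rfl⟩)
  exact Algebra.FiniteType.trans hft₀ inferInstance

end Final

end Groth.Agent.Lib.Helper32.PolLawGammaFT
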