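import Groth.Agent.Lib.Helper32.PolLawFactorC
import Groth.Agent.Lib.Helper32.PolLawQuotC
import Groth.Agent.Lib.Helper32.PolLawCH

set_option autoImplicit false
universe u
open scoped TensorProduct

namespace Groth.Agent.Lib.Helper32.PolLawGammaGen

open Groth.Agent.Lib.Helper32.PolLawBasic Groth.Agent.Lib.Helper32.PolLawFactor
  Groth.Agent.Lib.Helper32.PolLawFactorC Groth.Agent.Lib.Helper32.PolLawQuotC
  Groth.Agent.Lib.Helper32.PolLawProd MvPolynomial

variable {A : Type u} [CommRing A]

section GamLaw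

variable {τ : Type u} (d : ℕ)

theorem Gam_smul (S : Type u) [CommSemiring S] [Algebra A S] (s : S)
    (f : S ⊗[A] MvPolynomial τ A) : Gam d S (s • f) = s ^ d • Gam d S f := by
  rw [Gam, Gam]
  simp only [map_smul]
  rw [Finset.prod_smul]
  simp

noncomputable def GamLaw : MvPolynomial τ A →ₚₗ[A] MvPolynomial (Fin d × τ) A where
  toFun' S _ _ := Gam d S
  isCompat' {S} _ _ {S'} _ _ φ := by
    funext f
    simp only [Function.comp_apply]
    rw [rTensor_eq_map, rTensor_eq_map, Gam_map]

end GamLaw

variable {B : Type u} [CommRing B] [Algebra A B] {C : Type u} [CommRing C] [Algebra A C]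

def CoefSet (γ : B →ₚₗ[A] C) : Set C :=
  {c | ∃ (σ : Type u) (y : MvPolynomial σ A ⊗[A] B) (ν : σ →₀ ℕ),
    c = cfC ν (γ.toFun' (MvPolynomial σ A) y)}

noncomputable def Mgen (γ : B →ₚₗ[A] C) : Subalgebra A C := Algebra.adjoin A (CoefSet γ)

section Main

variable {d : ℕ} (γ : PolLaw.MulLaw A B C d)

noncomputable def piB : MvPolynomial B A →ₐ[A] B := aeval id

theorem piB_surjective : Function.Surjective (piB (A := A) (B := B)) :=
  fun b => ⟨X b, by simp [piB]⟩

noncomputable def Gp : PolLaw.MulLaw A (MvPolynomial B A) C d := γ.precomp piB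

theorem Gp_toFun' (S : Type u) [CommSemiring S] [Algebra A S] (x : S ⊗[A] MvPolynomial B A) :
    (Gp γ).law.toFun' S x = γ.law.toFun' S (Algebra.TensorProduct.map (AlgHom.id S S) piB x) :=
  mulLaw_precomp_toFun' γ piB S x

theorem hLinC_mem (p : MvPolynomial (Fin d × B) A) : hLinC (Gp γ).law d p ∈ Mgen γ.law := by
  classical
  induction p using MvPolynomial.induction_on' with
  | monomial θ a =>
    rw [hLinC_monomial]
    refine Subalgebra.smul_mem _ ?_ a
    rw [hvalC]
    split_ifs
    · apply Algebra.subset_adjoin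
      refine ⟨(B →₀ ℕ), Algebra.TensorProduct.map (AlgHom.id (Rg A B) (Rg A B)) piB
        (gen (nuOf (tupleOf θ)).support), nuOf (tupleOf θ), ?_⟩
      rw [nCoeffC, cJC, Gp_toFun']
    · exact Subalgebra.zero_mem _
  | add p q hp hq =>
    rw [map_add]
    exact Subalgebra.add_mem _ hp hq

noncomputable def h0 : MvPolynomial (Fin d × B) A →ₗ[A] Mgen γ.law :=
  LinearMap.codRestrict (Subalgebra.toSubmodule (Mgen γ.law)) (hLinC (Gp γ).law d) (hLinC_mem γ)

noncomputable def G0law : MvPolynomial B A →ₚₗ[A] Mgen γ.law :=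
  PolLaw.postcomp (h0 γ) (GamLaw d)

theorem G0law_toFun' (S : Type u) [CommSemiring S] [Algebra A S] (x : S ⊗[A] MvPolynomial B A) :
    (G0law γ).toFun' S x = (h0 γ).lTensor S (Gam d S x) := rfl

theorem val_G0law (S : Type u) [CommSemiring S] [Algebra A S] (x : S ⊗[A] MvPolynomial B A) :
    Algebra.TensorProduct.map (AlgHom.id S S) (Mgen γ.law).val ((G0law γ).toFun' S x) =
      (Gp γ).law.toFun' S x := by
  rw [G0law_toFun', ← PolLaw.lTensor_algHom_apply, ← LinearMap.lTensor_comp_apply,
    factorC (Gp γ).law (Gp γ).homog]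
  rfl

theorem val_injective (n : ℕ) :
    Function.Injective (Algebra.TensorProduct.map
      (AlgHom.id (MvPolynomial (Fin n) A) (MvPolynomial (Fin n) A)) (Mgen γ.law).val) := by
  have h := Module.Flat.lTensor_preserves_injective_linearMap (M := MvPolynomial (Fin n) A)
    (Mgen γ.law).val.toLinearMap Subtype.val_injective
  intro x y hxy
  apply h
  rw [PolLaw.lTensor_algHom_apply, PolLaw.lTensor_algHom_apply]
  exact hxy

theorem lTensor_smul' {M N : Type u} [AddCommGroup M] [Module A M] [AddCommGroup N] [Module A N]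
    (g : M →ₗ[A] N) (S : Type u) [CommSemiring S] [Algebra A S] (s : S) (y : S ⊗[A] M) :
    g.lTensor S (s • y) = s • g.lTensor S y := by
  induction y using TensorProduct.induction_on with
  | zero => simp
  | add x y hx hy => simp only [smul_add, map_add, hx, hy]
  | tmul t m => simp [TensorProduct.smul_tmul']

theorem hLinC_one : hLinC (Gp γ).law d 1 = 1 := by
  have h := factorC (Gp γ).law (Gp γ).homog A (1 : A ⊗[A] MvPolynomial B A)
  rw [((Gp γ).mult A).1, PolLawCH.Gam_one, Algebra.TensorProduct.one_def,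
    Algebra.TensorProduct.one_def, LinearMap.lTensor_tmul] at h
  have := congrArg (TensorProduct.lid A C) h
  simpa using this.symm

theorem G0_compat {S S' : Type u} [CommSemiring S] [Algebra A S] [CommSemiring S'] [Algebra A S']
    (φ : S →ₐ[A] S') (x : S ⊗[A] MvPolynomial B A) :
    (G0law γ).toFun' S' (Algebra.TensorProduct.map φ (AlgHom.id A _) x) =
      Algebra.TensorProduct.map φ (AlgHom.id A _) ((G0law γ).toFun' S x) :=
  compat (G0law γ) φ x

noncomputable def G0 : PolLaw.MulLaw A (MvPolynomial B A) (Mgen γ.law) d where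
  law := G0law γ
  homog S _ _ s x := by
    rw [G0law_toFun', G0law_toFun', Gam_smul, lTensor_smul']
  mult S _ _ := by
    refine ⟨?_, fun x y => ?_⟩
    · rw [G0law_toFun', PolLawCH.Gam_one, Algebra.TensorProduct.one_def, LinearMap.lTensor_tmul,
        Algebra.TensorProduct.one_def]
      congr 1
      apply Subtype.ext
      exact hLinC_one γ
    · obtain ⟨n, ψ, x', y', rfl, rfl⟩ := exists_lift₂ x y
      rw [← map_mul, G0_compat, G0_compat, G0_compat, ← map_mul]
      congr 1
      apply val_injective γ n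
      rw [map_mul, val_G0law, val_G0law, val_G0law, ((Gp γ).mult _).2]

theorem ker_piB_le : RingHom.ker (piB (A := A) (B := B)) ≤ PolLaw.ker (G0 γ).law := by
  intro p hp
  apply mem_ker_of_mvPolynomial
  intro n x w
  apply val_injective γ n
  show Algebra.TensorProduct.map _ _ ((G0law γ).toFun' _ _) =
    Algebra.TensorProduct.map _ _ ((G0law γ).toFun' _ _)
  rw [val_G0law, val_G0law, Gp_toFun', Gp_toFun', map_add, map_mul,
    Algebra.TensorProduct.map_tmul, (RingHom.mem_ker).mp hp, TensorProduct.tmul_zero, mul_zero,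
    add_zero]

noncomputable def γ1 : PolLaw.MulLaw A (MvPolynomial B A ⧸ RingHom.ker (piB (A := A) (B := B)))
    (Mgen γ.law) d :=
  quot (G0 γ) (ker_piB_le γ)

noncomputable def eB : B →ₐ[A] MvPolynomial B A ⧸ RingHom.ker (piB (A := A) (B := B)) :=
  ((Ideal.quotientKerAlgEquivOfSurjective (piB_surjective (A := A) (B := B))).symm :
    B ≃ₐ[A] _).toAlgHom

noncomputable def γ0 : PolLaw.MulLaw A B (Mgen γ.law) d := (γ1 γ).precomp eB

theorem eB_piB (S : Type u) [CommSemiring S] [Algebra A S] (x : S ⊗[A] MvPolynomial B A) :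
    Algebra.TensorProduct.map (AlgHom.id S S) (eB (A := A) (B := B))
      (Algebra.TensorProduct.map (AlgHom.id S S) piB x) = qm _ S x := by
  induction x using TensorProduct.induction_on with
  | zero => simp
  | add x y hx hy => simp only [map_add, hx, hy]
  | tmul s p =>
    rw [Algebra.TensorProduct.map_tmul, Algebra.TensorProduct.map_tmul, qm_tmul]
    congr 1
    show (Ideal.quotientKerAlgEquivOfSurjective (piB_surjective (A := A) (B := B))).symm (piB p) = _
    rw [AlgEquiv.symm_apply_eq]
    rfl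

theorem map_piB_surjective (S : Type u) [CommSemiring S] [Algebra A S] :
    Function.Surjective (Algebra.TensorProduct.map (AlgHom.id S S) (piB (A := A) (B := B))) := by
  have := LinearMap.lTensor_surjective (R := A) S (g := (piB (A := A) (B := B)).toLinearMap)
    piB_surjective
  intro y
  obtain ⟨z, hz⟩ := this y
  exact ⟨z, by rw [← hz, PolLaw.lTensor_algHom_apply]⟩

theorem val_γ0 (S : Type u) [CommSemiring S] [Algebra A S] (y : S ⊗[A] B) :
    Algebra.TensorProduct.map (AlgHom.id S S) (Mgen γ.law).val ((γ0 γ).law.toFun' S y) =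
      γ.law.toFun' S y := by
  obtain ⟨x, rfl⟩ := map_piB_surjective S y
  rw [γ0, mulLaw_precomp_toFun', eB_piB, γ1, quot_qm]
  show Algebra.TensorProduct.map _ _ ((G0law γ).toFun' _ _) = _
  rw [val_G0law, Gp_toFun']

theorem Mgen_eq_top (hγ : PolLaw.IsGammaD γ) : Mgen γ.law = ⊤ := by
  obtain ⟨f, hf, -⟩ := hγ (Mgen γ.law) (γ0 γ)
  obtain ⟨g, -, hguniq⟩ := hγ C γ
  have h1 : PolLaw.postcomp ((Mgen γ.law).val.comp f).toLinearMap γ.law = γ.law := by
    apply PolynomialLaw.ext
    funext S _ _ x
    show ((Mgen γ.law).val.comp f).toLinearMap.lTensor S (γ.law.toFun' S x) = γ.law.toFun' S x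
    have hfx : f.toLinearMap.lTensor S (γ.law.toFun' S x) = (γ0 γ).law.toFun' S x :=
      congrFun (congrArg (fun L => PolynomialLaw.toFun' L S) hf) x
    have e1 : ((Mgen γ.law).val.comp f).toLinearMap =
        (Mgen γ.law).val.toLinearMap ∘ₗ f.toLinearMap := rfl
    rw [e1, LinearMap.lTensor_comp_apply, hfx, PolLaw.lTensor_algHom_apply, val_γ0]
  have h2 : PolLaw.postcomp (AlgHom.id A C).toLinearMap γ.law = γ.law := by
    apply PolynomialLaw.ext
    funext S _ _ x
    show (AlgHom.id A C).toLinearMap.lTensor S (γ.law.toFun' S x) = γ.law.toFun' S x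
    rw [PolLaw.lTensor_algHom_apply, Algebra.TensorProduct.map_id]
    rfl
  have h3 : (Mgen γ.law).val.comp f = AlgHom.id A C := (hguniq _ h1).trans (hguniq _ h2).symm
  rw [eq_top_iff]
  intro c _
  have : c = (Mgen γ.law).val (f c) := by
    rw [← AlgHom.comp_apply, h3]
    rfl
  rw [this]
  exact (f c).2

end Main

end Groth.Agent.Lib.Helper32.PolLawGammaGen
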