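import Groth.Agent.Lib.Helper32.PolLawBasic

set_option autoImplicit false
universe u
open scoped TensorProduct

namespace Groth.Agent.Lib.Helper32.PolLawGammaUniq

variable {A : Type u} [CommRing A]

section Mod

variable {M N P Q : Type u} [AddCommGroup M] [Module A M] [AddCommGroup N] [Module A N]
  [AddCommGroup P] [Module A P] [AddCommGroup Q] [Module A Q]

theorem postcomp_comp (g : P →ₗ[A] Q) (f : N →ₗ[A] P) (F : M →ₚₗ[A] N) :
    PolLaw.postcomp (g ∘ₗ f) F = PolLaw.postcomp g (PolLaw.postcomp f F) := by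
  apply PolynomialLaw.ext
  funext S _ _ x
  show (g ∘ₗ f).lTensor S (F.toFun' S x) = g.lTensor S (f.lTensor S (F.toFun' S x))
  rw [LinearMap.lTensor_comp]
  rfl

theorem postcomp_id (F : M →ₚₗ[A] N) : PolLaw.postcomp LinearMap.id F = F := by
  apply PolynomialLaw.ext
  funext S _ _ x
  show (LinearMap.id : N →ₗ[A] N).lTensor S (F.toFun' S x) = _
  rw [LinearMap.lTensor_id]
  rfl

end Mod

variable {B : Type u} [CommRing B] [Algebra A B] {d : ℕ}
  {C : Type u} [CommRing C] [Algebra A C] {C' : Type u} [CommRing C'] [Algebra A C']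
  (γ : PolLaw.MulLaw A B C d) (γ' : PolLaw.MulLaw A B C' d)

theorem exists_algEquiv (hγ : PolLaw.IsGammaD γ) (hγ' : PolLaw.IsGammaD γ') :
    ∃ e : C ≃ₐ[A] C', PolLaw.postcomp (e : C →ₐ[A] C').toLinearMap γ.law = γ'.law := by
  obtain ⟨f, hf, -⟩ := hγ C' γ'
  obtain ⟨g, hg, -⟩ := hγ' C γ
  have h1 : g.comp f = AlgHom.id A C := by
    obtain ⟨k, -, hk⟩ := hγ C γ
    rw [hk (g.comp f) (by
      show PolLaw.postcomp (g.toLinearMap ∘ₗ f.toLinearMap) γ.law = γ.law
      rw [postcomp_comp, hf, hg]), hk (AlgHom.id A C) (postcomp_id γ.law)]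
  have h2 : f.comp g = AlgHom.id A C' := by
    obtain ⟨k, -, hk⟩ := hγ' C' γ'
    rw [hk (f.comp g) (by
      show PolLaw.postcomp (f.toLinearMap ∘ₗ g.toLinearMap) γ'.law = γ'.law
      rw [postcomp_comp, hg, hf]), hk (AlgHom.id A C') (postcomp_id γ'.law)]
  exact ⟨AlgEquiv.ofAlgHom f g h2 h1, hf⟩

end Groth.Agent.Lib.Helper32.PolLawGammaUniq
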