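import Groth.Agent.Lib.Helper32.PolLawBC
import Groth.Agent.Lib.Helper32.PolLawKron
import Groth.Agent.Lib.Helper32.PolLawQuot
import Mathlib.RingTheory.Ideal.GoingUp
import Mathlib.RingTheory.Ideal.GoingDown
import Mathlib.RingTheory.Ideal.MinimalPrime.Localization

set_option autoImplicit false
universe u
open scoped TensorProduct

namespace Groth.Agent.Lib.Helper32.PolLawGen

open Groth.Agent.Lib.Helper32.PolLawBasic Groth.Agent.Lib.Helper32.PolLawCH
  Groth.Agent.Lib.Helper32.PolLawBC Groth.Agent.Lib.Helper32.PolLawQuot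
  Groth.Agent.Lib.Helper32.PolLawKron

variable {A : Type u} [CommRing A] {B : Type u} [CommRing B] [Algebra A B] {d : ℕ}

theorem mem_ker_of_smul_mem [IsDomain A] (F : PolLaw.MulLaw A B A d) (s : A) (hs : s ≠ 0) (u : B)
    (h : algebraMap A B s * u ∈ PolLaw.ker F.law) : u ∈ PolLaw.ker F.law := by
  apply mem_ker_of_mvPolynomial
  intro n x w
  have hs' : (MvPolynomial.C s : MvPolynomial (Fin n) A) ≠ 0 := by
    rwa [Ne, MvPolynomial.C_eq_zero]
  have h1 : (MvPolynomial.C s : MvPolynomial (Fin n) A) • (x + w * ((1 : MvPolynomial (Fin n) A) ⊗ₜ[A] u)) =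
      (MvPolynomial.C s : MvPolynomial (Fin n) A) • x +
        w * ((1 : MvPolynomial (Fin n) A) ⊗ₜ[A] (algebraMap A B s * u)) := by
    rw [smul_add, ← mul_smul_comm, TensorProduct.smul_tmul', smul_eq_mul, mul_one,
      ← Algebra.smul_def, ← TensorProduct.smul_tmul, ← MvPolynomial.algebraMap_eq,
      Algebra.algebraMap_eq_smul_one]
  have h2 := F.homog _ (MvPolynomial.C s : MvPolynomial (Fin n) A) (x + w * (1 ⊗ₜ[A] u))
  rw [h1, h _ _ _, F.homog] at h2
  have h3 := congrArg (Algebra.TensorProduct.rid A (MvPolynomial (Fin n) A) (MvPolynomial (Fin n) A)) h2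
  rw [map_smul, map_smul, smul_eq_mul, smul_eq_mul] at h3
  have h4 := mul_left_cancel₀ (pow_ne_zero d hs') h3
  exact ((Algebra.TensorProduct.rid A (MvPolynomial (Fin n) A) (MvPolynomial (Fin n) A)).injective h4).symm

theorem comap_eq_bot_of_mem_minimalPrimes [IsDomain A] (F : PolLaw.MulLaw A B A d) {P : Ideal B}
    (hP : P ∈ (PolLaw.ker F.law).minimalPrimes) : P.comap (algebraMap A B) = ⊥ := by
  rw [eq_bot_iff]
  intro a ha
  rw [Ideal.mem_bot]
  by_contra ha0
  obtain ⟨y, hy, hxy⟩ := Ideal.exists_mul_mem_of_mem_minimalPrimes hP (Ideal.mem_comap.mp ha)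
  exact hy (mem_ker_of_smul_mem F a ha0 y hxy)

theorem isIntegral_quotient_of_ker_le (F : PolLaw.MulLaw A B A d) (J : Ideal B)
    (hJ : PolLaw.ker F.law ≤ J) : Algebra.IsIntegral A (B ⧸ J) := by
  refine ⟨fun x => ?_⟩
  obtain ⟨b, rfl⟩ := Ideal.Quotient.mk_surjective x
  refine ⟨(-1 : A) ^ d • chi F b, chi_monic F b, ?_⟩
  have h1 : Polynomial.aeval (Ideal.Quotient.mkₐ A J b) ((-1 : A) ^ d • chi F b) =
      Ideal.Quotient.mkₐ A J (Polynomial.aeval b ((-1 : A) ^ d • chi F b)) :=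
    Polynomial.aeval_algHom_apply _ _ _
  have h2 : Polynomial.aeval b ((-1 : A) ^ d • chi F b) ∈ J := by
    rw [map_smul]
    exact Submodule.smul_of_tower_mem _ _ (hJ (aeval_chi_mem_ker F b))
  rw [← Polynomial.aeval_def]
  show Polynomial.aeval (Ideal.Quotient.mkₐ A J b) ((-1 : A) ^ d • chi F b) = 0
  rw [h1, Ideal.Quotient.mkₐ_eq_mk, Ideal.Quotient.eq_zero_iff_mem]
  exact h2

theorem exists_prime_over [IsDomain A] (F : PolLaw.MulLaw A B A d) {P : Ideal B}
    (hP : P ∈ (PolLaw.ker F.law).minimalPrimes) (q : Ideal A) (hq : q.IsPrime) :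
    ∃ Q : Ideal B, Q.IsPrime ∧ P ≤ Q ∧ Q.comap (algebraMap A B) = q := by
  have hint : Algebra.IsIntegral A (B ⧸ P) := isIntegral_quotient_of_ker_le F P hP.1.2
  have hbot : (⊥ : Ideal (B ⧸ P)).comap (algebraMap A (B ⧸ P)) ≤ q := by
    intro a ha
    rw [Ideal.mem_comap, Ideal.mem_bot] at ha
    have : a ∈ P.comap (algebraMap A B) := by
      rw [Ideal.mem_comap, ← Ideal.Quotient.eq_zero_iff_mem]
      exact ha
    rw [comap_eq_bot_of_mem_minimalPrimes F hP, Ideal.mem_bot] at this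
    rw [this]
    exact q.zero_mem
  obtain ⟨Q', -, hQ'prime, hQ'⟩ := Ideal.exists_ideal_over_prime_of_isIntegral q
    (⊥ : Ideal (B ⧸ P)) hbot
  refine ⟨Q'.comap (Ideal.Quotient.mk P), Ideal.comap_isPrime _ _, ?_, ?_⟩
  · intro b hb
    rw [Ideal.mem_comap, Ideal.Quotient.eq_zero_iff_mem.mpr hb]
    exact Q'.zero_mem
  · rw [← hQ']
    rfl

end Groth.Agent.Lib.Helper32.PolLawGen
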