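import Groth.Agent.Lib.Helper32.PolLawTSField

set_option autoImplicit false
universe u
open scoped TensorProduct

namespace Groth.Agent.Lib.Helper32.PolLawGeomRed

open Groth.Agent.Lib.Helper32.PolLawTSField

variable {A : Type u} [CommRing A] {B : Type u} [CommRing B] [Algebra A B]

section Coord

variable {K : Type u} [Field K] [Algebra A K] {I : Type u} (e : Module.Basis I K (K ⊗[A] B))
  (β : I → B) (he : ∀ i, e i = (1 : K) ⊗ₜ[A] β i)
  (S : Type u) [CommRing S] [Algebra K S] [Algebra A S] [IsScalarTower A K S]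

noncomputable def crd : B →ₗ[A] (I →₀ S) :=
  (Finsupp.mapRange.linearMap ((Algebra.linearMap K S).restrictScalars A)) ∘ₗ
    (e.repr.toLinearMap.restrictScalars A) ∘ₗ (TensorProduct.mk A K B 1)

theorem crd_apply (b : B) (i : I) :
    crd e S b i = algebraMap K S (e.repr ((1 : K) ⊗ₜ[A] b) i) := rfl

noncomputable def LamS : S ⊗[A] B →ₗ[S] (I →₀ S) := LinearMap.liftBaseChange S (crd e S)

theorem LamS_tmul (s : S) (b : B) : LamS e S (s ⊗ₜ[A] b) = s • crd e S b := rfl

noncomputable def ES : (I →₀ S) →ₗ[S] S ⊗[A] B :=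
  Finsupp.linearCombination S (fun i => (1 : S) ⊗ₜ[A] β i)

noncomputable def iotaS : K ⊗[A] B →ₗ[A] S ⊗[A] B :=
  ((Algebra.linearMap K S).restrictScalars A).rTensor B

theorem iotaS_tmul (k : K) (b : B) : iotaS (A := A) (B := B) S (k ⊗ₜ[A] b) = algebraMap K S k ⊗ₜ[A] b :=
  rfl

include he in
theorem ES_mapRange (c : I →₀ K) :
    ES β S (Finsupp.mapRange.linearMap ((Algebra.linearMap K S).restrictScalars A) c) =
      iotaS S (e.repr.symm c) := by
  induction c using Finsupp.induction_linear with
  | zero => simp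
  | add f g hf hg => rw [map_add, map_add, hf, hg, map_add, map_add]
  | single i k =>
    have h1 : k • ((1 : K) ⊗ₜ[A] β i) = k ⊗ₜ[A] β i := by
      rw [TensorProduct.smul_tmul', smul_eq_mul, mul_one]
    rw [Finsupp.mapRange.linearMap_apply, Finsupp.mapRange_single, ES,
      Finsupp.linearCombination_single, Module.Basis.repr_symm_single, he, h1, iotaS_tmul]
    show algebraMap K S k • ((1 : S) ⊗ₜ[A] β i) = _
    rw [TensorProduct.smul_tmul', smul_eq_mul, mul_one]

include he in
theorem ES_LamS (w : S ⊗[A] B) : ES β S (LamS e S w) = w := by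
  induction w using TensorProduct.induction_on with
  | zero => simp
  | add x y hx hy => rw [map_add, map_add, hx, hy]
  | tmul s b =>
    rw [LamS_tmul, map_smul]
    have h : crd e S b = Finsupp.mapRange.linearMap ((Algebra.linearMap K S).restrictScalars A)
        (e.repr ((1 : K) ⊗ₜ[A] b)) := rfl
    rw [h, ES_mapRange e β he S, LinearEquiv.symm_apply_apply, iotaS_tmul, map_one,
      TensorProduct.smul_tmul', smul_eq_mul, mul_one]

theorem LamS_nat (S' : Type u) [CommRing S'] [Algebra K S'] [Algebra A S'] [IsScalarTower A K S']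
    (π : S →ₐ[A] S') (hK : ∀ k : K, π (algebraMap K S k) = algebraMap K S' k)
    (w : S ⊗[A] B) (i : I) :
    LamS e S' (Algebra.TensorProduct.map π (AlgHom.id A B) w) i = π (LamS e S w i) := by
  induction w using TensorProduct.induction_on with
  | zero => simp
  | add x y hx hy =>
    rw [map_add, map_add, map_add, Finsupp.add_apply, Finsupp.add_apply, hx, hy, map_add]
  | tmul s b =>
    rw [Algebra.TensorProduct.map_tmul, LamS_tmul, LamS_tmul, Finsupp.smul_apply,
      Finsupp.smul_apply, crd_apply, crd_apply, smul_eq_mul, smul_eq_mul, map_mul, hK]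
    rfl

end Coord

theorem isReduced_tensor_of_field {K : Type u} [Field K] [Algebra A K]
    (hred : ∀ (L : Type u) [Field L] [Algebra A L], IsReduced (L ⊗[A] B))
    (S : Type u) [CommRing S] [Algebra K S] [Algebra A S] [IsScalarTower A K S] [IsReduced S] :
    IsReduced (S ⊗[A] B) := by
  obtain ⟨I, e, β, he⟩ := exists_basis_one_tmul (A := A) (B := B) K
  constructor
  intro w hw
  rw [← ES_LamS e β he S w]
  suffices h : LamS e S w = 0 by rw [h, map_zero]
  ext i
  rw [Finsupp.zero_apply]
  apply IsReduced.eq_zero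
  rw [nilpotent_iff_mem_prime]
  intro p hp
  haveI : p.IsPrime := hp
  let π : S →ₐ[A] p.ResidueField := IsScalarTower.toAlgHom A S p.ResidueField
  haveI := hred p.ResidueField
  have h0 : Algebra.TensorProduct.map π (AlgHom.id A B) w = 0 :=
    IsReduced.eq_zero _ (hw.map _)
  have h1 := LamS_nat e S p.ResidueField π
    (fun k => (IsScalarTower.algebraMap_apply K S p.ResidueField k).symm) w i
  rw [h0, map_zero, Finsupp.zero_apply] at h1
  exact Ideal.algebraMap_residueField_eq_zero.mp h1.symm

end Groth.Agent.Lib.Helper32.PolLawGeomRed
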