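import Groth.Agent.Lib.Helper32.PolLawGen

set_option autoImplicit false
universe u
open scoped TensorProduct

namespace Groth.Agent.Lib.Helper32.PolLawGoingDown

open Groth.Agent.Lib.Helper32.PolLawBasic Groth.Agent.Lib.Helper32.PolLawCH
  Groth.Agent.Lib.Helper32.PolLawBC Groth.Agent.Lib.Helper32.PolLawQuot
  Groth.Agent.Lib.Helper32.PolLawKron Groth.Agent.Lib.Helper32.PolLawGen

variable {A : Type u} [CommRing A] {d : ℕ}

theorem ker_bc_le_nilradical {C : Type u} [CommRing C] [Algebra A C] (G : PolLaw.MulLaw A C A d)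
    (hG : PolLaw.ker G.law = ⊥) (A' : Type u) [CommRing A'] [Algebra A A'] :
    PolLaw.ker (bc A' G).law ≤ nilradical (A' ⊗[A] C) := by
  intro b' hb'
  rw [ker_bc] at hb'
  have := pow_mem_of_mem_kerBC A' G (fun n => kerBC_mvPolynomial_le G.law n) _ hb'
  rw [hG, Ideal.map_bot, Ideal.mem_bot] at this
  exact ⟨d, this⟩

theorem hasGoingDown_of_ker_eq_bot {C : Type u} [CommRing C] [Algebra A C]
    (G : PolLaw.MulLaw A C A d) (hG : PolLaw.ker G.law = ⊥) (A' : Type u) [CommRing A']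
    [Algebra A A'] : Algebra.HasGoingDown A' (A' ⊗[A] C) := by
  refine ⟨fun {p} hp Q hQ hlt => ?_⟩
  let π : A' ⊗[A] C →ₐ[A] (A' ⧸ p) ⊗[A] C :=
    Algebra.TensorProduct.map (Ideal.Quotient.mkₐ A p) (AlgHom.id A C)
  have hπsurj : Function.Surjective π :=
    Algebra.TensorProduct.map_surjective (Ideal.Quotient.mkₐ A p) (AlgHom.id A C)
      (Ideal.Quotient.mkₐ_surjective A p) Function.surjective_id
  have hkerπ : RingHom.ker π ≤ Q := by
    have h1 := Algebra.TensorProduct.rTensor_ker (R := A) (S := A) (C := C)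
      (Ideal.Quotient.mkₐ A p) (Ideal.Quotient.mkₐ_surjective A p)
    have h2 : RingHom.ker π = (RingHom.ker (Ideal.Quotient.mkₐ A p)).map
        (Algebra.TensorProduct.includeLeft : A' →ₐ[A] A' ⊗[A] C) := h1
    rw [h2, show RingHom.ker (Ideal.Quotient.mkₐ A p) = p from Ideal.Quotient.mkₐ_ker A p,
      Ideal.map_le_iff_le_comap]
    intro a ha
    exact hlt.le ha
  have hQ'' : (Q.map π).IsPrime := Ideal.map_isPrime_of_surjective hπsurj hkerπ
  have hle : PolLaw.ker (bc (A' ⧸ p) G).law ≤ Q.map π :=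
    (ker_bc_le_nilradical G hG (A' ⧸ p)).trans (nilradical_le_prime _)
  obtain ⟨P'', hP''min, hP''le⟩ := Ideal.exists_minimalPrimes_le hle
  have hP''prime : P''.IsPrime := hP''min.1.1
  refine ⟨P''.comap π, ?_, Ideal.comap_isPrime _ _, ⟨?_⟩⟩
  · have h3 : (Q.map π).comap π = Q := by
      rw [Ideal.comap_map_of_surjective π hπsurj, sup_eq_left]
      exact hkerπ
    rw [← h3]
    exact Ideal.comap_mono hP''le
  · have h4 := comap_eq_bot_of_mem_minimalPrimes (bc (A' ⧸ p) G) hP''min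
    ext a
    rw [Ideal.under_def, Ideal.mem_comap, Ideal.mem_comap]
    have h5 : π (algebraMap A' (A' ⊗[A] C) a) =
        algebraMap (A' ⧸ p) ((A' ⧸ p) ⊗[A] C) (Ideal.Quotient.mk p a) := by
      simp [π, Algebra.TensorProduct.algebraMap_apply]
    rw [h5, ← Ideal.mem_comap, h4, Ideal.mem_bot, Ideal.Quotient.eq_zero_iff_mem]

end Groth.Agent.Lib.Helper32.PolLawGoingDown
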