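import Groth.Agent.Lib.Helper32.PolLawQuot

set_option autoImplicit false
universe u
open scoped TensorProduct
open Polynomial

namespace Groth.Agent.Lib.Helper32.PolLawIdem

open Groth.Agent.Lib.Helper32.PolLawBasic Groth.Agent.Lib.Helper32.PolLawProd

variable {A : Type u} [CommRing A] {B : Type u} [CommRing B] [Algebra A B]
  {d : ℕ} (F : PolLaw.MulLaw A B A d)

theorem q_zero' (S : Type u) [CommSemiring S] [Algebra A S] (s : S) :
    q (A := A) (0 : B) S s = 1 := by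
  rw [q, TensorProduct.tmul_zero, zero_add, sub_zero, Algebra.TensorProduct.one_def]

theorem q_add (e e' : B) (h : e * e' = 0) (S : Type u) [CommSemiring S] [Algebra A S] (s : S) :
    q (A := A) (e + e') S s = q e S s * q e' S s := by
  have h1 : e * (1 - e') = e := by rw [mul_sub, mul_one, h, sub_zero]
  have h2 : (1 - e) * e' = e' := by rw [sub_mul, one_mul, h, sub_zero]
  have h3 : (1 - e) * (1 - e') = 1 - (e + e') := by ring_nf; rw [h]; ring
  simp only [q, add_mul, mul_add, Algebra.TensorProduct.tmul_mul_tmul, h, h1, h2, h3,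
    TensorProduct.tmul_zero, zero_add, one_mul, mul_one]
  rw [TensorProduct.tmul_add]
  abel

theorem pe_zero : pe (0 : B) F = 1 := by
  rw [pe, q_zero', (F.mult _).1, rid_one]

theorem pe_one : pe (1 : B) F = X ^ d := by
  have : q (A := A) (1 : B) A[X] X = (X : A[X]) • (1 : A[X] ⊗[A] B) := by
    rw [q, sub_self, TensorProduct.tmul_zero, add_zero, Algebra.TensorProduct.one_def,
      TensorProduct.smul_tmul', smul_eq_mul, mul_one]
  rw [pe, this, F.homog, (F.mult _).1, rid_smul_one]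

theorem pe_add (e e' : B) (h : e * e' = 0) : pe (e + e') F = pe e F * pe e' F := by
  rw [pe, q_add e e' h, (F.mult _).2, rid_mul]
  rfl

theorem pe_sum (s : Finset B) (hs : ∀ e ∈ s, ∀ e' ∈ s, e ≠ e' → e * e' = 0) :
    pe (∑ e ∈ s, e) F = ∏ e ∈ s, pe e F := by
  classical
  induction s using Finset.induction_on with
  | empty => simp [pe_zero]
  | insert a s ha ih =>
    rw [Finset.sum_insert ha, Finset.prod_insert ha, pe_add, ih]
    · intro e he e' he' hne
      exact hs e (Finset.mem_insert_of_mem he) e' (Finset.mem_insert_of_mem he') hne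
    · rw [Finset.mul_sum]
      refine Finset.sum_eq_zero fun e he => ?_
      refine hs a (Finset.mem_insert_self _ _) e (Finset.mem_insert_of_mem he) ?_
      rintro rfl
      exact ha he

theorem mem_ker_of_F_q_eq_one (e : B) (he : IsIdempotentElem e)
    (h : ∀ (S : Type u) [CommSemiring S] [Algebra A S] (s : S),
      F.law.toFun' S (q e S s) = 1) : e ∈ PolLaw.ker F.law := by
  have h1 : e * e = e := he
  have h2 : e * (1 - e) = 0 := by rw [mul_sub, mul_one, h1, sub_self]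
  have h3 : (1 - e) * e = 0 := by rw [mul_comm, h2]
  have h4 : (1 - e) * (1 - e) = 1 - e := he.one_sub
  have key : ∀ (S : Type u) [CommSemiring S] [Algebra A S] (z : S ⊗[A] B),
      F.law.toFun' S (1 ⊗ₜ[A] (1 - e) + z * (1 ⊗ₜ[A] e)) = 1 := by
    intro S _ _ z
    have hm : ∀ s : S, (1 ⊗ₜ[A] (1 - e) + z * (1 ⊗ₜ[A] e)) * q e S s =
        1 ⊗ₜ[A] (1 - e) + (s • z) * (1 ⊗ₜ[A] e) := by
      intro s
      rw [smul_eq_tmul_mul]
      simp only [q, add_mul, mul_add, mul_assoc, Algebra.TensorProduct.tmul_mul_tmul, h1, h2, h3,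
        h4, TensorProduct.tmul_zero, mul_zero, add_zero, zero_add, one_mul, mul_one]
      rw [add_comm]
      congr 1
      rw [mul_left_comm, Algebra.TensorProduct.tmul_mul_tmul, mul_one, one_mul]
    have h0 := hm 0
    rw [zero_smul, zero_mul, add_zero] at h0
    have h5 := congrArg (F.law.toFun' S) h0
    rw [(F.mult S).2, h S 0, mul_one] at h5
    rw [h5]
    have : (1 : S) ⊗ₜ[A] (1 - e) = q (A := A) e S 0 := by
      rw [q, TensorProduct.zero_tmul, zero_add]
    rw [this, h S 0]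
  intro S _ _ x w
  have hEE : ((1 : S) ⊗ₜ[A] e) * (1 ⊗ₜ[A] e) = 1 ⊗ₜ[A] e := by
    rw [Algebra.TensorProduct.tmul_mul_tmul, h1, one_mul]
  have hE'E' : ((1 : S) ⊗ₜ[A] (1 - e)) * (1 ⊗ₜ[A] (1 - e)) = 1 ⊗ₜ[A] (1 - e) := by
    rw [Algebra.TensorProduct.tmul_mul_tmul, h4, one_mul]
  have hEE' : ((1 : S) ⊗ₜ[A] e) * (1 ⊗ₜ[A] (1 - e)) = 0 := by
    rw [Algebra.TensorProduct.tmul_mul_tmul, h2, TensorProduct.tmul_zero]
  have hsum : ((1 : S) ⊗ₜ[A] (1 - e)) + (1 ⊗ₜ[A] e) = 1 := by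
    rw [← TensorProduct.tmul_add, sub_add_cancel, Algebra.TensorProduct.one_def]
  have dec : ∀ y : S ⊗[A] B, F.law.toFun' S y =
      F.law.toFun' S (y * (1 ⊗ₜ[A] (1 - e)) + 1 ⊗ₜ[A] e) := by
    intro y
    have hy : y = (y * (1 ⊗ₜ[A] (1 - e)) + 1 ⊗ₜ[A] e) * (1 ⊗ₜ[A] (1 - e) + y * (1 ⊗ₜ[A] e)) := by
      have : (y * ((1 : S) ⊗ₜ[A] (1 - e)) + 1 ⊗ₜ[A] e) * (1 ⊗ₜ[A] (1 - e) + y * (1 ⊗ₜ[A] e)) =
          y * (((1 : S) ⊗ₜ[A] (1 - e)) * (1 ⊗ₜ[A] (1 - e))) +
          y * y * (((1 : S) ⊗ₜ[A] e) * (1 ⊗ₜ[A] (1 - e))) +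
          ((1 : S) ⊗ₜ[A] e) * (1 ⊗ₜ[A] (1 - e)) + y * (((1 : S) ⊗ₜ[A] e) * (1 ⊗ₜ[A] e)) := by
        ring
      rw [this, hE'E', hEE', hEE, mul_zero, add_zero, add_zero, ← mul_add, hsum, mul_one]
    conv_lhs => rw [hy]
    rw [(F.mult S).2, key, mul_one]
  rw [dec (x + w * (1 ⊗ₜ[A] e)), dec x, add_mul, mul_assoc, hEE', mul_zero, add_zero]

theorem card_le_of_orthogonal [ConnectedSpace (PrimeSpectrum A)] (hker : PolLaw.ker F.law = ⊥)
    (s : Finset B) (hidem : ∀ e ∈ s, IsIdempotentElem e) (hne : ∀ e ∈ s, e ≠ 0)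
    (horth : ∀ e ∈ s, ∀ e' ∈ s, e ≠ e' → e * e' = 0) (hsum : ∑ e ∈ s, e = 1) : s.card ≤ d := by
  classical
  have hne' : Nonempty (PrimeSpectrum A) := inferInstance
  have hnt : Nontrivial A := (PrimeSpectrum.nonempty_iff_nontrivial).mp hne'
  have hA : ∀ a : A, IsIdempotentElem a → a = 0 ∨ a = 1 := idem_trivial_of_connected
  have hex : ∀ e : B, ∃ k : ℕ, e ∈ s → (pe e F = X ^ k ∧ 1 ≤ k) := by
    intro e
    by_cases he : e ∈ s
    · obtain ⟨k, hk⟩ := exists_pe_eq e F hA (hidem e he)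
      refine ⟨k, fun _ => ⟨hk, ?_⟩⟩
      by_contra hk0
      have hk0' : k = 0 := by omega
      subst hk0'
      have hmem : e ∈ PolLaw.ker F.law := by
        apply mem_ker_of_F_q_eq_one F e (hidem e he)
        intro S _ _ t
        rw [F_q_eq e F 0 hk, pow_zero, one_smul]
      rw [hker, Ideal.mem_bot] at hmem
      exact hne e he hmem
    · exact ⟨0, fun h => absurd h he⟩
  choose kf hkf using hex
  have h1 : (X : A[X]) ^ d = X ^ (∑ e ∈ s, kf e) := by
    rw [← pe_one F, ← hsum, pe_sum F s horth, ← Finset.prod_pow_eq_pow_sum]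
    exact Finset.prod_congr rfl fun e he => (hkf e he).1
  have h2 : d = ∑ e ∈ s, kf e := by
    have := congrArg natDegree h1
    rwa [natDegree_X_pow, natDegree_X_pow] at this
  rw [h2, Finset.card_eq_sum_ones]
  exact Finset.sum_le_sum fun e he => (hkf e he).2

end Groth.Agent.Lib.Helper32.PolLawIdem
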