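import Groth.Agent.Lib.Helper32.PolLawPolar

set_option autoImplicit false
universe u
open scoped TensorProduct

namespace Groth.Agent.Lib.Helper32.PolLawIversen

open Groth.Agent.Lib.Helper32.PolLawBasic Groth.Agent.Lib.Helper32.PolLawBC
  Groth.Agent.Lib.Helper32.PolLawFactor
  Groth.Agent.Lib.Helper32.PolLawFactorC Groth.Agent.Lib.Helper32.PolLawGammaGen
  Groth.Agent.Lib.Helper32.PolLawGammaFT Groth.Agent.Lib.Helper32.PolLawPolar MvPolynomial

variable {A : Type u} [CommRing A]

section Coef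

variable {R : Type u} [CommRing R] [Algebra A R] {ι : Type*}

theorem cfC_mul [DecidableEq ι] (μ : ι →₀ ℕ) (Φ Ψ : MvPolynomial ι A ⊗[A] R) :
    cfC μ (Φ * Ψ) = ∑ p ∈ Finset.HasAntidiagonal.antidiagonal μ, cfC p.1 Φ * cfC p.2 Ψ := by
  induction Φ using TensorProduct.induction_on with
  | zero => simp
  | add x y hx hy =>
    rw [add_mul, map_add, hx, hy, ← Finset.sum_add_distrib]
    refine Finset.sum_congr rfl fun p _ => ?_
    rw [map_add, add_mul]
  | tmul p c =>
    induction Ψ using TensorProduct.induction_on with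
    | zero => simp
    | add x y hx hy =>
      rw [mul_add, map_add, hx, hy, ← Finset.sum_add_distrib]
      refine Finset.sum_congr rfl fun p _ => ?_
      rw [map_add, mul_add]
    | tmul q c' =>
      rw [Algebra.TensorProduct.tmul_mul_tmul, cfC_tmul, coeff_mul, Finset.sum_smul]
      refine Finset.sum_congr rfl fun x _ => ?_
      rw [cfC_tmul, cfC_tmul, smul_mul_smul_comm]

def CoefIn (D : Subalgebra A R) (Φ : MvPolynomial ι A ⊗[A] R) : Prop := ∀ μ, cfC μ Φ ∈ D

theorem CoefIn.add {D : Subalgebra A R} {Φ Ψ : MvPolynomial ι A ⊗[A] R} (h : CoefIn D Φ)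
    (h' : CoefIn D Ψ) : CoefIn D (Φ + Ψ) := fun μ => by
  rw [map_add]
  exact D.add_mem (h μ) (h' μ)

theorem CoefIn.sub {D : Subalgebra A R} {Φ Ψ : MvPolynomial ι A ⊗[A] R} (h : CoefIn D Φ)
    (h' : CoefIn D Ψ) : CoefIn D (Φ - Ψ) := fun μ => by
  rw [map_sub]
  exact D.sub_mem (h μ) (h' μ)

theorem cfC_mul_X [DecidableEq ι] (i : ι) (μ : ι →₀ ℕ) (Φ : MvPolynomial ι A ⊗[A] R) :
    cfC (μ + Finsupp.single i 1) (Φ * ((X i : MvPolynomial ι A) ⊗ₜ[A] (1 : R))) = cfC μ Φ := by
  induction Φ using TensorProduct.induction_on with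
  | zero => simp
  | add x y hx hy => rw [add_mul, map_add, hx, hy, map_add]
  | tmul p c =>
    rw [Algebra.TensorProduct.tmul_mul_tmul, cfC_tmul, cfC_tmul, mul_one, coeff_mul_X]

theorem exists_bound (i : ι) (Φ : MvPolynomial ι A ⊗[A] R) :
    ∃ K : ℕ, ∀ μ : ι →₀ ℕ, K < μ i → cfC μ Φ = 0 := by
  classical
  obtain ⟨N, hN⟩ := exists_expand (A := A) Φ
  refine ⟨N.sup (fun ν => ν i), fun μ hμ => ?_⟩
  rw [hN N subset_rfl, map_sum]
  refine Finset.sum_eq_zero fun ν hν => ?_
  rw [cfC_mnC, if_neg]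
  rintro rfl
  exact absurd (Finset.le_sup (f := fun ν => ν i) hν) (not_le.mpr hμ)

theorem coefIn_of_mul_monic [DecidableEq ι] (D : Subalgebra A R) (i : ι)
    (G Y : MvPolynomial ι A ⊗[A] R)
    (ha : CoefIn D (G * ((X i : MvPolynomial ι A) ⊗ₜ[A] (1 : R) + Y))) (hb : CoefIn D Y)
    (hc : ∀ μ : ι →₀ ℕ, μ i ≠ 0 → cfC μ Y = 0) : CoefIn D G := by
  obtain ⟨K, hK⟩ := exists_bound i G
  have key : ∀ (m : ℕ) (μ : ι →₀ ℕ), K + 1 ≤ μ i + m → cfC μ G ∈ D := by
    intro m
    induction m with
    | zero =>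
      intro μ hμ
      rw [hK μ (by omega)]
      exact D.zero_mem
    | succ m ih =>
      intro μ hμ
      have h1 := ha (μ + Finsupp.single i 1)
      rw [mul_add, map_add, cfC_mul_X, cfC_mul] at h1
      have h2 : (∑ p ∈ Finset.HasAntidiagonal.antidiagonal (μ + Finsupp.single i 1), cfC p.1 G * cfC p.2 Y) ∈ D := by
        refine D.sum_mem fun p hp => ?_
        by_cases hp2 : p.2 i = 0
        · refine D.mul_mem (ih p.1 ?_) (hb p.2)
          rw [Finset.HasAntidiagonal.mem_antidiagonal] at hp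
          have := DFunLike.congr_fun hp i
          simp only [Finsupp.add_apply, Finsupp.single_eq_same] at this
          omega
        · rw [hc p.2 hp2, mul_zero]
          exact D.zero_mem
      have := D.sub_mem h1 h2
      rwa [add_sub_cancel_right] at this
  intro μ
  exact key (K + 1) μ (by omega)

end Coef

section Kappa

variable {σ : Type u}

noncomputable def kap : MvPolynomial (Option σ) A →ₐ[A] MvPolynomial (Option σ) A :=
  aeval (fun o : Option σ => Option.elim o 0 (fun i => X (some i)))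

theorem kap_rename (p : MvPolynomial σ A) :
    kap (rename (some : σ → Option σ) p) = rename some p := by
  have : (kap (A := A) (σ := σ)).comp (rename some) = rename some := by
    apply MvPolynomial.algHom_ext
    intro i
    simp [kap]
  exact DFunLike.congr_fun this p

theorem coeff_kap (p : MvPolynomial (Option σ) A) :
    ∀ μ : Option σ →₀ ℕ, μ none = 0 → coeff μ (kap p) = coeff μ p := by
  classical
  induction p using MvPolynomial.induction_on with
  | C a =>
    intro μ _
    simp [kap]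
  | add p q hp hq =>
    intro μ hμ
    rw [map_add, coeff_add, coeff_add, hp μ hμ, hq μ hμ]
  | mul_X p o ih =>
    intro μ hμ
    rw [map_mul]
    cases o with
    | none =>
      have h0 : kap (X none : MvPolynomial (Option σ) A) = 0 := by simp [kap]
      rw [h0, mul_zero, coeff_zero, coeff_mul_X', if_neg]
      rw [Finsupp.mem_support_iff, hμ]
      exact fun h => h rfl
    | some i =>
      have h0 : kap (X (some i) : MvPolynomial (Option σ) A) = X (some i) := by simp [kap]
      rw [h0, coeff_mul_X', coeff_mul_X']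
      split_ifs with h
      · apply ih
        rw [Finsupp.tsub_apply, hμ, Finsupp.single_eq_of_ne (by simp), tsub_zero]
      · rfl

theorem cfC_map_kap {R : Type u} [CommRing R] [Algebra A R] (μ : Option σ →₀ ℕ) (hμ : μ none = 0)
    (Φ : MvPolynomial (Option σ) A ⊗[A] R) :
    cfC μ (Algebra.TensorProduct.map (kap (A := A) (σ := σ)) (AlgHom.id A R) Φ) = cfC μ Φ := by
  induction Φ using TensorProduct.induction_on with
  | zero => simp
  | add x y hx hy => rw [map_add, map_add, hx, hy, map_add]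
  | tmul p c =>
    rw [Algebra.TensorProduct.map_tmul, cfC_tmul, cfC_tmul, coeff_kap p μ hμ, AlgHom.id_apply]

theorem cfC_map_rename_some {R : Type u} [CommRing R] [Algebra A R] (ν : σ →₀ ℕ)
    (Φ : MvPolynomial σ A ⊗[A] R) :
    cfC (ν.mapDomain some) (Algebra.TensorProduct.map (rename (some : σ → Option σ))
      (AlgHom.id A R) Φ) = cfC ν Φ := by
  induction Φ using TensorProduct.induction_on with
  | zero => simp
  | add x y hx hy => rw [map_add, map_add, hx, hy, map_add]
  | tmul p c =>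
    rw [Algebra.TensorProduct.map_tmul, cfC_tmul, cfC_tmul,
      coeff_rename_mapDomain _ (Option.some_injective σ), AlgHom.id_apply]

theorem cfC_map_rename_some_eq_zero {R : Type u} [CommRing R] [Algebra A R] (μ : Option σ →₀ ℕ)
    (hμ : μ none ≠ 0) (Φ : MvPolynomial σ A ⊗[A] R) :
    cfC μ (Algebra.TensorProduct.map (rename (some : σ → Option σ)) (AlgHom.id A R) Φ) = 0 := by
  induction Φ using TensorProduct.induction_on with
  | zero => simp
  | add x y hx hy => rw [map_add, map_add, hx, hy, add_zero]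
  | tmul p c =>
    rw [Algebra.TensorProduct.map_tmul, cfC_tmul, coeff_rename_eq_zero, zero_smul]
    intro u hu
    exfalso
    apply hμ
    rw [← hu, Finsupp.mapDomain_of_notMem_range]
    simp

end Kappa

section Gen

theorem lTensor_one {R R' : Type u} [CommRing R] [Algebra A R] [CommRing R'] [Algebra A R']
    (f : R →ₐ[A] R') (S : Type u) [CommSemiring S] [Algebra A S] :
    f.toLinearMap.lTensor S (1 : S ⊗[A] R) = 1 := by
  rw [PolLaw.lTensor_algHom_apply, map_one]

end Gen

section Main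

variable {B Cd Ce : Type u} [CommRing B] [Algebra A B] [CommRing Cd] [Algebra A Cd]
  [CommRing Ce] [Algebra A Ce] (e : ℕ)
  (γd : PolLaw.MulLaw A B Cd (e + 1)) (γe : PolLaw.MulLaw A B Ce e)
  (ω : Cd ⊗[A] B →ₐ[A] Ce ⊗[A] B)
  (hω : ∀ (S : Type u) [CommSemiring S] [Algebra A S] (x y : S ⊗[A] B),
      ω.toLinearMap.lTensor S
        ((Algebra.TensorProduct.includeLeft : Cd →ₐ[A] Cd ⊗[A] B).toLinearMap.lTensor S (γd.law.toFun' S x) *
          (Algebra.TensorProduct.includeRight : B →ₐ[A] Cd ⊗[A] B).toLinearMap.lTensor S y) =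
      (Algebra.TensorProduct.includeLeft : Ce →ₐ[A] Ce ⊗[A] B).toLinearMap.lTensor S (γe.law.toFun' S x) *
        (Algebra.TensorProduct.includeRight : B →ₐ[A] Ce ⊗[A] B).toLinearMap.lTensor S (x * y))

include hω

theorem one_tmul_mem (b : B) : (1 : Ce) ⊗ₜ[A] b ∈ ω.range := by
  have h := hω A 1 ((1 : A) ⊗ₜ[A] b)
  rw [(γd.mult A).1, (γe.mult A).1, lTensor_one, lTensor_one, one_mul, one_mul, one_mul,
    LinearMap.lTensor_tmul, LinearMap.lTensor_tmul, LinearMap.lTensor_tmul] at h
  have h2 := congrArg (TensorProduct.lid A (Ce ⊗[A] B)) h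
  simp only [TensorProduct.lid_tmul, one_smul] at h2
  exact ⟨_, h2⟩

theorem coef_tmul_one_mem {c : Ce} (hc : c ∈ CoefSet γe.law) : c ⊗ₜ[A] (1 : B) ∈ ω.range := by
  classical
  obtain ⟨σ, y, ν, rfl⟩ := hc
  let T := MvPolynomial (Option σ) A
  let yh : T ⊗[A] B := Algebra.TensorProduct.map (rename (some : σ → Option σ)) (AlgHom.id A B) y
  let x : T ⊗[A] B := (X none : T) ⊗ₜ[A] (1 : B) + yh
  let Ge : T ⊗[A] (Ce ⊗[A] B) :=
    (Algebra.TensorProduct.includeLeft : Ce →ₐ[A] Ce ⊗[A] B).toLinearMap.lTensor T (γe.law.toFun' T x)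
  let Y : T ⊗[A] (Ce ⊗[A] B) :=
    (Algebra.TensorProduct.includeRight : B →ₐ[A] Ce ⊗[A] B).toLinearMap.lTensor T yh
  have hx : (Algebra.TensorProduct.includeRight : B →ₐ[A] Ce ⊗[A] B).toLinearMap.lTensor T x =
      (X none : T) ⊗ₜ[A] (1 : Ce ⊗[A] B) + Y := by
    simp only [x, map_add, LinearMap.lTensor_tmul, AlgHom.toLinearMap_apply, map_one]
    rfl
  have h1 := hω T x 1
  rw [lTensor_one, mul_one, mul_one, hx] at h1
  have ha : CoefIn ω.range (Ge * ((X none : T) ⊗ₜ[A] (1 : Ce ⊗[A] B) + Y)) := by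
    intro μ
    rw [← h1, cfC_lTensor]
    exact ⟨_, rfl⟩
  have hb : CoefIn ω.range Y := by
    intro μ
    rw [cfC_lTensor]
    exact one_tmul_mem e γd γe ω hω _
  have hc : ∀ μ : Option σ →₀ ℕ, μ none ≠ 0 → cfC μ Y = 0 := by
    intro μ hμ
    rw [cfC_lTensor, cfC_map_rename_some_eq_zero μ hμ, map_zero]
  have hG := coefIn_of_mul_monic ω.range none Ge Y ha hb hc (ν.mapDomain some)
  rw [cfC_lTensor] at hG
  have hν : (ν.mapDomain (some : σ → Option σ)) none = 0 := by
    rw [Finsupp.mapDomain_of_notMem_range]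
    simp
  have hk : Algebra.TensorProduct.map (kap (A := A) (σ := σ)) (AlgHom.id A B) x = yh := by
    simp only [x, yh, map_add, Algebra.TensorProduct.map_tmul, AlgHom.id_apply]
    have h0 : kap (X none : MvPolynomial (Option σ) A) = 0 := by simp [kap]
    rw [h0, TensorProduct.zero_tmul, zero_add, ← AlgHom.comp_apply,
      ← Algebra.TensorProduct.map_comp]
    congr 2
    apply MvPolynomial.algHom_ext
    intro i
    simp [kap]
  have h3 : cfC ν (γe.law.toFun' (MvPolynomial σ A) y) =
      cfC (ν.mapDomain some) (γe.law.toFun' T x) := by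
    rw [← cfC_map_kap _ hν, ← compat, hk, compat, cfC_map_rename_some]
  rw [h3]
  exact hG

theorem omega_surjective (hγe : PolLaw.IsGammaD γe) : Function.Surjective ω := by
  have h1 : (Mgen γe.law) ≤ ω.range.comap
      (Algebra.TensorProduct.includeLeft : Ce →ₐ[A] Ce ⊗[A] B) := by
    apply Algebra.adjoin_le
    intro c hc
    exact coef_tmul_one_mem e γd γe ω hω hc
  rw [Mgen_eq_top γe hγe] at h1
  intro z
  change z ∈ ω.range
  induction z using TensorProduct.induction_on with
  | zero => exact Subalgebra.zero_mem _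
  | add x y hx hy => exact Subalgebra.add_mem _ hx hy
  | tmul c b =>
    have : c ⊗ₜ[A] b = (c ⊗ₜ[A] (1 : B)) * ((1 : Ce) ⊗ₜ[A] b) := by
      rw [Algebra.TensorProduct.tmul_mul_tmul, mul_one, one_mul]
    rw [this]
    exact Subalgebra.mul_mem _ (h1 (Algebra.mem_top (x := c)))
      (one_tmul_mem e γd γe ω hω b)

end Main

end Groth.Agent.Lib.Helper32.PolLawIversen
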