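import Groth.Agent.Lib.Helper32.PolLawTSUniv

set_option autoImplicit false
universe u
open scoped TensorProduct

namespace Groth.Agent.Lib.Helper32.PolLawLazard

open Groth.Agent.Lib.Helper32.PolLawBasic Groth.Agent.Lib.Helper32.PolLawFactor
  Groth.Agent.Lib.Helper32.PolLawFactorC Groth.Agent.Lib.Helper32.PolLawGammaGen
  Groth.Agent.Lib.Helper32.PolLawPolar Groth.Agent.Lib.Helper32.PolLawSym
  Groth.Agent.Lib.Helper32.PolLawNorm Groth.Agent.Lib.Helper32.PolLawNormKer
  Groth.Agent.Lib.Helper32.PolLawTd Groth.Agent.Lib.Helper32.PolLawTd2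
  Groth.Agent.Lib.Helper32.PolLawCorestrict Groth.Agent.Lib.Helper32.PolLawTS
  Groth.Agent.Lib.Helper32.PolLawTSUniv MvPolynomial

variable {A : Type u} [CommRing A] {d : ℕ}

section PT

variable {τ : Type u}

noncomputable def ptM : MultilinearMap A (fun _ : Fin d => MvPolynomial τ A)
    (MvPolynomial (Fin d × τ) A) :=
  (MultilinearMap.mkPiAlgebra A (Fin d) (MvPolynomial (Fin d × τ) A)).compLinearMap
    (fun j => (rename (Prod.mk j) : MvPolynomial τ A →ₐ[A] MvPolynomial (Fin d × τ) A).toLinearMap)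

theorem ptM_apply (q : Fin d → MvPolynomial τ A) :
    ptM q = ∏ j, rename (Prod.mk j) (q j) := by
  simp [ptM]

theorem sg_ptM (σ : Equiv.Perm (Fin d)) (q : Fin d → MvPolynomial τ A) :
    sg σ (ptM q) = ptM (q ∘ σ.symm) := by
  rw [ptM_apply, ptM_apply, map_prod]
  simp only [sg_rename_mk]
  rw [← Equiv.prod_comp σ (fun k => rename (Prod.mk k) ((q ∘ σ.symm) k))]
  simp

theorem monomial_eq_ptM (θ : Fin d × τ →₀ ℕ) :
    (monomial θ (1 : A) : MvPolynomial (Fin d × τ) A) =
      ptM (fun j => monomial (tupleOf θ j) (1 : A)) := by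
  rw [ptM_apply, ← monomial_thetaOf, thetaOf_tupleOf]

end PT

section TdLin

variable {τ τ' : Type u} (V : MvPolynomial τ A →ₗ[A] MvPolynomial τ' A)

noncomputable def TdLin : MvPolynomial (Fin d × τ) A →ₗ[A] MvPolynomial (Fin d × τ') A :=
  (MvPolynomial.basisMonomials (Fin d × τ) A).constr A
    (fun θ => ptM (fun j => V (monomial (tupleOf θ j) (1 : A))))

theorem TdLin_monomial (θ : Fin d × τ →₀ ℕ) :
    TdLin V (monomial θ (1 : A)) = ptM (fun j => V (monomial (tupleOf θ j) (1 : A))) := by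
  have : monomial θ (1 : A) = MvPolynomial.basisMonomials (Fin d × τ) A θ := by
    rw [MvPolynomial.coe_basisMonomials]
  rw [this, TdLin, Module.Basis.constr_basis]

theorem TdLin_ptM (q : Fin d → MvPolynomial τ A) :
    TdLin V (ptM q) = ptM (fun j => V (q j)) := by
  have h : (TdLin (d := d) V).compMultilinearMap ptM =
      (ptM (d := d) (A := A) (τ := τ')).compLinearMap (fun _ => V) := by
    apply Module.Basis.ext_multilinear (fun _ => MvPolynomial.basisMonomials τ A)
    intro p
    simp only [LinearMap.compMultilinearMap_apply, MultilinearMap.compLinearMap_apply,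
      MvPolynomial.coe_basisMonomials]
    have e : ptM (fun i => (monomial (p i)) (1 : A)) =
        (monomial (thetaOf p) (1 : A) : MvPolynomial (Fin d × τ) A) := by
      rw [ptM_apply, monomial_thetaOf]
    rw [e, TdLin_monomial, tupleOf_thetaOf]
  exact DFunLike.congr_fun h q

theorem TdLin_sg (σ : Equiv.Perm (Fin d)) (x : MvPolynomial (Fin d × τ) A) :
    TdLin V (sg σ x) = sg σ (TdLin V x) := by
  have h : (TdLin (d := d) V) ∘ₗ (sg σ).toLinearMap = (sg σ).toLinearMap ∘ₗ TdLin V := by
    apply (MvPolynomial.basisMonomials (Fin d × τ) A).ext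
    intro θ
    rw [MvPolynomial.coe_basisMonomials]
    change TdLin V (sg σ (monomial θ (1 : A))) = sg σ (TdLin V (monomial θ (1 : A)))
    rw [monomial_eq_ptM, sg_ptM, TdLin_ptM, TdLin_ptM, sg_ptM]
    rfl
  exact DFunLike.congr_fun h x

theorem Gam_sum (S : Type u) [CommSemiring S] [Algebra A S] {n : ℕ} (s : Fin n → S)
    (b : Fin n → MvPolynomial τ A) :
    Gam d S (∑ j, s j ⊗ₜ[A] b j) =
      ∑ c : Fin d → Fin n, (∏ i, s (c i)) ⊗ₜ[A] ptM (fun i => b (c i)) := by
  rw [Gam]
  simp only [map_sum, Algebra.TensorProduct.map_tmul, AlgHom.id_apply]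
  rw [Finset.prod_univ_sum, Fintype.piFinset_univ]
  refine Finset.sum_congr rfl fun c _ => ?_
  rw [prod_tmul, ptM_apply]

theorem exists_fin_reprM {M : Type u} [AddCommGroup M] [Module A M] (S : Type u)
    [CommSemiring S] [Algebra A S] (x : S ⊗[A] M) :
    ∃ (n : ℕ) (s : Fin n → S) (b : Fin n → M), x = ∑ i, s i ⊗ₜ[A] b i := by
  induction x using TensorProduct.induction_on with
  | zero => exact ⟨0, Fin.elim0, Fin.elim0, by simp⟩
  | tmul x y => exact ⟨1, fun _ => x, fun _ => y, by simp⟩
  | add x y hx hy =>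
    obtain ⟨n, a₁, b₁, rfl⟩ := hx
    obtain ⟨m, a₂, b₂, rfl⟩ := hy
    refine ⟨n + m, Fin.append a₁ a₂, Fin.append b₁ b₂, ?_⟩
    rw [Fin.sum_univ_add]
    simp

theorem TdLin_Gam (S : Type u) [CommSemiring S] [Algebra A S] (x : S ⊗[A] MvPolynomial τ A) :
    (TdLin (d := d) V).lTensor S (Gam d S x) = Gam d S (V.lTensor S x) := by
  obtain ⟨n, s, b, rfl⟩ := exists_fin_reprM S x
  rw [Gam_sum, map_sum, map_sum]
  simp only [LinearMap.lTensor_tmul, TdLin_ptM]
  rw [Gam_sum]

end TdLin

section Kapv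

variable {B : Type u} [CommRing B] [Algebra A B] {τ : Type u} (v : τ → B)

noncomputable def kapv : MvPolynomial (Fin d × τ) A →ₐ[A] ⨂[A] _ : Fin d, B :=
  aeval (fun jt => sgl A B d jt.1 (v jt.2))

theorem kapv_rename_mk (j : Fin d) (p : MvPolynomial τ A) :
    kapv v (rename (Prod.mk j) p) = sgl A B d j (aeval v p) := by
  have h : (kapv (A := A) (d := d) v).comp (rename (Prod.mk j) : MvPolynomial τ A →ₐ[A] _) =
      (sgl A B d j).comp (aeval v) := by
    apply MvPolynomial.algHom_ext
    intro b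
    simp [kapv]
  exact DFunLike.congr_fun h p

theorem kapv_ptM (q : Fin d → MvPolynomial τ A) :
    kapv v (ptM q) = ∏ j, sgl A B d j (aeval v (q j)) := by
  rw [ptM_apply, map_prod]
  simp only [kapv_rename_mk]

theorem kap_ptM (q : Fin d → MvPolynomial B A) :
    kap A B d (ptM q) = ∏ j, sgl A B d j (aeval id (q j)) :=
  kapv_ptM id q

theorem kap_Td (v' : τ → B) (x : MvPolynomial (Fin d × τ) A) :
    kap A B d (Td (aeval (fun i => (X (v' i) : MvPolynomial B A))) x) = kapv v' x := by
  have h : (kap A B d).comp (Td (aeval (fun i => (X (v' i) : MvPolynomial B A)))) =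
      kapv (A := A) (d := d) v' := by
    apply MvPolynomial.algHom_ext
    rintro ⟨j, i⟩
    simp [Td_X, kapv, kap_X]
  exact DFunLike.congr_fun h x

end Kapv

section KKspan

variable {B : Type u} [CommRing B] [Algebra A B]

def GG (A B : Type u) [CommRing A] [CommRing B] [Algebra A B] (d : ℕ) :
    Set (MvPolynomial (Fin d × B) A) :=
  {y | ∃ (q : Fin d → MvPolynomial B A) (j : Fin d), aeval id (q j) = (0 : B) ∧ y = ptM q}

theorem X_mul_ptM (k : Fin d) (b : B) (q : Fin d → MvPolynomial B A) :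
    (X (k, b) : MvPolynomial (Fin d × B) A) * ptM q =
      ptM (fun j => (if j = k then X b else 1) * q j) := by
  classical
  rw [ptM_apply, ptM_apply]
  simp only [map_mul]
  rw [Finset.prod_mul_distrib]
  congr 1
  rw [Finset.prod_eq_single k]
  · simp
  · intro j _ hj
    rw [if_neg hj, map_one]
  · intro h
    exact absurd (Finset.mem_univ k) h

theorem mul_mem_span_GG (r : MvPolynomial (Fin d × B) A) :
    ∀ m ∈ Submodule.span A (GG A B d), r * m ∈ Submodule.span A (GG A B d) := by
  classical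
  induction r using MvPolynomial.induction_on with
  | C a =>
    intro m hm
    rw [← MvPolynomial.algebraMap_eq, ← Algebra.smul_def]
    exact Submodule.smul_mem _ a hm
  | add p q hp hq =>
    intro m hm
    rw [add_mul]
    exact Submodule.add_mem _ (hp m hm) (hq m hm)
  | mul_X p kb hp =>
    intro m hm
    rw [mul_assoc]
    apply hp
    obtain ⟨k, b⟩ := kb
    induction hm using Submodule.span_induction with
    | zero => rw [mul_zero]; exact Submodule.zero_mem _
    | add x y _ _ hx hy => rw [mul_add]; exact Submodule.add_mem _ hx hy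
    | smul a x _ hx => rw [mul_smul_comm]; exact Submodule.smul_mem _ a hx
    | mem x hx =>
      obtain ⟨q, j, hq, rfl⟩ := hx
      rw [X_mul_ptM]
      apply Submodule.subset_span
      exact ⟨_, j, by rw [map_mul, hq, mul_zero], rfl⟩

theorem KK_le_span : ∀ y ∈ KK A B d, y ∈ Submodule.span A (GG A B d) := by
  classical
  intro y hy
  rw [KK] at hy
  induction hy using Submodule.span_induction with
  | zero => exact Submodule.zero_mem _
  | add x y _ _ hx hy => exact Submodule.add_mem _ hx hy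
  | smul r x _ hx =>
    rw [smul_eq_mul]
    exact mul_mem_span_GG r x hx
  | mem x hx =>
    obtain ⟨j, a, ha, rfl⟩ := hx
    apply Submodule.subset_span
    refine ⟨fun k => if k = j then a else 1, j, by simpa using ha, ?_⟩
    rw [ptM_apply, Finset.prod_eq_single j]
    · rw [if_pos rfl]
    · intro k _ hk
      rw [if_neg hk, map_one]
    · intro h
      exact absurd (Finset.mem_univ j) h

theorem exists_repr_of_kap_eq_zero (y : MvPolynomial (Fin d × B) A) (hy : kap A B d y = 0) :
    ∃ (n : ℕ) (c : Fin n → A) (q : Fin n → Fin d → MvPolynomial B A) (jj : Fin n → Fin d),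
      (∀ i, aeval id (q i (jj i)) = (0 : B)) ∧ y = ∑ i, c i • ptM (q i) := by
  have h1 : y ∈ Submodule.span A (GG A B d) :=
    KK_le_span y (ker_kap_le ((RingHom.mem_ker).mpr hy))
  rw [Submodule.mem_span_set'] at h1
  obtain ⟨n, c, g, hg⟩ := h1
  have hg' : ∀ i, ∃ (q : Fin d → MvPolynomial B A) (j : Fin d), aeval id (q j) = (0 : B) ∧
      (g i : MvPolynomial (Fin d × B) A) = ptM q := fun i => (g i).2
  choose q jj hq hgq using hg'
  refine ⟨n, c, q, jj, hq, ?_⟩
  rw [← hg]
  exact Finset.sum_congr rfl fun i _ => by rw [hgq]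

end KKspan

section Flat

variable {B : Type u} [CommRing B] [Algebra A B]

open scoped Classical in
noncomputable def cJ (J₀ : Finset (B →₀ ℕ)) : MvPolynomial B A →ₗ[A] (↥J₀ →₀ A) :=
  (MvPolynomial.basisMonomials B A).constr A
    (fun m => if hm : m ∈ J₀ then Finsupp.single (⟨m, hm⟩ : ↥J₀) (1 : A) else 0)

theorem cJ_monomial (J₀ : Finset (B →₀ ℕ)) (m : B →₀ ℕ) (hm : m ∈ J₀) (c : A) :
    cJ J₀ (monomial m c) = Finsupp.single (⟨m, hm⟩ : ↥J₀) c := by
  classical
  have : monomial m c = c • (MvPolynomial.basisMonomials B A m) := by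
    rw [MvPolynomial.coe_basisMonomials, smul_monomial, smul_eq_mul, mul_one]
  rw [this, map_smul, cJ, Module.Basis.constr_basis, dif_pos hm, Finsupp.smul_single,
    smul_eq_mul, mul_one]

noncomputable def xN (J₀ : Finset (B →₀ ℕ)) : (↥J₀ →₀ A) →ₗ[A] B :=
  Finsupp.linearCombination A (fun m : ↥J₀ => (aeval id (monomial m.1 (1 : A)) : B))

theorem xN_cJ (J₀ : Finset (B →₀ ℕ)) (p : MvPolynomial B A) (hp : p.support ⊆ J₀) :
    xN J₀ (cJ J₀ p) = aeval id p := by
  conv_lhs => rw [p.as_sum]
  conv_rhs => rw [p.as_sum]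
  rw [map_sum, map_sum, map_sum]
  refine Finset.sum_congr rfl fun m hm => ?_
  rw [cJ_monomial J₀ m (hp hm), xN, Finsupp.linearCombination_single]
  have : monomial m (coeff m p) = coeff m p • monomial m (1 : A) := by
    rw [smul_monomial, smul_eq_mul, mul_one]
  rw [this, map_smul]

theorem exists_flat_factor [Module.Flat A B] (J₀ : Finset (B →₀ ℕ)) {ι' : Type} [Fintype ι']
    (a' : ι' → MvPolynomial B A) (hsupp : ∀ i, (a' i).support ⊆ J₀)
    (h0 : ∀ i, aeval id (a' i) = (0 : B)) :
    ∃ (k : ℕ) (V : MvPolynomial B A →ₗ[A] MvPolynomial (ULift.{u} (Fin k)) A)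
      (v' : ULift.{u} (Fin k) → B),
      (∀ p : MvPolynomial B A, p.support ⊆ J₀ → aeval v' (V p) = aeval id p) ∧
        ∀ i, V (a' i) = 0 := by
  classical
  let fK : (ι' →₀ A) →ₗ[A] (↥J₀ →₀ A) := Finsupp.linearCombination A (fun i => cJ J₀ (a' i))
  have hfK : ∀ i, fK (Finsupp.single i 1) = cJ J₀ (a' i) := by
    intro i
    rw [Finsupp.linearCombination_single, one_smul]
  have hcomp : xN J₀ ∘ₗ fK = 0 := by
    apply Finsupp.lhom_ext'
    intro i
    apply LinearMap.ext_ring
    rw [LinearMap.comp_apply, LinearMap.comp_apply, Finsupp.lsingle_apply, hfK,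
      xN_cJ J₀ _ (hsupp i), h0]
    simp
  obtain ⟨k, a, y, hxy, haf⟩ := Module.Flat.exists_factorization_of_comp_eq_zero_of_free hcomp
  let lin : (Fin k →₀ A) →ₗ[A] MvPolynomial (ULift.{u} (Fin k)) A :=
    Finsupp.linearCombination A (fun l => (X (ULift.up l) : MvPolynomial (ULift.{u} (Fin k)) A))
  let v' : ULift.{u} (Fin k) → B := fun i => y (Finsupp.single i.down 1)
  have hlin : ∀ z : Fin k →₀ A, aeval v' (lin z) = y z := by
    intro z
    have h : (aeval v' : MvPolynomial (ULift.{u} (Fin k)) A →ₐ[A] B).toLinearMap ∘ₗ lin = y := by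
      apply Finsupp.lhom_ext'
      intro l
      apply LinearMap.ext_ring
      rw [LinearMap.comp_apply, LinearMap.comp_apply, Finsupp.lsingle_apply,
        Finsupp.linearCombination_single, one_smul, AlgHom.toLinearMap_apply, aeval_X,
        LinearMap.comp_apply, Finsupp.lsingle_apply]
    exact DFunLike.congr_fun h z
  refine ⟨k, lin ∘ₗ a ∘ₗ cJ J₀, v', fun p hp => ?_, fun i => ?_⟩
  · rw [LinearMap.comp_apply, LinearMap.comp_apply, hlin, ← LinearMap.comp_apply, ← hxy,
      xN_cJ J₀ p hp]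
  · have h1 : a (cJ J₀ (a' i)) = 0 := by
      rw [← hfK, ← LinearMap.comp_apply, haf, LinearMap.zero_apply]
    rw [LinearMap.comp_apply, LinearMap.comp_apply, h1, map_zero]

end Flat

end Groth.Agent.Lib.Helper32.PolLawLazard
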