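import Groth.Agent.Lib.Helper32.PolLawSym

set_option autoImplicit false
universe u
open scoped TensorProduct

namespace Groth.Agent.Lib.Helper32.PolLawNorm

open Groth.Agent.Lib.Helper32.PolLawBasic Groth.Agent.Lib.Helper32.PolLawFactor
  Groth.Agent.Lib.Helper32.PolLawFactorC Groth.Agent.Lib.Helper32.PolLawGammaGen
  Groth.Agent.Lib.Helper32.PolLawPolar Groth.Agent.Lib.Helper32.PolLawSym MvPolynomial

variable {A : Type u} [CommRing A] {τ : Type u} {d : ℕ}

section GamAlg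

variable (S : Type u) [CommSemiring S] [Algebra A S]

theorem Gam_mul (x y : S ⊗[A] MvPolynomial τ A) : Gam d S (x * y) = Gam d S x * Gam d S y := by
  rw [Gam, Gam, Gam, ← Finset.prod_mul_distrib]
  simp only [map_mul]

theorem Gam_one : Gam d S (1 : S ⊗[A] MvPolynomial τ A) = 1 := by
  rw [Gam]
  simp

end GamAlg

section Two

variable {ι : Type*}

noncomputable def comb (ν ν' : ι →₀ ℕ) : ι ⊕ ι →₀ ℕ :=
  ν.mapDomain Sum.inl + ν'.mapDomain Sum.inr

theorem comb_inl (ν ν' : ι →₀ ℕ) (a : ι) : comb ν ν' (Sum.inl a) = ν a := by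
  rw [comb, Finsupp.add_apply, Finsupp.mapDomain_apply Sum.inl_injective,
    Finsupp.mapDomain_of_notMem_range, add_zero]
  rintro ⟨b, hb⟩
  exact Sum.inr_ne_inl hb

theorem comb_inr (ν ν' : ι →₀ ℕ) (a : ι) : comb ν ν' (Sum.inr a) = ν' a := by
  rw [comb, Finsupp.add_apply, Finsupp.mapDomain_apply Sum.inr_injective,
    Finsupp.mapDomain_of_notMem_range, zero_add]
  rintro ⟨b, hb⟩
  exact Sum.inl_ne_inr hb

theorem comb_inj {ν₁ ν₁' ν ν' : ι →₀ ℕ} : comb ν₁ ν₁' = comb ν ν' ↔ ν₁ = ν ∧ ν₁' = ν' := by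
  constructor
  · intro h
    constructor
    · ext a
      rw [← comb_inl ν₁ ν₁' a, h, comb_inl]
    · ext a
      rw [← comb_inr ν₁ ν₁' a, h, comb_inr]
  · rintro ⟨rfl, rfl⟩
    rfl

theorem monomial_comb (ν ν' : ι →₀ ℕ) :
    (monomial (comb ν ν') (1 : A) : MvPolynomial (ι ⊕ ι) A) =
      rename Sum.inl (monomial ν (1 : A)) * rename Sum.inr (monomial ν' (1 : A)) := by
  rw [rename_monomial, rename_monomial, monomial_mul, one_mul, comb]

end Two

section Mult

variable {B : Type u} [CommRing B] [Algebra A B] {C : Type u} [CommRing C] [Algebra A C]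
  (γ : PolLaw.MulLaw A B C d) (v : τ → B)

noncomputable def Gv : PolLaw.MulLaw A (MvPolynomial τ A) C d := γ.precomp (aeval v)

noncomputable def hv : MvPolynomial (Fin d × τ) A →ₗ[A] C := hLinC (Gv γ v).law d

theorem hv_Gam (S : Type u) [CommSemiring S] [Algebra A S] (x : S ⊗[A] MvPolynomial τ A) :
    (hv γ v).lTensor S (Gam d S x) = (Gv γ v).law.toFun' S x :=
  (factorC (Gv γ v).law (Gv γ v).homog S x).symm

theorem Gv_toFun' (S : Type u) [CommSemiring S] [Algebra A S] (x : S ⊗[A] MvPolynomial τ A) :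
    (Gv γ v).law.toFun' S x =
      γ.law.toFun' S (Algebra.TensorProduct.map (AlgHom.id S S) (aeval v) x) :=
  mulLaw_precomp_toFun' γ (aeval v) S x

theorem hv_one (S : Type u) [CommSemiring S] [Algebra A S] :
    (hv γ v).lTensor S (1 : S ⊗[A] MvPolynomial (Fin d × τ) A) = 1 := by
  rw [← Gam_one (d := d) (τ := τ) S, hv_Gam]
  exact ((Gv γ v).mult S).1

open scoped Classical in
theorem extract (J : Finset (τ →₀ ℕ)) (ν ν' : (τ →₀ ℕ) →₀ ℕ)
    (c : (Fin d → (τ →₀ ℕ)) → (Fin d → (τ →₀ ℕ)) → C) :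
    cfC (comb ν ν') (∑ p ∈ Fintype.piFinset (fun _ : Fin d => J),
      ∑ p' ∈ Fintype.piFinset (fun _ : Fin d => J),
        ((rename Sum.inl (monomial (nuOf p) (1 : A)) : MvPolynomial ((τ →₀ ℕ) ⊕ (τ →₀ ℕ)) A) *
          rename Sum.inr (monomial (nuOf p') (1 : A))) ⊗ₜ[A] c p p') =
      ∑ p ∈ (Fintype.piFinset (fun _ : Fin d => J)).filter (fun p => nuOf p = ν),
        ∑ p' ∈ (Fintype.piFinset (fun _ : Fin d => J)).filter (fun p => nuOf p = ν'), c p p' := by
  rw [map_sum, Finset.sum_filter]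
  refine Finset.sum_congr rfl fun p _ => ?_
  rw [map_sum]
  by_cases hp : nuOf p = ν
  · rw [if_pos hp, Finset.sum_filter]
    refine Finset.sum_congr rfl fun p' _ => ?_
    rw [cfC_tmul, ← monomial_comb, coeff_monomial]
    by_cases hp' : nuOf p' = ν'
    · rw [if_pos hp', if_pos (comb_inj.mpr ⟨hp, hp'⟩), one_smul]
    · rw [if_neg hp', if_neg (fun h => hp' (comb_inj.mp h).2), zero_smul]
  · rw [if_neg hp]
    refine Finset.sum_eq_zero fun p' _ => ?_
    rw [cfC_tmul, ← monomial_comb, coeff_monomial, if_neg (fun h => hp (comb_inj.mp h).1),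
      zero_smul]

theorem hv_os_mul (J : Finset (τ →₀ ℕ)) (ν ν' : (τ →₀ ℕ) →₀ ℕ) :
    hv γ v (os J ν * os J ν') = hv γ v (os J ν) * hv γ v (os J ν') := by
  classical
  set R2 := MvPolynomial ((τ →₀ ℕ) ⊕ (τ →₀ ℕ)) A
  let a₁ : Rg A τ →ₐ[A] R2 := rename Sum.inl
  let a₂ : Rg A τ →ₐ[A] R2 := rename Sum.inr
  set x₁ : R2 ⊗[A] MvPolynomial τ A :=
    Algebra.TensorProduct.map a₁ (AlgHom.id A _) (gen J) with hx₁
  set x₂ : R2 ⊗[A] MvPolynomial τ A :=
    Algebra.TensorProduct.map a₂ (AlgHom.id A _) (gen J) with hx₂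
  have E₁ : Gam d R2 x₁ = ∑ p ∈ Fintype.piFinset (fun _ : Fin d => J),
      (rename Sum.inl (monomial (nuOf p) (1 : A)) : R2) ⊗ₜ[A] (monomial (thetaOf p) (1 : A)) := by
    rw [hx₁, Gam_map, Gam_gen, map_sum]
    rfl
  have E₂ : Gam d R2 x₂ = ∑ p ∈ Fintype.piFinset (fun _ : Fin d => J),
      (rename Sum.inr (monomial (nuOf p) (1 : A)) : R2) ⊗ₜ[A] (monomial (thetaOf p) (1 : A)) := by
    rw [hx₂, Gam_map, Gam_gen, map_sum]
    rfl
  have key : (hv γ v).lTensor R2 (Gam d R2 x₁ * Gam d R2 x₂) =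
      (hv γ v).lTensor R2 (Gam d R2 x₁) * (hv γ v).lTensor R2 (Gam d R2 x₂) := by
    rw [← Gam_mul, hv_Gam, hv_Gam, hv_Gam]
    exact ((Gv γ v).mult R2).2 x₁ x₂
  have L : (hv γ v).lTensor R2 (Gam d R2 x₁ * Gam d R2 x₂) =
      ∑ p ∈ Fintype.piFinset (fun _ : Fin d => J), ∑ p' ∈ Fintype.piFinset (fun _ : Fin d => J),
        ((rename Sum.inl (monomial (nuOf p) (1 : A)) : R2) *
          rename Sum.inr (monomial (nuOf p') (1 : A))) ⊗ₜ[A]
            hv γ v (monomial (thetaOf p) (1 : A) * monomial (thetaOf p') (1 : A)) := by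
    rw [E₁, E₂, Finset.sum_mul_sum, map_sum]
    refine Finset.sum_congr rfl fun p _ => ?_
    rw [map_sum]
    refine Finset.sum_congr rfl fun p' _ => ?_
    rw [Algebra.TensorProduct.tmul_mul_tmul, LinearMap.lTensor_tmul]
  have Rr : (hv γ v).lTensor R2 (Gam d R2 x₁) * (hv γ v).lTensor R2 (Gam d R2 x₂) =
      ∑ p ∈ Fintype.piFinset (fun _ : Fin d => J), ∑ p' ∈ Fintype.piFinset (fun _ : Fin d => J),
        ((rename Sum.inl (monomial (nuOf p) (1 : A)) : R2) *
          rename Sum.inr (monomial (nuOf p') (1 : A))) ⊗ₜ[A]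
            (hv γ v (monomial (thetaOf p) (1 : A)) * hv γ v (monomial (thetaOf p') (1 : A))) := by
    rw [E₁, E₂, map_sum, map_sum, Finset.sum_mul_sum]
    refine Finset.sum_congr rfl fun p _ => ?_
    refine Finset.sum_congr rfl fun p' _ => ?_
    rw [LinearMap.lTensor_tmul, LinearMap.lTensor_tmul, Algebra.TensorProduct.tmul_mul_tmul]
  have h1 := congrArg (cfC (comb ν ν')) key
  rw [L, Rr, extract, extract] at h1
  rw [os, os, Finset.sum_mul_sum, map_sum, map_sum, map_sum, Finset.sum_mul_sum]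
  simp only [map_sum]
  exact h1

theorem hv_mul_of_inv (S : Type u) [CommSemiring S] [Algebra A S]
    (y y' : S ⊗[A] MvPolynomial (Fin d × τ) A)
    (hy : ∀ σ : Equiv.Perm (Fin d), sgS S σ y = y)
    (hy' : ∀ σ : Equiv.Perm (Fin d), sgS S σ y' = y') :
    (hv γ v).lTensor S (y * y') = (hv γ v).lTensor S y * (hv γ v).lTensor S y' := by
  classical
  obtain ⟨J₁, hJ₁⟩ := exists_support S y
  obtain ⟨J₂, hJ₂⟩ := exists_support S y'
  have e₁ := inv_expand S y hy (J₁ ∪ J₂) (hJ₁ _ Finset.subset_union_left)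
  have e₂ := inv_expand S y' hy' (J₁ ∪ J₂) (hJ₂ _ Finset.subset_union_right)
  rw [e₁, e₂, Finset.sum_mul_sum, map_sum, map_sum, map_sum, Finset.sum_mul_sum]
  refine Finset.sum_congr rfl fun ν _ => ?_
  rw [map_sum]
  refine Finset.sum_congr rfl fun ν' _ => ?_
  rw [Algebra.TensorProduct.tmul_mul_tmul, LinearMap.lTensor_tmul, LinearMap.lTensor_tmul,
    LinearMap.lTensor_tmul, Algebra.TensorProduct.tmul_mul_tmul, hv_os_mul]

end Mult

section Norm

variable (S : Type u) [CommSemiring S] [Algebra A S]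

noncomputable def Nrm (z : S ⊗[A] MvPolynomial (Fin d × τ) A) :
    S ⊗[A] MvPolynomial (Fin d × τ) A :=
  ∏ σ : Equiv.Perm (Fin d), sgS S σ z

theorem Nrm_inv (ρ : Equiv.Perm (Fin d)) (z : S ⊗[A] MvPolynomial (Fin d × τ) A) :
    sgS S ρ (Nrm S z) = Nrm S z := by
  rw [Nrm, map_prod]
  simp only [sgS_sgS]
  exact Equiv.prod_comp (Equiv.mulLeft ρ) (fun σ => sgS S σ z)

theorem Nrm_mul (z z' : S ⊗[A] MvPolynomial (Fin d × τ) A) :
    Nrm S (z * z') = Nrm S z * Nrm S z' := by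
  rw [Nrm, Nrm, Nrm, ← Finset.prod_mul_distrib]
  simp only [map_mul]

theorem Nrm_one : Nrm S (1 : S ⊗[A] MvPolynomial (Fin d × τ) A) = 1 := by
  rw [Nrm]
  simp

theorem Nrm_smul (s : S) (z : S ⊗[A] MvPolynomial (Fin d × τ) A) :
    Nrm S (s • z) = s ^ d.factorial • Nrm S z := by
  rw [Nrm, Nrm]
  simp only [map_smul]
  rw [Finset.prod_smul]
  simp [Fintype.card_perm]

theorem Nrm_map {S' : Type u} [CommSemiring S'] [Algebra A S'] (φ : S →ₐ[A] S')
    (z : S ⊗[A] MvPolynomial (Fin d × τ) A) :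
    Nrm S' (Algebra.TensorProduct.map φ (AlgHom.id A _) z) =
      Algebra.TensorProduct.map φ (AlgHom.id A _) (Nrm S z) := by
  rw [Nrm, Nrm, map_prod]
  simp only [sgS_map]

theorem Nrm_of_inv (y : S ⊗[A] MvPolynomial (Fin d × τ) A)
    (hy : ∀ σ : Equiv.Perm (Fin d), sgS S σ y = y) : Nrm S y = y ^ d.factorial := by
  rw [Nrm]
  simp only [hy]
  rw [Finset.prod_const, Finset.card_univ, Fintype.card_perm, Fintype.card_fin]

end Norm

section Law

variable {B : Type u} [CommRing B] [Algebra A B] {C : Type u} [CommRing C] [Algebra A C]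
  (γ : PolLaw.MulLaw A B C d) (v : τ → B)

noncomputable def NLaw : MvPolynomial (Fin d × τ) A →ₚₗ[A] C where
  toFun' S _ _ z := (hv γ v).lTensor S (Nrm S z)
  isCompat' {S} _ _ {S'} _ _ φ := by
    funext z
    simp only [Function.comp_apply]
    rw [rTensor_eq_map, rTensor_eq_map, Nrm_map, lTensor_map']

theorem NLaw_toFun' (S : Type u) [CommSemiring S] [Algebra A S]
    (z : S ⊗[A] MvPolynomial (Fin d × τ) A) :
    (NLaw γ v).toFun' S z = (hv γ v).lTensor S (Nrm S z) := rfl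

noncomputable def NMul : PolLaw.MulLaw A (MvPolynomial (Fin d × τ) A) C d.factorial where
  law := NLaw γ v
  homog S _ _ s z := by
    rw [NLaw_toFun', NLaw_toFun', Nrm_smul, lTensor_smul']
  mult S _ _ := by
    refine ⟨?_, fun z z' => ?_⟩
    · rw [NLaw_toFun', Nrm_one, hv_one]
    · rw [NLaw_toFun', NLaw_toFun', NLaw_toFun', Nrm_mul]
      exact hv_mul_of_inv γ v S _ _ (fun σ => Nrm_inv S σ z) (fun σ => Nrm_inv S σ z')

end Law

end Groth.Agent.Lib.Helper32.PolLawNorm
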