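import Groth.Agent.Lib.Helper32.PolLawNorm

set_option autoImplicit false
universe u
open scoped TensorProduct

namespace Groth.Agent.Lib.Helper32.PolLawNormKer

open Groth.Agent.Lib.Helper32.PolLawBasic Groth.Agent.Lib.Helper32.PolLawFactor
  Groth.Agent.Lib.Helper32.PolLawFactorC Groth.Agent.Lib.Helper32.PolLawGammaGen
  Groth.Agent.Lib.Helper32.PolLawPolar Groth.Agent.Lib.Helper32.PolLawSym
  Groth.Agent.Lib.Helper32.PolLawNorm MvPolynomial

variable {A : Type u} [CommRing A] {d : ℕ}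

section Td

variable {τ₁ τ₂ τ₃ : Type u}

noncomputable def Td (g : MvPolynomial τ₁ A →ₐ[A] MvPolynomial τ₂ A) :
    MvPolynomial (Fin d × τ₁) A →ₐ[A] MvPolynomial (Fin d × τ₂) A :=
  aeval (fun jt => rename (Prod.mk jt.1) (g (X jt.2)))

theorem Td_X (g : MvPolynomial τ₁ A →ₐ[A] MvPolynomial τ₂ A) (j : Fin d) (t : τ₁) :
    Td g (X (j, t) : MvPolynomial (Fin d × τ₁) A) = rename (Prod.mk j) (g (X t)) := by
  simp [Td]

theorem Td_rename_mk (g : MvPolynomial τ₁ A →ₐ[A] MvPolynomial τ₂ A) (j : Fin d)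
    (p : MvPolynomial τ₁ A) :
    Td g (rename (Prod.mk j) p) = rename (Prod.mk j) (g p) := by
  have h : (Td (d := d) g).comp (rename (Prod.mk j) : MvPolynomial τ₁ A →ₐ[A] _) =
      (rename (Prod.mk j) : MvPolynomial τ₂ A →ₐ[A] _).comp g := by
    apply MvPolynomial.algHom_ext
    intro t
    simp [Td_X]
  exact DFunLike.congr_fun h p

theorem Td_sg (g : MvPolynomial τ₁ A →ₐ[A] MvPolynomial τ₂ A) (σ : Equiv.Perm (Fin d))
    (p : MvPolynomial (Fin d × τ₁) A) : Td g (sg σ p) = sg σ (Td g p) := by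
  have h : (Td (d := d) g).comp (sg σ) = (sg σ).comp (Td g) := by
    apply MvPolynomial.algHom_ext
    rintro ⟨j, t⟩
    simp [Td_X, sg_X, sg_rename_mk]
  exact DFunLike.congr_fun h p

theorem Td_comp (g : MvPolynomial τ₂ A →ₐ[A] MvPolynomial τ₃ A)
    (g' : MvPolynomial τ₁ A →ₐ[A] MvPolynomial τ₂ A) (p : MvPolynomial (Fin d × τ₁) A) :
    Td g (Td g' p) = Td (g.comp g') p := by
  have h : (Td (d := d) g).comp (Td g') = Td (g.comp g') := by
    apply MvPolynomial.algHom_ext
    rintro ⟨j, t⟩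
    simp [Td_X, Td_rename_mk]
  exact DFunLike.congr_fun h p

theorem Td_id (p : MvPolynomial (Fin d × τ₁) A) : Td (AlgHom.id A (MvPolynomial τ₁ A)) p = p := by
  have h : Td (d := d) (AlgHom.id A (MvPolynomial τ₁ A)) = AlgHom.id A _ := by
    apply MvPolynomial.algHom_ext
    rintro ⟨j, t⟩
    simp [Td_X]
  exact DFunLike.congr_fun h p

variable (S : Type u) [CommSemiring S] [Algebra A S]

noncomputable def TdS (g : MvPolynomial τ₁ A →ₐ[A] MvPolynomial τ₂ A) :
    S ⊗[A] MvPolynomial (Fin d × τ₁) A →ₐ[S] S ⊗[A] MvPolynomial (Fin d × τ₂) A :=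
  Algebra.TensorProduct.map (AlgHom.id S S) (Td g)

@[simp] theorem TdS_tmul (g : MvPolynomial τ₁ A →ₐ[A] MvPolynomial τ₂ A) (s : S)
    (p : MvPolynomial (Fin d × τ₁) A) : TdS S g (s ⊗ₜ[A] p) = s ⊗ₜ[A] Td g p := rfl

theorem TdS_sgS (g : MvPolynomial τ₁ A →ₐ[A] MvPolynomial τ₂ A) (σ : Equiv.Perm (Fin d))
    (y : S ⊗[A] MvPolynomial (Fin d × τ₁) A) : TdS S g (sgS S σ y) = sgS S σ (TdS S g y) := by
  induction y using TensorProduct.induction_on with
  | zero => simp
  | add x y hx hy => simp only [map_add, hx, hy]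
  | tmul s p => simp [Td_sg]

theorem TdS_Nrm (g : MvPolynomial τ₁ A →ₐ[A] MvPolynomial τ₂ A)
    (z : S ⊗[A] MvPolynomial (Fin d × τ₁) A) : TdS S g (Nrm S z) = Nrm S (TdS S g z) := by
  rw [Nrm, Nrm, map_prod]
  simp only [TdS_sgS]

theorem TdS_map_mk (g : MvPolynomial τ₁ A →ₐ[A] MvPolynomial τ₂ A) (j : Fin d)
    (x : S ⊗[A] MvPolynomial τ₁ A) :
    TdS S g (Algebra.TensorProduct.map (AlgHom.id S S)
      (rename (Prod.mk j) : MvPolynomial τ₁ A →ₐ[A] MvPolynomial (Fin d × τ₁) A) x) =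
    Algebra.TensorProduct.map (AlgHom.id S S)
      (rename (Prod.mk j) : MvPolynomial τ₂ A →ₐ[A] MvPolynomial (Fin d × τ₂) A)
      (Algebra.TensorProduct.map (AlgHom.id S S) g x) := by
  induction x using TensorProduct.induction_on with
  | zero => simp
  | add x y hx hy => simp only [map_add, hx, hy]
  | tmul s p => simp [Td_rename_mk]

theorem TdS_Gam (g : MvPolynomial τ₁ A →ₐ[A] MvPolynomial τ₂ A) (x : S ⊗[A] MvPolynomial τ₁ A) :
    TdS S g (Gam d S x) = Gam d S (Algebra.TensorProduct.map (AlgHom.id S S) g x) := by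
  rw [Gam, Gam, map_prod]
  simp only [TdS_map_mk]

theorem TdS_comp (g : MvPolynomial τ₂ A →ₐ[A] MvPolynomial τ₃ A)
    (g' : MvPolynomial τ₁ A →ₐ[A] MvPolynomial τ₂ A) (y : S ⊗[A] MvPolynomial (Fin d × τ₁) A) :
    TdS S g (TdS S g' y) = TdS S (g.comp g') y := by
  induction y using TensorProduct.induction_on with
  | zero => simp
  | add x y hx hy => simp only [map_add, hx, hy]
  | tmul s p => simp [Td_comp]

theorem TdS_id (y : S ⊗[A] MvPolynomial (Fin d × τ₁) A) :
    TdS S (AlgHom.id A (MvPolynomial τ₁ A)) y = y := by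
  induction y using TensorProduct.induction_on with
  | zero => simp
  | add x y hx hy => simp only [map_add, hx, hy]
  | tmul s p => simp [Td_id]

theorem TdS_inv (g : MvPolynomial τ₁ A →ₐ[A] MvPolynomial τ₂ A)
    (y : S ⊗[A] MvPolynomial (Fin d × τ₁) A) (hy : ∀ σ : Equiv.Perm (Fin d), sgS S σ y = y)
    (σ : Equiv.Perm (Fin d)) : sgS S σ (TdS S g y) = TdS S g y := by
  rw [← TdS_sgS, hy]

end Td

section Nat

variable {τ₁ τ₂ : Type u} {B : Type u} [CommRing B] [Algebra A B] {C : Type u} [CommRing C]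
  [Algebra A C] (γ : PolLaw.MulLaw A B C d)

theorem lTensor_comp_apply' {M N Q : Type u} [AddCommGroup M] [Module A M] [AddCommGroup N]
    [Module A N] [AddCommGroup Q] [Module A Q] (g : N →ₗ[A] Q) (f : M →ₗ[A] N) (S : Type u)
    [CommSemiring S] [Algebra A S] (y : S ⊗[A] M) :
    (g ∘ₗ f).lTensor S y = g.lTensor S (f.lTensor S y) := by
  rw [LinearMap.lTensor_comp]
  rfl

theorem lTensor_Td (g : MvPolynomial τ₁ A →ₐ[A] MvPolynomial τ₂ A) (S : Type u)
    [CommSemiring S] [Algebra A S] (y : S ⊗[A] MvPolynomial (Fin d × τ₁) A) :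
    (Td (d := d) g).toLinearMap.lTensor S y = TdS S g y := by
  rw [PolLaw.lTensor_algHom_apply]
  rfl

theorem hv_nat (v₁ : τ₁ → B) (v₂ : τ₂ → B) (g : MvPolynomial τ₁ A →ₐ[A] MvPolynomial τ₂ A)
    (hg : (aeval v₂ : MvPolynomial τ₂ A →ₐ[A] B).comp g = aeval v₁)
    (S : Type u) [CommSemiring S] [Algebra A S] (y : S ⊗[A] MvPolynomial (Fin d × τ₁) A)
    (hy : ∀ σ : Equiv.Perm (Fin d), sgS S σ y = y) :
    (hv γ v₁).lTensor S y = (hv γ v₂).lTensor S (TdS S g y) := by
  obtain ⟨J, hJ⟩ := exists_support S y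
  have h := EP S (hv γ v₁) ((hv γ v₂) ∘ₗ (Td (d := d) g).toLinearMap) J ?_ y hy
    (hJ J (Finset.Subset.refl J))
  · rw [h, lTensor_comp_apply', lTensor_Td]
  · rw [lTensor_comp_apply', lTensor_Td, TdS_Gam, hv_Gam, hv_Gam, Gv_toFun', Gv_toFun']
    congr 1
    have : ∀ x : Rg A τ₁ ⊗[A] MvPolynomial τ₁ A,
        Algebra.TensorProduct.map (AlgHom.id (Rg A τ₁) (Rg A τ₁)) (aeval v₂)
          (Algebra.TensorProduct.map (AlgHom.id (Rg A τ₁) (Rg A τ₁)) g x) =
        Algebra.TensorProduct.map (AlgHom.id (Rg A τ₁) (Rg A τ₁)) (aeval v₁) x := by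
      intro x
      induction x using TensorProduct.induction_on with
      | zero => simp
      | add x y hx hy => simp only [map_add, hx, hy]
      | tmul s p =>
        simp only [Algebra.TensorProduct.map_tmul, AlgHom.id_apply]
        rw [← hg]
        rfl
    exact (this _).symm

end Nat

section Vanish

open scoped Classical

variable {τ : Type u} {B : Type u} [CommRing B] [Algebra A B] {C : Type u} [CommRing C]
  [Algebra A C] (γ : PolLaw.MulLaw A B C d)

theorem map_aeval_gen (v : τ → B) (J : Finset (τ →₀ ℕ)) :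
    Algebra.TensorProduct.map (AlgHom.id (Rg A τ) (Rg A τ)) (aeval v : MvPolynomial τ A →ₐ[A] B)
      (gen J) = ∑ μ ∈ J, (X μ : Rg A τ) ⊗ₜ[A] aeval v (monomial μ (1 : A)) := by
  rw [gen, map_sum]
  rfl

theorem cJC_erase (v : τ → B) (J : Finset (τ →₀ ℕ)) (m₀ : τ →₀ ℕ)
    (h0 : aeval v (monomial m₀ (1 : A)) = 0) :
    cJC (Gv γ v).law J = cJC (Gv γ v).law (J.erase m₀) := by
  rw [cJC, cJC, Gv_toFun', Gv_toFun', map_aeval_gen, map_aeval_gen]
  congr 1
  by_cases hm : m₀ ∈ J
  · rw [← Finset.add_sum_erase J _ hm, h0, TensorProduct.tmul_zero, zero_add]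
  · rw [Finset.erase_eq_of_notMem hm]

theorem nCoeffC_eq_zero_of_aeval (v : τ → B) (ν : (τ →₀ ℕ) →₀ ℕ) (m₀ : τ →₀ ℕ)
    (hm : m₀ ∈ ν.support) (h0 : aeval v (monomial m₀ (1 : A)) = 0) :
    nCoeffC (Gv γ v).law ν = 0 := by
  rw [nCoeffC, cJC_erase γ v ν.support m₀ h0, cfC_cJC, if_neg]
  intro hsub
  exact Finset.notMem_erase m₀ ν.support (hsub hm)

theorem hv_monomial_eq_zero (v : τ → B) (θ : Fin d × τ →₀ ℕ) (j : Fin d)
    (h0 : aeval v (monomial (tupleOf θ j) (1 : A)) = 0) :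
    hv γ v (monomial θ (1 : A)) = 0 := by
  rw [hv, hLinC_monomial, one_smul, hvalC]
  split_ifs
  · exact nCoeffC_eq_zero_of_aeval γ v _ (tupleOf θ j) (mem_support_nuOf _ j) h0
  · rfl

end Vanish

section Crux

variable {τ : Type u} {B : Type u} [CommRing B] [Algebra A B] {C : Type u} [CommRing C]
  [Algebra A C] (γ : PolLaw.MulLaw A B C d) (v : τ → B)

def vO : Option τ → B := fun o => o.elim 0 v

noncomputable def inc : MvPolynomial τ A →ₐ[A] MvPolynomial (Option τ) A := rename some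

noncomputable def evO (a : MvPolynomial τ A) : MvPolynomial (Option τ) A →ₐ[A] MvPolynomial τ A :=
  aeval (fun o => o.elim a X)

theorem evO_comp_inc (a : MvPolynomial τ A) :
    (evO a).comp (inc (A := A) (τ := τ)) = AlgHom.id A _ := by
  apply MvPolynomial.algHom_ext
  intro t
  simp [evO, inc]

theorem aeval_comp_evO (a : MvPolynomial τ A) (ha : aeval v a = 0) :
    (aeval v : MvPolynomial τ A →ₐ[A] B).comp (evO a) = aeval (vO v) := by
  apply MvPolynomial.algHom_ext
  intro o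
  cases o with
  | none => simp [evO, vO, ha]
  | some t => simp [evO, vO]

theorem aeval_vO_comp_inc :
    (aeval (vO v) : MvPolynomial (Option τ) A →ₐ[A] B).comp (inc (A := A) (τ := τ)) = aeval v := by
  apply MvPolynomial.algHom_ext
  intro t
  simp [inc, vO]

noncomputable def qO : MvPolynomial (Fin d × Option τ) A →ₐ[A] MvPolynomial (Fin d × Option τ) A :=
  aeval (fun jt => jt.2.elim 0 (fun t => X (jt.1, some t)))

theorem qO_X_none (j : Fin d) : qO (X (j, none) : MvPolynomial (Fin d × Option τ) A) = 0 := by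
  simp [qO]

theorem hv_qO_monomial (θ : Fin d × Option τ →₀ ℕ) :
    hv γ (vO v) (qO (monomial θ (1 : A))) = hv γ (vO v) (monomial θ (1 : A)) := by
  classical
  by_cases hbad : ∃ j, θ (j, none) ≠ 0
  · obtain ⟨j, hj⟩ := hbad
    have h1 : qO (monomial θ (1 : A)) = 0 := by
      rw [qO, aeval_monomial, Finsupp.prod]
      rw [Finset.prod_eq_zero (Finsupp.mem_support_iff.mpr hj), mul_zero]
      simp only [Option.elim_none]
      exact zero_pow hj
    rw [h1, map_zero]
    symm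
    apply hv_monomial_eq_zero γ (vO v) θ j
    rw [aeval_monomial, Finsupp.prod]
    have hmem : (none : Option τ) ∈ (tupleOf θ j).support := by
      rw [Finsupp.mem_support_iff, tupleOf, Finsupp.comapDomain_apply]
      exact hj
    rw [Finset.prod_eq_zero hmem, mul_zero]
    simp only [vO, Option.elim_none]
    exact zero_pow (Finsupp.mem_support_iff.mp hmem)
  · push Not at hbad
    have h1 : qO (monomial θ (1 : A)) = monomial θ 1 := by
      rw [qO, aeval_monomial, monomial_eq, Finsupp.prod, Finsupp.prod]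
      congr 1
      refine Finset.prod_congr rfl fun x hx => ?_
      obtain ⟨j, o⟩ := x
      cases o with
      | none => exact absurd (hbad j) (Finsupp.mem_support_iff.mp hx)
      | some t => rfl
    rw [h1]

theorem hv_qO (p : MvPolynomial (Fin d × Option τ) A) :
    hv γ (vO v) (qO p) = hv γ (vO v) p := by
  have h : (hv γ (vO v)) ∘ₗ (qO (d := d) (τ := τ) (A := A)).toLinearMap = hv γ (vO v) := by
    apply (MvPolynomial.basisMonomials (Fin d × Option τ) A).ext
    intro θ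
    rw [MvPolynomial.coe_basisMonomials]
    exact hv_qO_monomial γ v θ
  exact DFunLike.congr_fun h p

variable (S : Type u) [CommSemiring S] [Algebra A S]

noncomputable def qS : S ⊗[A] MvPolynomial (Fin d × Option τ) A →ₐ[S]
    S ⊗[A] MvPolynomial (Fin d × Option τ) A :=
  Algebra.TensorProduct.map (AlgHom.id S S) qO

theorem hv_qS (y : S ⊗[A] MvPolynomial (Fin d × Option τ) A) :
    (hv γ (vO v)).lTensor S (qS S y) = (hv γ (vO v)).lTensor S y := by
  induction y using TensorProduct.induction_on with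
  | zero => simp
  | add x y hx hy => simp only [map_add, hx, hy]
  | tmul s p =>
    rw [qS, Algebra.TensorProduct.map_tmul, LinearMap.lTensor_tmul, LinearMap.lTensor_tmul,
      hv_qO]
    rfl

theorem qS_Nrm_add (x' w' : S ⊗[A] MvPolynomial (Fin d × Option τ) A) (j : Fin d) :
    qS S (Nrm S (x' + w' * (1 ⊗ₜ[A] (X (j, none) : MvPolynomial (Fin d × Option τ) A)))) =
      qS S (Nrm S x') := by
  rw [Nrm, Nrm, map_prod, map_prod]
  refine Finset.prod_congr rfl fun σ _ => ?_
  rw [map_add, map_mul, map_add, map_mul, sgS_tmul, sg_X, qS, Algebra.TensorProduct.map_tmul,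
    qO_X_none, TensorProduct.tmul_zero, mul_zero, add_zero]

theorem mem_ker_NLaw (j : Fin d) (a : MvPolynomial τ A) (ha : aeval v a = 0) :
    (rename (Prod.mk j) a : MvPolynomial (Fin d × τ) A) ∈ PolLaw.ker (NLaw γ v) := by
  intro S _ _ x w
  rw [NLaw_toFun', NLaw_toFun']
  set x' := TdS S (inc (A := A) (τ := τ)) x with hx'
  set w' := TdS S (inc (A := A) (τ := τ)) w with hw'
  have e1 : ∀ y : S ⊗[A] MvPolynomial (Fin d × τ) A,
      TdS S (evO a) (TdS S (inc (A := A) (τ := τ)) y) = y := by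
    intro y
    rw [TdS_comp, evO_comp_inc, TdS_id]
  have e2 : TdS S (evO a) (x' + w' * (1 ⊗ₜ[A] (X (j, none) : MvPolynomial (Fin d × Option τ) A))) =
      x + w * (1 ⊗ₜ[A] (rename (Prod.mk j) a : MvPolynomial (Fin d × τ) A)) := by
    rw [map_add, map_mul, hx', hw', e1, e1, TdS_tmul, Td_X]
    simp [evO]
  have n1 : ∀ z' : S ⊗[A] MvPolynomial (Fin d × Option τ) A,
      (hv γ v).lTensor S (Nrm S (TdS S (evO a) z')) = (hv γ (vO v)).lTensor S (Nrm S z') := by
    intro z'
    rw [← TdS_Nrm]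
    exact (hv_nat γ (vO v) v (evO a) (aeval_comp_evO v a ha) S (Nrm S z')
      (fun σ => Nrm_inv S σ z')).symm
  rw [← e2, n1, ← e1 x, n1, ← hv_qS, qS_Nrm_add, hv_qS]

end Crux

end Groth.Agent.Lib.Helper32.PolLawNormKer
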