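import Groth.Agent.Lib.Helper32.PolLawGoingDown
import Groth.Agent.Lib.Helper32.PolLawReduced
import Groth.Agent.Lib.Helper32.PolLawFibre
import Mathlib.RingTheory.LocalRing.ResidueField.Ideal

set_option autoImplicit false
universe u
open scoped TensorProduct
open Polynomial

namespace Groth.Agent.Lib.Helper32.PolLawOpen

open Groth.Agent.Lib.Helper32.PolLawBasic Groth.Agent.Lib.Helper32.PolLawCH
  Groth.Agent.Lib.Helper32.PolLawBC Groth.Agent.Lib.Helper32.PolLawQuot
  Groth.Agent.Lib.Helper32.PolLawKron Groth.Agent.Lib.Helper32.PolLawGoingDown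
  Groth.Agent.Lib.Helper32.PolLawFibre

variable {A : Type u} [CommRing A] {d : ℕ}

theorem mem_of_coeff_mem {T : Type u} [CommRing T] [Algebra A T] (G : PolLaw.MulLaw A T A d)
    (hG : PolLaw.ker G.law ≤ nilradical T) (c : T) (Q : Ideal T) [hQ : Q.IsPrime]
    (h : ∀ i < d, algebraMap A T ((chi G c).coeff i) ∈ Q) : c ∈ Q := by
  have hmon := chi_monic G c
  have hdeg : ((-1 : A) ^ d • chi G c).natDegree ≤ d :=
    (Polynomial.natDegree_smul_le _ _).trans (chi_natDegree_le G c)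
  have h1 : aeval c ((-1 : A) ^ d • chi G c) ∈ Q := by
    rw [map_smul]
    exact Submodule.smul_of_tower_mem _ _
      ((hG.trans (nilradical_le_prime Q)) (aeval_chi_mem_ker G c))
  rw [hmon.as_sum, map_add, map_pow, aeval_X, map_sum] at h1
  have h2 : ∑ i ∈ Finset.range ((-1 : A) ^ d • chi G c).natDegree,
      aeval c (C (((-1 : A) ^ d • chi G c).coeff i) * X ^ i) ∈ Q := by
    refine Q.sum_mem fun i hi => ?_
    rw [map_mul, aeval_C, map_pow, aeval_X, coeff_smul, smul_eq_mul, map_mul]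
    refine Ideal.mul_mem_right _ _ (Ideal.mul_mem_left _ _ (h i ?_))
    rw [Finset.mem_range] at hi
    omega
  have h3 := (Ideal.add_mem_iff_left Q h2).mp h1
  exact hQ.mem_of_pow_mem _ h3

theorem coeff_neg_X_pow (R : Type*) [CommRing R] (d i : ℕ) (hi : i < d) :
    ((-X : R[X]) ^ d).coeff i = 0 := by
  rw [neg_pow, ← C_1, ← C_neg, ← C_pow, coeff_C_mul, coeff_X_pow, if_neg (by omega), mul_zero]

theorem exists_prime_of_coeff_notMem {C : Type u} [CommRing C] [Algebra A C]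
    (G : PolLaw.MulLaw A C A d) (A' : Type u) [CommRing A'] [Algebra A A']
    (c : A' ⊗[A] C) (p : Ideal A') [hp : p.IsPrime] (i : ℕ) (hi : i < d)
    (hc : (chi (bc A' G) c).coeff i ∉ p) :
    ∃ Q : Ideal (A' ⊗[A] C), Q.IsPrime ∧ c ∉ Q ∧ Q.comap (algebraMap A' (A' ⊗[A] C)) = p := by
  let K := p.ResidueField
  let ψ : A' →ₐ[A] K := IsScalarTower.toAlgHom A A' K
  let π : A' ⊗[A] C →ₐ[A] K ⊗[A] C := Algebra.TensorProduct.map ψ (AlgHom.id A C)
  have hchi : chi (bc K G) (π c) = (chi (bc A' G) c).map (ψ : A' →+* K) := chi_bc_map K G ψ c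
  have hne : (chi (bc K G) (π c)).coeff i ≠ 0 := by
    rw [hchi, coeff_map]
    intro h0
    exact hc (Ideal.algebraMap_residueField_eq_zero.mp h0)
  have hnil : ¬ IsNilpotent (π c) := by
    rintro ⟨n, hn⟩
    have h1 : (π c) ^ n ∈ PolLaw.ker (bc K G).law := by
      rw [hn]
      exact Ideal.zero_mem _
    have h2 := PolLawReduced.mem_ker_of_pow_mem (bc K G) (π c) n h1
    rw [chi_of_mem_ker (bc K G) (π c) h2, coeff_neg_X_pow K d i hi] at hne
    exact hne rfl
  have hne' : PrimeSpectrum.basicOpen (π c) ≠ ⊥ := by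
    rwa [Ne, PrimeSpectrum.basicOpen_eq_bot_iff]
  obtain ⟨QK, hQK⟩ := (TopologicalSpace.Opens.ne_bot_iff_nonempty _).mp hne'
  refine ⟨QK.asIdeal.comap π, Ideal.comap_isPrime _ _, hQK, ?_⟩
  ext a
  rw [Ideal.mem_comap, Ideal.mem_comap]
  have h3 : π (algebraMap A' (A' ⊗[A] C) a) = algebraMap K (K ⊗[A] C) (ψ a) := by
    simp [π, Algebra.TensorProduct.algebraMap_apply]
  rw [h3, ← Ideal.mem_comap,
    Ideal.eq_bot_of_prime (QK.asIdeal.comap (algebraMap K (K ⊗[A] C))), Ideal.mem_bot]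
  exact Ideal.algebraMap_residueField_eq_zero

theorem image_basicOpen {C : Type u} [CommRing C] [Algebra A C]
    (G : PolLaw.MulLaw A C A d) (hG : PolLaw.ker G.law = ⊥) (A' : Type u) [CommRing A']
    [Algebra A A'] (c : A' ⊗[A] C) :
    PrimeSpectrum.comap (algebraMap A' (A' ⊗[A] C)) '' (PrimeSpectrum.basicOpen c : Set _) =
      ⋃ i ∈ Finset.range d,
        (PrimeSpectrum.basicOpen ((chi (bc A' G) c).coeff i) : Set (PrimeSpectrum A')) := by
  ext p
  simp only [Set.mem_image, Set.mem_iUnion, Finset.mem_range, SetLike.mem_coe,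
    PrimeSpectrum.mem_basicOpen, exists_prop]
  constructor
  · rintro ⟨Q, hQ, rfl⟩
    by_contra hcon
    push Not at hcon
    exact hQ (mem_of_coeff_mem (bc A' G) (ker_bc_le_nilradical G hG A') c Q.asIdeal
      fun i hi => hcon i hi)
  · rintro ⟨i, hi, hc⟩
    obtain ⟨Q, hQ, hcQ, hQp⟩ := exists_prime_of_coeff_notMem G A' c p.asIdeal i hi hc
    exact ⟨⟨Q, hQ⟩, hcQ, PrimeSpectrum.ext hQp⟩

theorem isOpenMap_comap {C : Type u} [CommRing C] [Algebra A C]
    (G : PolLaw.MulLaw A C A d) (hG : PolLaw.ker G.law = ⊥) (A' : Type u) [CommRing A']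
    [Algebra A A'] : IsOpenMap (PrimeSpectrum.comap (algebraMap A' (A' ⊗[A] C))) := by
  rw [PrimeSpectrum.isTopologicalBasis_basic_opens.isOpenMap_iff]
  rintro _ ⟨c, rfl⟩
  rw [image_basicOpen G hG A' c]
  exact isOpen_biUnion fun i _ => (PrimeSpectrum.basicOpen _).isOpen

theorem isOpenMap_image {B : Type u} [CommRing B] [Algebra A B] (F : PolLaw.MulLaw A B A d)
    (A' : Type u) [CommRing A'] [Algebra A A'] :
    IsOpenMap (PrimeSpectrum.comap (algebraMap A' (A' ⊗[A] PolLaw.image F.law))) :=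
  isOpenMap_comap (quot F (le_refl (PolLaw.ker F.law))) (ker_quot F) A'

end Groth.Agent.Lib.Helper32.PolLawOpen
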