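import Groth.Agent.Lib.Helper32.PolLawFibre
import Mathlib.RingTheory.Spectrum.Maximal.Basic

set_option autoImplicit false
universe u
open scoped TensorProduct

namespace Groth.Agent.Lib.Helper32.PolLawSemilocal

open Groth.Agent.Lib.Helper32.PolLawCH Groth.Agent.Lib.Helper32.PolLawFibre

variable {A : Type u} [CommRing A]

theorem finite_fibre_of_maximal {C : Type u} [CommRing C] [Algebra A C] (m : Ideal A)
    (hfin : Finite (PrimeSpectrum ((A ⧸ m) ⊗[A] C))) :
    Set.Finite {n : MaximalSpectrum C | n.asIdeal.comap (algebraMap A C) = m} := by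
  classical
  let S := {n : MaximalSpectrum C | n.asIdeal.comap (algebraMap A C) = m}
  let ρ : ∀ n : S, (A ⧸ m) ⊗[A] C →ₐ[A] C ⧸ n.1.asIdeal := fun n =>
    Algebra.TensorProduct.productMap
      (Ideal.quotientMapₐ n.1.asIdeal (Algebra.ofId A C) (le_of_eq n.2.symm))
      (Ideal.Quotient.mkₐ A n.1.asIdeal)
  have hρ : ∀ (n : S) (c : C), ρ n (1 ⊗ₜ[A] c) = Ideal.Quotient.mk n.1.asIdeal c := by
    intro n c
    simp [ρ]
  let Φ : S → PrimeSpectrum ((A ⧸ m) ⊗[A] C) := fun n =>
    ⟨RingHom.ker (ρ n), by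
      have := n.1.isMaximal.isPrime
      exact RingHom.ker_isPrime (ρ n)⟩
  have hΦ : Function.Injective Φ := by
    intro n n' h
    have hker : RingHom.ker (ρ n) = RingHom.ker (ρ n') := congrArg PrimeSpectrum.asIdeal h
    have key : ∀ (n n' : S), RingHom.ker (ρ n) = RingHom.ker (ρ n') →
        n.1.asIdeal ≤ n'.1.asIdeal := by
      intro n n' hk c hc
      have h1 : (1 : A ⧸ m) ⊗ₜ[A] c ∈ RingHom.ker (ρ n) := by
        rw [RingHom.mem_ker, hρ, Ideal.Quotient.eq_zero_iff_mem]
        exact hc
      rw [hk, RingHom.mem_ker, hρ, Ideal.Quotient.eq_zero_iff_mem] at h1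
      exact h1
    apply Subtype.ext
    apply MaximalSpectrum.ext
    exact le_antisymm (key n n' hker) (key n' n hker.symm)
  have : Finite S := Finite.of_injective Φ hΦ
  exact Set.toFinite S

theorem finite_maximalSpectrum_image [Finite (MaximalSpectrum A)] {B : Type u} [CommRing B]
    [Algebra A B] {d : ℕ} (F : PolLaw.MulLaw A B A d) :
    Finite (MaximalSpectrum (PolLaw.image F.law)) := by
  have hint : Algebra.IsIntegral A (PolLaw.image F.law) := isIntegral_image F
  have hcover : (Set.univ : Set (MaximalSpectrum (PolLaw.image F.law))) =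
      ⋃ m : MaximalSpectrum A, {n : MaximalSpectrum (PolLaw.image F.law) |
        n.asIdeal.comap (algebraMap A (PolLaw.image F.law)) = m.asIdeal} := by
    ext n
    simp only [Set.mem_univ, Set.mem_iUnion, Set.mem_ofPred_eq, true_iff]
    have := n.isMaximal
    exact ⟨⟨n.asIdeal.comap (algebraMap A (PolLaw.image F.law)),
      Ideal.isMaximal_comap_of_isIntegral_of_isMaximal n.asIdeal⟩, rfl⟩
  rw [← Set.finite_univ_iff, hcover]
  apply Set.finite_iUnion
  intro m
  apply finite_fibre_of_maximal
  have := m.isMaximal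
  let _ := Ideal.Quotient.field m.asIdeal
  exact (finite_card_le_of_no_inj d (fibre_not_injective F (A ⧸ m.asIdeal))).1

end Groth.Agent.Lib.Helper32.PolLawSemilocal
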