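import Groth.Agent.Lib.Helper32.PolLawIdem
import Groth.Agent.Lib.Helper32.PolLawBC

set_option autoImplicit false
universe u
open scoped TensorProduct
open Polynomial

namespace Groth.Agent.Lib.Helper32.PolLawSplit

open Groth.Agent.Lib.Helper32.PolLawBasic Groth.Agent.Lib.Helper32.PolLawProd
  Groth.Agent.Lib.Helper32.PolLawIdem

theorem norm_pi {R : Type*} [CommRing R] {n : ℕ} (f : Fin n → R) :
    Algebra.norm R f = ∏ i, f i := by
  classical
  rw [Algebra.norm_eq_matrix_det (Pi.basisFun R (Fin n))]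
  have : Algebra.leftMulMatrix (Pi.basisFun R (Fin n)) f = Matrix.diagonal f := by
    ext i j
    rw [Algebra.leftMulMatrix_eq_repr_mul, Pi.basisFun_repr, Pi.basisFun_apply, Pi.mul_apply,
      Matrix.diagonal_apply]
    by_cases h : i = j
    · subst h; simp
    · simp [h]
  rw [this, Matrix.det_diagonal]

theorem idem_local {R : Type*} [CommRing R] [IsLocalRing R] (a : R) (ha : IsIdempotentElem a) :
    a = 0 ∨ a = 1 := by
  rcases IsLocalRing.isUnit_or_isUnit_one_sub_self a with h | h
  · right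
    have : a * a = a * 1 := by rw [mul_one]; exact ha
    exact h.mul_left_cancel this
  · left
    have h1 : (1 - a) * a = (1 - a) * 0 := by
      rw [mul_zero, sub_mul, one_mul, ha.eq, sub_self]
    exact h.mul_left_cancel h1

section Split

variable {R : Type u} [CommRing R] {B' : Type u} [CommRing B'] [Algebra R B'] {d n : ℕ}
  (G : PolLaw.MulLaw R B' R d) (ε : Fin n → B')

theorem map_prod' (S : Type u) [CommSemiring S] [Algebra R S] {ι : Type*} (J : Finset ι)
    (x : ι → S ⊗[R] B') :
    G.law.toFun' S (∏ i ∈ J, x i) = ∏ i ∈ J, G.law.toFun' S (x i) := by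
  classical
  induction J using Finset.induction_on with
  | empty => simp [(G.mult S).1]
  | insert a J ha ih => rw [Finset.prod_insert ha, Finset.prod_insert ha, (G.mult S).2, ih]

variable (hid : ∀ i, IsIdempotentElem (ε i)) (horth : ∀ i j, i ≠ j → ε i * ε j = 0)

include hid horth

theorem prod_q (S : Type u) [CommSemiring S] [Algebra R S] (s : Fin n → S)
    (J : Finset (Fin n)) :
    ∏ i ∈ J, q (A := R) (ε i) S (s i) =
      ∑ i ∈ J, s i ⊗ₜ[R] ε i + 1 ⊗ₜ[R] (1 - ∑ i ∈ J, ε i) := by
  classical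
  induction J using Finset.induction_on with
  | empty => simp [Algebra.TensorProduct.one_def]
  | insert a J ha ih =>
    have h1 : ∀ i ∈ J, ε a * ε i = 0 := fun i hi => horth a i (fun h => ha (h ▸ hi))
    have h2 : ε a * ∑ i ∈ J, ε i = 0 := by
      rw [Finset.mul_sum]
      exact Finset.sum_eq_zero h1
    rw [Finset.prod_insert ha, ih, q, Finset.sum_insert ha, Finset.sum_insert ha]
    simp only [add_mul, mul_add, Finset.mul_sum, Algebra.TensorProduct.tmul_mul_tmul, one_mul,
      mul_one]
    have e1 : ∑ i ∈ J, (s a * s i) ⊗ₜ[R] (ε a * ε i) = 0 :=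
      Finset.sum_eq_zero fun i hi => by rw [h1 i hi, TensorProduct.tmul_zero]
    have e2 : ε a * (1 - ∑ i ∈ J, ε i) = ε a := by rw [mul_sub, mul_one, h2, sub_zero]
    have e3 : ∑ i ∈ J, s i ⊗ₜ[R] ((1 - ε a) * ε i) = ∑ i ∈ J, s i ⊗ₜ[R] ε i :=
      Finset.sum_congr rfl fun i hi => by rw [sub_mul, one_mul, h1 i hi, sub_zero]
    have e4 : (1 - ε a) * (1 - ∑ i ∈ J, ε i) = 1 - (ε a + ∑ i ∈ J, ε i) := by
      have : (1 - ε a) * (1 - ∑ i ∈ J, ε i) =
          1 - ε a - ∑ i ∈ J, ε i + ε a * ∑ i ∈ J, ε i := by ring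
      rw [this, h2]
      ring
    rw [Finset.sum_add_distrib, e1, e2, e3, e4]
    abel

theorem pe_sum' (J : Finset (Fin n)) : pe (∑ i ∈ J, ε i) G = ∏ i ∈ J, pe (ε i) G := by
  classical
  induction J using Finset.induction_on with
  | empty => simp [pe_zero]
  | insert a J ha ih =>
    rw [Finset.sum_insert ha, Finset.prod_insert ha, pe_add, ih]
    rw [Finset.mul_sum]
    exact Finset.sum_eq_zero fun i hi => horth a i (fun h => ha (h ▸ hi))

variable (hsum : ∑ i, ε i = 1)

include hsum

theorem G_sum (k : Fin n → ℕ) (hk : ∀ i, pe (ε i) G = X ^ k i)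
    (S : Type u) [CommSemiring S] [Algebra R S] (s : Fin n → S) :
    G.law.toFun' S (∑ i, s i ⊗ₜ[R] ε i) = (∏ i, s i ^ k i) • (1 : S ⊗[R] R) := by
  have h := prod_q (R := R) ε hid horth S s Finset.univ
  rw [hsum, sub_self, TensorProduct.tmul_zero, add_zero] at h
  rw [← h, map_prod']
  have h2 : ∀ i, G.law.toFun' S (q (A := R) (ε i) S (s i)) = (s i ^ k i) ⊗ₜ[R] (1 : R) := by
    intro i
    rw [F_q_eq _ G _ (hk i), Algebra.TensorProduct.one_def, TensorProduct.smul_tmul',
      smul_eq_mul, mul_one]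
  simp only [h2]
  rw [Groth.Agent.Lib.Helper32.PolLawFactor.prod_tmul, Finset.prod_const_one,
    Algebra.TensorProduct.one_def, TensorProduct.smul_tmul', smul_eq_mul, mul_one]

theorem G_sum_eq_prod [Nontrivial R] (hA : ∀ a : R, IsIdempotentElem a → a = 0 ∨ a = 1)
    (hker : PolLaw.ker G.law ≤ nilradical B') (hne : ∀ i, ε i ≠ 0) (hn : n = d)
    (S : Type u) [CommSemiring S] [Algebra R S] (s : Fin n → S) :
    G.law.toFun' S (∑ i, s i ⊗ₜ[R] ε i) = (∏ i, s i) • (1 : S ⊗[R] R) := by
  choose k hk using fun i => exists_pe_eq (ε i) G hA (hid i)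
  have hpos : ∀ i, 1 ≤ k i := by
    intro i
    by_contra h0
    have hk0 : k i = 0 := by omega
    have hmem : ε i ∈ PolLaw.ker G.law := by
      apply mem_ker_of_F_q_eq_one G (ε i) (hid i)
      intro S' _ _ s'
      rw [F_q_eq _ G _ (hk i), hk0, pow_zero, one_smul]
    obtain ⟨m, hm⟩ := hker hmem
    apply hne i
    cases m with
    | zero =>
      rw [pow_zero] at hm
      rw [← mul_one (ε i), hm, mul_zero]
    | succ m => rw [← (hid i).pow_succ_eq m, hm]
  have hdeg : ∑ i, k i = d := by
    have h1 := pe_sum' G ε hid horth Finset.univ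
    rw [hsum, pe_one] at h1
    simp only [hk, Finset.prod_pow_eq_pow_sum] at h1
    have := congrArg natDegree h1
    rw [natDegree_X_pow, natDegree_X_pow] at this
    exact this.symm
  have hall : ∀ i, k i = 1 := by
    have h2 : ∑ i, (k i - 1) = 0 := by
      have h3 : ∑ i, k i = ∑ i : Fin n, ((k i - 1) + 1) :=
        Finset.sum_congr rfl fun i _ => by have := hpos i; omega
      rw [Finset.sum_add_distrib, Finset.sum_const, Finset.card_univ, Fintype.card_fin,
        smul_eq_mul, mul_one, hdeg] at h3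
      omega
    intro i
    have := (Finset.sum_eq_zero_iff.mp h2) i (Finset.mem_univ i)
    have := hpos i
    omega
  rw [G_sum G ε hid horth hsum k hk]
  simp only [hall, pow_one]

end Split

section Iso

variable {R : Type u} [CommRing R] {B' : Type u} [CommRing B'] [Algebra R B'] {d n : ℕ}
  (G : PolLaw.MulLaw R B' R d) (E : B' ≃ₐ[R] (Fin n → R))

noncomputable def eps (i : Fin n) : B' := E.symm (Pi.single i 1)

theorem eps_idem (i : Fin n) : IsIdempotentElem (eps E i) := by
  rw [IsIdempotentElem, eps, ← map_mul, ← Pi.single_mul, mul_one]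

theorem eps_orth (i j : Fin n) (h : i ≠ j) : eps E i * eps E j = 0 := by
  rw [eps, eps, ← map_mul]
  have : (Pi.single i 1 * Pi.single j 1 : Fin n → R) = 0 := by
    funext l
    rw [Pi.mul_apply, Pi.single_apply, Pi.single_apply]
    by_cases h1 : l = i
    · subst h1
      simp [h]
    · simp [h1]
  rw [this, map_zero]

theorem eps_sum : ∑ i, eps E i = 1 := by
  simp only [eps]
  rw [← map_sum, Finset.univ_sum_single]
  exact map_one E.symm

theorem eps_ne [Nontrivial R] (i : Fin n) : eps E i ≠ 0 := by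
  intro h
  have h1 := congrArg E h
  rw [eps, AlgEquiv.apply_symm_apply, map_zero] at h1
  have := congrFun h1 i
  simp at this

theorem eq_sum_eps (z : B') : z = ∑ i, E z i • eps E i := by
  apply E.injective
  rw [map_sum]
  simp only [map_smul, eps, AlgEquiv.apply_symm_apply]
  funext j
  rw [Finset.sum_apply]
  simp [Pi.single_apply]

theorem G_one_tmul [Nontrivial R] (hA : ∀ a : R, IsIdempotentElem a → a = 0 ∨ a = 1)
    (hker : PolLaw.ker G.law ≤ nilradical B') (hn : n = d) (z : B') :
    G.law.toFun' R ((1 : R) ⊗ₜ[R] z) = (∏ i, E z i) • (1 : R ⊗[R] R) := by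
  have h := G_sum_eq_prod G (eps E) (eps_idem E) (eps_orth E) (eps_sum E) hA hker (eps_ne E) hn R
    (fun i => E z i)
  rw [← h]
  congr 1
  conv_lhs => rw [eq_sum_eps E z]
  rw [TensorProduct.tmul_sum]
  refine Finset.sum_congr rfl fun i _ => ?_
  rw [TensorProduct.tmul_smul, TensorProduct.smul_tmul', smul_eq_mul, mul_one]

end Iso

end Groth.Agent.Lib.Helper32.PolLawSplit
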