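import Groth.Agent.Lib.Helper32.PolLawGoingDown
import Groth.Agent.Lib.Helper32.PolLawReduced
import Groth.Agent.Lib.Helper32.PolLawFibre
import Groth.Agent.Lib.Helper32.PolLawFactorC

set_option autoImplicit false
universe u
open scoped TensorProduct
open Polynomial

namespace Groth.Agent.Lib.Helper32.PolLawSupp

open Groth.Agent.Lib.Helper32.PolLawBasic Groth.Agent.Lib.Helper32.PolLawCH
  Groth.Agent.Lib.Helper32.PolLawBC Groth.Agent.Lib.Helper32.PolLawQuot
  Groth.Agent.Lib.Helper32.PolLawKron Groth.Agent.Lib.Helper32.PolLawProd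

section Val

variable {R : Type u} [CommRing R] {T : Type u} [CommRing T] [Algebra R T] {d : ℕ}
  (G : PolLaw.MulLaw R T R d)

noncomputable def val (x : T) : R := TensorProduct.rid R R (G.law.toFun' R ((1 : R) ⊗ₜ[R] x))

theorem val_one : val G 1 = 1 := by
  rw [val, ← Algebra.TensorProduct.one_def, (G.mult R).1]
  exact rid_one R

theorem val_mul (x y : T) : val G (x * y) = val G x * val G y := by
  rw [val, val, val, ← rid_mul, ← (G.mult R).2, Algebra.TensorProduct.tmul_mul_tmul, one_mul]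

theorem val_add_of_mem_ker (x k : T) (hk : k ∈ PolLaw.ker G.law) : val G (x + k) = val G x := by
  have h := hk R ((1 : R) ⊗ₜ[R] x) 1
  rw [one_mul, ← TensorProduct.tmul_add] at h
  rw [val, h, val]

theorem eval_chi (b : T) (r : R) : (chi G b).eval r = val G (b - algebraMap R T r) := by
  have h1 := compat G.law (Polynomial.aeval r : R[X] →ₐ[R] R)
    ((1 : R[X]) ⊗ₜ[R] b - X ⊗ₜ[R] (1 : T))
  have h2 : Algebra.TensorProduct.map (Polynomial.aeval r : R[X] →ₐ[R] R) (AlgHom.id R T)
      ((1 : R[X]) ⊗ₜ[R] b - X ⊗ₜ[R] (1 : T)) = (1 : R) ⊗ₜ[R] (b - algebraMap R T r) := by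
    rw [map_sub, Algebra.TensorProduct.map_tmul, Algebra.TensorProduct.map_tmul, map_one,
      aeval_X, AlgHom.id_apply, AlgHom.id_apply, TensorProduct.tmul_sub, Algebra.algebraMap_eq_smul_one,
      TensorProduct.tmul_smul, TensorProduct.smul_tmul', smul_eq_mul, mul_one]
  rw [h2] at h1
  rw [val, h1, chi]
  have h3 := rid_map_gen (A := R) (Polynomial.aeval r : R[X] →ₐ[R] R)
    (G.law.toFun' R[X] ((1 : R[X]) ⊗ₜ[R] b - X ⊗ₜ[R] (1 : T)))
  rw [Polynomial.coe_aeval_eq_eval] at h3
  exact h3.symm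

theorem exists_maximal [Nontrivial R] (x : T) (hx : val G x = 0) :
    ∃ n : Ideal T, n.IsMaximal ∧ PolLaw.ker G.law ≤ n ∧ x ∈ n := by
  have hne : PolLaw.ker G.law ⊔ Ideal.span {x} ≠ ⊤ := by
    intro htop
    have h1 : (1 : T) ∈ PolLaw.ker G.law ⊔ Ideal.span {x} := by
      rw [htop]
      exact Submodule.mem_top
    obtain ⟨k, hk, z, hz, hkz⟩ := Submodule.mem_sup.mp h1
    obtain ⟨v, rfl⟩ := Ideal.mem_span_singleton'.mp hz
    have h2 : val G (v * x + k) = val G (v * x) := val_add_of_mem_ker G _ k hk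
    rw [add_comm, hkz, val_one, val_mul, hx, mul_zero] at h2
    exact one_ne_zero h2
  obtain ⟨n, hn, hle⟩ := Ideal.exists_le_maximal _ hne
  exact ⟨n, hn, le_sup_left.trans hle,
    hle (Ideal.mem_sup_right (Ideal.subset_span (Set.mem_singleton x)))⟩

end Val

section Gen

open Groth.Agent.Lib.Helper32.PolLawFactorC

variable {A : Type u} [CommRing A] {B : Type u} [CommRing B] [Algebra A B] {d : ℕ}

theorem cfC_map_right {ι : Type*} {B' : Type u} [CommRing B'] [Algebra A B'] (g : B →ₐ[A] B')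
    (μ : ι →₀ ℕ) (Φ : MvPolynomial ι A ⊗[A] B) :
    cfC μ (Algebra.TensorProduct.map (AlgHom.id A (MvPolynomial ι A)) g Φ) = g (cfC μ Φ) := by
  induction Φ using TensorProduct.induction_on with
  | zero => simp
  | add x y hx hy => simp only [map_add, hx, hy]
  | tmul p c => simp

theorem cfC_mem_of_mem_map {ι : Type*} (I : Ideal B) (Φ : MvPolynomial ι A ⊗[A] B)
    (hΦ : Φ ∈ I.map (Algebra.TensorProduct.includeRight : B →ₐ[A] MvPolynomial ι A ⊗[A] B))
    (μ : ι →₀ ℕ) : cfC μ Φ ∈ I := by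
  have hle : I.map (Algebra.TensorProduct.includeRight : B →ₐ[A] MvPolynomial ι A ⊗[A] B) ≤
      RingHom.ker (Algebra.TensorProduct.map (AlgHom.id A (MvPolynomial ι A))
        (Ideal.Quotient.mkₐ A I)) := by
    rw [Ideal.map_le_iff_le_comap]
    intro k hk
    rw [Ideal.mem_comap, RingHom.mem_ker]
    simp [Ideal.Quotient.eq_zero_iff_mem.mpr hk]
  have h1 := hle hΦ
  rw [RingHom.mem_ker] at h1
  have h2 := cfC_map_right (Ideal.Quotient.mkₐ A I) μ Φ
  rw [h1, map_zero] at h2
  exact Ideal.Quotient.eq_zero_iff_mem.mp h2.symm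

theorem finite_range_cfC {ι : Type*} (Φ : MvPolynomial ι A ⊗[A] B) :
    (Set.range fun μ : ι →₀ ℕ => cfC μ Φ).Finite := by
  classical
  obtain ⟨N₀, hN₀⟩ := PolLawFactorC.exists_expand Φ
  have hzero : ∀ μ, μ ∉ N₀ → cfC μ Φ = 0 := by
    intro μ hμ
    have h1 := hN₀ N₀ (Finset.Subset.refl _)
    have h2 := congrArg (cfC (A := A) μ) h1
    rw [map_sum] at h2
    simp only [cfC_mnC] at h2
    rw [h2]
    exact Finset.sum_eq_zero fun ν hν => by
      rw [if_neg]
      rintro rfl
      exact hμ hν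
  refine Set.Finite.subset (Set.Finite.insert 0 (N₀.image fun μ => cfC μ Φ).finite_toSet) ?_
  rintro _ ⟨μ, rfl⟩
  by_cases hμ : μ ∈ N₀
  · exact Set.mem_insert_of_mem _ (Finset.mem_coe.mpr (Finset.mem_image_of_mem _ hμ))
  · simp only [hzero μ hμ]
    exact Set.mem_insert _ _

variable (F : PolLaw.MulLaw A B A d) {n : ℕ} (b : Fin n → B)

noncomputable def beta : MvPolynomial (Fin n) A ⊗[A] B :=
  ∑ j, (MvPolynomial.X j : MvPolynomial (Fin n) A) ⊗ₜ[A] b j

noncomputable def W : MvPolynomial (Fin n) A ⊗[A] B :=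
  Polynomial.aeval (beta b) (chi (bc (MvPolynomial (Fin n) A) F) (beta b))

theorem W_mem : W F b ∈ (PolLaw.ker F.law).map
    (Algebra.TensorProduct.includeRight : B →ₐ[A] MvPolynomial (Fin n) A ⊗[A] B) := by
  apply kerBC_mvPolynomial_le F.law n
  rw [← ker_bc]
  exact aeval_chi_mem_ker _ _

noncomputable def J : Ideal B := Ideal.span (Set.range fun μ : Fin n →₀ ℕ => cfC μ (W F b))

theorem J_fg : (J F b).FG := Submodule.fg_span (finite_range_cfC (W F b))

theorem J_le : J F b ≤ PolLaw.ker F.law := by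
  rw [J, Ideal.span_le]
  rintro _ ⟨μ, rfl⟩
  exact cfC_mem_of_mem_map _ _ (W_mem F b) μ

end Gen

section Main

open Groth.Agent.Lib.Helper32.PolLawFactorC

variable {A : Type u} [CommRing A] {B : Type u} [CommRing B] [Algebra A B] {d : ℕ}
  (F : PolLaw.MulLaw A B A d) {n : ℕ} (b : Fin n → B)

theorem one_tmul_mem_kerBC (A' : Type u) [CommRing A'] [Algebra A A'] (k : B)
    (hk : k ∈ PolLaw.ker F.law) : (1 : A') ⊗ₜ[A] k ∈ PolLaw.kerBC F.law A' := by
  intro R _ _ _ _ x w
  rw [Algebra.TensorProduct.map_tmul, map_one, AlgHom.id_apply]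
  exact hk R x w

theorem isAlgebraic_of_ker_le (L : Type u) [Field L] [Algebra A L] (E : Type u) [Field E]
    [Algebra A E] [Algebra L E] [IsScalarTower A L E] (θ : B →ₐ[A] E)
    (hθ : PolLaw.ker F.law ≤ RingHom.ker θ) (c : B) : IsAlgebraic L (θ c) := by
  have hmon := chi_monic F c
  have h0 : Polynomial.aeval (θ c) (chi F c) = 0 := by
    rw [Polynomial.aeval_algHom_apply]
    exact hθ (aeval_chi_mem_ker F c)
  refine ⟨((-1 : A) ^ d • chi F c).map (algebraMap A L), (hmon.map _).ne_zero, ?_⟩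
  rw [Polynomial.aeval_map_algebraMap, map_smul, h0, smul_zero]

theorem eq_zero_of_algebraic_rel (L M E : Type u) [Field L] [Field M] [Field E] [Algebra L M]
    [Algebra M E] [Algebra L E] [IsScalarTower L M E] {n : ℕ} (t : Fin n → M)
    (ht : AlgebraicIndependent L t) (γ : Fin n → E) (hγ : ∀ j, IsAlgebraic L (γ j))
    (hrel : ∑ j, γ j * algebraMap M E (t j) = 0) : ∀ j, γ j = 0 := by
  have hind : AlgebraicIndependent L (fun j => algebraMap M E (t j)) :=
    ht.map' (f := IsScalarTower.toAlgHom L M E) (algebraMap M E).injective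
  have hlin := hind.algebraicClosure.linearIndependent
  intro j
  have h4 := Fintype.linearIndependent_iff.mp hlin
    (fun j => ⟨γ j, mem_algebraicClosure_iff.mpr (hγ j)⟩) hrel j
  exact congrArg Subtype.val h4

theorem algebraicIndependent_frac (L : Type u) [Field L] (n : ℕ) :
    AlgebraicIndependent L (fun j : Fin n =>
      algebraMap (MvPolynomial (Fin n) L) (FractionRing (MvPolynomial (Fin n) L))
        (MvPolynomial.X j)) :=
  (MvPolynomial.algebraicIndependent_X (Fin n) L).map'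
    (f := IsScalarTower.toAlgHom L (MvPolynomial (Fin n) L)
      (FractionRing (MvPolynomial (Fin n) L)))
    (IsFractionRing.injective (MvPolynomial (Fin n) L) (FractionRing (MvPolynomial (Fin n) L)))

theorem ker_le_ker_of_cfC_W (hb : Algebra.adjoin A (Set.range b) = ⊤) (L : Type u) [Field L]
    [Algebra A L] (y : B →ₐ[A] L) (hy : ∀ μ, y (cfC μ (W F b)) = 0) :
    PolLaw.ker F.law ≤ RingHom.ker y := by
  classical
  let P := MvPolynomial (Fin n) L
  let M := FractionRing P
  let t : Fin n → M := fun j => algebraMap P M (MvPolynomial.X j)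
  let ψ : MvPolynomial (Fin n) A →ₐ[A] M := MvPolynomial.aeval t
  let G := bc M F
  let βM : M ⊗[A] B := Algebra.TensorProduct.map ψ (AlgHom.id A B) (beta b)
  have hβM : βM = ∑ j, t j ⊗ₜ[A] b j := by
    simp only [βM, beta, map_sum, Algebra.TensorProduct.map_tmul, AlgHom.id_apply, ψ,
      MvPolynomial.aeval_X]
  have hchi : chi G βM = (chi (bc (MvPolynomial (Fin n) A) F) (beta b)).map
      (ψ : MvPolynomial (Fin n) A →+* M) := chi_bc_map M F ψ (beta b)
  have hW : Algebra.TensorProduct.map ψ (AlgHom.id A B) (W F b) =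
      Polynomial.aeval βM (chi G βM) := by
    rw [W, map_aeval, hchi]
  let yM : B →ₐ[A] M := (IsScalarTower.toAlgHom A L M).comp y
  let yy : M ⊗[A] B →ₐ[M] M :=
    Algebra.TensorProduct.lift (AlgHom.id M M) yM (fun _ _ => Commute.all _ _)
  have h0 : yy (Algebra.TensorProduct.map ψ (AlgHom.id A B) (W F b)) = 0 := by
    obtain ⟨N₀, hN₀⟩ := PolLawFactorC.exists_expand (W F b)
    rw [hN₀ N₀ (Finset.Subset.refl _), map_sum, map_sum]
    refine Finset.sum_eq_zero fun μ _ => ?_
    rw [mnC_apply, Algebra.TensorProduct.map_tmul, Algebra.TensorProduct.lift_tmul,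
      AlgHom.comp_apply]
    simp only [AlgHom.id_apply]
    rw [hy μ, map_zero, mul_zero]
  have h1 : (chi G βM).eval (yy βM) = 0 := by
    rw [hW, ← Polynomial.aeval_algHom_apply, Polynomial.coe_aeval_eq_eval] at h0
    exact h0
  rw [eval_chi] at h1
  obtain ⟨n', hn', hker, hx⟩ := exists_maximal G _ h1
  let E := (M ⊗[A] B) ⧸ n'
  let _ : Field E := Ideal.Quotient.field n'
  let θ : B →ₐ[A] E := (Ideal.Quotient.mkₐ A n').comp Algebra.TensorProduct.includeRight
  have hθker : PolLaw.ker F.law ≤ RingHom.ker θ := by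
    intro k hk
    rw [RingHom.mem_ker]
    have h2 : (1 : M) ⊗ₜ[A] k ∈ n' := by
      apply hker
      rw [ker_bc]
      exact one_tmul_mem_kerBC F M k hk
    exact Ideal.Quotient.eq_zero_iff_mem.mpr h2
  have hrel : ∑ j, (θ (b j) - algebraMap L E (y (b j))) * algebraMap M E (t j) = 0 := by
    have h3 : Ideal.Quotient.mk n' (βM - algebraMap M (M ⊗[A] B) (yy βM)) = 0 :=
      Ideal.Quotient.eq_zero_iff_mem.mpr hx
    rw [map_sub, hβM] at h3
    simp only [map_sum] at h3
    rw [← h3, ← Finset.sum_sub_distrib]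
    refine Finset.sum_congr rfl fun j _ => ?_
    rw [sub_mul]
    congr 1
    · have : t j ⊗ₜ[A] b j = (1 : M) ⊗ₜ[A] b j * algebraMap M (M ⊗[A] B) (t j) := by
        rw [Algebra.TensorProduct.algebraMap_apply, Algebra.TensorProduct.tmul_mul_tmul,
          one_mul, mul_one, Algebra.algebraMap_self, RingHom.id_apply]
      rw [this, map_mul]
      rfl
    · rw [Algebra.TensorProduct.lift_tmul, AlgHom.id_apply, map_mul, map_mul, mul_comm]
      congr 1
  have hγ : ∀ j, IsAlgebraic L (θ (b j) - algebraMap L E (y (b j))) := fun j =>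
    (isAlgebraic_of_ker_le F L E θ hθker (b j)).sub (isAlgebraic_algebraMap _)
  have hzero := eq_zero_of_algebraic_rel L M E t (algebraicIndependent_frac L n) _ hγ hrel
  have heq : θ = (IsScalarTower.toAlgHom A L E).comp y := by
    apply AlgHom.ext_of_adjoin_eq_top hb
    rintro _ ⟨j, rfl⟩
    exact sub_eq_zero.mp (hzero j)
  intro k hk
  have h5 := hθker hk
  rw [RingHom.mem_ker, heq] at h5
  rw [RingHom.mem_ker]
  exact (algebraMap L E).injective (h5.trans (map_zero _).symm)

theorem exists_fg_ideal [Algebra.FiniteType A B] :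
    ∃ J : Ideal B, J.FG ∧ J ≤ PolLaw.ker F.law ∧ J.radical = (PolLaw.ker F.law).radical := by
  classical
  obtain ⟨s, hs⟩ := (Algebra.FiniteType.out : (⊤ : Subalgebra A B).FG)
  let b : Fin s.card → B := fun j => (s.equivFin.symm j : B)
  have hrange : Set.range b = (s : Set B) := by
    ext z
    constructor
    · rintro ⟨j, rfl⟩
      exact (s.equivFin.symm j).2
    · intro hz
      exact ⟨s.equivFin ⟨z, hz⟩, by simp [b]⟩
  have hb : Algebra.adjoin A (Set.range b) = ⊤ := by rw [hrange, hs]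
  refine ⟨J F b, J_fg F b, J_le F b, le_antisymm (Ideal.radical_mono (J_le F b)) ?_⟩
  rw [Ideal.radical_le_radical_iff, Ideal.radical_eq_sInf]
  intro k hk
  rw [Ideal.mem_sInf]
  rintro q ⟨hJq, hq⟩
  have hy : ∀ μ, (IsScalarTower.toAlgHom A B q.ResidueField) (cfC μ (W F b)) = 0 := by
    intro μ
    rw [IsScalarTower.coe_toAlgHom']
    exact Ideal.algebraMap_residueField_eq_zero.mpr
      (hJq (Ideal.subset_span ⟨μ, rfl⟩))
  have h1 := ker_le_ker_of_cfC_W F b hb q.ResidueField
    (IsScalarTower.toAlgHom A B q.ResidueField) hy hk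
  rw [RingHom.mem_ker, IsScalarTower.coe_toAlgHom'] at h1
  exact Ideal.algebraMap_residueField_eq_zero.mp h1

end Main

end Groth.Agent.Lib.Helper32.PolLawSupp
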