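import Groth.Agent.Lib.Helper32.PolLawPolar

set_option autoImplicit false
universe u
open scoped TensorProduct

namespace Groth.Agent.Lib.Helper32.PolLawSym

open Groth.Agent.Lib.Helper32.PolLawBasic Groth.Agent.Lib.Helper32.PolLawFactor
  Groth.Agent.Lib.Helper32.PolLawFactorC Groth.Agent.Lib.Helper32.PolLawGammaGen
  Groth.Agent.Lib.Helper32.PolLawPolar MvPolynomial

variable {A : Type u} [CommRing A] {τ : Type u} {d : ℕ}

section Action

noncomputable def sg (σ : Equiv.Perm (Fin d)) :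
    MvPolynomial (Fin d × τ) A →ₐ[A] MvPolynomial (Fin d × τ) A :=
  rename (Prod.map σ id)

theorem sg_comp (σ ρ : Equiv.Perm (Fin d)) :
    (sg σ).comp (sg ρ) = (sg (σ * ρ) : MvPolynomial (Fin d × τ) A →ₐ[A] _) := by
  apply MvPolynomial.algHom_ext
  intro x
  simp only [sg, AlgHom.comp_apply, rename_X]
  rfl

theorem sg_apply_apply (σ ρ : Equiv.Perm (Fin d)) (p : MvPolynomial (Fin d × τ) A) :
    sg σ (sg ρ p) = sg (σ * ρ) p := by
  rw [← sg_comp]
  rfl

theorem sg_one : (sg (1 : Equiv.Perm (Fin d)) : MvPolynomial (Fin d × τ) A →ₐ[A] _) =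
    AlgHom.id A _ := by
  apply MvPolynomial.algHom_ext
  intro x
  simp [sg]

theorem sg_rename_mk (σ : Equiv.Perm (Fin d)) (j : Fin d) (p : MvPolynomial τ A) :
    sg σ (rename (Prod.mk j) p) = rename (Prod.mk (σ j)) p := by
  rw [sg, rename_rename]
  rfl

theorem sg_X (σ : Equiv.Perm (Fin d)) (j : Fin d) (t : τ) :
    sg σ (X (j, t) : MvPolynomial (Fin d × τ) A) = X (σ j, t) := by
  simp [sg]

variable (S : Type u) [CommSemiring S] [Algebra A S]

noncomputable def sgS (σ : Equiv.Perm (Fin d)) :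
    S ⊗[A] MvPolynomial (Fin d × τ) A →ₐ[S] S ⊗[A] MvPolynomial (Fin d × τ) A :=
  Algebra.TensorProduct.map (AlgHom.id S S) (sg σ)

@[simp] theorem sgS_tmul (σ : Equiv.Perm (Fin d)) (s : S) (p : MvPolynomial (Fin d × τ) A) :
    sgS S σ (s ⊗ₜ[A] p) = s ⊗ₜ[A] sg σ p := rfl

theorem sgS_sgS (σ ρ : Equiv.Perm (Fin d)) (y : S ⊗[A] MvPolynomial (Fin d × τ) A) :
    sgS S σ (sgS S ρ y) = sgS S (σ * ρ) y := by
  induction y using TensorProduct.induction_on with
  | zero => simp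
  | add x y hx hy => simp only [map_add, hx, hy]
  | tmul s p => simp [sg_apply_apply]

theorem sgS_one (y : S ⊗[A] MvPolynomial (Fin d × τ) A) : sgS S (1 : Equiv.Perm (Fin d)) y = y := by
  induction y using TensorProduct.induction_on with
  | zero => simp
  | add x y hx hy => simp only [map_add, hx, hy]
  | tmul s p => simp [sg_one]

theorem sgS_map_mk (σ : Equiv.Perm (Fin d)) (j : Fin d) (x : S ⊗[A] MvPolynomial τ A) :
    sgS S σ (Algebra.TensorProduct.map (AlgHom.id S S)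
      (rename (Prod.mk j) : MvPolynomial τ A →ₐ[A] MvPolynomial (Fin d × τ) A) x) =
    Algebra.TensorProduct.map (AlgHom.id S S)
      (rename (Prod.mk (σ j)) : MvPolynomial τ A →ₐ[A] MvPolynomial (Fin d × τ) A) x := by
  induction x using TensorProduct.induction_on with
  | zero => simp
  | add x y hx hy => simp only [map_add, hx, hy]
  | tmul s p => simp [sg_rename_mk]

theorem sgS_Gam (σ : Equiv.Perm (Fin d)) (x : S ⊗[A] MvPolynomial τ A) :
    sgS S σ (Gam d S x) = Gam d S x := by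
  rw [Gam, map_prod]
  simp only [sgS_map_mk]
  exact Equiv.prod_comp σ (fun j => Algebra.TensorProduct.map (AlgHom.id S S)
      (rename (Prod.mk j) : MvPolynomial τ A →ₐ[A] MvPolynomial (Fin d × τ) A) x)

theorem sgS_map {S' : Type u} [CommSemiring S'] [Algebra A S'] (φ : S →ₐ[A] S')
    (σ : Equiv.Perm (Fin d)) (y : S ⊗[A] MvPolynomial (Fin d × τ) A) :
    sgS S' σ (Algebra.TensorProduct.map φ (AlgHom.id A _) y) =
      Algebra.TensorProduct.map φ (AlgHom.id A _) (sgS S σ y) := by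
  induction y using TensorProduct.induction_on with
  | zero => simp
  | add x y hx hy => simp only [map_add, hx, hy]
  | tmul s p => simp

end Action

section Tuples

theorem monomial_thetaOf (p : Fin d → (τ →₀ ℕ)) :
    (monomial (thetaOf p) (1 : A) : MvPolynomial (Fin d × τ) A) =
      ∏ j, rename (Prod.mk j) (monomial (p j) (1 : A)) := by
  simp only [rename_monomial]
  rw [thetaOf, monomial_sum_one]

theorem sg_monomial_thetaOf (σ : Equiv.Perm (Fin d)) (p : Fin d → (τ →₀ ℕ)) :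
    sg σ (monomial (thetaOf p) (1 : A)) = monomial (thetaOf (p ∘ σ.symm)) 1 := by
  rw [monomial_thetaOf, map_prod, monomial_thetaOf]
  simp only [sg_rename_mk]
  rw [← Equiv.prod_comp σ (fun k => rename (Prod.mk k) (monomial ((p ∘ σ.symm) k) (1 : A)))]
  simp

theorem thetaOf_injective : Function.Injective (thetaOf : (Fin d → (τ →₀ ℕ)) → _) := by
  intro p q h
  rw [← tupleOf_thetaOf p, ← tupleOf_thetaOf q, h]

theorem thetaOf_tupleOf (θ : Fin d × τ →₀ ℕ) : thetaOf (tupleOf θ) = θ := by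
  classical
  ext ⟨j, t⟩
  rw [thetaOf, Finsupp.finsetSum_apply, Finset.sum_eq_single j]
  · rw [Finsupp.mapDomain_apply (Prod.mk_right_injective j), tupleOf, Finsupp.comapDomain_apply]
  · intro j' _ hj'
    apply Finsupp.mapDomain_of_notMem_range
    rintro ⟨t', ht'⟩
    exact hj' (Prod.ext_iff.mp ht').1
  · intro h
    exact absurd (Finset.mem_univ j) h

theorem nuOf_comp (σ : Equiv.Perm (Fin d)) (p : Fin d → (τ →₀ ℕ)) : nuOf (p ∘ σ) = nuOf p := by
  rw [nuOf, nuOf]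
  exact Equiv.sum_comp σ (fun j => (Finsupp.single (p j) 1 : (τ →₀ ℕ) →₀ ℕ))

theorem nuOf_apply [DecidableEq (τ →₀ ℕ)] (p : Fin d → (τ →₀ ℕ)) (m : τ →₀ ℕ) :
    nuOf p m = (Finset.univ.filter fun j => p j = m).card := by
  rw [nuOf, Finsupp.finsetSum_apply, Finset.card_eq_sum_ones, Finset.sum_filter]
  refine Finset.sum_congr rfl fun j _ => ?_
  rw [Finsupp.single_apply]

theorem exists_perm_of_nuOf_eq (p q : Fin d → (τ →₀ ℕ)) (h : nuOf p = nuOf q) :
    ∃ σ : Equiv.Perm (Fin d), q = p ∘ σ := by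
  classical
  have hcard : ∀ m, Fintype.card {j // q j = m} = Fintype.card {j // p j = m} := by
    intro m
    rw [Fintype.card_subtype, Fintype.card_subtype, ← nuOf_apply, ← nuOf_apply, h]
  refine ⟨Equiv.ofFiberEquiv (f := q) (g := p) fun m => Fintype.equivOfCardEq (hcard m), ?_⟩
  funext j
  exact (Equiv.ofFiberEquiv_map _ j).symm

end Tuples

section Coef

variable (S : Type u) [CommSemiring S] [Algebra A S]

noncomputable def cS (θ : Fin d × τ →₀ ℕ) : S ⊗[A] MvPolynomial (Fin d × τ) A →ₗ[A] S :=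
  (TensorProduct.rid A S).toLinearMap ∘ₗ (MvPolynomial.lcoeff A θ).lTensor S

@[simp] theorem cS_tmul (θ : Fin d × τ →₀ ℕ) (s : S) (p : MvPolynomial (Fin d × τ) A) :
    cS S θ (s ⊗ₜ[A] p) = coeff θ p • s := by
  simp [cS]

theorem thetaOf_comp_symm (σ : Equiv.Perm (Fin d)) (q : Fin d → (τ →₀ ℕ)) :
    thetaOf (q ∘ σ.symm) = (thetaOf q).mapDomain (Prod.map σ id) := by
  classical
  rw [thetaOf, thetaOf, Finsupp.mapDomain_finsetSum]
  rw [← Equiv.sum_comp σ (fun k => ((q ∘ σ.symm) k).mapDomain (Prod.mk k))]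
  refine Finset.sum_congr rfl fun j _ => ?_
  rw [← Finsupp.mapDomain_comp]
  simp only [Function.comp_apply, Equiv.symm_apply_apply]
  rfl

theorem cS_sgS (σ : Equiv.Perm (Fin d)) (q : Fin d → (τ →₀ ℕ))
    (y : S ⊗[A] MvPolynomial (Fin d × τ) A) :
    cS S (thetaOf (q ∘ σ.symm)) (sgS S σ y) = cS S (thetaOf q) y := by
  induction y using TensorProduct.induction_on with
  | zero => simp
  | add x y hx hy => simp only [map_add, hx, hy]
  | tmul s p =>
    rw [sgS_tmul, cS_tmul, cS_tmul, thetaOf_comp_symm, sg]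
    congr 1
    apply coeff_rename_mapDomain
    exact Function.Injective.prodMap σ.injective Function.injective_id

theorem cS_comp_of_inv (y : S ⊗[A] MvPolynomial (Fin d × τ) A)
    (hy : ∀ σ : Equiv.Perm (Fin d), sgS S σ y = y) (σ : Equiv.Perm (Fin d))
    (q : Fin d → (τ →₀ ℕ)) : cS S (thetaOf (q ∘ σ)) y = cS S (thetaOf q) y := by
  have h := cS_sgS S σ.symm q y
  rw [hy σ.symm, Equiv.symm_symm] at h
  exact h

theorem cS_eq_of_nuOf_eq (y : S ⊗[A] MvPolynomial (Fin d × τ) A)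
    (hy : ∀ σ : Equiv.Perm (Fin d), sgS S σ y = y) (p q : Fin d → (τ →₀ ℕ))
    (h : nuOf p = nuOf q) : cS S (thetaOf q) y = cS S (thetaOf p) y := by
  obtain ⟨σ, rfl⟩ := exists_perm_of_nuOf_eq p q h
  exact cS_comp_of_inv S y hy σ p

theorem exists_support (y : S ⊗[A] MvPolynomial (Fin d × τ) A) :
    ∃ J : Finset (τ →₀ ℕ), ∀ J' : Finset (τ →₀ ℕ), J ⊆ J' →
      y = ∑ p ∈ Fintype.piFinset (fun _ : Fin d => J'),
        cS S (thetaOf p) y ⊗ₜ[A] (monomial (thetaOf p) (1 : A)) := by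
  classical
  obtain ⟨Θ, s, hs⟩ := exists_repr S y
  have hc : ∀ θ, cS S θ y = if θ ∈ Θ then s θ else 0 := by
    intro θ
    rw [hs, map_sum]
    simp only [cS_tmul, coeff_monomial]
    by_cases hθ : θ ∈ Θ
    · rw [if_pos hθ, Finset.sum_eq_single θ]
      · simp
      · intro θ' _ hθ'
        rw [if_neg hθ', zero_smul]
      · intro h
        exact absurd hθ h
    · rw [if_neg hθ]
      refine Finset.sum_eq_zero fun θ' hθ' => ?_
      rw [if_neg, zero_smul]
      rintro rfl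
      exact hθ hθ'
  refine ⟨Θ.biUnion (fun θ => Finset.univ.image (tupleOf θ)), fun J hJ => ?_⟩
  have hsub : Θ ⊆ (Fintype.piFinset (fun _ : Fin d => J)).image thetaOf := by
    intro θ hθ
    rw [Finset.mem_image]
    refine ⟨tupleOf θ, ?_, thetaOf_tupleOf θ⟩
    rw [Fintype.mem_piFinset]
    intro j
    apply hJ
    rw [Finset.mem_biUnion]
    exact ⟨θ, hθ, Finset.mem_image_of_mem _ (Finset.mem_univ j)⟩
  conv_lhs => rw [hs]
  rw [← Finset.sum_image (s := Fintype.piFinset (fun _ : Fin d => J)) (g := thetaOf)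
    (f := fun θ => cS S θ y ⊗ₜ[A] (monomial θ (1 : A))) (fun p _ q _ h => thetaOf_injective h)]
  rw [← Finset.sum_subset hsub]
  · refine Finset.sum_congr rfl fun θ hθ => ?_
    rw [hc θ, if_pos hθ]
  · intro θ _ hθ
    rw [hc θ, if_neg hθ, TensorProduct.zero_tmul]

end Coef

section Orbit

open scoped Classical

noncomputable def os (J : Finset (τ →₀ ℕ)) (ν : (τ →₀ ℕ) →₀ ℕ) : MvPolynomial (Fin d × τ) A :=
  ∑ p ∈ (Fintype.piFinset (fun _ : Fin d => J)).filter (fun p => nuOf p = ν),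
    monomial (thetaOf p) (1 : A)

theorem cfC_Gam_gen (J : Finset (τ →₀ ℕ)) (ν : (τ →₀ ℕ) →₀ ℕ) :
    cfC ν (Gam d (Rg A τ) (gen J)) = (os J ν : MvPolynomial (Fin d × τ) A) := by
  rw [Gam_gen, map_sum, os, Finset.sum_filter]
  refine Finset.sum_congr rfl fun p _ => ?_
  rw [cfC_tmul, coeff_monomial]
  split_ifs <;> simp

variable (S : Type u) [CommSemiring S] [Algebra A S]

theorem inv_expand (y : S ⊗[A] MvPolynomial (Fin d × τ) A)
    (hy : ∀ σ : Equiv.Perm (Fin d), sgS S σ y = y) (J : Finset (τ →₀ ℕ))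
    (hJ : y = ∑ p ∈ Fintype.piFinset (fun _ : Fin d => J),
        cS S (thetaOf p) y ⊗ₜ[A] (monomial (thetaOf p) (1 : A))) :
    y = ∑ ν ∈ (Fintype.piFinset (fun _ : Fin d => J)).image nuOf,
        cS S (thetaOf (repOf d ν)) y ⊗ₜ[A] (os J ν : MvPolynomial (Fin d × τ) A) := by
  conv_lhs => rw [hJ]
  rw [← Finset.sum_fiberwise_of_maps_to (g := nuOf)
    (t := (Fintype.piFinset (fun _ : Fin d => J)).image nuOf)
    (fun p hp => Finset.mem_image_of_mem _ hp)]
  refine Finset.sum_congr rfl fun ν hν => ?_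
  rw [os, TensorProduct.tmul_sum]
  refine Finset.sum_congr rfl fun p hp => ?_
  rw [Finset.mem_filter] at hp
  congr 1
  apply cS_eq_of_nuOf_eq S y hy
  rw [hp.2, nuOf_repOf]
  rw [← hp.2]
  exact degree_nuOf p

theorem EP' {Q : Type u} [AddCommGroup Q] [Module A Q] (ℓ ℓ' : MvPolynomial (Fin d × τ) A →ₗ[A] Q)
    (J : Finset (τ →₀ ℕ)) (h1 : ∀ ν, ℓ (os J ν) = ℓ' (os J ν))
    (y : S ⊗[A] MvPolynomial (Fin d × τ) A) (hy : ∀ σ : Equiv.Perm (Fin d), sgS S σ y = y)
    (hJ : y = ∑ p ∈ Fintype.piFinset (fun _ : Fin d => J),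
        cS S (thetaOf p) y ⊗ₜ[A] (monomial (thetaOf p) (1 : A))) :
    ℓ.lTensor S y = ℓ'.lTensor S y := by
  rw [inv_expand S y hy J hJ, map_sum, map_sum]
  refine Finset.sum_congr rfl fun ν _ => ?_
  rw [LinearMap.lTensor_tmul, LinearMap.lTensor_tmul, h1]

theorem EP {Q : Type u} [CommRing Q] [Algebra A Q] (ℓ ℓ' : MvPolynomial (Fin d × τ) A →ₗ[A] Q)
    (J : Finset (τ →₀ ℕ))
    (h : ℓ.lTensor (Rg A τ) (Gam d (Rg A τ) (gen J)) = ℓ'.lTensor (Rg A τ) (Gam d (Rg A τ) (gen J)))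
    (y : S ⊗[A] MvPolynomial (Fin d × τ) A) (hy : ∀ σ : Equiv.Perm (Fin d), sgS S σ y = y)
    (hJ : y = ∑ p ∈ Fintype.piFinset (fun _ : Fin d => J),
        cS S (thetaOf p) y ⊗ₜ[A] (monomial (thetaOf p) (1 : A))) :
    ℓ.lTensor S y = ℓ'.lTensor S y := by
  have h1 : ∀ ν, ℓ (os J ν) = ℓ' (os J ν) := by
    intro ν
    rw [← cfC_Gam_gen, ← cfC_lTensor, ← cfC_lTensor, h]
  rw [inv_expand S y hy J hJ, map_sum, map_sum]
  refine Finset.sum_congr rfl fun ν _ => ?_
  rw [LinearMap.lTensor_tmul, LinearMap.lTensor_tmul, h1]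

end Orbit

end Groth.Agent.Lib.Helper32.PolLawSym
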