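import Groth.Agent.Lib.Helper32.PolLawCorestrict

set_option autoImplicit false
universe u
open scoped TensorProduct

namespace Groth.Agent.Lib.Helper32.PolLawTS

open Groth.Agent.Lib.Helper32.PolLawBasic Groth.Agent.Lib.Helper32.PolLawFactor
  Groth.Agent.Lib.Helper32.PolLawFactorC Groth.Agent.Lib.Helper32.PolLawGammaGen
  Groth.Agent.Lib.Helper32.PolLawGammaFT
  Groth.Agent.Lib.Helper32.PolLawPolar Groth.Agent.Lib.Helper32.PolLawSym
  Groth.Agent.Lib.Helper32.PolLawNorm Groth.Agent.Lib.Helper32.PolLawNormKer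
  Groth.Agent.Lib.Helper32.PolLawTd Groth.Agent.Lib.Helper32.PolLawTd2
  Groth.Agent.Lib.Helper32.PolLawCorestrict MvPolynomial

variable {A : Type u} [CommRing A] {B : Type u} [CommRing B] [Algebra A B] {d : ℕ}

section TPLaw

theorem TP_map {S S' : Type u} [CommSemiring S] [Algebra A S] [CommSemiring S'] [Algebra A S']
    (φ : S →ₐ[A] S') (w : S ⊗[A] B) :
    TP (d := d) S' (Algebra.TensorProduct.map φ (AlgHom.id A B) w) =
      Algebra.TensorProduct.map φ (AlgHom.id A _) (TP (d := d) S w) := by
  rw [TP, TP, map_prod]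
  refine Finset.prod_congr rfl fun k _ => ?_
  induction w using TensorProduct.induction_on with
  | zero => simp
  | add x y hx hy => simp only [map_add, hx, hy]
  | tmul s b => simp

variable (A B d) in
noncomputable def TPlaw : B →ₚₗ[A] (⨂[A] _ : Fin d, B) where
  toFun' S _ _ w := TP S w
  isCompat' {S} _ _ {S'} _ _ φ := by
    funext w
    simp only [Function.comp_apply]
    rw [rTensor_eq_map, rTensor_eq_map, TP_map]

variable (A B d) in
noncomputable def TPmul : PolLaw.MulLaw A B (⨂[A] _ : Fin d, B) d where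
  law := TPlaw A B d
  homog S _ _ s w := by
    show TP S (s • w) = s ^ d • TP S w
    rw [TP, TP]
    simp only [map_smul]
    rw [Finset.prod_smul]
    simp
  mult S _ _ := by
    refine ⟨?_, fun x y => ?_⟩
    · show TP S 1 = 1
      rw [TP]
      simp
    · show TP S (x * y) = TP S x * TP S y
      rw [TP, TP, TP, ← Finset.prod_mul_distrib]
      simp only [map_mul]

theorem TPmul_toFun' (S : Type u) [CommSemiring S] [Algebra A S] (w : S ⊗[A] B) :
    (TPmul A B d).law.toFun' S w = TP S w := rfl

theorem permS_map_sgl (S : Type u) [CommSemiring S] [Algebra A S] (σ : Equiv.Perm (Fin d))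
    (k : Fin d) (w : S ⊗[A] B) :
    permS A B d S σ (Algebra.TensorProduct.map (AlgHom.id S S) (sgl A B d k) w) =
      Algebra.TensorProduct.map (AlgHom.id S S) (sgl A B d (σ k)) w := by
  induction w using TensorProduct.induction_on with
  | zero => simp
  | add x y hx hy => simp only [map_add, hx, hy]
  | tmul s b => simp [permS, perm_sgl]

theorem permS_TP (S : Type u) [CommSemiring S] [Algebra A S] (σ : Equiv.Perm (Fin d))
    (w : S ⊗[A] B) : permS A B d S σ (TP S w) = TP S w := by
  rw [TP, map_prod]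
  simp only [permS_map_sgl]
  exact Equiv.prod_comp σ (fun k => Algebra.TensorProduct.map (AlgHom.id S S) (sgl A B d k) w)

theorem perm_cfC {ι : Type u} (σ : Equiv.Perm (Fin d)) (ν : ι →₀ ℕ)
    (W : MvPolynomial ι A ⊗[A] (⨂[A] _ : Fin d, B)) :
    SymTen.perm A B d σ (cfC ν W) = cfC ν (permS A B d (MvPolynomial ι A) σ W) := by
  have h := cfC_lTensor (SymTen.perm A B d σ).toLinearMap ν W
  rw [PolLaw.lTensor_algHom_apply] at h
  exact h.symm

theorem hLinC_mem_TS (p : MvPolynomial (Fin d × B) A) :
    hLinC (Gp (TPmul A B d)).law d p ∈ SymTen.TS A B d := by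
  classical
  induction p using MvPolynomial.induction_on' with
  | monomial θ a =>
    rw [hLinC_monomial]
    refine Subalgebra.smul_mem _ ?_ a
    rw [hvalC]
    split_ifs
    · intro σ
      rw [← SymTen.perm_apply, nCoeffC, cJC, Gp_toFun', perm_cfC, TPmul_toFun', permS_TP]
    · exact Subalgebra.zero_mem _
  | add p q hp hq =>
    rw [map_add]
    exact Subalgebra.add_mem _ hp hq

variable (A B d) in
noncomputable def tau : PolLaw.MulLaw A B (SymTen.TS A B d) d :=
  cores (TPmul A B d) (SymTen.TS A B d) hLinC_mem_TS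

theorem val_tau (S : Type u) [CommSemiring S] [Algebra A S] (w : S ⊗[A] B) :
    Algebra.TensorProduct.map (AlgHom.id S S) (SymTen.TS A B d).val
      ((tau A B d).law.toFun' S w) = TP S w :=
  val_cores (TPmul A B d) (SymTen.TS A B d) hLinC_mem_TS S w

theorem tau_formula (S : Type u) [CommSemiring S] [Algebra A S] (n : ℕ) (s : Fin n → S)
    (b : Fin n → B) :
    (SymTen.TS A B d).val.toLinearMap.lTensor S ((tau A B d).law.toFun' S (∑ j, s j ⊗ₜ[A] b j)) =
      ∑ c : Fin d → Fin n, (∏ i, s (c i)) ⊗ₜ[A] PiTensorProduct.tprod A (fun i => b (c i)) := by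
  rw [PolLaw.lTensor_algHom_apply, val_tau, TP_sum]

end TPLaw

end Groth.Agent.Lib.Helper32.PolLawTS
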