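import Groth.Agent.Lib.Helper32.PolLawTd2

set_option autoImplicit false
universe u
open scoped TensorProduct

namespace Groth.Agent.Lib.Helper32.PolLawTSField

open Groth.Agent.Lib.Helper32.PolLawBasic Groth.Agent.Lib.Helper32.PolLawFactor
  Groth.Agent.Lib.Helper32.PolLawFactorC Groth.Agent.Lib.Helper32.PolLawGammaGen
  Groth.Agent.Lib.Helper32.PolLawGammaFT
  Groth.Agent.Lib.Helper32.PolLawPolar Groth.Agent.Lib.Helper32.PolLawSym
  Groth.Agent.Lib.Helper32.PolLawNorm Groth.Agent.Lib.Helper32.PolLawNormKer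
  Groth.Agent.Lib.Helper32.PolLawTd Groth.Agent.Lib.Helper32.PolLawTd2 MvPolynomial

variable {A : Type u} [CommRing A] {B : Type u} [CommRing B] [Algebra A B] {d : ℕ}

section Basis

variable (K : Type u) [Field K] [Algebra A K]

theorem span_one_tmul :
    ⊤ ≤ Submodule.span K (Set.range fun b : B => (1 : K) ⊗ₜ[A] b) := by
  intro x hx
  clear hx
  induction x using TensorProduct.induction_on with
  | zero => exact zero_mem _
  | add x y hx hy => exact add_mem hx hy
  | tmul k b =>
    have h : k ⊗ₜ[A] b = k • ((1 : K) ⊗ₜ[A] b) := by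
      rw [TensorProduct.smul_tmul', smul_eq_mul, mul_one]
    rw [h]
    exact Submodule.smul_mem _ _ (Submodule.subset_span ⟨b, rfl⟩)

theorem exists_basis_one_tmul :
    ∃ (I : Type u) (e : Module.Basis I K (K ⊗[A] B)) (β : I → B),
      ∀ i, e i = (1 : K) ⊗ₜ[A] β i := by
  refine ⟨_, Module.Basis.ofSpan (span_one_tmul (A := A) (B := B) K), ?_⟩
  have h := Module.Basis.ofSpan_subset (span_one_tmul (A := A) (B := B) K)
  have h2 : ∀ i, ∃ b : B, (1 : K) ⊗ₜ[A] b =
      Module.Basis.ofSpan (span_one_tmul (A := A) (B := B) K) i := fun i => h ⟨i, rfl⟩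
  choose β hβ using h2
  exact ⟨β, fun i => (hβ i).symm⟩

variable {K} {I : Type u} (e : Module.Basis I K (K ⊗[A] B)) (β : I → B)
  (he : ∀ i, e i = (1 : K) ⊗ₜ[A] β i)

noncomputable def mon (p : Fin d → I) : MvPolynomial (Fin d × B) A := ∏ j, X (j, β (p j))

theorem kap_mon (p : Fin d → I) :
    kap A B d (mon β p) = PiTensorProduct.tprod A (fun j => β (p j)) := by
  rw [mon, map_prod]
  simp only [kap_X]
  exact prod_sgl _

theorem sg_mon (σ : Equiv.Perm (Fin d)) (p : Fin d → I) :
    sg σ (mon (A := A) β p) = mon β (fun j => p (σ.symm j)) := by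
  rw [mon, map_prod, mon]
  simp only [sg_X]
  exact Fintype.prod_equiv σ _ _ (fun j => by simp)

variable (A K) in
noncomputable def GG' : ((Fin d → I) →₀ K) →ₗ[K] K ⊗[A] MvPolynomial (Fin d × B) A :=
  Finsupp.linearCombination K (fun p => (1 : K) ⊗ₜ[A] mon β p)

theorem GG'_single (p : Fin d → I) (k : K) :
    GG' A K β (Finsupp.single p k) = k ⊗ₜ[A] mon β p := by
  rw [GG', Finsupp.linearCombination_single, TensorProduct.smul_tmul', smul_eq_mul, mul_one]

variable (K) in
noncomputable def act (σ : Equiv.Perm (Fin d)) :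
    ((Fin d → I) →₀ K) →ₗ[K] ((Fin d → I) →₀ K) :=
  Finsupp.lmapDomain K K (fun p j => p (σ.symm j))

theorem sgS_GG' (σ : Equiv.Perm (Fin d)) (f : (Fin d → I) →₀ K) :
    sgS K σ (GG' A K β f) = GG' A K β (act K σ f) := by
  have h : (sgS (A := A) (τ := B) (d := d) K σ).toLinearMap ∘ₗ GG' A K β =
      GG' A K β ∘ₗ act K σ := by
    apply Finsupp.lhom_ext
    intro p k
    simp only [LinearMap.comp_apply, AlgHom.toLinearMap_apply, GG'_single, sgS_tmul, sg_mon, act,
      Finsupp.lmapDomain_apply, Finsupp.mapDomain_single]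
  exact LinearMap.congr_fun h f

variable (A K) in
noncomputable def TT : ((Fin d → I) →₀ K) →ₗ[K] K ⊗[A] (⨂[A] _ : Fin d, B) :=
  (kapS A B d K).toLinearMap ∘ₗ GG' A K β

theorem TT_single (p : Fin d → I) (k : K) :
    TT A K β (Finsupp.single p k) = k ⊗ₜ[A] PiTensorProduct.tprod A (fun j => β (p j)) := by
  rw [TT, LinearMap.comp_apply, GG'_single, AlgHom.toLinearMap_apply]
  show k ⊗ₜ[A] kap A B d (mon β p) = _
  rw [kap_mon]

theorem permS_TT (σ : Equiv.Perm (Fin d)) (f : (Fin d → I) →₀ K) :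
    permS A B d K σ (TT A K β f) = TT A K β (act K σ f) := by
  rw [TT, LinearMap.comp_apply, AlgHom.toLinearMap_apply, ← kapS_sgS, sgS_GG']
  rfl

noncomputable def ell (i : I) : B →ₗ[A] K :=
  ((e.coord i).restrictScalars A) ∘ₗ (TensorProduct.mk A K B 1)

theorem ell_apply (i : I) (b : B) : ell e i b = e.repr ((1 : K) ⊗ₜ[A] b) i := rfl

noncomputable def Lam (q : Fin d → I) : K ⊗[A] (⨂[A] _ : Fin d, B) →ₗ[K] K :=
  LinearMap.liftBaseChange K (PiTensorProduct.lift
    ((MultilinearMap.mkPiAlgebra A (Fin d) K).compLinearMap (fun j => ell e (q j))))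

theorem Lam_tmul_tprod (q : Fin d → I) (k : K) (b : Fin d → B) :
    Lam e q (k ⊗ₜ[A] PiTensorProduct.tprod A b) = k * ∏ j, e.repr ((1 : K) ⊗ₜ[A] b j) (q j) := by
  rw [Lam, LinearMap.liftBaseChange_tmul, PiTensorProduct.lift.tprod]
  simp only [MultilinearMap.compLinearMap_apply, MultilinearMap.mkPiAlgebra_apply, ell_apply,
    smul_eq_mul]

include he in
theorem Lam_TT (q : Fin d → I) (f : (Fin d → I) →₀ K) : Lam e q (TT A K β f) = f q := by
  classical
  have h : Lam e q ∘ₗ TT A K β = Finsupp.lapply q := by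
    apply Finsupp.lhom_ext
    intro p k
    rw [LinearMap.comp_apply, TT_single, Lam_tmul_tprod, Finsupp.lapply_apply]
    simp only [← he, Module.Basis.repr_self, Finsupp.single_apply]
    rw [Fintype.prod_ite_zero]
    by_cases hpq : p = q
    · subst hpq
      simp
    · have : ¬ ∀ j, p j = q j := fun h' => hpq (funext h')
      simp [this, hpq]
  exact LinearMap.congr_fun h f

include he in
theorem TT_injective : Function.Injective (TT A K (d := d) β) := by
  intro f g hfg
  ext q
  rw [← Lam_TT e β he q f, ← Lam_TT e β he q g, hfg]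

variable (A B d K) in
noncomputable def Theta : (⨂[K] _ : Fin d, K ⊗[A] B) →ₗ[K] K ⊗[A] (⨂[A] _ : Fin d, B) :=
  PiTensorProduct.lift
    ((MultilinearMap.mkPiAlgebra K (Fin d) (K ⊗[A] (⨂[A] _ : Fin d, B))).compLinearMap
      (fun j => (Algebra.TensorProduct.map (AlgHom.id K K) (sgl A B d j)).toLinearMap))

theorem Theta_tprod (v : Fin d → K ⊗[A] B) :
    Theta A B d K (PiTensorProduct.tprod K v) =
      ∏ j, Algebra.TensorProduct.map (AlgHom.id K K) (sgl A B d j) (v j) := by
  rw [Theta, PiTensorProduct.lift.tprod]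
  simp only [MultilinearMap.compLinearMap_apply, MultilinearMap.mkPiAlgebra_apply,
    AlgHom.toLinearMap_apply]

theorem Theta_tprod_one_tmul (b : Fin d → B) :
    Theta A B d K (PiTensorProduct.tprod K (fun j => (1 : K) ⊗ₜ[A] b j)) =
      (1 : K) ⊗ₜ[A] PiTensorProduct.tprod A b := by
  rw [Theta_tprod]
  simp only [Algebra.TensorProduct.map_tmul, AlgHom.id_apply]
  rw [← prod_sgl, ← Algebra.TensorProduct.includeRight_apply (R := A) (A := K), map_prod]
  rfl

include he in
theorem Theta_eq (u : ⨂[K] _ : Fin d, K ⊗[A] B) :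
    Theta A B d K u = TT A K β ((_root_.Basis.piTensorProduct (fun _ : Fin d => e)).repr u) := by
  have h : Theta A B d K =
      TT A K β ∘ₗ ((_root_.Basis.piTensorProduct (fun _ : Fin d => e)).repr :
        (⨂[K] _ : Fin d, K ⊗[A] B) →ₗ[K] _) := by
    apply (_root_.Basis.piTensorProduct (fun _ : Fin d => e)).ext
    intro p
    rw [LinearMap.comp_apply, LinearEquiv.coe_coe, Module.Basis.repr_self, TT_single,
      _root_.Basis.piTensorProduct_apply]
    simp only [he]
    exact Theta_tprod_one_tmul _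
  exact LinearMap.congr_fun h u

include he in
theorem TT_surjective : Function.Surjective (TT A K (d := d) β) := by
  rw [← LinearMap.range_eq_top, eq_top_iff]
  intro t _
  induction t using TensorProduct.induction_on with
  | zero => exact zero_mem _
  | add x y hx hy => exact add_mem (hx trivial) (hy trivial)
  | tmul k t =>
    induction t using PiTensorProduct.induction_on with
    | smul_tprod a b =>
      have h : k ⊗ₜ[A] (a • PiTensorProduct.tprod A b) =
          (a • k) • ((1 : K) ⊗ₜ[A] PiTensorProduct.tprod A b) := by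
        rw [TensorProduct.tmul_smul, TensorProduct.smul_tmul', TensorProduct.smul_tmul',
          smul_eq_mul, mul_one]
      rw [h]
      refine Submodule.smul_mem _ _ ?_
      rw [← Theta_tprod_one_tmul (K := K), Theta_eq e β he]
      exact ⟨_, rfl⟩
    | add x y hx hy =>
      rw [TensorProduct.tmul_add]
      exact add_mem (hx trivial) (hy trivial)

include he in
theorem exists_inv_lift (t' : K ⊗[A] (⨂[A] _ : Fin d, B))
    (ht : ∀ σ : Equiv.Perm (Fin d), permS A B d K σ t' = t') :
    ∃ z : K ⊗[A] MvPolynomial (Fin d × B) A,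
      (∀ σ : Equiv.Perm (Fin d), sgS K σ z = z) ∧ kapS A B d K z = t' := by
  obtain ⟨f, rfl⟩ := TT_surjective e β he t'
  refine ⟨GG' A K β f, fun σ => ?_, rfl⟩
  rw [sgS_GG']
  congr 1
  apply TT_injective e β he
  rw [← permS_TT, ht]

end Basis

variable (K : Type u) [Field K] [Algebra A K]

theorem exists_inv_lift_field (t' : K ⊗[A] (⨂[A] _ : Fin d, B))
    (ht : ∀ σ : Equiv.Perm (Fin d), permS A B d K σ t' = t') :
    ∃ z : K ⊗[A] MvPolynomial (Fin d × B) A,
      (∀ σ : Equiv.Perm (Fin d), sgS K σ z = z) ∧ kapS A B d K z = t' := by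
  obtain ⟨I, e, β, he⟩ := exists_basis_one_tmul (A := A) (B := B) K
  exact exists_inv_lift e β he t' ht

end Groth.Agent.Lib.Helper32.PolLawTSField
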