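import Groth.Agent.Lib.Helper32.PolLawTSFlat

set_option autoImplicit false
universe u
open scoped TensorProduct

namespace Groth.Agent.Lib.Helper32.PolLawTSFlat2

open Groth.Agent.Lib.Helper32.PolLawBasic Groth.Agent.Lib.Helper32.PolLawFactor
  Groth.Agent.Lib.Helper32.PolLawFactorC Groth.Agent.Lib.Helper32.PolLawGammaGen
  Groth.Agent.Lib.Helper32.PolLawPolar Groth.Agent.Lib.Helper32.PolLawSym
  Groth.Agent.Lib.Helper32.PolLawNorm Groth.Agent.Lib.Helper32.PolLawNormKer
  Groth.Agent.Lib.Helper32.PolLawTd Groth.Agent.Lib.Helper32.PolLawTd2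
  Groth.Agent.Lib.Helper32.PolLawCorestrict Groth.Agent.Lib.Helper32.PolLawTS
  Groth.Agent.Lib.Helper32.PolLawTSUniv Groth.Agent.Lib.Helper32.PolLawLazard
  Groth.Agent.Lib.Helper32.PolLawTSFlat MvPolynomial

variable {A : Type u} [CommRing A] {B : Type u} [CommRing B] [Algebra A B] {d : ℕ}

theorem expand_ground {τ : Type u} (x : MvPolynomial (Fin d × τ) A) (J : Finset (τ →₀ ℕ))
    (hJ : ((1 : A) ⊗ₜ[A] x : A ⊗[A] MvPolynomial (Fin d × τ) A) =
      ∑ p ∈ Fintype.piFinset (fun _ : Fin d => J),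
        cS A (thetaOf p) ((1 : A) ⊗ₜ[A] x) ⊗ₜ[A] (monomial (thetaOf p) (1 : A))) :
    x = ∑ p ∈ Fintype.piFinset (fun _ : Fin d => J),
        cS A (thetaOf p) ((1 : A) ⊗ₜ[A] x) • (monomial (thetaOf p) (1 : A)) := by
  have h1 := congrArg (TensorProduct.lid A _) hJ
  rw [TensorProduct.lid_tmul, one_smul, map_sum] at h1
  simp only [TensorProduct.lid_tmul] at h1
  exact h1

theorem kapv_TdLin {k : ℕ} (V : MvPolynomial B A →ₗ[A] MvPolynomial (ULift.{u} (Fin k)) A)
    (v' : ULift.{u} (Fin k) → B) (J₀ : Finset (B →₀ ℕ))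
    (hV : ∀ p : MvPolynomial B A, p.support ⊆ J₀ → aeval v' (V p) = aeval id p)
    (x : MvPolynomial (Fin d × B) A)
    (hx' : x = ∑ p ∈ Fintype.piFinset (fun _ : Fin d => J₀),
        cS A (thetaOf p) ((1 : A) ⊗ₜ[A] x) • (monomial (thetaOf p) (1 : A))) :
    kapv v' (TdLin (d := d) V x) = kap A B d x := by
  classical
  conv_lhs => rw [hx']
  conv_rhs => rw [hx']
  rw [map_sum, map_sum, map_sum]
  refine Finset.sum_congr rfl fun p hp => ?_
  rw [map_smul, map_smul, map_smul]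
  congr 1
  rw [TdLin_monomial, tupleOf_thetaOf, kapv_ptM, monomial_thetaOf, ← ptM_apply, kap_ptM]
  refine Finset.prod_congr rfl fun j _ => ?_
  rw [hV]
  rw [Fintype.mem_piFinset] at hp
  exact (support_monomial_subset).trans (Finset.singleton_subset_iff.mpr (hp j))

theorem kapv_sg {τ : Type u} (v : τ → B) (σ : Equiv.Perm (Fin d))
    (p : MvPolynomial (Fin d × τ) A) :
    kapv (A := A) (d := d) v (sg σ p) = SymTen.perm A B d σ (kapv v p) := by
  have h : (kapv (A := A) (d := d) v).comp (sg σ) = (SymTen.perm A B d σ).comp (kapv v) := by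
    apply MvPolynomial.algHom_ext
    rintro ⟨j, b⟩
    simp [sg_X, kapv, perm_sgl]
  exact DFunLike.congr_fun h p

theorem kapv_mem_TS {τ : Type u} (v : τ → B) (w : MvPolynomial (Fin d × τ) A)
    (hw : ∀ σ : Equiv.Perm (Fin d), sg σ w = w) : kapv (A := A) (d := d) v w ∈ SymTen.TS A B d := by
  intro σ
  rw [← SymTen.perm_apply, ← kapv_sg, hw]

open scoped Classical in
theorem expand_os {τ : Type u} (z : MvPolynomial (Fin d × τ) A)
    (hz : ∀ σ : Equiv.Perm (Fin d), sg σ z = z) (J : Finset (τ →₀ ℕ))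
    (hJ : ((1 : A) ⊗ₜ[A] z : A ⊗[A] MvPolynomial (Fin d × τ) A) =
      ∑ p ∈ Fintype.piFinset (fun _ : Fin d => J),
        cS A (thetaOf p) ((1 : A) ⊗ₜ[A] z) ⊗ₜ[A] (monomial (thetaOf p) (1 : A))) :
    z = ∑ ν ∈ (Fintype.piFinset (fun _ : Fin d => J)).image nuOf,
        coeff (thetaOf (repOf d ν)) z • (os J ν : MvPolynomial (Fin d × τ) A) := by
  have h := inv_expand A ((1 : A) ⊗ₜ[A] z) (fun σ => by rw [sgS_tmul, hz]) J hJ
  have h1 := congrArg (TensorProduct.lid A _) h
  rw [TensorProduct.lid_tmul, one_smul, map_sum] at h1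
  simp only [TensorProduct.lid_tmul, cS_tmul, smul_eq_mul, mul_one] at h1
  exact h1

open scoped Classical in
theorem exists_TS_factor [Module.Flat A B] {l : ℕ} (f : Fin l → A)
    (y : Fin l → MvPolynomial (Fin d × B) A) (hYkap : kap A B d (∑ i, f i • y i) = 0) :
    ∃ (k : ℕ) (V : MvPolynomial B A →ₗ[A] MvPolynomial (ULift.{u} (Fin k)) A)
      (v' : ULift.{u} (Fin k) → B), TdLin (d := d) V (∑ i, f i • y i) = 0 ∧
        ∀ i, kapv v' (TdLin (d := d) V (y i)) = kap A B d (y i) := by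
  obtain ⟨n, c, q, jj, hq, hYq⟩ := exists_repr_of_kap_eq_zero _ hYkap
  choose J₁ hJ₁ using fun i : Fin l => exists_support A ((1 : A) ⊗ₜ[A] y i)
  have hsupp : ∀ i, (q i (jj i)).support ⊆ (Finset.univ.biUnion J₁) ∪
      Finset.univ.biUnion (fun i : Fin n =>
        Finset.univ.biUnion (fun k : Fin d => (q i k).support)) := by
    intro i m hm
    apply Finset.mem_union_right
    rw [Finset.mem_biUnion]
    refine ⟨i, Finset.mem_univ i, ?_⟩
    rw [Finset.mem_biUnion]
    exact ⟨jj i, Finset.mem_univ _, hm⟩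
  have hJ₁sub : ∀ i, J₁ i ⊆ (Finset.univ.biUnion J₁) ∪
      Finset.univ.biUnion (fun i : Fin n =>
        Finset.univ.biUnion (fun k : Fin d => (q i k).support)) := fun i =>
    (Finset.subset_biUnion_of_mem J₁ (Finset.mem_univ i)).trans Finset.subset_union_left
  obtain ⟨k, V, v', hV, hV0⟩ := exists_flat_factor _ (fun i => q i (jj i)) hsupp hq
  refine ⟨k, V, v', ?_, fun i => ?_⟩
  · rw [hYq]
    exact TdLin_sum_eq_zero V c q jj hV0
  · exact kapv_TdLin V v' _ hV (y i) (expand_ground (y i) _ (hJ₁ i _ (hJ₁sub i)))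

theorem sg_cfC' {τ ι : Type u} (σ : Equiv.Perm (Fin d)) (ν : ι →₀ ℕ)
    (Φ' : MvPolynomial ι A ⊗[A] MvPolynomial (Fin d × τ) A) :
    sg σ (cfC ν Φ') = cfC ν (sgS (MvPolynomial ι A) σ Φ') := by
  have h := cfC_lTensor (sg (A := A) (τ := τ) σ).toLinearMap ν Φ'
  rw [PolLaw.lTensor_algHom_apply] at h
  exact h.symm

theorem os_inv' {τ : Type u} (J : Finset ((τ →₀ ℕ))) (ν : (τ →₀ ℕ) →₀ ℕ)
    (σ : Equiv.Perm (Fin d)) :
    sg σ (os J ν : MvPolynomial (Fin d × τ) A) = os J ν := by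
  rw [← cfC_Gam_gen, sg_cfC', sgS_Gam]

open scoped Classical in
theorem exists_free_factor {τ : Type u} (v' : τ → B) {l : ℕ}
    (z : Fin l → MvPolynomial (Fin d × τ) A) (hz : ∀ i σ, sg σ (z i) = z i) :
    ∃ (N : Finset ((τ →₀ ℕ) →₀ ℕ)) (coo : MvPolynomial (Fin d × τ) A →ₗ[A] (↥N →₀ A))
      (y₀ : (↥N →₀ A) →ₗ[A] SymTen.TS A B d),
      ∀ i, ((y₀ (coo (z i)) : SymTen.TS A B d) : ⨂[A] _ : Fin d, B) = kapv v' (z i) := by
  choose J₂ hJ₂ using fun i : Fin l => exists_support A ((1 : A) ⊗ₜ[A] z i)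
  have hexp := fun i => expand_os (z i) (hz i) (Finset.univ.biUnion J₂)
      (hJ₂ i _ (Finset.subset_biUnion_of_mem J₂ (Finset.mem_univ i)))
  refine ⟨(Fintype.piFinset (fun _ : Fin d => Finset.univ.biUnion J₂)).image nuOf,
    (Finsupp.linearEquivFunOnFinite A A _).symm.toLinearMap ∘ₗ
      LinearMap.pi (fun ν => MvPolynomial.lcoeff A (thetaOf (repOf d ν.1))),
    Finsupp.linearCombination A (fun ν =>
      (⟨kapv v' (os (Finset.univ.biUnion J₂) ν.1), kapv_mem_TS v' _ (fun σ => os_inv' _ _ σ)⟩ :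
        SymTen.TS A B d)), fun i => ?_⟩
  conv_rhs => rw [hexp i]
  rw [Finsupp.linearCombination_apply, Finsupp.sum_fintype]
  · rw [AddSubmonoidClass.coe_finsetSum, map_sum, ← Finset.sum_coe_sort
      ((Fintype.piFinset (fun _ : Fin d => Finset.univ.biUnion J₂)).image nuOf)]
    refine Finset.sum_congr rfl fun ν _ => ?_
    rw [map_smul]
    rfl
  · intro ν
    exact zero_smul _ _

theorem flat_TS [Module.Flat A B] : Module.Flat A (SymTen.TS A B d) := by
  apply Module.Flat.of_forall_exists_factorization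
  intro l f x hxf
  choose y hyinv hykap using fun i : Fin l => hi_of_flat (x (Finsupp.single i 1))
  have hf : f = ∑ i, f i • Finsupp.single i (1 : A) := by
    conv_lhs => rw [← Finsupp.univ_sum_single f]
    refine Finset.sum_congr rfl fun i _ => ?_
    rw [Finsupp.smul_single, smul_eq_mul, mul_one]
  have hYkap : kap A B d (∑ i, f i • y i) = 0 := by
    rw [map_sum]
    simp only [map_smul, hykap]
    have h1 : ((x f : SymTen.TS A B d) : ⨂[A] _ : Fin d, B) = 0 := by rw [hxf]; rfl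
    rw [← h1]
    conv_rhs => rw [hf]
    rw [map_sum, AddSubmonoidClass.coe_finsetSum]
    refine Finset.sum_congr rfl fun i _ => ?_
    rw [map_smul]
    rfl
  obtain ⟨k, V, v', hT0, hzkap⟩ := exists_TS_factor (fun i => f i) y hYkap
  have hzinv : ∀ i σ, sg σ (TdLin (d := d) V (y i)) = TdLin V (y i) := by
    intro i σ
    rw [← TdLin_sg, hyinv]
  obtain ⟨N, coo, y₀, hy₀⟩ := exists_free_factor v' (fun i => TdLin (d := d) V (y i)) hzinv
  have hZf : (Finsupp.linearCombination A (fun i => TdLin (d := d) V (y i))) f = 0 := by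
    rw [← hT0, map_sum]
    conv_lhs => rw [hf]
    rw [map_sum]
    refine Finset.sum_congr rfl fun i _ => ?_
    rw [map_smul, map_smul, Finsupp.linearCombination_single, one_smul]
  have hxy : x = y₀ ∘ₗ (coo ∘ₗ Finsupp.linearCombination A (fun i => TdLin (d := d) V (y i))) := by
    apply Finsupp.lhom_ext'
    intro i
    apply LinearMap.ext_ring
    show x (Finsupp.single i 1) = y₀ (coo (Finsupp.linearCombination A
      (fun i => TdLin (d := d) V (y i)) (Finsupp.single i 1)))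
    rw [Finsupp.linearCombination_single, one_smul]
    apply Subtype.ext
    rw [hy₀ i, hzkap, hykap]
  refine ⟨N.card, (Finsupp.domLCongr N.equivFin).toLinearMap ∘ₗ
      (coo ∘ₗ Finsupp.linearCombination A (fun i => TdLin (d := d) V (y i))),
    y₀ ∘ₗ (Finsupp.domLCongr N.equivFin).symm.toLinearMap, ?_, ?_⟩
  · conv_lhs => rw [hxy]
    ext g
    simp only [LinearMap.comp_apply, LinearEquiv.coe_coe, LinearEquiv.symm_apply_apply]
  · rw [LinearMap.comp_apply, LinearMap.comp_apply, hZf, map_zero, map_zero]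

end Groth.Agent.Lib.Helper32.PolLawTSFlat2
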