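import Groth.Agent.Lib.Helper32.PolLawTSFlat2

set_option autoImplicit false
universe u
open scoped TensorProduct

namespace Groth.Agent.Lib.Helper32.PolLawTSFlat3

open Groth.Agent.Lib.Helper32.PolLawBasic Groth.Agent.Lib.Helper32.PolLawFactor
  Groth.Agent.Lib.Helper32.PolLawFactorC Groth.Agent.Lib.Helper32.PolLawGammaGen
  Groth.Agent.Lib.Helper32.PolLawPolar Groth.Agent.Lib.Helper32.PolLawSym
  Groth.Agent.Lib.Helper32.PolLawNorm Groth.Agent.Lib.Helper32.PolLawNormKer
  Groth.Agent.Lib.Helper32.PolLawTd Groth.Agent.Lib.Helper32.PolLawTd2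
  Groth.Agent.Lib.Helper32.PolLawCorestrict Groth.Agent.Lib.Helper32.PolLawTS
  Groth.Agent.Lib.Helper32.PolLawTSUniv Groth.Agent.Lib.Helper32.PolLawLazard
  Groth.Agent.Lib.Helper32.PolLawTSFlat Groth.Agent.Lib.Helper32.PolLawTSFlat2 MvPolynomial

variable {A : Type u} [CommRing A] {B : Type u} [CommRing B] [Algebra A B] {d : ℕ}

theorem exists_repr_of_kapS_eq_zero (S : Type u) [CommRing S] [Algebra A S]
    (z : S ⊗[A] MvPolynomial (Fin d × B) A) (hz : kapS A B d S z = 0) :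
    ∃ (n : ℕ) (s : Fin n → S) (y : Fin n → MvPolynomial (Fin d × B) A),
      (∀ i, kap A B d (y i) = 0) ∧ z = ∑ i, s i ⊗ₜ[A] y i := by
  have hex : Function.Exact (LinearMap.ker (kap A B d).toLinearMap).subtype
      (kap A B d).toLinearMap := LinearMap.exact_subtype_ker_map _
  have hex2 := lTensor_exact S hex (kap_surjective (A := A) (B := B) (d := d))
  have hz' : (kap A B d).toLinearMap.lTensor S z = 0 := by
    rw [PolLaw.lTensor_algHom_apply]
    exact hz
  obtain ⟨z', hz'⟩ := (hex2 z).mp hz'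
  obtain ⟨n, s, k, rfl⟩ := exists_fin_reprM S z'
  refine ⟨n, s, fun i => (k i : MvPolynomial (Fin d × B) A), fun i => (k i).2, ?_⟩
  rw [← hz', map_sum]
  rfl

open scoped Classical in
theorem hii_of_flat_S [Module.Flat A B] (C' : Type u) [CommRing C'] [Algebra A C']
    (F : PolLaw.MulLaw A B C' d) (S : Type u) [CommRing S] [Algebra A S]
    (z : S ⊗[A] MvPolynomial (Fin d × B) A)
    (hz : ∀ σ : Equiv.Perm (Fin d), sgS S σ z = z) (h0 : kapS A B d S z = 0) :
    (hv F id).lTensor S z = 0 := by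
  obtain ⟨n, s, y, hy0, hzy⟩ := exists_repr_of_kapS_eq_zero S z h0
  choose m c q jj hq hyq using fun i => exists_repr_of_kap_eq_zero (y i) (hy0 i)
  obtain ⟨J₁, hJ₁⟩ := exists_support S z
  obtain ⟨J₀, hJ₀⟩ : ∃ J₀ : Finset (B →₀ ℕ), J₀ = J₁ ∪ Finset.univ.biUnion (fun i : Fin n =>
      Finset.univ.biUnion (fun r : Fin (m i) =>
        Finset.univ.biUnion (fun k : Fin d => (q i r k).support))) := ⟨_, rfl⟩
  have hsupp : ∀ p : (Σ i : Fin n, Fin (m i)), (q p.1 p.2 (jj p.1 p.2)).support ⊆ J₀ := by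
    rintro ⟨i, r⟩ mm hm
    rw [hJ₀]
    apply Finset.mem_union_right
    rw [Finset.mem_biUnion]
    refine ⟨i, Finset.mem_univ i, ?_⟩
    rw [Finset.mem_biUnion]
    refine ⟨r, Finset.mem_univ r, ?_⟩
    rw [Finset.mem_biUnion]
    exact ⟨jj i r, Finset.mem_univ _, hm⟩
  have hJ₁sub : J₁ ⊆ J₀ := by
    rw [hJ₀]
    exact Finset.subset_union_left
  obtain ⟨k, V, v', hV, hV0⟩ := exists_flat_factor J₀
    (ι' := Σ i : Fin n, Fin (m i)) (fun p => q p.1 p.2 (jj p.1 p.2)) hsupp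
    (fun p => hq p.1 p.2)
  have hT0 : (TdLin (d := d) V).lTensor S z = 0 := by
    rw [hzy, map_sum]
    refine Finset.sum_eq_zero fun i _ => ?_
    rw [LinearMap.lTensor_tmul, hyq i,
      TdLin_sum_eq_zero V (c i) (q i) (jj i) (fun r => hV0 ⟨i, r⟩), TensorProduct.tmul_zero]
  have h := EP S (hv F id) (hv F v' ∘ₗ TdLin V) J₀ ?_ z hz (hJ₁ J₀ hJ₁sub)
  · rw [h, lTensor_comp_apply', hT0, map_zero]
  · rw [lTensor_comp_apply', TdLin_Gam, hv_Gam, hv_Gam, Gv_toFun', Gv_toFun']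
    congr 1
    rw [gen, map_sum, map_sum, map_sum]
    refine Finset.sum_congr rfl fun mm hm => ?_
    rw [LinearMap.lTensor_tmul, Algebra.TensorProduct.map_tmul, Algebra.TensorProduct.map_tmul,
      hV]
    exact (support_monomial_subset).trans (Finset.singleton_subset_iff.mpr hm)

theorem val_lTensor_injective [Module.Flat A B] (S : Type u) [CommRing S] [Algebra A S] :
    Function.Injective ((SymTen.TS A B d).val.toLinearMap.lTensor S) := by
  rw [injective_iff_map_eq_zero]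
  intro w hw
  obtain ⟨z, hz, rfl⟩ := exists_inv_hv (tau A B d) isGammaD_tau_of_flat S w
  have h1 := Phi_hv (tau A B d) (SymTen.TS A B d).val.toLinearMap
    (fun S' _ _ n s b => tau_formula S' n s b) S z hz
  rw [hw] at h1
  exact hii_of_flat_S _ (tau A B d) S z hz h1.symm

end Groth.Agent.Lib.Helper32.PolLawTSFlat3
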