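import Groth.Agent.Lib.Helper32.PolLawTS

set_option autoImplicit false
universe u
open scoped TensorProduct

namespace Groth.Agent.Lib.Helper32.PolLawTSUniv

open Groth.Agent.Lib.Helper32.PolLawBasic Groth.Agent.Lib.Helper32.PolLawFactor
  Groth.Agent.Lib.Helper32.PolLawFactorC Groth.Agent.Lib.Helper32.PolLawGammaGen
  Groth.Agent.Lib.Helper32.PolLawGammaFT
  Groth.Agent.Lib.Helper32.PolLawPolar Groth.Agent.Lib.Helper32.PolLawSym
  Groth.Agent.Lib.Helper32.PolLawNorm Groth.Agent.Lib.Helper32.PolLawNormKer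
  Groth.Agent.Lib.Helper32.PolLawTd Groth.Agent.Lib.Helper32.PolLawTd2
  Groth.Agent.Lib.Helper32.PolLawCorestrict Groth.Agent.Lib.Helper32.PolLawTS MvPolynomial

variable {A : Type u} [CommRing A] {B : Type u} [CommRing B] [Algebra A B] {d : ℕ}

section KTS

variable (A B d) in
noncomputable def kTS : MvPolynomial (Fin d × B) A →ₗ[A] SymTen.TS A B d :=
  k0 (TPmul A B d) (SymTen.TS A B d) hLinC_mem_TS

theorem tau_piB (S : Type u) [CommSemiring S] [Algebra A S] (x : S ⊗[A] MvPolynomial B A) :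
    (tau A B d).law.toFun' S (Algebra.TensorProduct.map (AlgHom.id S S) piB x) =
      (kTS A B d).lTensor S (Gam d S x) :=
  cores_piB (TPmul A B d) (SymTen.TS A B d) hLinC_mem_TS S x

theorem inv_one_tmul (y : MvPolynomial (Fin d × B) A) (hy : ∀ σ : Equiv.Perm (Fin d), sg σ y = y)
    (σ : Equiv.Perm (Fin d)) : sgS A σ ((1 : A) ⊗ₜ[A] y) = (1 : A) ⊗ₜ[A] y := by
  rw [sgS_tmul, hy]

theorem kTS_of_inv (y : MvPolynomial (Fin d × B) A) (hy : ∀ σ : Equiv.Perm (Fin d), sg σ y = y) :
    ((kTS A B d y : SymTen.TS A B d) : ⨂[A] _ : Fin d, B) = kap A B d y := by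
  have hΦ : ∀ (S : Type u) [CommSemiring S] [Algebra A S] (n : ℕ) (s : Fin n → S) (b : Fin n → B),
      (LinearMap.id : (⨂[A] _ : Fin d, B) →ₗ[A] _).lTensor S
        ((TPmul A B d).law.toFun' S (∑ j, s j ⊗ₜ[A] b j)) =
        ∑ c : Fin d → Fin n, (∏ i, s (c i)) ⊗ₜ[A] PiTensorProduct.tprod A (fun i => b (c i)) := by
    intro S _ _ n s b
    rw [LinearMap.lTensor_id, LinearMap.id_apply, TPmul_toFun', TP_sum]
  have h := Phi_hv (TPmul A B d) LinearMap.id hΦ A ((1 : A) ⊗ₜ[A] y) (inv_one_tmul y hy)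
  rw [LinearMap.lTensor_id, LinearMap.id_apply, LinearMap.lTensor_tmul] at h
  have h2 := congrArg (TensorProduct.lid A _) h
  rw [TensorProduct.lid_tmul, one_smul] at h2
  rw [show kapS A B d A ((1 : A) ⊗ₜ[A] y) = (1 : A) ⊗ₜ[A] kap A B d y from rfl,
    TensorProduct.lid_tmul, one_smul] at h2
  exact h2

theorem os_inv (J : Finset ((B →₀ ℕ))) (ν : (B →₀ ℕ) →₀ ℕ) (σ : Equiv.Perm (Fin d)) :
    sg σ (os J ν : MvPolynomial (Fin d × B) A) = os J ν := by
  rw [← cfC_Gam_gen, sg_cfC, sgS_Gam]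

end KTS

section Iff

variable {C' : Type u} [CommRing C'] [Algebra A C'] (F : PolLaw.MulLaw A B C' d)

theorem hv_ground_of_lTensor (ℓ ℓ' : MvPolynomial (Fin d × B) A →ₗ[A] C')
    (y : MvPolynomial (Fin d × B) A)
    (h : ℓ.lTensor A ((1 : A) ⊗ₜ[A] y) = ℓ'.lTensor A ((1 : A) ⊗ₜ[A] y)) : ℓ y = ℓ' y := by
  rw [LinearMap.lTensor_tmul, LinearMap.lTensor_tmul] at h
  have h2 := congrArg (TensorProduct.lid A _) h
  rw [TensorProduct.lid_tmul, one_smul, TensorProduct.lid_tmul, one_smul] at h2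
  exact h2

theorem postcomp_tau_eq_iff (g : SymTen.TS A B d →ₗ[A] C') :
    PolLaw.postcomp g (tau A B d).law = F.law ↔
      ∀ y : MvPolynomial (Fin d × B) A, (∀ σ : Equiv.Perm (Fin d), sg σ y = y) →
        g (kTS A B d y) = hv F id y := by
  constructor
  · intro hlaw y hy
    obtain ⟨J, hJ⟩ := exists_support A ((1 : A) ⊗ₜ[A] y)
    have h := EP A (g ∘ₗ kTS A B d) (hv F id) J ?_ ((1 : A) ⊗ₜ[A] y) (inv_one_tmul y hy)
      (hJ J (Finset.Subset.refl J))
    · exact hv_ground_of_lTensor (g ∘ₗ kTS A B d) (hv F id) y h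
    · rw [lTensor_comp_apply', ← tau_piB, hv_Gam, Gv_toFun', ← hlaw]
      rfl
  · intro hkey
    apply PolynomialLaw.ext
    funext S _ _ w
    obtain ⟨w', rfl⟩ := map_piB_surjective S w
    show g.lTensor S ((tau A B d).law.toFun' S _) = _
    rw [tau_piB, ← lTensor_comp_apply']
    obtain ⟨J, hJ⟩ := exists_support S (Gam d S w')
    rw [EP' S (g ∘ₗ kTS A B d) (hv F id) J (fun ν => hkey _ (os_inv J ν)) (Gam d S w')
      (fun σ => sgS_Gam S σ w') (hJ J (Finset.Subset.refl J)), hv_Gam, Gv_toFun']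
    rfl

theorem hv_mul_ground (y y' : MvPolynomial (Fin d × B) A)
    (hy : ∀ σ : Equiv.Perm (Fin d), sg σ y = y) (hy' : ∀ σ : Equiv.Perm (Fin d), sg σ y' = y') :
    hv F id (y * y') = hv F id y * hv F id y' := by
  have h := hv_mul_of_inv F id A ((1 : A) ⊗ₜ[A] y) ((1 : A) ⊗ₜ[A] y') (inv_one_tmul y hy)
    (inv_one_tmul y' hy')
  rw [Algebra.TensorProduct.tmul_mul_tmul, LinearMap.lTensor_tmul, LinearMap.lTensor_tmul,
    LinearMap.lTensor_tmul, Algebra.TensorProduct.tmul_mul_tmul] at h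
  have h2 := congrArg (TensorProduct.lid A _) h
  rw [TensorProduct.lid_tmul, TensorProduct.lid_tmul, mul_one, one_smul, one_smul] at h2
  exact h2

theorem hv_one_ground : hv F id (1 : MvPolynomial (Fin d × B) A) = 1 := by
  have h := hv_one F id A
  rw [Algebra.TensorProduct.one_def, LinearMap.lTensor_tmul, Algebra.TensorProduct.one_def] at h
  have h2 := congrArg (TensorProduct.lid A _) h
  rw [TensorProduct.lid_tmul, TensorProduct.lid_tmul, one_smul, one_smul] at h2
  exact h2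

end Iff

section Main

theorem kTS_mul_of_inv (y y' : MvPolynomial (Fin d × B) A)
    (hy : ∀ σ : Equiv.Perm (Fin d), sg σ y = y) (hy' : ∀ σ : Equiv.Perm (Fin d), sg σ y' = y') :
    kTS A B d (y * y') = kTS A B d y * kTS A B d y' := by
  apply Subtype.ext
  rw [kTS_of_inv _ (fun σ => by rw [map_mul, hy, hy']), MulMemClass.coe_mul, kTS_of_inv y hy,
    kTS_of_inv y' hy', map_mul]

theorem kTS_one : kTS A B d (1 : MvPolynomial (Fin d × B) A) = 1 := by
  apply Subtype.ext
  rw [kTS_of_inv _ (fun σ => map_one _), map_one]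
  rfl

theorem kTS_C (a : A) : kTS A B d (C a : MvPolynomial (Fin d × B) A) = algebraMap A _ a := by
  apply Subtype.ext
  rw [kTS_of_inv _ (fun σ => by rw [sg, rename_C])]
  rw [← MvPolynomial.algebraMap_eq, AlgHom.commutes]
  rfl

theorem isGammaD_of
    (hi : ∀ t : SymTen.TS A B d, ∃ y : MvPolynomial (Fin d × B) A,
      (∀ σ : Equiv.Perm (Fin d), sg σ y = y) ∧ kap A B d y = (t : ⨂[A] _ : Fin d, B))
    (hii : ∀ (C' : Type u) [CommRing C'] [Algebra A C'] (F : PolLaw.MulLaw A B C' d)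
      (y : MvPolynomial (Fin d × B) A), (∀ σ : Equiv.Perm (Fin d), sg σ y = y) →
      kap A B d y = 0 → hv F id y = 0) :
    PolLaw.IsGammaD (tau A B d) := by
  intro C' _ _ F
  choose rep hrep_inv hrep_kap using hi
  have kTS_rep : ∀ t, kTS A B d (rep t) = t := by
    intro t
    apply Subtype.ext
    rw [kTS_of_inv _ (hrep_inv t), hrep_kap]
  have key : ∀ y : MvPolynomial (Fin d × B) A, (∀ σ : Equiv.Perm (Fin d), sg σ y = y) →
      hv F id (rep (kTS A B d y)) = hv F id y := by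
    intro y hy
    have h0 : kap A B d (rep (kTS A B d y) - y) = 0 := by
      rw [map_sub, hrep_kap, kTS_of_inv y hy, sub_self]
    have h1 := hii C' F _ (fun σ => by rw [map_sub, hrep_inv, hy]) h0
    rw [map_sub, sub_eq_zero] at h1
    exact h1
  have fadd : ∀ t t', hv F id (rep (t + t')) = hv F id (rep t) + hv F id (rep t') := by
    intro t t'
    have e : t + t' = kTS A B d (rep t + rep t') := by rw [map_add, kTS_rep, kTS_rep]
    rw [e, key _ (fun σ => by rw [map_add, hrep_inv, hrep_inv]), map_add]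
  have fmul : ∀ t t', hv F id (rep (t * t')) = hv F id (rep t) * hv F id (rep t') := by
    intro t t'
    have e : t * t' = kTS A B d (rep t * rep t') := by
      rw [kTS_mul_of_inv _ _ (hrep_inv t) (hrep_inv t'), kTS_rep, kTS_rep]
    rw [e, key _ (fun σ => by rw [map_mul, hrep_inv, hrep_inv]),
      hv_mul_ground F _ _ (hrep_inv t) (hrep_inv t')]
  have fone : hv F id (rep 1) = 1 := by
    rw [← kTS_one (A := A) (B := B) (d := d), key _ (fun σ => map_one _), hv_one_ground]
  have falg : ∀ a : A, hv F id (rep (algebraMap A _ a)) = algebraMap A C' a := by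
    intro a
    rw [← kTS_C, key _ (fun σ => by rw [sg, rename_C]), ← MvPolynomial.algebraMap_eq,
      Algebra.algebraMap_eq_smul_one, map_smul, hv_one_ground, Algebra.algebraMap_eq_smul_one]
  let f : SymTen.TS A B d →ₐ[A] C' :=
    { toFun := fun t => hv F id (rep t)
      map_one' := fone
      map_mul' := fmul
      map_zero' := by
        have := falg 0
        rw [map_zero, map_zero] at this
        exact this
      map_add' := fadd
      commutes' := falg }
  have hf : ∀ t, f t = hv F id (rep t) := fun t => rfl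
  refine ⟨f, ?_, ?_⟩
  · show PolLaw.postcomp f.toLinearMap (tau A B d).law = F.law
    rw [postcomp_tau_eq_iff]
    intro y hy
    exact key y hy
  · intro f' hf'
    have h1 := (postcomp_tau_eq_iff F f'.toLinearMap).mp hf'
    apply AlgHom.ext
    intro t
    rw [hf, ← h1 _ (hrep_inv t), kTS_rep]
    rfl

end Main

end Groth.Agent.Lib.Helper32.PolLawTSUniv
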