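import Groth.Agent.Lib.Helper32.PolLawTSField
import Groth.Agent.Lib.Helper32.PolLawTSUniv

set_option autoImplicit false
universe u
open scoped TensorProduct

namespace Groth.Agent.Lib.Helper32.PolLawTSLift

open Groth.Agent.Lib.Helper32.PolLawBasic Groth.Agent.Lib.Helper32.PolLawFactor
  Groth.Agent.Lib.Helper32.PolLawFactorC Groth.Agent.Lib.Helper32.PolLawGammaGen
  Groth.Agent.Lib.Helper32.PolLawGammaFT
  Groth.Agent.Lib.Helper32.PolLawPolar Groth.Agent.Lib.Helper32.PolLawSym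
  Groth.Agent.Lib.Helper32.PolLawNorm Groth.Agent.Lib.Helper32.PolLawNormKer
  Groth.Agent.Lib.Helper32.PolLawTd Groth.Agent.Lib.Helper32.PolLawTd2
  Groth.Agent.Lib.Helper32.PolLawTSUniv Groth.Agent.Lib.Helper32.PolLawTSField MvPolynomial

variable {A : Type u} [CommRing A] {B : Type u} [CommRing B] [Algebra A B] {d : ℕ}
  {C : Type u} [CommRing C] [Algebra A C] (γ : PolLaw.MulLaw A B C d)
  (Φ : C →ₗ[A] (⨂[A] _ : Fin d, B))
  (hΦ : ∀ (S : Type u) [CommSemiring S] [Algebra A S] (n : ℕ) (s : Fin n → S) (b : Fin n → B),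
      Φ.lTensor S (γ.law.toFun' S (∑ j, s j ⊗ₜ[A] b j)) =
        ∑ c : Fin d → Fin n, (∏ i, s (c i)) ⊗ₜ[A] PiTensorProduct.tprod A (fun i => b (c i)))
  (hγ : PolLaw.IsGammaD γ) {K : Type u} [Field K] [Algebra A K] (χ : C →ₐ[A] K)

noncomputable def chi' : K ⊗[A] C →ₐ[A] K := Algebra.TensorProduct.productMap (AlgHom.id A K) χ

theorem chi'_tmul (k : K) (c : C) : chi' χ (k ⊗ₜ[A] c) = k * χ c := by
  simp [chi']

noncomputable def hK (z : K ⊗[A] MvPolynomial (Fin d × B) A) : K :=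
  chi' χ ((hv γ id).lTensor K z)

include hΦ in
theorem Phi_hv_ground (y : MvPolynomial (Fin d × B) A)
    (hy : ∀ σ : Equiv.Perm (Fin d), sg σ y = y) : Φ (hv γ id y) = kap A B d y := by
  have h := Phi_hv γ Φ hΦ A ((1 : A) ⊗ₜ[A] y) (inv_one_tmul y hy)
  rw [LinearMap.lTensor_tmul, LinearMap.lTensor_tmul] at h
  have h2 := congrArg (TensorProduct.lid A _) h
  rw [TensorProduct.lid_tmul, one_smul] at h2
  rw [show kapS A B d A ((1 : A) ⊗ₜ[A] y) = (1 : A) ⊗ₜ[A] kap A B d y from rfl,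
    TensorProduct.lid_tmul, one_smul] at h2
  exact h2

include hΦ hγ in
theorem hK_wd (z z' : K ⊗[A] MvPolynomial (Fin d × B) A)
    (hz : ∀ σ : Equiv.Perm (Fin d), sgS K σ z = z)
    (hz' : ∀ σ : Equiv.Perm (Fin d), sgS K σ z' = z')
    (h : kapS A B d K z = kapS A B d K z') : hK γ χ z = hK γ χ z' := by
  have hinv : ∀ σ : Equiv.Perm (Fin d), sgS K σ (z - z') = z - z' := by
    intro σ
    rw [map_sub, hz, hz']
  have h1 : Φ.lTensor K ((hv γ id).lTensor K (z - z')) = 0 := by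
    rw [Phi_hv γ Φ hΦ K _ hinv, map_sub, h, sub_self]
  have h2 := FT_Phi γ Φ hΦ hγ K ((hv γ id).lTensor K (z - z'))
  have hF0 : (FT γ).law.toFun' K (0 : K ⊗[A] _) = 0 := by
    have := (FT γ).homog K (0 : K) (0 : K ⊗[A] _)
    rw [zero_smul, zero_pow (Nat.factorial_ne_zero d), zero_smul] at this
    exact this
  rw [h1, hF0] at h2
  have h3 : (chi' χ ((hv γ id).lTensor K (z - z'))) ^ d.factorial = 0 := by
    rw [← map_pow, ← h2, map_zero]
  have h4 := (pow_eq_zero_iff (Nat.factorial_ne_zero d)).mp h3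
  rw [map_sub, map_sub, sub_eq_zero] at h4
  exact h4

theorem one_tmul_inv (t : SymTen.TS A B d) (σ : Equiv.Perm (Fin d)) :
    permS A B d K σ ((1 : K) ⊗ₜ[A] (t : ⨂[A] _ : Fin d, B)) = (1 : K) ⊗ₜ[A] (t : ⨂[A] _ : Fin d, B) := by
  show (1 : K) ⊗ₜ[A] SymTen.perm A B d σ (t : ⨂[A] _ : Fin d, B) = _
  rw [SymTen.perm_apply, t.2 σ]

variable (K) in
noncomputable def rep (t : SymTen.TS A B d) : K ⊗[A] MvPolynomial (Fin d × B) A :=
  Classical.choose (exists_inv_lift_field K ((1 : K) ⊗ₜ[A] (t : ⨂[A] _ : Fin d, B))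
    (one_tmul_inv t))

theorem rep_inv (t : SymTen.TS A B d) (σ : Equiv.Perm (Fin d)) : sgS K σ (rep K t) = rep K t :=
  (Classical.choose_spec (exists_inv_lift_field K ((1 : K) ⊗ₜ[A] (t : ⨂[A] _ : Fin d, B))
    (one_tmul_inv t))).1 σ

theorem kapS_rep (t : SymTen.TS A B d) :
    kapS A B d K (rep K t) = (1 : K) ⊗ₜ[A] (t : ⨂[A] _ : Fin d, B) :=
  (Classical.choose_spec (exists_inv_lift_field K ((1 : K) ⊗ₜ[A] (t : ⨂[A] _ : Fin d, B))
    (one_tmul_inv t))).2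

include hΦ hγ in
theorem hK_rep (t : SymTen.TS A B d) (z : K ⊗[A] MvPolynomial (Fin d × B) A)
    (hz : ∀ σ : Equiv.Perm (Fin d), sgS K σ z = z)
    (h : kapS A B d K z = (1 : K) ⊗ₜ[A] (t : ⨂[A] _ : Fin d, B)) :
    hK γ χ (rep K t) = hK γ χ z :=
  hK_wd γ Φ hΦ hγ χ _ _ (rep_inv t) hz (by rw [kapS_rep, h])

theorem hK_add (z z' : K ⊗[A] MvPolynomial (Fin d × B) A) :
    hK γ χ (z + z') = hK γ χ z + hK γ χ z' := by
  rw [hK, map_add, map_add]
  rfl

theorem hK_mul (z z' : K ⊗[A] MvPolynomial (Fin d × B) A)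
    (hz : ∀ σ : Equiv.Perm (Fin d), sgS K σ z = z)
    (hz' : ∀ σ : Equiv.Perm (Fin d), sgS K σ z' = z') :
    hK γ χ (z * z') = hK γ χ z * hK γ χ z' := by
  rw [hK, hv_mul_of_inv γ id K z z' hz hz', map_mul]
  rfl

theorem hK_one : hK γ χ (1 : K ⊗[A] MvPolynomial (Fin d × B) A) = 1 := by
  rw [hK, hv_one, map_one]

theorem hK_one_tmul (y : MvPolynomial (Fin d × B) A) :
    hK γ χ ((1 : K) ⊗ₜ[A] y) = χ (hv γ id y) := by
  rw [hK, LinearMap.lTensor_tmul, chi'_tmul, one_mul]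

include hΦ hγ in
theorem exists_lift (φ : C →ₐ[A] SymTen.TS A B d)
    (hφΦ : ∀ c, Φ c = ((φ c : SymTen.TS A B d) : ⨂[A] _ : Fin d, B)) :
    ∃ ψ : SymTen.TS A B d →ₐ[A] K, ψ.comp φ = χ := by
  have hone : hK γ χ (rep K (1 : SymTen.TS A B d)) = 1 := by
    rw [hK_rep γ Φ hΦ hγ χ 1 1 (fun σ => map_one _) (by rw [map_one]; rfl), hK_one]
  have hmul : ∀ t t' : SymTen.TS A B d,
      hK γ χ (rep K (t * t')) = hK γ χ (rep K t) * hK γ χ (rep K t') := by
    intro t t'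
    rw [hK_rep γ Φ hΦ hγ χ (t * t') (rep K t * rep K t')
      (fun σ => by rw [map_mul, rep_inv, rep_inv])
      (by rw [map_mul, kapS_rep, kapS_rep, Algebra.TensorProduct.tmul_mul_tmul, mul_one]; rfl),
      hK_mul γ χ _ _ (rep_inv t) (rep_inv t')]
  have hadd : ∀ t t' : SymTen.TS A B d,
      hK γ χ (rep K (t + t')) = hK γ χ (rep K t) + hK γ χ (rep K t') := by
    intro t t'
    rw [hK_rep γ Φ hΦ hγ χ (t + t') (rep K t + rep K t')
      (fun σ => by rw [map_add, rep_inv, rep_inv])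
      (by rw [map_add, kapS_rep, kapS_rep, ← TensorProduct.tmul_add]; rfl), hK_add]
  have halg : ∀ a : A, hK γ χ (rep K (algebraMap A (SymTen.TS A B d) a)) = algebraMap A K a := by
    intro a
    rw [hK_rep γ Φ hΦ hγ χ _ ((1 : K) ⊗ₜ[A] (MvPolynomial.C a))
      (fun σ => by rw [sgS_tmul, sg, rename_C])
      (by
        show (1 : K) ⊗ₜ[A] kap A B d (MvPolynomial.C a) = _
        rw [← MvPolynomial.algebraMap_eq, AlgHom.commutes]
        rfl), hK_one_tmul, ← MvPolynomial.algebraMap_eq, Algebra.algebraMap_eq_smul_one, map_smul,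
      hv_one_ground, map_smul, map_one, Algebra.algebraMap_eq_smul_one]
  let ψ : SymTen.TS A B d →ₐ[A] K :=
    { toFun := fun t => hK γ χ (rep K t)
      map_one' := hone
      map_mul' := hmul
      map_zero' := by
        have := halg 0
        rw [map_zero, map_zero] at this
        exact this
      map_add' := hadd
      commutes' := halg }
  refine ⟨ψ, ?_⟩
  apply AlgHom.ext
  intro c
  obtain ⟨y, hy, rfl⟩ := exists_inv_hv_ground γ hγ c
  show hK γ χ (rep K (φ (hv γ id y))) = χ (hv γ id y)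
  rw [hK_rep γ Φ hΦ hγ χ _ ((1 : K) ⊗ₜ[A] y) (fun σ => by rw [sgS_tmul, hy])
    (by
      show (1 : K) ⊗ₜ[A] kap A B d y = _
      rw [← hφΦ, Phi_hv_ground γ Φ hΦ y hy]), hK_one_tmul]

end Groth.Agent.Lib.Helper32.PolLawTSLift
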