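import Groth.Agent.Lib.Helper32.PolLawNormKer

set_option autoImplicit false
universe u
open scoped TensorProduct

namespace Groth.Agent.Lib.Helper32.PolLawTd

open Groth.Agent.Lib.Helper32.PolLawBasic Groth.Agent.Lib.Helper32.PolLawFactor
  Groth.Agent.Lib.Helper32.PolLawFactorC Groth.Agent.Lib.Helper32.PolLawGammaGen
  Groth.Agent.Lib.Helper32.PolLawPolar Groth.Agent.Lib.Helper32.PolLawSym
  Groth.Agent.Lib.Helper32.PolLawNorm Groth.Agent.Lib.Helper32.PolLawNormKer MvPolynomial

variable {A : Type u} [CommRing A] {B : Type u} [CommRing B] [Algebra A B] {d : ℕ}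

section TP

theorem exists_fin_repr'' (S : Type u) [CommSemiring S] [Algebra A S] (x : S ⊗[A] B) :
    ∃ (n : ℕ) (s : Fin n → S) (b : Fin n → B), x = ∑ i, s i ⊗ₜ[A] b i := by
  induction x using TensorProduct.induction_on with
  | zero => exact ⟨0, Fin.elim0, Fin.elim0, by simp⟩
  | tmul x y => exact ⟨1, fun _ => x, fun _ => y, by simp⟩
  | add x y hx hy =>
    obtain ⟨n, a₁, b₁, rfl⟩ := hx
    obtain ⟨m, a₂, b₂, rfl⟩ := hy
    refine ⟨n + m, Fin.append a₁ a₂, Fin.append b₁ b₂, ?_⟩
    rw [Fin.sum_univ_add]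
    simp

variable (A B d) in
noncomputable def sgl (k : Fin d) : B →ₐ[A] ⨂[A] _ : Fin d, B :=
  PiTensorProduct.singleAlgHom (R := A) (A := fun _ : Fin d => B) k

theorem prod_sgl (x : Fin d → B) : ∏ k, sgl A B d k (x k) = PiTensorProduct.tprod A x := by
  simp only [sgl, PiTensorProduct.singleAlgHom_apply]
  rw [← PiTensorProduct.tprod_prod]
  congr 1
  exact Finset.univ_prod_mulSingle x

noncomputable def TP (S : Type u) [CommSemiring S] [Algebra A S] (w : S ⊗[A] B) :
    S ⊗[A] (⨂[A] _ : Fin d, B) :=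
  ∏ k : Fin d, Algebra.TensorProduct.map (AlgHom.id S S) (sgl A B d k) w

theorem TP_sum (S : Type u) [CommSemiring S] [Algebra A S] {n : ℕ} (s : Fin n → S)
    (b : Fin n → B) :
    TP (d := d) S (∑ j, s j ⊗ₜ[A] b j) =
      ∑ c : Fin d → Fin n, (∏ i, s (c i)) ⊗ₜ[A] PiTensorProduct.tprod A (fun i => b (c i)) := by
  rw [TP]
  simp only [map_sum, Algebra.TensorProduct.map_tmul, AlgHom.id_apply]
  rw [Finset.prod_univ_sum, Fintype.piFinset_univ]
  refine Finset.sum_congr rfl fun c _ => ?_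
  rw [prod_tmul, prod_sgl]

variable {C : Type u} [CommRing C] [Algebra A C] (γ : PolLaw.MulLaw A B C d)
  (Φ : C →ₗ[A] (⨂[A] _ : Fin d, B))
  (hΦ : ∀ (S : Type u) [CommSemiring S] [Algebra A S] (n : ℕ) (s : Fin n → S) (b : Fin n → B),
      Φ.lTensor S (γ.law.toFun' S (∑ j, s j ⊗ₜ[A] b j)) =
        ∑ c : Fin d → Fin n, (∏ i, s (c i)) ⊗ₜ[A] PiTensorProduct.tprod A (fun i => b (c i)))

include hΦ in
theorem Phi_gamma (S : Type u) [CommSemiring S] [Algebra A S] (w : S ⊗[A] B) :
    Φ.lTensor S (γ.law.toFun' S w) = TP S w := by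
  obtain ⟨n, s, b, rfl⟩ := exists_fin_repr'' S w
  rw [hΦ, TP_sum]

end TP

section Kap

variable (A B d) in
noncomputable def kap : MvPolynomial (Fin d × B) A →ₐ[A] ⨂[A] _ : Fin d, B :=
  aeval (fun jb => sgl A B d jb.1 jb.2)

theorem kap_X (j : Fin d) (b : B) : kap A B d (X (j, b)) = sgl A B d j b := by
  simp [kap]

theorem kap_rename_mk (j : Fin d) (p : MvPolynomial B A) :
    kap A B d (rename (Prod.mk j) p) = sgl A B d j (aeval id p) := by
  have h : (kap A B d).comp (rename (Prod.mk j) : MvPolynomial B A →ₐ[A] _) =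
      (sgl A B d j).comp (aeval id) := by
    apply MvPolynomial.algHom_ext
    intro b
    simp [kap_X]
  exact DFunLike.congr_fun h p

theorem kap_surjective : Function.Surjective (kap A B d) := by
  have h : LinearMap.range (kap A B d).toLinearMap = ⊤ := by
    rw [eq_top_iff, ← PiTensorProduct.span_tprod_eq_top, Submodule.span_le]
    rintro _ ⟨x, rfl⟩
    refine ⟨∏ k, X (k, x k), ?_⟩
    simp only [AlgHom.toLinearMap_apply, map_prod, kap_X]
    exact prod_sgl x
  exact LinearMap.range_eq_top.mp h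

theorem perm_sgl (σ : Equiv.Perm (Fin d)) (j : Fin d) (b : B) :
    SymTen.perm A B d σ (sgl A B d j b) = sgl A B d (σ j) b := by
  simp only [sgl, PiTensorProduct.singleAlgHom_apply, SymTen.perm_tprod]
  congr 1
  funext i
  simp only [MonoidHom.mulSingle_apply, Pi.mulSingle_apply]
  by_cases h : i = σ j
  · rw [if_pos h, if_pos]
    rw [h, Equiv.symm_apply_apply]
  · rw [if_neg h, if_neg]
    intro h'
    exact h (by rw [← h', Equiv.apply_symm_apply])

theorem kap_sg (σ : Equiv.Perm (Fin d)) (p : MvPolynomial (Fin d × B) A) :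
    kap A B d (sg σ p) = SymTen.perm A B d σ (kap A B d p) := by
  have h : (kap A B d).comp (sg σ) = (SymTen.perm A B d σ).comp (kap A B d) := by
    apply MvPolynomial.algHom_ext
    rintro ⟨j, b⟩
    simp [sg_X, kap_X, perm_sgl]
  exact DFunLike.congr_fun h p

variable (S : Type u) [CommSemiring S] [Algebra A S]

variable (A B d) in
noncomputable def kapS : S ⊗[A] MvPolynomial (Fin d × B) A →ₐ[S] S ⊗[A] (⨂[A] _ : Fin d, B) :=
  Algebra.TensorProduct.map (AlgHom.id S S) (kap A B d)

theorem kapS_map_mk (j : Fin d) (x : S ⊗[A] MvPolynomial B A) :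
    kapS A B d S (Algebra.TensorProduct.map (AlgHom.id S S)
      (rename (Prod.mk j) : MvPolynomial B A →ₐ[A] MvPolynomial (Fin d × B) A) x) =
    Algebra.TensorProduct.map (AlgHom.id S S) (sgl A B d j)
      (Algebra.TensorProduct.map (AlgHom.id S S) (aeval id) x) := by
  induction x using TensorProduct.induction_on with
  | zero => simp
  | add x y hx hy => simp only [map_add, hx, hy]
  | tmul s p => simp [kapS, kap_rename_mk]

theorem kapS_Gam (x : S ⊗[A] MvPolynomial B A) :
    kapS A B d S (Gam d S x) = TP S (Algebra.TensorProduct.map (AlgHom.id S S) (aeval id) x) := by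
  rw [Gam, TP, map_prod]
  simp only [kapS_map_mk]

end Kap

section Pres

variable (A B d) in
noncomputable def KK : Ideal (MvPolynomial (Fin d × B) A) :=
  Ideal.span {q | ∃ (j : Fin d) (a : MvPolynomial B A), aeval id a = (0 : B) ∧
    q = rename (Prod.mk j) a}

theorem KK_le_ker : KK A B d ≤ RingHom.ker (kap A B d) := by
  rw [KK, Ideal.span_le]
  rintro _ ⟨j, a, ha, rfl⟩
  rw [SetLike.mem_coe, RingHom.mem_ker, kap_rename_mk, ha, map_zero]

theorem mk_eq_of (j : Fin d) (p q : MvPolynomial B A)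
    (h : aeval id p = (aeval id q : B)) :
    Ideal.Quotient.mk (KK A B d) (rename (Prod.mk j) p) =
      Ideal.Quotient.mk (KK A B d) (rename (Prod.mk j) q) := by
  rw [Ideal.Quotient.eq, ← map_sub]
  apply Ideal.subset_span
  exact ⟨j, p - q, by rw [map_sub, h, sub_self], rfl⟩

theorem X_eq_rename (j : Fin d) (b : B) :
    (X (j, b) : MvPolynomial (Fin d × B) A) = rename (Prod.mk j) (X b) := by
  rw [rename_X]

noncomputable def phiJ (j : Fin d) : B →ₐ[A] (MvPolynomial (Fin d × B) A ⧸ KK A B d) where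
  toFun b := Ideal.Quotient.mk (KK A B d) (X (j, b))
  map_one' := by
    rw [X_eq_rename, mk_eq_of j (X 1) 1 (by simp), map_one, map_one]
  map_mul' b b' := by
    rw [X_eq_rename, mk_eq_of j (X (b * b')) (X b * X b') (by simp), map_mul, map_mul]
    simp
  map_zero' := by
    rw [X_eq_rename, mk_eq_of j (X 0) 0 (by simp), map_zero, map_zero]
  map_add' b b' := by
    rw [X_eq_rename, mk_eq_of j (X (b + b')) (X b + X b') (by simp), map_add, map_add]
    simp
  commutes' a := by
    rw [X_eq_rename, mk_eq_of j (X (algebraMap A B a)) (C a) (by simp)]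
    simp
    rfl

theorem phiJ_apply (j : Fin d) (b : B) :
    phiJ j b = Ideal.Quotient.mk (KK A B d) (X (j, b)) := rfl

noncomputable def invK : (⨂[A] _ : Fin d, B) →ₐ[A] (MvPolynomial (Fin d × B) A ⧸ KK A B d) :=
  PiTensorProduct.liftAlgHom
    ((MultilinearMap.mkPiAlgebra A (Fin d) (MvPolynomial (Fin d × B) A ⧸ KK A B d)).compLinearMap
      (fun j => (phiJ j).toLinearMap))
    (by simp)
    (by intro x y; simp [Finset.prod_mul_distrib])

theorem invK_sgl (j : Fin d) (b : B) : invK (sgl A B d j b) = phiJ j b := by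
  classical
  rw [sgl, PiTensorProduct.singleAlgHom_apply, invK, PiTensorProduct.liftAlgHom_apply,
    PiTensorProduct.lift.tprod]
  simp only [MultilinearMap.compLinearMap_apply, MultilinearMap.mkPiAlgebra_apply,
    AlgHom.toLinearMap_apply, MonoidHom.mulSingle_apply]
  rw [Finset.prod_eq_single j]
  · rw [Pi.mulSingle_eq_same]
  · intro k _ hk
    rw [Pi.mulSingle_eq_of_ne hk, map_one]
  · intro h
    exact absurd (Finset.mem_univ j) h

theorem ker_kap_le : RingHom.ker (kap A B d) ≤ KK A B d := by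
  intro p hp
  rw [RingHom.mem_ker] at hp
  have h : invK.comp (kap A B d) = Ideal.Quotient.mkₐ A (KK A B d) := by
    apply MvPolynomial.algHom_ext
    rintro ⟨j, b⟩
    simp [kap_X, invK_sgl, phiJ_apply]
  have h1 := DFunLike.congr_fun h p
  rw [AlgHom.comp_apply, hp, map_zero] at h1
  rw [← Ideal.Quotient.eq_zero_iff_mem]
  exact h1.symm

theorem ker_kap_eq : RingHom.ker (kap A B d) = KK A B d :=
  le_antisymm ker_kap_le KK_le_ker

end Pres

section Main

variable {C : Type u} [CommRing C] [Algebra A C] (γ : PolLaw.MulLaw A B C d)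

theorem ker_kap_le_ker :
    RingHom.ker (kap A B d) ≤ PolLaw.ker (NMul γ (id : B → B)).law := by
  rw [ker_kap_eq, KK, Ideal.span_le]
  rintro _ ⟨j, a, ha, rfl⟩
  exact mem_ker_NLaw γ id j a ha

variable (A B d) in
noncomputable def eK : (⨂[A] _ : Fin d, B) ≃ₐ[A]
    (MvPolynomial (Fin d × B) A ⧸ RingHom.ker (kap A B d)) :=
  (Ideal.quotientKerAlgEquivOfSurjective (kap_surjective (A := A) (B := B) (d := d))).symm

theorem eK_kap (p : MvPolynomial (Fin d × B) A) :
    eK A B d (kap A B d p) = Ideal.Quotient.mk (RingHom.ker (kap A B d)) p := by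
  rw [eK, AlgEquiv.symm_apply_eq]
  rfl

noncomputable def FT : PolLaw.MulLaw A (⨂[A] _ : Fin d, B) C d.factorial :=
  (PolLawQuotC.quot (NMul γ (id : B → B)) (ker_kap_le_ker γ)).precomp (eK A B d : _ →ₐ[A] _)

theorem FT_kapS (S : Type u) [CommSemiring S] [Algebra A S]
    (x : S ⊗[A] MvPolynomial (Fin d × B) A) :
    (FT γ).law.toFun' S (kapS A B d S x) = (hv γ id).lTensor S (Nrm S x) := by
  rw [FT, mulLaw_precomp_toFun']
  have h : Algebra.TensorProduct.map (AlgHom.id S S) (eK A B d : _ →ₐ[A] _) (kapS A B d S x) =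
      PolLawQuotC.qm (RingHom.ker (kap A B d)) S x := by
    induction x using TensorProduct.induction_on with
    | zero => simp
    | add x y hx hy => simp only [map_add, hx, hy]
    | tmul s p =>
      rw [kapS, Algebra.TensorProduct.map_tmul, Algebra.TensorProduct.map_tmul,
        PolLawQuotC.qm_tmul, AlgHom.id_apply]
      congr 1
      exact eK_kap p
  rw [h, PolLawQuotC.quot_qm]
  rfl

theorem kapS_surjective (S : Type u) [CommSemiring S] [Algebra A S] :
    Function.Surjective (kapS A B d S) := by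
  have := LinearMap.lTensor_surjective (R := A) S (g := (kap A B d).toLinearMap)
    (kap_surjective (A := A) (B := B) (d := d))
  intro y
  obtain ⟨z, hz⟩ := this y
  refine ⟨z, ?_⟩
  rw [← hz, PolLaw.lTensor_algHom_apply]
  rfl

variable (Φ : C →ₗ[A] (⨂[A] _ : Fin d, B))
  (hΦ : ∀ (S : Type u) [CommSemiring S] [Algebra A S] (n : ℕ) (s : Fin n → S) (b : Fin n → B),
      Φ.lTensor S (γ.law.toFun' S (∑ j, s j ⊗ₜ[A] b j)) =
        ∑ c : Fin d → Fin n, (∏ i, s (c i)) ⊗ₜ[A] PiTensorProduct.tprod A (fun i => b (c i)))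

include hΦ

theorem Phi_hv (S : Type u) [CommSemiring S] [Algebra A S]
    (y : S ⊗[A] MvPolynomial (Fin d × B) A) (hy : ∀ σ : Equiv.Perm (Fin d), sgS S σ y = y) :
    Φ.lTensor S ((hv γ id).lTensor S y) = kapS A B d S y := by
  obtain ⟨J, hJ⟩ := exists_support S y
  have h := EP S (Φ ∘ₗ hv γ id) (kap A B d).toLinearMap J ?_ y hy (hJ J (Finset.Subset.refl J))
  · rw [lTensor_comp_apply'] at h
    rw [h, PolLaw.lTensor_algHom_apply]
    rfl
  · rw [lTensor_comp_apply', hv_Gam, Gv_toFun', Phi_gamma γ Φ hΦ, PolLaw.lTensor_algHom_apply]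
    exact (kapS_Gam (Rg A B) _).symm

theorem Phi_FT (S : Type u) [CommSemiring S] [Algebra A S]
    (x : S ⊗[A] MvPolynomial (Fin d × B) A) :
    Φ.lTensor S ((FT γ).law.toFun' S (kapS A B d S x)) = kapS A B d S (Nrm S x) := by
  rw [FT_kapS, Phi_hv γ Φ hΦ S _ (fun σ => Nrm_inv S σ x)]

omit hΦ in
theorem lid_lTensor (w : A ⊗[A] C) :
    TensorProduct.lid A _ (Φ.lTensor A w) = Φ (TensorProduct.lid A C w) := by
  induction w using TensorProduct.induction_on with
  | zero => simp
  | add x y hx hy => simp only [map_add, hx, hy]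
  | tmul a c => simp

theorem Phi_FT_ground (x : MvPolynomial (Fin d × B) A) :
    Φ ((FT γ).law.ground (kap A B d x)) = ∏ σ, SymTen.perm A B d σ (kap A B d x) := by
  have h := Phi_FT γ Φ hΦ A ((1 : A) ⊗ₜ[A] x)
  have e1 : kapS A B d A ((1 : A) ⊗ₜ[A] x) = (1 : A) ⊗ₜ[A] kap A B d x := rfl
  have e2 : kapS A B d A (Nrm A ((1 : A) ⊗ₜ[A] x)) =
      (1 : A) ⊗ₜ[A] ∏ σ, SymTen.perm A B d σ (kap A B d x) := by
    rw [Nrm, map_prod]
    simp only [sgS_tmul, kapS, Algebra.TensorProduct.map_tmul, AlgHom.id_apply, kap_sg]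
    rw [prod_tmul]
    simp
  rw [e1, e2] at h
  rw [PolynomialLaw.ground_apply, ← lid_lTensor, h, TensorProduct.lid_tmul, one_smul]

end Main

end Groth.Agent.Lib.Helper32.PolLawTd
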