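import Groth.Agent.Lib.Helper32.PolLawTd

set_option autoImplicit false
universe u
open scoped TensorProduct

namespace Groth.Agent.Lib.Helper32.PolLawTd2

open Groth.Agent.Lib.Helper32.PolLawBasic Groth.Agent.Lib.Helper32.PolLawFactor
  Groth.Agent.Lib.Helper32.PolLawFactorC Groth.Agent.Lib.Helper32.PolLawGammaGen
  Groth.Agent.Lib.Helper32.PolLawGammaFT
  Groth.Agent.Lib.Helper32.PolLawPolar Groth.Agent.Lib.Helper32.PolLawSym
  Groth.Agent.Lib.Helper32.PolLawNorm Groth.Agent.Lib.Helper32.PolLawNormKer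
  Groth.Agent.Lib.Helper32.PolLawTd MvPolynomial

variable {A : Type u} [CommRing A] {B : Type u} [CommRing B] [Algebra A B] {d : ℕ}
  {C : Type u} [CommRing C] [Algebra A C] (γ : PolLaw.MulLaw A B C d)

section Pow

variable {τ : Type u} (v : τ → B)

theorem hv_pow_of_inv (S : Type u) [CommSemiring S] [Algebra A S]
    (y : S ⊗[A] MvPolynomial (Fin d × τ) A)
    (hy : ∀ σ : Equiv.Perm (Fin d), sgS S σ y = y) (n : ℕ) :
    (hv γ v).lTensor S (y ^ n) = ((hv γ v).lTensor S y) ^ n := by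
  induction n with
  | zero => rw [pow_zero, pow_zero, hv_one]
  | succ n ih =>
    rw [pow_succ, pow_succ, hv_mul_of_inv γ v S _ _ (fun σ => by rw [map_pow, hy]) hy, ih]

end Pow

section Surj

theorem sg_cfC {ι : Type u} (σ : Equiv.Perm (Fin d)) (ν : ι →₀ ℕ)
    (Φ' : MvPolynomial ι A ⊗[A] MvPolynomial (Fin d × B) A) :
    sg σ (cfC ν Φ') = cfC ν (sgS (MvPolynomial ι A) σ Φ') := by
  have h := cfC_lTensor (sg (A := A) (τ := B) σ).toLinearMap ν Φ'
  rw [PolLaw.lTensor_algHom_apply] at h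
  exact h.symm

theorem exists_inv_hv_ground (hγ : PolLaw.IsGammaD γ) (c : C) :
    ∃ y : MvPolynomial (Fin d × B) A, (∀ σ : Equiv.Perm (Fin d), sg σ y = y) ∧
      hv γ id y = c := by
  have hc : c ∈ Submodule.span A (CoefSet γ.law) := by
    rw [span_coefSet_eq_top γ hγ]
    exact Submodule.mem_top
  induction hc using Submodule.span_induction with
  | zero => exact ⟨0, fun σ => map_zero _, map_zero _⟩
  | add x y _ _ hx hy =>
    obtain ⟨y₁, h₁, rfl⟩ := hx
    obtain ⟨y₂, h₂, rfl⟩ := hy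
    exact ⟨y₁ + y₂, fun σ => by rw [map_add, h₁, h₂], map_add _ _ _⟩
  | smul a x _ hx =>
    obtain ⟨y₁, h₁, rfl⟩ := hx
    exact ⟨a • y₁, fun σ => by rw [map_smul, h₁], map_smul _ _ _⟩
  | mem x hx =>
    obtain ⟨ι, w, ν, rfl⟩ := hx
    obtain ⟨w', rfl⟩ := map_piB_surjective (MvPolynomial ι A) w
    refine ⟨cfC ν (Gam d (MvPolynomial ι A) w'), fun σ => ?_, ?_⟩
    · rw [sg_cfC, sgS_Gam]
    · rw [← cfC_lTensor, hv_Gam, Gv_toFun']
      rfl

theorem exists_inv_hv (hγ : PolLaw.IsGammaD γ) (S : Type u) [CommSemiring S] [Algebra A S]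
    (c : S ⊗[A] C) :
    ∃ y : S ⊗[A] MvPolynomial (Fin d × B) A, (∀ σ : Equiv.Perm (Fin d), sgS S σ y = y) ∧
      (hv γ id).lTensor S y = c := by
  induction c using TensorProduct.induction_on with
  | zero => exact ⟨0, fun σ => map_zero _, map_zero _⟩
  | add x y hx hy =>
    obtain ⟨y₁, h₁, rfl⟩ := hx
    obtain ⟨y₂, h₂, rfl⟩ := hy
    exact ⟨y₁ + y₂, fun σ => by rw [map_add, h₁, h₂], map_add _ _ _⟩
  | tmul s c₀ =>
    obtain ⟨y₀, h₀, rfl⟩ := exists_inv_hv_ground γ hγ c₀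
    exact ⟨s ⊗ₜ[A] y₀, fun σ => by rw [sgS_tmul, h₀], rfl⟩

end Surj

section Univ

variable (Φ : C →ₗ[A] (⨂[A] _ : Fin d, B))
  (hΦ : ∀ (S : Type u) [CommSemiring S] [Algebra A S] (n : ℕ) (s : Fin n → S) (b : Fin n → B),
      Φ.lTensor S (γ.law.toFun' S (∑ j, s j ⊗ₜ[A] b j)) =
        ∑ c : Fin d → Fin n, (∏ i, s (c i)) ⊗ₜ[A] PiTensorProduct.tprod A (fun i => b (c i)))

include hΦ

theorem FT_Phi (hγ : PolLaw.IsGammaD γ) (S : Type u) [CommSemiring S] [Algebra A S]
    (c : S ⊗[A] C) : (FT γ).law.toFun' S (Φ.lTensor S c) = c ^ d.factorial := by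
  obtain ⟨y, hy, rfl⟩ := exists_inv_hv γ hγ S c
  rw [Phi_hv γ Φ hΦ S y hy, FT_kapS, Nrm_of_inv S y hy, hv_pow_of_inv γ id S y hy]

omit hΦ in
variable (A B d) in
noncomputable def permS (S : Type u) [CommSemiring S] [Algebra A S] (σ : Equiv.Perm (Fin d)) :
    S ⊗[A] (⨂[A] _ : Fin d, B) →ₐ[S] S ⊗[A] (⨂[A] _ : Fin d, B) :=
  Algebra.TensorProduct.map (AlgHom.id S S) (SymTen.perm A B d σ)

omit hΦ in
theorem kapS_sgS (S : Type u) [CommSemiring S] [Algebra A S] (σ : Equiv.Perm (Fin d))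
    (x : S ⊗[A] MvPolynomial (Fin d × B) A) :
    kapS A B d S (sgS S σ x) = permS A B d S σ (kapS A B d S x) := by
  induction x using TensorProduct.induction_on with
  | zero => simp
  | add x y hx hy => simp only [map_add, hx, hy]
  | tmul s p => simp [kapS, permS, kap_sg]

theorem Phi_FT' (S : Type u) [CommSemiring S] [Algebra A S] (w : S ⊗[A] (⨂[A] _ : Fin d, B)) :
    Φ.lTensor S ((FT γ).law.toFun' S w) = ∏ σ : Equiv.Perm (Fin d), permS A B d S σ w := by
  obtain ⟨x, rfl⟩ := kapS_surjective (A := A) (B := B) (d := d) S w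
  rw [Phi_FT γ Φ hΦ, Nrm, map_prod]
  simp only [kapS_sgS]

end Univ

section Ext

theorem law_ext_mv' {M N : Type u} [AddCommGroup M] [Module A M] [AddCommGroup N] [Module A N]
    (F G : M →ₚₗ[A] N)
    (h : ∀ (n : ℕ) (x : MvPolynomial (Fin n) A ⊗[A] M),
      F.toFun' (MvPolynomial (Fin n) A) x = G.toFun' (MvPolynomial (Fin n) A) x) : F = G := by
  apply PolynomialLaw.ext
  funext S _ _ x
  obtain ⟨n, ψ, p, rfl⟩ := PolynomialLaw.exists_lift (R := A) (M := M) x
  rw [← PolynomialLaw.isCompat_apply', ← PolynomialLaw.isCompat_apply', h]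

theorem valS_injective (n : ℕ) :
    Function.Injective (Algebra.TensorProduct.map
      (AlgHom.id (MvPolynomial (Fin n) A) (MvPolynomial (Fin n) A)) (SymTen.TS A B d).val) := by
  have h := Module.Flat.lTensor_preserves_injective_linearMap (M := MvPolynomial (Fin n) A)
    (SymTen.TS A B d).val.toLinearMap Subtype.val_injective
  intro x y hxy
  apply h
  rw [PolLaw.lTensor_algHom_apply, PolLaw.lTensor_algHom_apply]
  exact hxy

theorem permS_valS (S : Type u) [CommSemiring S] [Algebra A S] (σ : Equiv.Perm (Fin d))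
    (w : S ⊗[A] SymTen.TS A B d) :
    permS A B d S σ (Algebra.TensorProduct.map (AlgHom.id S S) (SymTen.TS A B d).val w) =
      Algebra.TensorProduct.map (AlgHom.id S S) (SymTen.TS A B d).val w := by
  induction w using TensorProduct.induction_on with
  | zero => simp
  | add x y hx hy => simp only [map_add, hx, hy]
  | tmul s t =>
    rw [Algebra.TensorProduct.map_tmul, permS, Algebra.TensorProduct.map_tmul]
    congr 1
    rw [Subalgebra.coe_val, SymTen.perm_apply]
    exact t.2 σ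

end Ext

end Groth.Agent.Lib.Helper32.PolLawTd2
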