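import Mathlib
import Groth.Prelude.Def_CInt
import Groth.Prelude.Def_AlgSp
set_option autoImplicit false
universe u
open CategoryTheory CategoryTheory.Limits AlgebraicGeometry

namespace Groth.Agent.Lib.Helper32.SDD1

theorem stalkMap_injective {T V : Scheme.{u}} (p : T ⟶ V) [Flat p] (x : T) :
    Function.Injective (p.stalkMap x).hom := by
  algebraize [(p.stalkMap x).hom]
  have : Module.FaithfullyFlat (V.presheaf.stalk (p x)) (T.presheaf.stalk x) :=
    @Module.FaithfullyFlat.of_flat_of_isLocalHom _ _ _ _ _ _ _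
      (Flat.stalkMap p x) (p.toLRSHom.prop x)
  exact ‹RingHom.FaithfullyFlat _›.injective

theorem D1 {T V : Scheme.{u}} (p : T ⟶ V) [Flat p] [Surjective p] (W : V.Opens)
    (h : CInt.IsSchematicallyDense (p ⁻¹ᵁ W)) : CInt.IsSchematicallyDense W := by
  intro W'
  rw [injective_iff_map_eq_zero]
  intro s hs
  have ht : p.app W' s = 0 := by
    apply h (p ⁻¹ᵁ W')
    rw [map_zero]
    have hnat := p.naturality (homOfLE (inf_le_left : W' ⊓ W ≤ W')).op
    have h1 := congrArg (fun φ => φ.hom s) hnat
    simp only [CommRingCat.hom_comp, RingHom.coe_comp, Function.comp_apply] at h1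
    rw [hs, map_zero] at h1
    exact h1.symm
  refine TopCat.Presheaf.section_ext V.sheaf W' s 0 ?_
  intro x hx
  obtain ⟨x', rfl⟩ := ‹Surjective p›.surj x
  have h2 : (p.stalkMap x').hom (V.presheaf.germ W' (p x') hx s) = 0 := by
    have := Scheme.Hom.germ_stalkMap_apply p W' x' hx s
    erw [this, ht, map_zero]
  show V.presheaf.germ W' (p x') hx s = V.presheaf.germ W' (p x') hx 0
  rw [map_zero]
  apply stalkMap_injective p x'
  rw [map_zero]
  exact h2

end Groth.Agent.Lib.Helper32.SDD1
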