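import Mathlib
import Groth.Prelude.Def_CInt
import Groth.Agent.Lib.Helper72.SchDense
set_option autoImplicit false
universe u
open CategoryTheory CategoryTheory.Limits AlgebraicGeometry TopologicalSpace

namespace Groth.Agent.Lib.Helper32.SDF1

theorem dominant_of_isSchematicallyDense {X : Scheme.{u}} (V : X.Opens)
    (hV : CInt.IsSchematicallyDense V) : IsSchemeTheoreticallyDominant V.ι := by
  refine ⟨le_bot_iff.mp ?_⟩
  intro W
  have h1 := Scheme.Hom.ideal_ker_le V.ι W
  have h2 : RingHom.ker (V.ι.app W.1).hom = ⊥ :=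
    (RingHom.injective_iff_ker_eq_bot _).mp
      ((Groth.Agent.Lib.Helper72.SchDense.isSchematicallyDense_iff_ι_app_injective V).1 hV W.1)
  rw [h2] at h1
  simpa using h1

lemma ext_of_schDominant_of_isSeparated {W X Y Z : Scheme.{u}} {f g : X ⟶ Y} (s : Y ⟶ Z)
    [IsSeparated s] (h : f ≫ s = g ≫ s) (ι : W ⟶ X) [IsSchemeTheoreticallyDominant ι]
    (hU : ι ≫ f = ι ≫ g) : f = g := by
  let X' : Over Z := Over.mk (f ≫ s)
  let Y' : Over Z := Over.mk s
  let U' : Over Z := Over.mk (ι ≫ f ≫ s)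
  let f' : X' ⟶ Y' := Over.homMk f
  let g' : X' ⟶ Y' := Over.homMk g (by simpa [X', Y'] using h.symm)
  let ι' : U' ⟶ X' := Over.homMk ι
  have : IsSeparated Y'.hom := ‹_›
  have hlift : (equalizer.lift ι' (show ι' ≫ f' = ι' ≫ g' by ext1; exact hU)).left ≫
      (equalizer.ι f' g').left = ι := by
    rw [← Over.comp_left, equalizer.lift_ι]; rfl
  have hker : (equalizer.ι f' g').left.ker = ⊥ := by
    have h1 := Scheme.Hom.le_ker_comp
      (equalizer.lift ι' (show ι' ≫ f' = ι' ≫ g' by ext1; exact hU)).left (equalizer.ι f' g').left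
    rw [hlift, ι.ker_eq_bot] at h1
    exact le_bot_iff.mp h1
  have : IsIso (equalizer.ι f' g').left := IsClosedImmersion.isIso_iff_ker_eq_bot.mpr hker
  rw [← cancel_epi (equalizer.ι f' g').left]
  exact congr($(equalizer.condition f' g').left)

theorem F1 {T Y S : Scheme.{u}} (pY : Y ⟶ S) [IsSeparated pY] (a b : T ⟶ Y)
    (hab : a ≫ pY = b ≫ pY) (D : T.Opens) (hD : CInt.IsSchematicallyDense D)
    (h : D.ι ≫ a = D.ι ≫ b) : a = b := by
  have := dominant_of_isSchematicallyDense D hD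
  exact ext_of_schDominant_of_isSeparated pY hab D.ι h

end Groth.Agent.Lib.Helper32.SDF1
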