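import Mathlib

set_option autoImplicit false
universe u

open CategoryTheory CategoryTheory.Limits AlgebraicGeometry TensorProduct

namespace Groth.Agent.Lib.Helper32.SDFISOF

theorem snd_eq {X S' B Zi : Scheme.{u}} (p : X ⟶ B) (q : S' ⟶ B) (fi : Zi ⟶ X) :
    pullback.snd fi (pullback.fst p q) =
      (pullbackRightPullbackFstIso p q fi).hom ≫
        pullback.map (fi ≫ p) q p q fi (𝟙 S') (𝟙 _) (Category.comp_id _)
          ((Category.comp_id _).trans (Category.id_comp _).symm) := by
  apply pullback.hom_ext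
  · rw [Category.assoc, pullback.lift_fst, ← Category.assoc, pullbackRightPullbackFstIso_hom_fst,
      pullback.condition]
  · rw [Category.assoc, pullback.lift_snd, Category.comp_id, pullbackRightPullbackFstIso_hom_snd]

theorem app_zero_of_eq {X Y Z : Scheme.{u}} (f : X ⟶ Z) (g : X ⟶ Y) (m : Y ⟶ Z) (e : f = g ≫ m)
    (V : Z.Opens) (t : Γ(Z, V)) (h : m.app V t = 0) : f.app V t = 0 := by
  subst e
  rw [Scheme.Hom.comp_app]
  change (g.app (m ⁻¹ᵁ V)) (m.app V t) = 0
  rw [h, map_zero]

theorem ISOF {X S' B Zi : Scheme.{u}} (p : X ⟶ B) (q : S' ⟶ B) (fi : Zi ⟶ X)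
    (V : (pullback p q).Opens) (t : Γ(pullback p q, V))
    (h : (pullback.map (fi ≫ p) q p q fi (𝟙 S') (𝟙 _) (Category.comp_id _)
      ((Category.comp_id _).trans (Category.id_comp _).symm)).app V t = 0) :
    (pullback.snd fi (pullback.fst p q)).app V t = 0 :=
  app_zero_of_eq _ _ _ (snd_eq p q fi) V t h

end Groth.Agent.Lib.Helper32.SDFISOF
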