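import Mathlib
import Groth.Prelude.Def_CInt
set_option autoImplicit false
universe u
open CategoryTheory CategoryTheory.Limits AlgebraicGeometry TopologicalSpace

namespace Groth.Agent.Lib.Helper32.SDP0

theorem P0 {X X' Y : Scheme.{u}} (U : X.Opens) (h : (U : Scheme.{u}) ⟶ Y) (f : X' ⟶ X)
    (V' : X'.Opens) (v' : (V' : Scheme.{u}) ⟶ Y)
    (hv' : X'.homOfLE (inf_le_right : f ⁻¹ᵁ U ⊓ V' ≤ V') ≫ v' =
      X'.homOfLE (inf_le_left : f ⁻¹ᵁ U ⊓ V' ≤ f ⁻¹ᵁ U) ≫ (f ∣_ U) ≫ h)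
    {T : Scheme.{u}} (t : T ⟶ (V' : Scheme.{u})) (u : T ⟶ (U : Scheme.{u}))
    (htu : t ≫ V'.ι ≫ f = u ≫ U.ι) : t ≫ v' = u ≫ h := by
  have hrange : Set.range (t ≫ V'.ι).base ⊆ Set.range (f ⁻¹ᵁ U ⊓ V').ι.base := by
    rintro _ ⟨x, rfl⟩
    rw [Scheme.Opens.range_ι]
    refine ⟨?_, ?_⟩
    · show f.base ((t ≫ V'.ι).base x) ∈ U
      have : f.base ((t ≫ V'.ι).base x) = (u ≫ U.ι).base x := by
        rw [← htu]; rfl
      rw [this]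
      exact (u.base x).2
    · exact (t.base x).2
  let l : T ⟶ ((f ⁻¹ᵁ U ⊓ V' : X'.Opens) : Scheme.{u}) :=
    IsOpenImmersion.lift (f ⁻¹ᵁ U ⊓ V').ι (t ≫ V'.ι) hrange
  have hl : l ≫ (f ⁻¹ᵁ U ⊓ V').ι = t ≫ V'.ι := IsOpenImmersion.lift_fac _ _ _
  have h1 : l ≫ X'.homOfLE (inf_le_right : f ⁻¹ᵁ U ⊓ V' ≤ V') = t := by
    rw [← cancel_mono V'.ι, Category.assoc, Scheme.homOfLE_ι, hl]
  have h2 : l ≫ X'.homOfLE (inf_le_left : f ⁻¹ᵁ U ⊓ V' ≤ f ⁻¹ᵁ U) ≫ (f ∣_ U) = u := by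
    rw [← cancel_mono U.ι, Category.assoc, Category.assoc, morphismRestrict_ι,
      Scheme.homOfLE_ι_assoc, ← Category.assoc, hl, Category.assoc, htu]
  rw [← h1, Category.assoc, hv', ← Category.assoc, ← Category.assoc, Category.assoc l, h2]

end Groth.Agent.Lib.Helper32.SDP0
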