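import Mathlib

set_option autoImplicit false

namespace Groth.Agent.Lib.Helper32.SymGradedAvoid

variable {A B : Type*} [CommRing A] [CommRing B] [Algebra A B]

structure HomPrime (G : ℕ → Submodule A B) (P : Set B) : Prop where
  add : ∀ m f g, f ∈ G m → g ∈ G m → f ∈ P → g ∈ P → f + g ∈ P
  neg : ∀ m f, f ∈ G m → f ∈ P → -f ∈ P
  mul : ∀ m n f g, f ∈ G m → g ∈ G n → (f * g ∈ P ↔ f ∈ P ∨ g ∈ P)
  one : (1 : B) ∉ P

variable {G : ℕ → Submodule A B} [SetLike.GradedMonoid G]

theorem HomPrime.pow {P : Set B} (hP : HomPrime G P) {m : ℕ} {f : B} (hf : f ∈ G m)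
    {n : ℕ} (hn : 0 < n) : f ^ n ∈ P ↔ f ∈ P := by
  induction n with
  | zero => omega
  | succ n ih =>
    rcases Nat.eq_zero_or_pos n with rfl | hn'
    · simp
    · rw [pow_succ, hP.mul (n • m) m (f ^ n) f (SetLike.pow_mem_graded n hf) hf, ih hn', or_self]

theorem HomPrime.prod {P : Set B} (hP : HomPrime G P) {ι : Type*} (s : Finset ι) (g : ι → B)
    (deg : ι → ℕ) (hg : ∀ j ∈ s, g j ∈ G (deg j)) :
    ∏ j ∈ s, g j ∈ P ↔ ∃ j ∈ s, g j ∈ P := by
  classical
  induction s using Finset.induction_on with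
  | empty => simpa using hP.one
  | insert a s ha ih =>
    rw [Finset.prod_insert ha,
      hP.mul (deg a) (∑ j ∈ s, deg j) (g a) (∏ j ∈ s, g j) (hg a (Finset.mem_insert_self a s))
        (SetLike.prod_mem_graded G deg g fun j hj => hg j (Finset.mem_insert_of_mem hj)),
      ih fun j hj => hg j (Finset.mem_insert_of_mem hj)]
    simp

theorem exists_avoid {ι : Type*} (s : Finset ι) (P : ι → Set B)
    (hP : ∀ i ∈ s, HomPrime G (P i))
    (hw : ∀ i ∈ s, ∃ m, 0 < m ∧ ∃ b ∈ G m, b ∉ P i) :
    ∃ m, 0 < m ∧ ∃ f ∈ G m, ∀ i ∈ s, f ∉ P i := by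
  classical
  obtain ⟨n, hn⟩ : ∃ n, s.card = n := ⟨_, rfl⟩
  induction n generalizing s with
  | zero =>
    rw [Finset.card_eq_zero] at hn
    subst hn
    exact ⟨1, one_pos, 0, zero_mem _, by simp⟩
  | succ n ih =>
    have IH : ∀ i ∈ s, ∃ m, 0 < m ∧ ∃ f ∈ G m, ∀ j ∈ s.erase i, f ∉ P j := by
      intro i hi
      refine ih (s.erase i) (fun j hj => hP j (Finset.mem_of_mem_erase hj))
        (fun j hj => hw j (Finset.mem_of_mem_erase hj)) ?_
      rw [Finset.card_erase_of_mem hi, hn]; rfl
    choose! deg hdeg g hgG hg using IH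
    by_cases hex : ∃ i ∈ s, g i ∉ P i
    · obtain ⟨i, hi, hgi⟩ := hex
      refine ⟨deg i, hdeg i hi, g i, hgG i hi, fun j hj => ?_⟩
      by_cases hji : j = i
      · subst hji; exact hgi
      · exact hg i hi j (Finset.mem_erase.2 ⟨hji, hj⟩)
    · push Not at hex
      rcases Nat.eq_zero_or_pos n with rfl | hn'
      · obtain ⟨a, rfl⟩ := Finset.card_eq_one.1 hn
        obtain ⟨m, hm, b, hb, hbP⟩ := hw a (Finset.mem_singleton_self a)
        exact ⟨m, hm, b, hb, fun i hi => by rw [Finset.mem_singleton.1 hi]; exact hbP⟩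
      · have hne : s.Nonempty := Finset.card_pos.1 (by omega)
        obtain ⟨i0, hi0⟩ := hne
        have hne' : (s.erase i0).Nonempty := by
          rw [← Finset.card_pos, Finset.card_erase_of_mem hi0]; omega
        obtain ⟨i1, hi1⟩ := hne'
        set u := g i0 with hu
        set v := ∏ j ∈ s.erase i0, g j with hv
        set du := deg i0 with hdu
        set dv := ∑ j ∈ s.erase i0, deg j with hdv
        have hdu0 : 0 < du := hdeg i0 hi0
        have hdv0 : 0 < dv :=
          lt_of_lt_of_le (hdeg i1 (Finset.mem_of_mem_erase hi1))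
            (Finset.single_le_sum (f := deg) (fun _ _ => Nat.zero_le _) hi1)
        have huG : u ∈ G du := hgG i0 hi0
        have hvG : v ∈ G dv :=
          SetLike.prod_mem_graded G deg g fun j hj => hgG j (Finset.mem_of_mem_erase hj)
        have hu0 : u ∈ P i0 := hex i0 hi0
        have huj : ∀ j ∈ s.erase i0, u ∉ P j := hg i0 hi0
        have hv0 : v ∉ P i0 := by
          rw [(hP i0 hi0).prod (s.erase i0) g deg fun j hj => hgG j (Finset.mem_of_mem_erase hj)]
          rintro ⟨j, hj, hgj⟩
          exact hg j (Finset.mem_of_mem_erase hj) i0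
            (Finset.mem_erase.2 ⟨(Finset.ne_of_mem_erase hj).symm, hi0⟩) hgj
        have hvj : ∀ j ∈ s.erase i0, v ∈ P j := by
          intro j hj
          rw [(hP j (Finset.mem_of_mem_erase hj)).prod (s.erase i0) g deg
            fun j hj => hgG j (Finset.mem_of_mem_erase hj)]
          exact ⟨j, hj, hex j (Finset.mem_of_mem_erase hj)⟩
        have hu'G : u ^ dv ∈ G (du * dv) := by
          have := SetLike.pow_mem_graded dv huG
          rwa [smul_eq_mul, mul_comm] at this
        have hv'G : v ^ du ∈ G (du * dv) := by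
          have := SetLike.pow_mem_graded du hvG
          rwa [smul_eq_mul] at this
        refine ⟨du * dv, Nat.mul_pos hdu0 hdv0, u ^ dv + v ^ du, add_mem hu'G hv'G, ?_⟩
        intro j hj hmem
        by_cases hji : j = i0
        · subst hji
          have h1 : u ^ dv ∈ P j := ((hP j hj).pow huG hdv0).2 hu0
          have h2 : v ^ du ∈ P j := by
            have := (hP j hj).add _ _ _ (add_mem hu'G hv'G) (neg_mem hu'G) hmem
              ((hP j hj).neg _ _ hu'G h1)
            simpa using this
          exact hv0 (((hP j hj).pow hvG hdu0).1 h2)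
        · have hj' : j ∈ s.erase i0 := Finset.mem_erase.2 ⟨hji, hj⟩
          have h1 : v ^ du ∈ P j := ((hP j hj).pow hvG hdu0).2 (hvj j hj')
          have h2 : u ^ dv ∈ P j := by
            have := (hP j hj).add _ _ _ (add_mem hu'G hv'G) (neg_mem hv'G) hmem
              ((hP j hj).neg _ _ hv'G h1)
            simpa using this
          exact huj j hj' (((hP j hj).pow huG hdv0).1 h2)

end Groth.Agent.Lib.Helper32.SymGradedAvoid
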