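import Mathlib
import Groth.Prelude.Def_SymTen

set_option autoImplicit false
universe u
open scoped TensorProduct

namespace Groth.Agent.Lib.Helper32.SymGradedC

variable {A B : Type u} [CommRing A] [CommRing B] [Algebra A B]
  (𝒜 : ℕ → Submodule A B) (d : ℕ)

def gens : Set (⨂[A] _ : Fin d, B) :=
  {t | ∃ (k : ℕ) (b : Fin d → B), (∀ i, b i ∈ 𝒜 k) ∧ t = PiTensorProduct.tprod A b}

def CC : Subalgebra A (⨂[A] _ : Fin d, B) := Algebra.adjoin A (gens 𝒜 d)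

noncomputable def DD : Subalgebra A (⨂[A] _ : Fin d, B) := CC 𝒜 d ⊓ SymTen.TS A B d

variable {𝒜 d}

theorem tprod_mem_CC {k : ℕ} {b : Fin d → B} (hb : ∀ i, b i ∈ 𝒜 k) :
    PiTensorProduct.tprod A b ∈ CC 𝒜 d :=
  Algebra.subset_adjoin ⟨k, b, hb, rfl⟩

theorem perm_one : SymTen.perm A B d 1 = AlgHom.id A _ := by
  apply AlgHom.toLinearMap_injective
  apply PiTensorProduct.ext
  apply MultilinearMap.ext
  intro x
  simp only [LinearMap.compMultilinearMap_apply, AlgHom.toLinearMap_apply, SymTen.perm_tprod,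
    AlgHom.coe_id, id_eq]
  rfl

theorem perm_mul (σ τ : Equiv.Perm (Fin d)) :
    SymTen.perm A B d (σ * τ) = (SymTen.perm A B d σ).comp (SymTen.perm A B d τ) := by
  apply AlgHom.toLinearMap_injective
  apply PiTensorProduct.ext
  apply MultilinearMap.ext
  intro x
  simp only [LinearMap.compMultilinearMap_apply, AlgHom.toLinearMap_apply, SymTen.perm_tprod,
    AlgHom.coe_comp, Function.comp_apply]
  rfl

theorem perm_mem_CC (σ : Equiv.Perm (Fin d)) {x : ⨂[A] _ : Fin d, B} (hx : x ∈ CC 𝒜 d) :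
    SymTen.perm A B d σ x ∈ CC 𝒜 d := by
  induction hx using Algebra.adjoin_induction with
  | mem x hx =>
    obtain ⟨k, b, hb, rfl⟩ := hx
    rw [SymTen.perm_tprod]
    exact tprod_mem_CC (k := k) fun i => hb _
  | algebraMap r => rw [AlgHom.commutes]; exact Subalgebra.algebraMap_mem _ r
  | add x y _ _ hx hy => rw [map_add]; exact add_mem hx hy
  | mul x y _ _ hx hy => rw [map_mul]; exact mul_mem hx hy

noncomputable instance : MulSemiringAction (Equiv.Perm (Fin d)) (CC 𝒜 d) where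
  smul σ x := ⟨SymTen.perm A B d σ x.1, perm_mem_CC σ x.2⟩
  one_smul x := Subtype.ext (by show SymTen.perm A B d 1 x.1 = x.1; rw [perm_one]; rfl)
  mul_smul σ τ x := Subtype.ext (by
    show SymTen.perm A B d (σ * τ) x.1 = SymTen.perm A B d σ (SymTen.perm A B d τ x.1)
    rw [perm_mul]; rfl)
  smul_zero σ := Subtype.ext (by show SymTen.perm A B d σ (0 : ⨂[A] _ : Fin d, B) = 0; simp)
  smul_add σ x y := Subtype.ext (by
    show SymTen.perm A B d σ (x.1 + y.1) = SymTen.perm A B d σ x.1 + SymTen.perm A B d σ y.1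
    simp)
  smul_one σ := Subtype.ext (by show SymTen.perm A B d σ (1 : ⨂[A] _ : Fin d, B) = 1; simp)
  smul_mul σ x y := Subtype.ext (by
    show SymTen.perm A B d σ (x.1 * y.1) = SymTen.perm A B d σ x.1 * SymTen.perm A B d σ y.1
    simp)

theorem smul_val (σ : Equiv.Perm (Fin d)) (x : CC 𝒜 d) :
    ((σ • x : CC 𝒜 d) : ⨂[A] _ : Fin d, B) = SymTen.perm A B d σ x.1 := rfl

noncomputable def incl : DD 𝒜 d →ₐ[A] CC 𝒜 d := Subalgebra.inclusion inf_le_left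

noncomputable instance : Algebra (DD 𝒜 d) (CC 𝒜 d) := (incl (𝒜 := 𝒜) (d := d)).toRingHom.toAlgebra

theorem algebraMap_val (x : DD 𝒜 d) :
    ((algebraMap (DD 𝒜 d) (CC 𝒜 d) x : CC 𝒜 d) : ⨂[A] _ : Fin d, B) = x.1 := rfl

theorem algebraMap_injective : Function.Injective (algebraMap (DD 𝒜 d) (CC 𝒜 d)) := by
  intro x y h
  apply Subtype.ext
  rw [← algebraMap_val, ← algebraMap_val, h]

instance : Algebra.IsInvariant (DD 𝒜 d) (CC 𝒜 d) (Equiv.Perm (Fin d)) where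
  isInvariant x hx := by
    have hTS : x.1 ∈ SymTen.TS A B d := by
      intro σ
      rw [← SymTen.perm_apply, ← smul_val, hx σ]
    exact ⟨⟨x.1, ⟨x.2, hTS⟩⟩, Subtype.ext rfl⟩

instance : Algebra.IsIntegral (DD 𝒜 d) (CC 𝒜 d) :=
  Algebra.IsInvariant.isIntegral (DD 𝒜 d) (CC 𝒜 d) (Equiv.Perm (Fin d))

theorem exists_pow_mem (I : Ideal (DD 𝒜 d)) (t : DD 𝒜 d)
    (h : ∀ 𝔓 : Ideal (CC 𝒜 d), 𝔓.IsPrime → algebraMap (DD 𝒜 d) (CC 𝒜 d) t ∉ 𝔓 →
      ∃ x ∈ I, algebraMap (DD 𝒜 d) (CC 𝒜 d) x ∉ 𝔓) :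
    ∃ m : ℕ, 0 < m ∧ t ^ m ∈ I := by
  have hrad : t ∈ I.radical := by
    rw [Ideal.radical_eq_sInf, Ideal.mem_sInf]
    rintro 𝔮 ⟨hI, h𝔮⟩
    by_contra ht
    obtain ⟨𝔓, -, h𝔓, hcomap⟩ := Ideal.exists_ideal_over_prime_of_isIntegral 𝔮 (⊥ : Ideal (CC 𝒜 d))
      (by
        rw [Ideal.comap_bot_of_injective _ algebraMap_injective]
        exact bot_le)
    obtain ⟨x, hxI, hx⟩ := h 𝔓 h𝔓 (by
      intro hmem
      apply ht
      rw [← hcomap]
      exact hmem)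
    apply hx
    have : x ∈ 𝔓.comap (algebraMap (DD 𝒜 d) (CC 𝒜 d)) := by
      rw [hcomap]; exact hI hxI
    exact this
  obtain ⟨m, hm⟩ := hrad
  rcases Nat.eq_zero_or_pos m with rfl | hm0
  · refine ⟨1, one_pos, ?_⟩
    rw [pow_zero] at hm
    rw [(Ideal.eq_top_iff_one I).2 hm]
    trivial
  · exact ⟨m, hm0, hm⟩

end Groth.Agent.Lib.Helper32.SymGradedC
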