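import Mathlib
import Groth.Prelude.Def_SymTen
import Groth.Agent.Lib.Helper32.SymGradedC
import Groth.Agent.Lib.Helper32.SymGradedAvoid

set_option autoImplicit false
universe u
open scoped TensorProduct

namespace Groth.Agent.Lib.Helper32.SymGradedEv

open Groth.Agent.Lib.Helper32.SymGradedC Groth.Agent.Lib.Helper32.SymGradedAvoid

variable {A B : Type u} [CommRing A] [CommRing B] [Algebra A B]
  {𝒜 : ℕ → Submodule A B} {d : ℕ} (𝔓 : Ideal (CC 𝒜 d))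

noncomputable def ev (x : ⨂[A] _ : Fin d, B) : CC 𝒜 d ⧸ 𝔓 := by
  classical
  exact if h : x ∈ CC 𝒜 d then Ideal.Quotient.mk 𝔓 ⟨x, h⟩ else 0

theorem ev_of_mem {x : ⨂[A] _ : Fin d, B} (h : x ∈ CC 𝒜 d) :
    ev 𝔓 x = Ideal.Quotient.mk 𝔓 ⟨x, h⟩ := by
  unfold ev
  rw [dif_pos h]

theorem ev_zero : ev 𝔓 (0 : ⨂[A] _ : Fin d, B) = 0 := by
  rw [ev_of_mem 𝔓 (zero_mem _)]
  exact map_zero _

theorem ev_one : ev 𝔓 (1 : ⨂[A] _ : Fin d, B) = 1 := by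
  rw [ev_of_mem 𝔓 (one_mem _)]
  exact map_one _

theorem ev_add {x y : ⨂[A] _ : Fin d, B} (hx : x ∈ CC 𝒜 d) (hy : y ∈ CC 𝒜 d) :
    ev 𝔓 (x + y) = ev 𝔓 x + ev 𝔓 y := by
  rw [ev_of_mem 𝔓 hx, ev_of_mem 𝔓 hy, ev_of_mem 𝔓 (add_mem hx hy), ← map_add]
  rfl

theorem ev_mul {x y : ⨂[A] _ : Fin d, B} (hx : x ∈ CC 𝒜 d) (hy : y ∈ CC 𝒜 d) :
    ev 𝔓 (x * y) = ev 𝔓 x * ev 𝔓 y := by
  rw [ev_of_mem 𝔓 hx, ev_of_mem 𝔓 hy, ev_of_mem 𝔓 (mul_mem hx hy), ← map_mul]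
  rfl

theorem ev_neg {x : ⨂[A] _ : Fin d, B} (hx : x ∈ CC 𝒜 d) :
    ev 𝔓 (-x) = -ev 𝔓 x := by
  rw [ev_of_mem 𝔓 hx, ev_of_mem 𝔓 (neg_mem hx), ← map_neg]
  rfl

theorem ev_smul (a : A) {x : ⨂[A] _ : Fin d, B} (hx : x ∈ CC 𝒜 d) :
    ev 𝔓 (a • x) = a • ev 𝔓 x := by
  rw [ev_of_mem 𝔓 hx, ev_of_mem 𝔓 (Subalgebra.smul_mem _ hx a)]
  rfl

theorem ev_pow {x : ⨂[A] _ : Fin d, B} (hx : x ∈ CC 𝒜 d) (n : ℕ) :
    ev 𝔓 (x ^ n) = ev 𝔓 x ^ n := by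
  rw [ev_of_mem 𝔓 hx, ev_of_mem 𝔓 (pow_mem hx n), ← map_pow]
  rfl

theorem ev_sum {ι : Type*} (s : Finset ι) (f : ι → ⨂[A] _ : Fin d, B)
    (hf : ∀ i ∈ s, f i ∈ CC 𝒜 d) : ev 𝔓 (∑ i ∈ s, f i) = ∑ i ∈ s, ev 𝔓 (f i) := by
  classical
  induction s using Finset.induction_on with
  | empty => simpa using ev_zero 𝔓
  | insert a s ha ih =>
    rw [Finset.sum_insert ha, Finset.sum_insert ha,
      ev_add 𝔓 (hf a (Finset.mem_insert_self a s))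
        (sum_mem fun i hi => hf i (Finset.mem_insert_of_mem hi)),
      ih fun i hi => hf i (Finset.mem_insert_of_mem hi)]

theorem ev_prod {ι : Type*} (s : Finset ι) (f : ι → ⨂[A] _ : Fin d, B)
    (hf : ∀ i ∈ s, f i ∈ CC 𝒜 d) : ev 𝔓 (∏ i ∈ s, f i) = ∏ i ∈ s, ev 𝔓 (f i) := by
  classical
  induction s using Finset.induction_on with
  | empty => simpa using ev_one 𝔓
  | insert a s ha ih =>
    rw [Finset.prod_insert ha, Finset.prod_insert ha,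
      ev_mul 𝔓 (hf a (Finset.mem_insert_self a s))
        (prod_mem fun i hi => hf i (Finset.mem_insert_of_mem hi)),
      ih fun i hi => hf i (Finset.mem_insert_of_mem hi)]

theorem ev_eq_zero_iff {x : ⨂[A] _ : Fin d, B} (hx : x ∈ CC 𝒜 d) :
    ev 𝔓 x = 0 ↔ (⟨x, hx⟩ : CC 𝒜 d) ∈ 𝔓 := by
  rw [ev_of_mem 𝔓 hx, Ideal.Quotient.eq_zero_iff_mem]

theorem ev_algebraMap_ne_zero {t : DD 𝒜 d} (ht : algebraMap (DD 𝒜 d) (CC 𝒜 d) t ∉ 𝔓) :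
    ev 𝔓 t.1 ≠ 0 := by
  intro h
  apply ht
  have hmem : t.1 ∈ CC 𝒜 d := t.2.1
  rw [ev_eq_zero_iff 𝔓 hmem] at h
  exact h

theorem not_mem_of_ev_ne_zero {x : DD 𝒜 d} (hx : ev 𝔓 x.1 ≠ 0) :
    algebraMap (DD 𝒜 d) (CC 𝒜 d) x ∉ 𝔓 := by
  intro h
  apply hx
  have hmem : x.1 ∈ CC 𝒜 d := x.2.1
  rw [ev_eq_zero_iff 𝔓 hmem]
  exact h

noncomputable def NN : Submodule A (⨂[A] _ : Fin d, B) where
  carrier := {x | x ∈ CC 𝒜 d ∧ ev 𝔓 x = 0}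
  add_mem' := by
    rintro x y ⟨hx, hx0⟩ ⟨hy, hy0⟩
    exact ⟨add_mem hx hy, by rw [ev_add 𝔓 hx hy, hx0, hy0, add_zero]⟩
  zero_mem' := ⟨zero_mem _, ev_zero 𝔓⟩
  smul_mem' := by
    rintro a x ⟨hx, hx0⟩
    exact ⟨Subalgebra.smul_mem _ hx a, by rw [ev_smul 𝔓 a hx, hx0, smul_zero]⟩

theorem mem_NN {x : ⨂[A] _ : Fin d, B} : x ∈ NN 𝔓 ↔ x ∈ CC 𝒜 d ∧ ev 𝔓 x = 0 := Iff.rfl

theorem exists_gen_of_span {k : ℕ} {t : ⨂[A] _ : Fin d, B}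
    (htk : t ∈ Submodule.span A {s | ∃ b : Fin d → B, (∀ i, b i ∈ 𝒜 k) ∧
      s = PiTensorProduct.tprod A b}) (ht : ev 𝔓 t ≠ 0) :
    ∃ b : Fin d → B, (∀ i, b i ∈ 𝒜 k) ∧ ev 𝔓 (PiTensorProduct.tprod A b) ≠ 0 := by
  by_contra hcon
  push Not at hcon
  have : t ∈ NN 𝔓 := by
    refine Submodule.span_le.2 ?_ htk
    rintro s ⟨b, hb, rfl⟩
    exact ⟨tprod_mem_CC hb, hcon b hb⟩
  exact ht this.2

end Groth.Agent.Lib.Helper32.SymGradedEv
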