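import Mathlib
import Groth.Prelude.Def_SymTen
import Groth.Agent.Lib.Helper32.SymGradedEv

set_option autoImplicit false
universe u
open scoped TensorProduct

namespace Groth.Agent.Lib.Helper32.SymGradedPos

open Groth.Agent.Lib.Helper32.SymGradedC Groth.Agent.Lib.Helper32.SymGradedAvoid
  Groth.Agent.Lib.Helper32.SymGradedEv

variable {A B : Type u} [CommRing A] [CommRing B] [Algebra A B]
  {𝒜 : ℕ → Submodule A B} {d : ℕ}

variable (A) in
noncomputable def pos (b : Fin d → B) (i : Fin d) (m : ℕ) (f : B) : ⨂[A] _ : Fin d, B :=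
  PiTensorProduct.tprod A (Function.update (fun j => b j ^ m) i f)

theorem pos_mul (b : Fin d → B) (i : Fin d) (m n : ℕ) (f g : B) :
    pos A b i m f * pos A b i n g = pos A b i (m + n) (f * g) := by
  unfold pos
  rw [PiTensorProduct.tprod_mul_tprod]
  congr 1
  funext j
  by_cases hj : j = i
  · subst hj; simp
  · simp [Function.update_of_ne hj, pow_add]

theorem pos_add (b : Fin d → B) (i : Fin d) (m : ℕ) (f g : B) :
    pos A b i m (f + g) = pos A b i m f + pos A b i m g :=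
  (PiTensorProduct.tprod A : MultilinearMap A (fun _ : Fin d => B) _).map_update_add
    (fun j => b j ^ m) i f g

theorem pos_smul (b : Fin d → B) (i : Fin d) (m : ℕ) (a : A) (f : B) :
    pos A b i m (a • f) = a • pos A b i m f :=
  (PiTensorProduct.tprod A : MultilinearMap A (fun _ : Fin d => B) _).map_update_smul
    (fun j => b j ^ m) i a f

theorem pos_neg (b : Fin d → B) (i : Fin d) (m : ℕ) (f : B) :
    pos A b i m (-f) = -pos A b i m f :=
  (PiTensorProduct.tprod A : MultilinearMap A (fun _ : Fin d => B) _).map_update_neg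
    (fun j => b j ^ m) i f

theorem pos_zero (b : Fin d → B) (i : Fin d) (m : ℕ) :
    pos A b i m 0 = 0 :=
  (PiTensorProduct.tprod A : MultilinearMap A (fun _ : Fin d => B) _).map_update_zero
    (fun j => b j ^ m) i

theorem pos_zero_one (b : Fin d → B) (i : Fin d) : pos A b i 0 1 = 1 := by
  unfold pos
  rw [PiTensorProduct.one_def]
  congr 1
  funext j
  by_cases hj : j = i
  · subst hj; simp
  · simp [Function.update_of_ne hj]

theorem pos_self (b : Fin d → B) (i : Fin d) : pos A b i 1 (b i) = PiTensorProduct.tprod A b := by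
  unfold pos
  congr 1
  funext j
  by_cases hj : j = i
  · subst hj; simp
  · simp [Function.update_of_ne hj]

theorem prod_pos (b : Fin d → B) (m : ℕ) (g : Fin d → B) :
    ∏ i, pos A b i m (g i) =
      PiTensorProduct.tprod A g * PiTensorProduct.tprod A (fun j => (b j ^ m) ^ (d - 1)) := by
  unfold pos
  rw [← PiTensorProduct.tprod_prod, PiTensorProduct.tprod_mul_tprod]
  congr 1
  funext j
  rw [Finset.prod_apply, Pi.mul_apply, ← Finset.mul_prod_erase Finset.univ _ (Finset.mem_univ j),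
    Function.update_self]
  congr 1
  rw [Finset.prod_congr rfl (g := fun _ => b j ^ m)]
  · rw [Finset.prod_const, Finset.card_erase_of_mem (Finset.mem_univ j), Finset.card_univ,
      Fintype.card_fin]
  · intro i hi
    rw [Function.update_of_ne (Finset.ne_of_mem_erase hi).symm]

variable [GradedAlgebra 𝒜]

theorem pos_mem_CC {k : ℕ} {b : Fin d → B} (hb : ∀ j, b j ∈ 𝒜 k) (i : Fin d) {m : ℕ} {f : B}
    (hf : f ∈ 𝒜 (k * m)) : pos A b i m f ∈ CC 𝒜 d := by
  refine tprod_mem_CC (k := k * m) fun j => ?_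
  by_cases hj : j = i
  · subst hj; simpa using hf
  · rw [Function.update_of_ne hj]
    have := SetLike.pow_mem_graded m (hb j)
    rwa [smul_eq_mul, mul_comm] at this

instance gradedMonoid_mul (k : ℕ) : SetLike.GradedMonoid (fun m : ℕ => 𝒜 (k * m)) where
  one_mem := by
    show (1 : B) ∈ 𝒜 (k * 0)
    rw [Nat.mul_zero]
    exact SetLike.GradedOne.one_mem
  mul_mem := by
    intro i j x y hx hy
    show x * y ∈ 𝒜 (k * (i + j))
    rw [Nat.mul_add]
    exact SetLike.mul_mem_graded hx hy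

variable (𝔓 : Ideal (CC 𝒜 d))

def Pset (b : Fin d → B) (k : ℕ) (i : Fin d) : Set B :=
  {f | ∀ m, f ∈ 𝒜 (k * m) → ev 𝔓 (pos A b i m f) = 0}

theorem mem_Pset_iff (b : Fin d → B) {k : ℕ} (hk : 0 < k) (i : Fin d) {m : ℕ} {f : B}
    (hf : f ∈ 𝒜 (k * m)) : f ∈ Pset 𝔓 b k i ↔ ev 𝔓 (pos A b i m f) = 0 := by
  constructor
  · intro h; exact h m hf
  · intro h m' hf'
    by_cases hf0 : f = 0
    · subst hf0; rw [pos_zero, ev_zero]
    · have := DirectSum.degree_eq_of_mem_mem 𝒜 hf hf' hf0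
      have hmm : m = m' := Nat.eq_of_mul_eq_mul_left hk this
      subst hmm
      exact h

theorem homPrime_Pset [𝔓.IsPrime] {b : Fin d → B} {k : ℕ} (hk : 0 < k) (hb : ∀ j, b j ∈ 𝒜 k)
    (i : Fin d) : HomPrime (fun m : ℕ => 𝒜 (k * m)) (Pset 𝔓 b k i) where
  add m f g hf hg hfP hgP := by
    have hfg : f + g ∈ 𝒜 (k * m) := add_mem hf hg
    rw [mem_Pset_iff 𝔓 b hk i hfg, pos_add, ev_add 𝔓 (pos_mem_CC hb i hf) (pos_mem_CC hb i hg),
      (mem_Pset_iff 𝔓 b hk i hf).1 hfP, (mem_Pset_iff 𝔓 b hk i hg).1 hgP, add_zero]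
  neg m f hf hfP := by
    have hnf : -f ∈ 𝒜 (k * m) := neg_mem hf
    rw [mem_Pset_iff 𝔓 b hk i hnf, pos_neg, ev_neg 𝔓 (pos_mem_CC hb i hf),
      (mem_Pset_iff 𝔓 b hk i hf).1 hfP, neg_zero]
  mul m n f g hf hg := by
    have hfg : f * g ∈ 𝒜 (k * (m + n)) := by
      rw [Nat.mul_add]; exact SetLike.mul_mem_graded hf hg
    rw [mem_Pset_iff 𝔓 b hk i hfg, mem_Pset_iff 𝔓 b hk i hf, mem_Pset_iff 𝔓 b hk i hg,
      ← pos_mul, ev_mul 𝔓 (pos_mem_CC hb i hf) (pos_mem_CC hb i hg), mul_eq_zero]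
  one := by
    have h1 : (1 : B) ∈ 𝒜 (k * 0) := by
      rw [Nat.mul_zero]; exact SetLike.GradedOne.one_mem
    rw [mem_Pset_iff 𝔓 b hk i h1, pos_zero_one, ev_one]
    exact one_ne_zero

theorem exists_tpow_ev_ne_zero [𝔓.IsPrime] {b : Fin d → B} {k : ℕ} (hk : 0 < k)
    (hb : ∀ j, b j ∈ 𝒜 k) (hτ : ev 𝔓 (PiTensorProduct.tprod A b) ≠ 0) :
    ∃ n, 0 < n ∧ ∃ f ∈ 𝒜 n, ev 𝔓 (PiTensorProduct.tprod A fun _ : Fin d => f) ≠ 0 := by
  obtain ⟨m, hm, f, hf, hfP⟩ := exists_avoid (G := fun m : ℕ => 𝒜 (k * m)) Finset.univ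
    (fun i => Pset 𝔓 b k i) (fun i _ => homPrime_Pset 𝔓 hk hb i)
    (fun i _ => ⟨1, one_pos, b i, by simpa using hb i, by
      have hbi : b i ∈ 𝒜 (k * 1) := by simpa using hb i
      rw [mem_Pset_iff 𝔓 b hk i hbi, pos_self]
      exact hτ⟩)
  have hf' : f ∈ 𝒜 (k * m) := hf
  refine ⟨k * m, Nat.mul_pos hk hm, f, hf', ?_⟩
  have hne : ev 𝔓 (∏ i, pos A b i m f) ≠ 0 := by
    rw [ev_prod 𝔓 _ _ fun i _ => pos_mem_CC hb i hf']
    refine (Finset.prod_ne_zero_iff (M₀ := CC 𝒜 d ⧸ 𝔓)).2 ?_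
    intro i _ h0
    exact hfP i (Finset.mem_univ i) ((mem_Pset_iff 𝔓 b hk i hf').2 h0)
  rw [prod_pos, ev_mul 𝔓 (tprod_mem_CC (k := k * m) fun _ => hf')
    (tprod_mem_CC (k := (d - 1) * (m * k)) fun j => by
      have := SetLike.pow_mem_graded (d - 1) (SetLike.pow_mem_graded m (hb j))
      simpa [smul_eq_mul] using this)] at hne
  exact left_ne_zero_of_mul hne

end Groth.Agent.Lib.Helper32.SymGradedPos
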