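import Mathlib
import Groth.Prelude.Def_SymTen
import Groth.Agent.Lib.Helper32.SymGradedPos

set_option autoImplicit false
universe u
open scoped TensorProduct

namespace Groth.Agent.Lib.Helper32.SymGradedDeg1

open Groth.Agent.Lib.Helper32.SymGradedC Groth.Agent.Lib.Helper32.SymGradedAvoid
  Groth.Agent.Lib.Helper32.SymGradedEv Groth.Agent.Lib.Helper32.SymGradedPos

variable {A B : Type u} [CommRing A] [CommRing B] [Algebra A B]
  (𝒜 : ℕ → Submodule A B) [GradedAlgebra 𝒜] {d : ℕ}

theorem pow_le (n : ℕ) : (𝒜 1) ^ n ≤ 𝒜 n := by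
  induction n with
  | zero =>
    rw [pow_zero, Submodule.one_eq_span, Submodule.span_le]
    intro x hx
    rw [Set.mem_singleton_iff.1 hx]
    exact SetLike.GradedOne.one_mem
  | succ n ih =>
    rw [pow_succ, Submodule.mul_le]
    intro x hx y hy
    exact SetLike.mul_mem_graded (ih hx) hy

omit [GradedAlgebra 𝒜] in
theorem closure_le (y : B) (hy : y ∈ Submonoid.closure (𝒜 1 : Set B)) :
    ∃ n, y ∈ (𝒜 1) ^ n := by
  induction hy using Submonoid.closure_induction with
  | mem x hx => exact ⟨1, by rw [pow_one]; exact hx⟩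
  | one => exact ⟨0, by rw [pow_zero]; exact Submodule.one_le.1 le_rfl⟩
  | mul x y _ _ hx hy =>
    obtain ⟨n, hn⟩ := hx
    obtain ⟨m, hm⟩ := hy
    exact ⟨n + m, by rw [pow_add]; exact Submodule.mul_mem_mul hn hm⟩

theorem le_pow (hgen : Algebra.adjoin A (𝒜 1 : Set B) = ⊤) (n : ℕ) : 𝒜 n ≤ (𝒜 1) ^ n := by
  have key : ∀ x : B, ∀ k, ((DirectSum.decompose 𝒜 x k : 𝒜 k) : B) ∈ (𝒜 1) ^ k := by
    intro x
    have hx : x ∈ Submodule.span A (Submonoid.closure (𝒜 1 : Set B) : Set B) := by
      rw [← Algebra.adjoin_eq_span, hgen]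
      trivial
    induction hx using Submodule.span_induction with
    | mem y hy =>
      intro k
      obtain ⟨m, hm⟩ := closure_le 𝒜 y hy
      by_cases hkm : m = k
      · subst hkm
        rw [DirectSum.decompose_of_mem_same 𝒜 (pow_le 𝒜 m hm)]
        exact hm
      · rw [DirectSum.decompose_of_mem_ne 𝒜 (pow_le 𝒜 m hm) hkm]
        exact zero_mem _
    | zero => intro k; simp
    | add x y _ _ hx hy =>
      intro k
      rw [DirectSum.decompose_add, DirectSum.add_apply, Submodule.coe_add]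
      exact add_mem (hx k) (hy k)
    | smul a x _ hx =>
      intro k
      rw [DirectSum.decompose_smul, DirectSum.smul_apply, Submodule.coe_smul]
      exact Submodule.smul_mem _ a (hx k)
  intro x hx
  have := key x n
  rwa [DirectSum.decompose_of_mem_same 𝒜 hx] at this

theorem succ_le_mul (hgen : Algebra.adjoin A (𝒜 1 : Set B) = ⊤) (k : ℕ) :
    𝒜 (k + 1) ≤ 𝒜 k * 𝒜 1 := by
  refine (le_pow 𝒜 hgen (k + 1)).trans ?_
  rw [pow_succ]
  exact mul_le_mul' (pow_le 𝒜 k) le_rfl

theorem tprod_mem_of_mul (N : Submodule A (⨂[A] _ : Fin d, B)) (U V : Submodule A B)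
    (h : ∀ y z : Fin d → B, (∀ i, y i ∈ U) → (∀ i, z i ∈ V) →
      PiTensorProduct.tprod A (y * z) ∈ N)
    (b : Fin d → B) (hb : ∀ i, b i ∈ U * V) : PiTensorProduct.tprod A b ∈ N := by
  classical
  have key : ∀ S : Finset (Fin d), ∀ b : Fin d → B, (∀ i ∈ S, b i ∈ U * V) →
      (∀ i, i ∉ S → ∃ y ∈ U, ∃ z ∈ V, b i = y * z) → PiTensorProduct.tprod A b ∈ N := by
    intro S
    induction S using Finset.induction_on with
    | empty =>
      intro b _ hb2
      choose y hy z hz hyz using fun i => hb2 i (Finset.notMem_empty i)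
      have : b = y * z := funext hyz
      rw [this]
      exact h y z hy hz
    | insert a S ha ih =>
      intro b hb1 hb2
      let L : B →ₗ[A] (⨂[A] _ : Fin d, B) :=
        (PiTensorProduct.tprod A : MultilinearMap A (fun _ : Fin d => B) _).toLinearMap b a
      have hle : U * V ≤ N.comap L := by
        rw [Submodule.mul_le]
        intro y hy z hz
        show L (y * z) ∈ N
        rw [MultilinearMap.toLinearMap_apply]
        apply ih
        · intro i hi
          have hia : i ≠ a := fun hia => ha (hia ▸ hi)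
          rw [Function.update_of_ne hia]
          exact hb1 i (Finset.mem_insert_of_mem hi)
        · intro i hi
          by_cases hia : i = a
          · subst hia
            exact ⟨y, hy, z, hz, by rw [Function.update_self]⟩
          · rw [Function.update_of_ne hia]
            exact hb2 i (by simp [hia, hi])
      have := hle (hb1 a (Finset.mem_insert_self a S))
      have h2 : L (b a) ∈ N := this
      rw [MultilinearMap.toLinearMap_apply, Function.update_eq_self] at h2
      exact h2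
  exact key Finset.univ b (fun i _ => hb i) (fun i hi => absurd (Finset.mem_univ i) hi)

theorem exists_deg_one (hgen : Algebra.adjoin A (𝒜 1 : Set B) = ⊤) (𝔓 : Ideal (CC 𝒜 d))
    {b : Fin d → B} {k : ℕ} (hk : 0 < k)
    (hb : ∀ j, b j ∈ 𝒜 k) (hτ : ev 𝔓 (PiTensorProduct.tprod A b) ≠ 0) :
    ∃ z : Fin d → B, (∀ i, z i ∈ 𝒜 1) ∧ ev 𝔓 (PiTensorProduct.tprod A z) ≠ 0 := by
  obtain ⟨k', rfl⟩ : ∃ k', k = k' + 1 := ⟨k - 1, by omega⟩
  by_contra hcon
  push Not at hcon
  have : PiTensorProduct.tprod A b ∈ NN 𝔓 := by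
    apply tprod_mem_of_mul (NN 𝔓) (𝒜 k') (𝒜 1) _ b fun i => succ_le_mul 𝒜 hgen k' (hb i)
    intro y z hy hz
    rw [← PiTensorProduct.tprod_mul_tprod]
    refine ⟨mul_mem (tprod_mem_CC hy) (tprod_mem_CC hz), ?_⟩
    rw [ev_mul 𝔓 (tprod_mem_CC hy) (tprod_mem_CC hz), hcon z hz, mul_zero]
  exact hτ this.2

end Groth.Agent.Lib.Helper32.SymGradedDeg1
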