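import Mathlib

set_option autoImplicit false
universe u v w

namespace Groth.Agent.Lib.Helper32.SymGradedLA

variable {A : Type u} [CommRing A] {Ω : Type v} [Field Ω] [Algebra A Ω]
  {M : Type w} [AddCommGroup M] [Module A M]

theorem exists_frac (𝔭 : Ideal A) [𝔭.IsPrime] (t : 𝔭.ResidueField) :
    ∃ a s : A, s ∉ 𝔭 ∧ t * algebraMap A 𝔭.ResidueField s = algebraMap A 𝔭.ResidueField a := by
  obtain ⟨x, rfl⟩ := IsLocalRing.residue_surjective t
  obtain ⟨a, s, rfl⟩ := IsLocalization.exists_mk'_eq 𝔭.primeCompl x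
  refine ⟨a, s.1, s.2, ?_⟩
  have h := IsLocalization.mk'_spec (Localization.AtPrime 𝔭) a s
  have h2 := congrArg (IsLocalRing.residue (Localization.AtPrime 𝔭)) h
  rw [map_mul] at h2
  exact h2

theorem exists_forall_ne_zero (𝔭 : Ideal A) [𝔭.IsPrime]
    (h𝔭 : 𝔭 = RingHom.ker (algebraMap A Ω)) {ι : Type*} (s : Finset ι) (ψ : ι → M →ₗ[A] Ω)
    (hψ : ∀ i ∈ s, ∃ x, ψ i x ≠ 0)
    (hcard : (s.card : Cardinal) ≤ Cardinal.mk 𝔭.ResidueField) :
    ∃ f, ∀ i ∈ s, ψ i f ≠ 0 := by
  classical
  have hunit : 𝔭.primeCompl ≤ (IsUnit.submonoid Ω).comap (algebraMap A Ω) := by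
    intro a ha
    show IsUnit (algebraMap A Ω a)
    rw [isUnit_iff_ne_zero]
    intro h0
    apply ha
    rw [h𝔭]
    exact h0
  let ι₀ : 𝔭.ResidueField →+* Ω := Ideal.ResidueField.lift 𝔭 (algebraMap A Ω) h𝔭.le hunit
  have hι₀ : ∀ a : A, ι₀ (algebraMap A 𝔭.ResidueField a) = algebraMap A Ω a := fun a =>
    Ideal.ResidueField.lift_algebraMap 𝔭 (algebraMap A Ω) h𝔭.le hunit a
  induction s using Finset.induction_on with
  | empty => exact ⟨0, by simp⟩
  | insert a s ha ih =>
    have hcard' : ((s.card + 1 : ℕ) : Cardinal) ≤ Cardinal.mk 𝔭.ResidueField := by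
      rwa [Finset.card_insert_of_notMem ha] at hcard
    obtain ⟨w, hw⟩ := ih (fun i hi => hψ i (Finset.mem_insert_of_mem hi))
      (le_trans (by exact_mod_cast Nat.le_succ _) hcard')
    by_cases haw : ψ a w ≠ 0
    · refine ⟨w, fun i hi => ?_⟩
      rcases Finset.mem_insert.1 hi with rfl | hi
      · exact haw
      · exact hw i hi
    · push Not at haw
      obtain ⟨y, hy⟩ := hψ a (Finset.mem_insert_self a s)
      let bad : ι → 𝔭.ResidueField := fun i =>
        if h : ∃ t : 𝔭.ResidueField, ψ i y + ι₀ t * ψ i w = 0 then h.choose else 0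
      obtain ⟨t, ht⟩ : ∃ t : 𝔭.ResidueField, t ∉ s.image bad := by
        by_contra hcon
        push Not at hcon
        have huniv : ((s.image bad : Finset 𝔭.ResidueField) : Set 𝔭.ResidueField) = Set.univ :=
          Set.eq_univ_of_forall hcon
        have h1 : Cardinal.mk 𝔭.ResidueField = ((s.image bad).card : Cardinal) := by
          rw [← Cardinal.mk_univ, ← huniv]
          simp
        have h2 : (s.image bad).card ≤ s.card := Finset.card_image_le
        rw [h1] at hcard'
        have h3 : s.card + 1 ≤ (s.image bad).card := by exact_mod_cast hcard'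
        omega
      have hgood : ∀ i ∈ s, ψ i y + ι₀ t * ψ i w ≠ 0 := by
        intro i hi h0
        apply ht
        have hex : ∃ t : 𝔭.ResidueField, ψ i y + ι₀ t * ψ i w = 0 := ⟨t, h0⟩
        have hbad : bad i = hex.choose := dif_pos hex
        have h1 := hex.choose_spec
        have h2 : (ι₀ t - ι₀ hex.choose) * ψ i w = 0 := by
          linear_combination h0 - h1
        rcases mul_eq_zero.1 h2 with h3 | h3
        · have h4 : t = hex.choose := ι₀.injective (sub_eq_zero.1 h3)
          rw [Finset.mem_image]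
          exact ⟨i, hi, by rw [hbad, ← h4]⟩
        · exact absurd h3 (hw i hi)
      obtain ⟨α, σ, hσ, hασ⟩ := exists_frac 𝔭 t
      have hσ0 : algebraMap A Ω σ ≠ 0 := by
        intro h0
        apply hσ
        rw [h𝔭]; exact h0
      have hα : algebraMap A Ω α = ι₀ t * algebraMap A Ω σ := by
        rw [← hι₀ α, ← hασ, map_mul, hι₀]
      refine ⟨σ • y + α • w, fun i hi => ?_⟩
      have hval : ψ i (σ • y + α • w) = algebraMap A Ω σ * (ψ i y + ι₀ t * ψ i w) := by
        rw [map_add, map_smul, map_smul, Algebra.smul_def, Algebra.smul_def, hα]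
        ring
      rw [hval]
      rcases Finset.mem_insert.1 hi with rfl | hi
      · rw [haw, mul_zero, add_zero]
        exact mul_ne_zero hσ0 hy
      · exact mul_ne_zero hσ0 (hgood i hi)

end Groth.Agent.Lib.Helper32.SymGradedLA
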