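import Mathlib
import Groth.Prelude.Def_SymTen
import Groth.Agent.Lib.Helper32.SymGradedPos

set_option autoImplicit false
universe u
open scoped TensorProduct

namespace Groth.Agent.Lib.Helper32.SymGradedMain

open Groth.Agent.Lib.Helper32.SymGradedC Groth.Agent.Lib.Helper32.SymGradedAvoid
  Groth.Agent.Lib.Helper32.SymGradedEv Groth.Agent.Lib.Helper32.SymGradedPos

variable {A B : Type u} [CommRing A] [CommRing B] [Algebra A B]
  (𝒜 : ℕ → Submodule A B) [GradedAlgebra 𝒜] (d : ℕ)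

theorem main_tpow (k : ℕ) (hk : 0 < k) (t : DD 𝒜 d)
    (htk : t.1 ∈ Submodule.span A {s | ∃ b : Fin d → B, (∀ i, b i ∈ 𝒜 k) ∧
      s = PiTensorProduct.tprod A b}) :
    ∃ m : ℕ, 0 < m ∧ t ^ m ∈
      Ideal.span {x : DD 𝒜 d | ∃ (n : ℕ) (f : B), 0 < n ∧ f ∈ 𝒜 n ∧
        (x : ⨂[A] _ : Fin d, B) = PiTensorProduct.tprod A (fun _ : Fin d => f)} := by
  apply exists_pow_mem
  intro 𝔓 h𝔓 ht
  have hev := ev_algebraMap_ne_zero 𝔓 ht
  obtain ⟨b, hb, hτ⟩ := exists_gen_of_span 𝔓 htk hev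
  obtain ⟨n, hn, f, hf, hne⟩ := exists_tpow_ev_ne_zero 𝔓 hk hb hτ
  refine ⟨⟨PiTensorProduct.tprod A (fun _ : Fin d => f),
    ⟨tprod_mem_CC (k := n) fun _ => hf, (SymTen.tpow A B d f).2⟩⟩,
    Ideal.subset_span ⟨n, f, hn, hf, rfl⟩, not_mem_of_ev_ne_zero 𝔓 hne⟩

end Groth.Agent.Lib.Helper32.SymGradedMain
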