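import Mathlib
import Groth.Prelude.Def_SymTen
import Groth.Agent.Lib.Helper32.SymGradedDeg1

set_option autoImplicit false
universe u
open scoped TensorProduct

namespace Groth.Agent.Lib.Helper32.SymGradedPolar

open Groth.Agent.Lib.Helper32.SymGradedC Groth.Agent.Lib.Helper32.SymGradedAvoid
  Groth.Agent.Lib.Helper32.SymGradedEv Groth.Agent.Lib.Helper32.SymGradedPos
  Groth.Agent.Lib.Helper32.SymGradedDeg1

variable {A B : Type u} [CommRing A] [CommRing B] [Algebra A B]
  {𝒜 : ℕ → Submodule A B} {d : ℕ}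

noncomputable def mon (g : Fin d → Fin d) : Fin d →₀ ℕ := ∑ i, Finsupp.single (g i) 1

theorem mon_comp (g : Fin d → Fin d) (σ : Equiv.Perm (Fin d)) :
    mon (fun i => g (σ i)) = mon g := by
  unfold mon
  exact Equiv.sum_comp σ (fun i => Finsupp.single (g i) 1)

open Classical in
variable (A) in
noncomputable def pol (z : Fin d → B) (α : Fin d →₀ ℕ) : ⨂[A] _ : Fin d, B :=
  ∑ g ∈ Finset.univ.filter (fun g : Fin d → Fin d => mon g = α),
    PiTensorProduct.tprod A (fun i => z (g i))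

theorem pol_mem_span {z : Fin d → B} (hz : ∀ i, z i ∈ 𝒜 1) (α : Fin d →₀ ℕ) :
    pol A z α ∈ Submodule.span A {s | ∃ b : Fin d → B, (∀ i, b i ∈ 𝒜 1) ∧
      s = PiTensorProduct.tprod A b} := by
  unfold pol
  exact sum_mem fun g _ => Submodule.subset_span ⟨fun i => z (g i), fun i => hz _, rfl⟩

theorem pol_mem_CC {z : Fin d → B} (hz : ∀ i, z i ∈ 𝒜 1) (α : Fin d →₀ ℕ) :
    pol A z α ∈ CC 𝒜 d := by
  unfold pol
  exact sum_mem fun g _ => tprod_mem_CC (k := 1) fun i => hz _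

theorem pol_mem_TS (z : Fin d → B) (α : Fin d →₀ ℕ) :
    pol A z α ∈ SymTen.TS A B d := by
  classical
  intro σ
  rw [← SymTen.perm_apply]
  unfold pol
  rw [map_sum]
  simp only [SymTen.perm_tprod]
  refine Finset.sum_equiv (Equiv.arrowCongr σ (Equiv.refl (Fin d))) ?_ ?_
  · intro g
    simp only [Finset.mem_filter, Finset.mem_univ, true_and]
    have : mon ((Equiv.arrowCongr σ (Equiv.refl (Fin d))) g) = mon g := by
      have := mon_comp g σ.symm
      exact this
    rw [this]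
  · intro g _
    rfl

variable [GradedAlgebra 𝒜] (𝔓 : Ideal (CC 𝒜 d))

theorem exists_pol_ev_ne_zero [𝔓.IsPrime] {z : Fin d → B} (hz : ∀ i, z i ∈ 𝒜 1)
    (hτ : ev 𝔓 (PiTensorProduct.tprod A z) ≠ 0) : ∃ α, ev 𝔓 (pol A z α) ≠ 0 := by
  classical
  set c := ev 𝔓 (PiTensorProduct.tprod A (fun j => (z j ^ 1) ^ (d - 1))) with hc
  set ψ : Fin d → Fin d → (CC 𝒜 d ⧸ 𝔓) := fun i l => ev 𝔓 (pos A z i 1 (z l)) with hψ
  have hz1 : ∀ i, z i ∈ 𝒜 (1 * 1) := fun i => by simpa using hz i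
  have hprodψ : ∀ g : Fin d → Fin d, ∏ i, ψ i (g i) =
      ev 𝔓 (PiTensorProduct.tprod A (fun i => z (g i))) * c := by
    intro g
    rw [hc, ← ev_mul 𝔓 (tprod_mem_CC (k := 1) fun i => hz _)
      (tprod_mem_CC (k := (d - 1) * (1 * 1)) fun j => by
        have := SetLike.pow_mem_graded (d - 1) (SetLike.pow_mem_graded 1 (hz j))
        simpa [smul_eq_mul] using this), ← prod_pos,
      ev_prod 𝔓 _ _ fun i _ => pos_mem_CC hz i (hz1 _)]
  let Poly : MvPolynomial (Fin d) (CC 𝒜 d ⧸ 𝔓) :=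
    ∏ i, ∑ l, MvPolynomial.C (ψ i l) * MvPolynomial.X l
  have hne : Poly ≠ 0 := by
    refine (Finset.prod_ne_zero_iff (M₀ := MvPolynomial (Fin d) (CC 𝒜 d ⧸ 𝔓))).2 ?_
    intro i _ h0
    have hcoeff := congrArg (MvPolynomial.coeff (Finsupp.single i 1)) h0
    rw [MvPolynomial.coeff_sum, MvPolynomial.coeff_zero] at hcoeff
    simp only [MvPolynomial.coeff_C_mul, MvPolynomial.coeff_X] at hcoeff
    rw [Finset.sum_eq_single i] at hcoeff
    · rw [if_pos rfl, mul_one] at hcoeff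
      apply hτ
      rw [← pos_self z i]
      exact hcoeff
    · intro l _ hli
      rw [if_neg, mul_zero]
      intro h
      exact hli ((Finsupp.single_left_inj one_ne_zero).1 h)
    · intro h; exact absurd (Finset.mem_univ i) h
  have hPoly : Poly = ∑ g : Fin d → Fin d,
      MvPolynomial.C (ev 𝔓 (PiTensorProduct.tprod A (fun i => z (g i))) * c) *
        MvPolynomial.monomial (mon g) 1 := by
    show (∏ i, ∑ l, MvPolynomial.C (ψ i l) * MvPolynomial.X l) = _
    rw [Finset.prod_univ_sum, Fintype.piFinset_univ]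
    refine Finset.sum_congr rfl fun g _ => ?_
    rw [Finset.prod_mul_distrib, ← map_prod, hprodψ g]
    congr 1
    unfold mon
    rw [MvPolynomial.monomial_sum_one]
    rfl
  obtain ⟨α, hα⟩ := MvPolynomial.ne_zero_iff.1 hne
  refine ⟨α, ?_⟩
  intro h0
  apply hα
  rw [hPoly, MvPolynomial.coeff_sum]
  simp only [MvPolynomial.coeff_C_mul, MvPolynomial.coeff_monomial]
  simp only [mul_ite, mul_one, mul_zero]
  rw [← Finset.sum_filter, ← Finset.sum_mul]
  have : ev 𝔓 (pol A z α) = ∑ g ∈ Finset.univ.filter (fun g : Fin d → Fin d => mon g = α),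
      ev 𝔓 (PiTensorProduct.tprod A (fun i => z (g i))) := by
    unfold pol
    rw [ev_sum 𝔓 _ _ fun g _ => tprod_mem_CC (k := 1) fun i => hz _]
  rw [← this, h0, zero_mul]

end Groth.Agent.Lib.Helper32.SymGradedPolar
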