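import Mathlib
import Groth.Prelude.Def_SymTen
import Groth.Agent.Lib.Helper32.SymGradedPolar

set_option autoImplicit false
universe u
open scoped TensorProduct

namespace Groth.Agent.Lib.Helper32.SymGradedMain2

open Groth.Agent.Lib.Helper32.SymGradedC Groth.Agent.Lib.Helper32.SymGradedAvoid
  Groth.Agent.Lib.Helper32.SymGradedEv Groth.Agent.Lib.Helper32.SymGradedPos
  Groth.Agent.Lib.Helper32.SymGradedDeg1 Groth.Agent.Lib.Helper32.SymGradedPolar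

variable {A B : Type u} [CommRing A] [CommRing B] [Algebra A B]
  (𝒜 : ℕ → Submodule A B) [GradedAlgebra 𝒜] (d : ℕ)

theorem main_degOne (hgen : Algebra.adjoin A (𝒜 1 : Set B) = ⊤) (k : ℕ) (hk : 0 < k) (t : DD 𝒜 d)
    (htk : t.1 ∈ Submodule.span A {s | ∃ b : Fin d → B, (∀ i, b i ∈ 𝒜 k) ∧
      s = PiTensorProduct.tprod A b}) :
    ∃ m : ℕ, 0 < m ∧ t ^ m ∈
      Ideal.span {x : DD 𝒜 d | (x : ⨂[A] _ : Fin d, B) ∈
        Submodule.span A {s | ∃ b : Fin d → B, (∀ i, b i ∈ 𝒜 1) ∧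
          s = PiTensorProduct.tprod A b}} := by
  apply exists_pow_mem
  intro 𝔓 h𝔓 ht
  have hev := ev_algebraMap_ne_zero 𝔓 ht
  obtain ⟨b, hb, hτ⟩ := exists_gen_of_span 𝔓 htk hev
  obtain ⟨z, hz, hζ⟩ := exists_deg_one 𝒜 hgen 𝔓 hk hb hτ
  obtain ⟨α, hα⟩ := exists_pol_ev_ne_zero 𝔓 hz hζ
  exact ⟨⟨pol A z α, ⟨pol_mem_CC hz α, pol_mem_TS z α⟩⟩,
    Ideal.subset_span (pol_mem_span hz α), not_mem_of_ev_ne_zero 𝔓 hα⟩

end Groth.Agent.Lib.Helper32.SymGradedMain2
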