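import Mathlib
import Groth.Prelude.Def_SymTen
import Groth.Agent.Lib.Helper32.SymGradedDeg1
import Groth.Agent.Lib.Helper32.SymGradedLA

set_option autoImplicit false
universe u
open scoped TensorProduct

namespace Groth.Agent.Lib.Helper32.SymGradedMain3

open Groth.Agent.Lib.Helper32.SymGradedC Groth.Agent.Lib.Helper32.SymGradedAvoid
  Groth.Agent.Lib.Helper32.SymGradedEv Groth.Agent.Lib.Helper32.SymGradedPos
  Groth.Agent.Lib.Helper32.SymGradedDeg1 Groth.Agent.Lib.Helper32.SymGradedLA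

variable {A B : Type u} [CommRing A] [CommRing B] [Algebra A B]
  (𝒜 : ℕ → Submodule A B) [GradedAlgebra 𝒜] (d : ℕ)

variable {𝒜 d} in
abbrev Om (𝔓 : Ideal (CC 𝒜 d)) : Type u := FractionRing (CC 𝒜 d ⧸ 𝔓)

variable {𝒜 d} in
theorem exists_tpow_deg_one (𝔓 : Ideal (CC 𝒜 d)) [𝔓.IsPrime]
    (hres : ∀ p : PrimeSpectrum A, (d : Cardinal) ≤ Cardinal.mk p.asIdeal.ResidueField)
    {z : Fin d → B} (hz : ∀ i, z i ∈ 𝒜 1) (hζ : ev 𝔓 (PiTensorProduct.tprod A z) ≠ 0) :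
    ∃ f ∈ 𝒜 1, ev 𝔓 (PiTensorProduct.tprod A fun _ : Fin d => f) ≠ 0 := by
  classical
  have hz1 : ∀ f : 𝒜 1, f.1 ∈ 𝒜 (1 * 1) := fun f => by simp
  let L : Fin d → B →ₗ[A] (⨂[A] _ : Fin d, B) := fun i =>
    (PiTensorProduct.tprod A : MultilinearMap A (fun _ : Fin d => B) _).toLinearMap
      (fun j => z j ^ 1) i
  have hL : ∀ i (f : 𝒜 1), (L i ∘ₗ (𝒜 1).subtype) f ∈ Subalgebra.toSubmodule (CC 𝒜 d) :=
    fun i f => pos_mem_CC hz i (hz1 f)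
  let ψ : Fin d → 𝒜 1 →ₗ[A] (Om 𝔓) := fun i =>
    (IsScalarTower.toAlgHom A (CC 𝒜 d ⧸ 𝔓) (Om 𝔓)).toLinearMap ∘ₗ
      (Ideal.Quotient.mkₐ A 𝔓).toLinearMap ∘ₗ
        (LinearMap.codRestrict (Subalgebra.toSubmodule (CC 𝒜 d)) (L i ∘ₗ (𝒜 1).subtype) (hL i))
  have hψ : ∀ i (f : 𝒜 1), ψ i f =
      IsScalarTower.toAlgHom A (CC 𝒜 d ⧸ 𝔓) (Om 𝔓) (ev 𝔓 (pos A z i 1 f.1)) := by
    intro i f
    rw [ev_of_mem 𝔓 (pos_mem_CC hz i (hz1 f))]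
    rfl
  have hinj : Function.Injective (IsScalarTower.toAlgHom A (CC 𝒜 d ⧸ 𝔓) (Om 𝔓)) :=
    IsFractionRing.injective (CC 𝒜 d ⧸ 𝔓) (Om 𝔓)
  have hprime : (RingHom.ker (algebraMap A (Om 𝔓))).IsPrime := RingHom.ker_isPrime _
  obtain ⟨f, hf⟩ := exists_forall_ne_zero (RingHom.ker (algebraMap A (Om 𝔓))) rfl
    (Finset.univ : Finset (Fin d)) ψ
    (fun i _ => ⟨⟨z i, hz i⟩, by
      rw [hψ, pos_self]
      intro h0
      exact hζ (hinj (h0.trans (map_zero _).symm))⟩)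
    (by
      rw [Finset.card_univ, Fintype.card_fin]
      exact hres ⟨RingHom.ker (algebraMap A (Om 𝔓)), hprime⟩)
  refine ⟨f.1, f.2, ?_⟩
  have hne : ev 𝔓 (∏ i, pos A z i 1 f.1) ≠ 0 := by
    rw [ev_prod 𝔓 _ _ fun i _ => pos_mem_CC hz i (hz1 f)]
    refine (Finset.prod_ne_zero_iff (M₀ := CC 𝒜 d ⧸ 𝔓)).2 ?_
    intro i _ h0
    apply hf i (Finset.mem_univ i)
    rw [hψ, h0, map_zero]
  rw [prod_pos, ev_mul 𝔓 (tprod_mem_CC (k := 1) fun _ => f.2)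
    (tprod_mem_CC (k := (d - 1) * (1 * 1)) fun j => by
      have := SetLike.pow_mem_graded (d - 1) (SetLike.pow_mem_graded 1 (hz j))
      simpa [smul_eq_mul] using this)] at hne
  exact left_ne_zero_of_mul hne

theorem main_tpow_degOne (hgen : Algebra.adjoin A (𝒜 1 : Set B) = ⊤)
    (hres : ∀ p : PrimeSpectrum A, (d : Cardinal) ≤ Cardinal.mk p.asIdeal.ResidueField)
    (k : ℕ) (hk : 0 < k) (t : DD 𝒜 d)
    (htk : t.1 ∈ Submodule.span A {s | ∃ b : Fin d → B, (∀ i, b i ∈ 𝒜 k) ∧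
      s = PiTensorProduct.tprod A b}) :
    ∃ m : ℕ, 0 < m ∧ t ^ m ∈
      Ideal.span {x : DD 𝒜 d | ∃ f : B, f ∈ 𝒜 1 ∧
        (x : ⨂[A] _ : Fin d, B) = PiTensorProduct.tprod A (fun _ : Fin d => f)} := by
  apply exists_pow_mem
  intro 𝔓 h𝔓 ht
  have hev := ev_algebraMap_ne_zero 𝔓 ht
  obtain ⟨b, hb, hτ⟩ := exists_gen_of_span 𝔓 htk hev
  obtain ⟨z, hz, hζ⟩ := exists_deg_one 𝒜 hgen 𝔓 hk hb hτ
  obtain ⟨f, hf, hne⟩ := exists_tpow_deg_one 𝔓 hres hz hζ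
  exact ⟨⟨PiTensorProduct.tprod A (fun _ : Fin d => f),
    ⟨tprod_mem_CC (k := 1) fun _ => hf, (SymTen.tpow A B d f).2⟩⟩,
    Ideal.subset_span ⟨f, hf, rfl⟩, not_mem_of_ev_ne_zero 𝔓 hne⟩

end Groth.Agent.Lib.Helper32.SymGradedMain3
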