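import Mathlib.AlgebraicGeometry.Morphisms.UniversallyOpen
import Mathlib.AlgebraicGeometry.PullbackCarrier

set_option autoImplicit false
universe u
open scoped TensorProduct

namespace Groth.Agent.Lib.Helper32.UnivOpenAffine

open AlgebraicGeometry CategoryTheory CategoryTheory.Limits MorphismProperty

theorem universallyOpen_of_isOpenMap {A C : Type u} [CommRing A] [CommRing C] [Algebra A C]
    (h : ∀ (R : Type u) [CommRing R] [Algebra A R],
      IsOpenMap (PrimeSpectrum.comap (algebraMap R (R ⊗[A] C)))) :
    UniversallyOpen (Spec.map (CommRingCat.ofHom (algebraMap A C))) := by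
  refine ⟨universally_mk' _ _ fun {T} g _ ↦ ?_⟩
  wlog hT : ∃ R, T = Spec R generalizing T
  · refine (IsZariskiLocalAtTarget.iff_of_openCover T.affineCover).mpr fun i ↦ ?_
    refine (MorphismProperty.cancel_left_of_respectsIso _
      ((pullbackRightPullbackFstIso ..).inv ≫ (pullbackSymmetry ..).hom) _).mp ?_
    simpa [Scheme.Cover.pullbackHom] using! this _ _ ⟨_, rfl⟩
  obtain ⟨R, rfl⟩ := hT
  obtain ⟨ψ, rfl⟩ := Spec.map_surjective g
  algebraize [ψ.hom]
  refine (MorphismProperty.cancel_left_of_respectsIso _ (pullbackSpecIso A R C).inv _).mp ?_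
  convert_to! topologically _
    (Spec.map <| CommRingCat.ofHom (algebraMap R (TensorProduct A R C)))
  · exact pullbackSpecIso_inv_fst ..
  exact h R

end Groth.Agent.Lib.Helper32.UnivOpenAffine
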